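import Cfsg.Statements.S0603
import Mathlib
import Cfsg.Agent.Lib.helper3.Thompson

set_option autoImplicit false
open Cfsg

namespace Cfsg.Agent.S0603

open Cfsg.Agent.Lib.helper3

/-- The Thompson subgroup of any subgroup containing J(G) is J(G) itself. -/
theorem result {G : Type*} [Group G] [Finite G] {p : ℕ} [Fact p.Prime] (U : Subgroup G) (hU : Cfsg.thompsonSubgroup p G ≤ U) : Cfsg.thompsonSubgroupOf p U = Cfsg.thompsonSubgroup p G := by
  obtain ⟨A0, hA0⟩ := exists_maxEA p G
  have hA0U : A0 ≤ U := (le_thompson hA0).trans hU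
  have hsub : ∀ A : Subgroup G, A ∈ Cfsg.maxElementaryAbelianSubgroups p G →
      A.subgroupOf U ∈ Cfsg.maxElementaryAbelianSubgroups p U := by
    intro A hA
    have hAU : A ≤ U := (le_thompson hA).trans hU
    refine ⟨isEA_comap p U.subtype U.subtype_injective hA.1, fun B hB => ?_⟩
    have h1 : Nat.card (A.subgroupOf U) = Nat.card A :=
      Nat.card_congr (Subgroup.subgroupOfEquivOfLe hAU).toEquiv
    have h2 : Nat.card (B.map U.subtype) = Nat.card B :=
      Subgroup.card_map_of_injective U.subtype_injective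
    rw [h1, ← h2]
    exact hA.2 _ (isEA_map p U.subtype hB)
  have hmap : ∀ A : Subgroup U, A ∈ Cfsg.maxElementaryAbelianSubgroups p U →
      A.map U.subtype ∈ Cfsg.maxElementaryAbelianSubgroups p G := by
    intro A hA
    refine ⟨isEA_map p U.subtype hA.1, fun B hB => ?_⟩
    have h2 : Nat.card (A.map U.subtype) = Nat.card A :=
      Subgroup.card_map_of_injective U.subtype_injective
    have h3 : Nat.card (A0.subgroupOf U) = Nat.card A0 :=
      Nat.card_congr (Subgroup.subgroupOfEquivOfLe hA0U).toEquiv
    have h4 : Nat.card (A0.subgroupOf U) ≤ Nat.card A := hA.2 _ (hsub A0 hA0).1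
    have h5 : Nat.card B ≤ Nat.card A0 := hA0.2 B hB
    omega
  unfold Cfsg.thompsonSubgroupOf
  apply le_antisymm
  · rw [Subgroup.map_le_iff_le_comap]
    apply sSup_le
    intro A hA
    rw [← Subgroup.map_le_iff_le_comap]
    exact le_thompson (hmap A hA)
  · apply sSup_le
    intro A hA
    have hAU : A ≤ U := (le_thompson hA).trans hU
    have : A = (A.subgroupOf U).map U.subtype := (Subgroup.map_subgroupOf_eq_of_le hAU).symm
    rw [this]
    exact Subgroup.map_mono (le_thompson (hsub A hA))

end Cfsg.Agent.S0603
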