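import Cfsg.Statements.S0607
import Mathlib
import Cfsg.Agent.Lib.helper3.Replacement

set_option linter.style.haveILetI false

set_option autoImplicit false
open Cfsg

namespace Cfsg.Agent.S0607

/-- The replacement Theorem for the Thompson subgroup: from A of maximal order among elementary abelian p-subgroups one obtains A₀ = [V, A] C_A([V, A]) of the same kind, quadratic on V and nontrivial on V when A is. -/
theorem result {G : Type*} [Group G] [Finite G] {p : ℕ} [Fact p.Prime] (V : Subgroup G) [V.Normal] (hV : Cfsg.IsElementaryAbelian p V) (A : Subgroup G) (hA : A ∈ Cfsg.maxElementaryAbelianSubgroups p G) : (⁅V, A⁆ ⊔ (A ⊓ Subgroup.centralizer ((⁅V, A⁆ : Subgroup G) : Set G))) ∈ Cfsg.maxElementaryAbelianSubgroups p G ∧ ⁅⁅V, ⁅V, A⁆ ⊔ (A ⊓ Subgroup.centralizer ((⁅V, A⁆ : Subgroup G) : Set G))⁆, ⁅V, A⁆ ⊔ (A ⊓ Subgroup.centralizer ((⁅V, A⁆ : Subgroup G) : Set G))⁆ = ⊥ ∧ (⁅V, A⁆ ≠ ⊥ → ⁅V, ⁅V, A⁆ ⊔ (A ⊓ Subgroup.centralizer ((⁅V, A⁆ : Subgroup G) : Set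 G))⁆ ≠ ⊥) := by
  open scoped commutatorElement in
  open Cfsg.Agent.Lib.helper3 in
  have hVc := ((isEA_iff p V).mp hV).1
  obtain ⟨hAE, hAmax⟩ := hA
  have hAc := ((isEA_iff p A).mp hAE).1
  have hAV : A ≤ Subgroup.normalizer (V : Set G) := by
    rw [Subgroup.normalizer_eq_top]; exact le_top
  have hWV : ⁅V, A⁆ ≤ V := Subgroup.commutator_le_left V A
  have hZA : V ⊓ Subgroup.centralizer (A : Set G) ≤ A := by
    have hEA : Cfsg.IsElementaryAbelian p (A ⊔ (V ⊓ Subgroup.centralizer (A : Set G))) :=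
      isEA_sup p hAE (isEA_of_le p inf_le_left hV)
        (fun a ha z hz => Subgroup.mem_centralizer_iff.mp (Subgroup.mem_inf.mp hz).2 a ha)
    have hcard := hAmax _ hEA
    have : A = A ⊔ (V ⊓ Subgroup.centralizer (A : Set G)) :=
      Subgroup.eq_of_le_of_card_ge le_sup_left hcard
    exact le_sup_right.trans (le_of_eq this.symm)
  have hVA : V ⊓ A ≤ V ⊓ Subgroup.centralizer (A : Set G) := by
    refine le_inf inf_le_left (fun x hx => ?_)
    rw [Subgroup.mem_centralizer_iff]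
    intro h hh
    exact hAc h hh x (Subgroup.mem_inf.mp hx).2
  have hab : ⁅A, A⁆ ≤ Subgroup.centralizer (V : Set G) := by
    have : ⁅A, A⁆ = ⊥ := by
      apply Subgroup.commutator_eq_bot_iff_le_centralizer.mpr
      intro a ha
      rw [Subgroup.mem_centralizer_iff]
      intro h hh
      exact hAc h hh a ha
    rw [this]; exact bot_le
  have hbest : ∀ D : Subgroup G, D ≤ A →
      Nat.card D * Nat.card ↥(V ⊓ Subgroup.centralizer (D : Set G)) ≤
        Nat.card A * Nat.card ↥(V ⊓ Subgroup.centralizer (A : Set G)) := by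
    intro D hD
    have hDE : Cfsg.IsElementaryAbelian p D := isEA_of_le p hD hAE
    have hEA : Cfsg.IsElementaryAbelian p (D ⊔ (V ⊓ Subgroup.centralizer (D : Set G))) :=
      isEA_sup p hDE (isEA_of_le p inf_le_left hV)
        (fun d hd z hz => Subgroup.mem_centralizer_iff.mp (Subgroup.mem_inf.mp hz).2 d hd)
    have h1 := card_mul_card_le D (V ⊓ Subgroup.centralizer (D : Set G))
    have h2 := hAmax _ hEA
    have h3 : D ⊓ (V ⊓ Subgroup.centralizer (D : Set G)) ≤ V ⊓ Subgroup.centralizer (A : Set G) :=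
      (le_inf (inf_le_right.trans inf_le_left) (inf_le_left.trans hD)).trans hVA
    exact h1.trans (Nat.mul_le_mul h2 (Subgroup.card_le_of_le h3))
  obtain ⟨h1, h2⟩ := timmesfeld_core V A hVc hAV hab hbest V le_rfl
  have hBW : ∀ w ∈ ⁅V, A⁆, ∀ b ∈ A ⊓ Subgroup.centralizer ((⁅V, A⁆ : Subgroup G) : Set G),
      w * b = b * w :=
    fun w hw b hb => Subgroup.mem_centralizer_iff.mp (Subgroup.mem_inf.mp hb).2 w hw
  have hA0E : Cfsg.IsElementaryAbelian p
      (⁅V, A⁆ ⊔ (A ⊓ Subgroup.centralizer ((⁅V, A⁆ : Subgroup G) : Set G))) :=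
    isEA_sup p (isEA_of_le p hWV hV) (isEA_of_le p inf_le_left hAE) hBW
  have hZB : V ⊓ Subgroup.centralizer (A : Set G) ≤
      A ⊓ Subgroup.centralizer ((⁅V, A⁆ : Subgroup G) : Set G) := by
    refine le_inf hZA (fun z hz => ?_)
    rw [Subgroup.mem_centralizer_iff]
    intro w hw
    exact hVc w (hWV hw) z (Subgroup.mem_inf.mp hz).1
  have hcard : Nat.card A ≤
      Nat.card ↥(⁅V, A⁆ ⊔ (A ⊓ Subgroup.centralizer ((⁅V, A⁆ : Subgroup G) : Set G))) := by
    have e : (A ⊓ Subgroup.centralizer ((⁅V, A⁆ : Subgroup G) : Set G)) ⊔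
        (V ⊓ Subgroup.centralizer
          ((A ⊓ Subgroup.centralizer ((⁅V, A⁆ : Subgroup G) : Set G) : Subgroup G) : Set G)) =
        ⁅V, A⁆ ⊔ (A ⊓ Subgroup.centralizer ((⁅V, A⁆ : Subgroup G) : Set G)) := by
      rw [h2]
      apply le_antisymm
      · exact sup_le le_sup_right (sup_le le_sup_left (hZB.trans le_sup_right))
      · exact sup_le (le_sup_left.trans le_sup_right) le_sup_left
    have h3 := card_mul_card_le (A ⊓ Subgroup.centralizer ((⁅V, A⁆ : Subgroup G) : Set G))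
      (V ⊓ Subgroup.centralizer
          ((A ⊓ Subgroup.centralizer ((⁅V, A⁆ : Subgroup G) : Set G) : Subgroup G) : Set G))
    rw [e, h1] at h3
    have h4 : (A ⊓ Subgroup.centralizer ((⁅V, A⁆ : Subgroup G) : Set G)) ⊓
        (V ⊓ Subgroup.centralizer
          ((A ⊓ Subgroup.centralizer ((⁅V, A⁆ : Subgroup G) : Set G) : Subgroup G) : Set G)) ≤
        V ⊓ Subgroup.centralizer (A : Set G) :=
      (le_inf (inf_le_right.trans inf_le_left) (inf_le_left.trans inf_le_left)).trans hVA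
    have h5 := h3.trans (Nat.mul_le_mul_left _ (Subgroup.card_le_of_le h4))
    exact Nat.le_of_mul_le_mul_right h5 Nat.card_pos
  refine ⟨⟨hA0E, fun E hE => (hAmax E hE).trans hcard⟩, ?_, ?_⟩
  · have hle : ⁅V, ⁅V, A⁆ ⊔ (A ⊓ Subgroup.centralizer ((⁅V, A⁆ : Subgroup G) : Set G))⁆ ≤ ⁅V, A⁆ := by
      apply Subgroup.commutator_le.mpr
      intro v hv x hx
      have hBn : A ⊓ Subgroup.centralizer ((⁅V, A⁆ : Subgroup G) : Set G) ≤
          Subgroup.normalizer ((⁅V, A⁆ : Subgroup G) : Set G) :=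
        inf_le_right.trans (Subgroup.centralizer_le_normalizer _)
      rw [← SetLike.mem_coe, Subgroup.coe_mul_of_right_le_normalizer_left _ _ hBn] at hx
      obtain ⟨w, hw, b, hb, rfl⟩ := hx
      have hbA := (Subgroup.mem_inf.mp hb).1
      have hcV : ⁅v, b⁆ ∈ V := hWV (Subgroup.commutator_mem_commutator hv hbA)
      have e : ⁅v, w * b⁆ = ⁅v, b⁆ := by
        have e1 := hVc v hv w (hWV hw)
        have e2 := hVc w (hWV hw) _ hcV
        calc ⁅v, w * b⁆ = (v * w) * b * v⁻¹ * b⁻¹ * w⁻¹ := by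
              simp only [commutatorElement_def]; group
          _ = (w * v) * b * v⁻¹ * b⁻¹ * w⁻¹ := by rw [e1]
          _ = (w * ⁅v, b⁆) * w⁻¹ := by simp only [commutatorElement_def]; group
          _ = (⁅v, b⁆ * w) * w⁻¹ := by rw [e2]
          _ = ⁅v, b⁆ := by group
      rw [e]
      exact Subgroup.commutator_mem_commutator hv hbA
    apply le_bot_iff.mp
    refine (Subgroup.commutator_mono hle le_rfl).trans (le_of_eq ?_)
    apply Subgroup.commutator_eq_bot_iff_le_centralizer.mpr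
    rw [centralizer_sup_eq]
    refine le_inf (fun w hw => ?_) (Subgroup.le_centralizer_iff.mp inf_le_right)
    rw [Subgroup.mem_centralizer_iff]
    intro h hh
    exact hVc h (hWV hh) w (hWV hw)
  · intro hne hbot
    apply hne
    have hVB : ⁅V, A ⊓ Subgroup.centralizer ((⁅V, A⁆ : Subgroup G) : Set G)⁆ = ⊥ :=
      le_bot_iff.mp (hbot ▸ Subgroup.commutator_mono le_rfl le_sup_right)
    have hVB' := Subgroup.commutator_eq_bot_iff_le_centralizer.mp hVB
    have h3 : V ≤ ⁅V, A⁆ ⊔ (V ⊓ Subgroup.centralizer (A : Set G)) := by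
      have h4 : V ≤ V ⊓ Subgroup.centralizer
          ((A ⊓ Subgroup.centralizer ((⁅V, A⁆ : Subgroup G) : Set G) : Subgroup G) : Set G) :=
        le_inf le_rfl hVB'
      rw [h2] at h4
      exact h4
    exact commutator_eq_bot_of_pgroup V A (isPGroup_of_isEA hV) (isPGroup_of_isEA hAE) hAV hVc h3

end Cfsg.Agent.S0607
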