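import Cfsg.Statements.S0031
import Mathlib

set_option autoImplicit false
open Pointwise
open Cfsg

namespace Cfsg.Agent.S0031

theorem comm_injective {G : Type*} [Group G] (φ : G ≃* G)
    (hφ : MonoidHom.FixedPointFree (φ : G →* G)) :
    Function.Injective (fun g : G => (φ g)⁻¹ * g) := by
  intro g h hgh
  simp only at hgh
  have h2 : φ h * (φ g)⁻¹ = h * g⁻¹ := by
    calc φ h * (φ g)⁻¹ = φ h * ((φ g)⁻¹ * g) * g⁻¹ := by group
      _ = φ h * ((φ h)⁻¹ * h) * g⁻¹ := by rw [hgh]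
      _ = h * g⁻¹ := by group
  have h3 : (φ : G →* G) (h * g⁻¹) = h * g⁻¹ := by
    simp only [MonoidHom.coe_coe, map_mul, map_inv]
    exact h2
  have h1 := hφ (h * g⁻¹) h3
  exact (mul_inv_eq_one.mp h1).symm

theorem mem_smul_iff {G : Type*} [Group G] {p : ℕ} (P : Sylow p G) (x y : G) :
    y ∈ (x • P : Sylow p G) ↔ x⁻¹ * y * x ∈ P := by
  change y ∈ MulAut.conj x • (P : Subgroup G) ↔ _
  rw [Subgroup.mem_pointwise_smul_iff_inv_smul_mem]
  simp [MulAut.smul_def]
  exact Iff.rfl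

theorem mem_aut_smul_iff {G : Type*} [Group G] {p : ℕ} (P : Sylow p G) (φ : MulAut G) (y : G) :
    y ∈ (φ • P : Sylow p G) ↔ φ.symm y ∈ P := by
  change y ∈ φ • (P : Subgroup G) ↔ _
  rw [Subgroup.mem_pointwise_smul_iff_inv_smul_mem]
  simp [MulAut.smul_def]
  exact Iff.rfl

theorem result {G : Type*} [Group G] [Finite G] (φ : G ≃* G)
    (hφ : MonoidHom.FixedPointFree (φ : G →* G)) (p : ℕ) [Fact p.Prime] :
    ∃ P : Sylow p G, (P : Subgroup G).map (φ : G →* G) = P := by
  have hinj := comm_injective φ hφ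
  have hsurj : Function.Surjective (fun g : G => (φ g)⁻¹ * g) := Finite.surjective_of_injective hinj
  obtain ⟨P⟩ : Nonempty (Sylow p G) := inferInstance
  let φ' : MulAut G := φ
  obtain ⟨g, hg⟩ := MulAction.exists_smul_eq G P (φ' • P)
  obtain ⟨x, hx⟩ := hsurj g
  simp only at hx
  refine ⟨x • P, ?_⟩
  have hle : ((x • P : Sylow p G) : Subgroup G).map (φ : G →* G) ≤ (x • P : Sylow p G) := by
    rintro _ ⟨y, hy, rfl⟩
    have hy' : y ∈ (x • P : Sylow p G) := hy
    rw [mem_smul_iff] at hy'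
    have h1 : φ (x⁻¹ * y * x) ∈ (φ' • P : Sylow p G) := by
      rw [mem_aut_smul_iff]
      simpa [φ'] using hy'
    rw [← hg, mem_smul_iff] at h1
    change φ y ∈ (x • P : Sylow p G)
    rw [mem_smul_iff]
    have h2 : g⁻¹ * φ (x⁻¹ * y * x) * g = x⁻¹ * φ y * x := by
      rw [← hx]
      simp only [map_mul, map_inv]
      group
    rw [← h2]
    exact h1
  have hcard : Nat.card (((x • P : Sylow p G) : Subgroup G).map (φ : G →* G)) =
      Nat.card ((x • P : Sylow p G) : Subgroup G) :=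
    Subgroup.card_map_of_injective (by exact φ.injective)
  exact Subgroup.eq_of_le_of_card_ge hle (le_of_eq hcard.symm)

end Cfsg.Agent.S0031
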