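import Cfsg.Statements.S0032
import Mathlib

set_option autoImplicit false
open Pointwise
open Cfsg

namespace Cfsg.Agent.S0032

theorem comm_injective {G : Type*} [Group G] (φ : G ≃* G)
    (hφ : MonoidHom.FixedPointFree (φ : G →* G)) :
    Function.Injective (fun g : G => (φ g)⁻¹ * g) := by
  intro g h hgh
  simp only at hgh
  have h2 : φ h * (φ g)⁻¹ = h * g⁻¹ := by
    calc φ h * (φ g)⁻¹ = φ h * ((φ g)⁻¹ * g) * g⁻¹ := by group
      _ = φ h * ((φ h)⁻¹ * h) * g⁻¹ := by rw [hgh]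
      _ = h * g⁻¹ := by group
  have h3 : (φ : G →* G) (h * g⁻¹) = h * g⁻¹ := by
    simp only [MonoidHom.coe_coe, map_mul, map_inv]
    exact h2
  have h1 := hφ (h * g⁻¹) h3
  exact (mul_inv_eq_one.mp h1).symm

theorem result {G : Type*} [Group G] [Finite G] (φ : G ≃* G)
    (hφ : MonoidHom.FixedPointFree (φ : G →* G)) (N : Subgroup G) [N.Normal] (hN : ∀ n ∈ N, φ n ∈ N)
    (x : G) (hx : (φ x)⁻¹ * x ∈ N) : x ∈ N := by
  have hinj := comm_injective φ hφ
  let c : N → N := fun n => ⟨(φ n)⁻¹ * n, N.mul_mem (N.inv_mem (hN n n.2)) n.2⟩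
  have hc : Function.Injective c := fun a b hab => Subtype.ext (hinj (congrArg Subtype.val hab))
  have hsurj : Function.Surjective c := Finite.surjective_of_injective hc
  obtain ⟨n, hn⟩ := hsurj ⟨_, hx⟩
  have h1 : (n : G) = x := hinj (congrArg Subtype.val hn)
  rw [← h1]
  exact n.2

end Cfsg.Agent.S0032
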