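import Cfsg.Statements.S0058
import Cfsg.Agent.Lib.helper9.Generation

set_option autoImplicit false
open Cfsg

namespace Cfsg.Agent.S0058

open Cfsg.Agent.Lib.helper9 Cfsg.Agent.Lib.helper8

/-- Generation by centralisers: when a noncyclic abelian group A normalises K with coprime orders, K is generated by the fixed-point subgroups of the nonidentity elements of A. -/
theorem result {G : Type*} [Group G] [Finite G] (A K : Subgroup G)
    [IsMulCommutative A] (hA : ¬ IsCyclic A) (hAK : A ≤ Subgroup.normalizer (K : Set G)) (hcop : (Nat.card A).Coprime (Nat.card K)) :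
    (⨆ a ∈ {a : G | a ∈ A ∧ a ≠ 1}, K ⊓ Subgroup.centralizer {a}) = K := by
  apply le_antisymm (iSup₂_le fun a _ => inf_le_left)
  apply gen_main A K hAK hcop
  intro B hB hc
  obtain ⟨a₀, ha₀, hBa⟩ := hc
  have hBne : B ≠ ⊥ := by
    intro hb
    apply hA
    rw [hb, bot_sup_eq] at hBa
    rw [← hBa]
    infer_instance
  obtain ⟨b, hb, hb1⟩ := (Subgroup.bot_or_exists_ne_one B).resolve_left hBne
  refine le_trans (inf_le_inf_left K (Subgroup.centralizer_le ?_))
    (le_iSup₂ (f := fun (a : G) (_ : a ∈ {a : G | a ∈ A ∧ a ≠ 1}) =>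
      K ⊓ Subgroup.centralizer {a}) b ⟨hB hb, hb1⟩)
  intro x hx
  rw [Set.mem_singleton_iff] at hx
  rw [hx]; exact hb

end Cfsg.Agent.S0058
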