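import Mathlib
import Cfsg.Statements.S0040
import Cfsg.Agent.Lib.helper1.Fpf
import Cfsg.Agent.Lib.helper1.Quat
import Cfsg.Agent.S0058
import Cfsg.Agent.S0016

set_option autoImplicit false
open Cfsg

namespace Cfsg.Agent.S0040

open Cfsg.Agent.Lib.helper1

/-- Abelian subgroups of a group acting fixed-point-freely (by conjugation) on a nontrivial
normal subgroup are cyclic. -/
theorem abelian_cyclic_of_fpf {G : Type*} [Group G] [Finite G] (K H : Subgroup G) [K.Normal]
    (hK : K ≠ ⊥) (hfpf : ∀ h ∈ H, h ≠ 1 → K ⊓ Subgroup.centralizer {h} = ⊥)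
    (B : Subgroup G) (hBH : B ≤ H) [IsMulCommutative B] : IsCyclic B := by
  by_contra hnc
  have hHK : H ≤ Subgroup.normalizer (K : Set G) := by
    rw [Subgroup.normalizer_eq_top]; exact le_top
  have hBK : B ≤ Subgroup.normalizer (K : Set G) := hBH.trans hHK
  have hcop := fpf_coprime (fpfHom hHK) (isFpf_fpfHom hHK hfpf)
  have hcopB : (Nat.card B).Coprime (Nat.card K) :=
    Nat.Coprime.coprime_dvd_left (Subgroup.card_dvd_of_le hBH) hcop
  have := Cfsg.Agent.S0058.result B K hnc hBK hcopB
  apply hK
  rw [← this]
  simp only [iSup_eq_bot]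
  rintro a ⟨ha, ha1⟩
  exact hfpf a (hBH ha) ha1

/-- Sylow subgroups of Frobenius complements: if H complements a nontrivial normal subgroup K and every nonidentity element of H has trivial centraliser in K, then each Sylow subgroup of H is cyclic or isomorphic to a generalized quaternion group. -/
theorem result {G : Type*} [Group G] [Finite G] (K H : Subgroup G) [K.Normal]
    (hc : Subgroup.IsComplement' K H) (hK : K ≠ ⊥) (hfpf : ∀ h ∈ H, h ≠ 1 → K ⊓ Subgroup.centralizer {h} = ⊥)
    (p : ℕ) [Fact p.Prime] (P : Sylow p H) :
    IsCyclic P ∨ ∃ n : ℕ, Nonempty (P ≃* QuaternionGroup (2 ^ n)) := by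
  classical
  have hp := (Fact.out : p.Prime)
  have hP : IsPGroup p (P : Subgroup H) := P.isPGroup'
  let ι : (P : Subgroup H) →* G := H.subtype.comp (P : Subgroup H).subtype
  have hι : Function.Injective ι :=
    (Subgroup.subtype_injective H).comp (Subgroup.subtype_injective _)
  -- abelian subgroups of P are cyclic
  have hab : ∀ B' : Subgroup (P : Subgroup H), IsMulCommutative B' → IsCyclic B' := by
    intro B' hB'
    have hle : B'.map ι ≤ H := by
      rintro _ ⟨x, -, rfl⟩
      exact (x : H).2
    haveI : IsMulCommutative (B'.map ι) := inferInstance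
    have h1 := abelian_cyclic_of_fpf K H hK hfpf (B'.map ι) hle
    exact (B'.equivMapOfInjective ι hι).isCyclic.mpr h1
  -- unique subgroup of order p
  have huniq : ∀ X Y : Subgroup (P : Subgroup H), Nat.card X = p → Nat.card Y = p → X = Y := by
    have key : ∀ X : Subgroup (P : Subgroup H), Nat.card X = p →
        ∀ z : (P : Subgroup H), z ∈ Subgroup.center (P : Subgroup H) → orderOf z = p →
          X = Subgroup.zpowers z := by
      intro X hX z hzc hz
      apply Subgroup.eq_of_le_of_card_ge
      · intro x hx
        by_cases hx1 : x = 1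
        · rw [hx1]; exact Subgroup.one_mem _
        have hox : orderOf x = p := by
          have h1 := orderOf_dvd_natCard (⟨x, hx⟩ : X)
          rw [hX] at h1
          rw [Subgroup.orderOf_mk] at h1
          rcases (Nat.dvd_prime hp).mp h1 with h2 | h2
          · exact absurd (orderOf_eq_one_iff.mp h2) hx1
          · exact h2
        have hcomm : ∀ a ∈ ({x, z} : Set (P : Subgroup H)), ∀ b ∈ ({x, z} : Set (P : Subgroup H)),
            a * b = b * a := by
          intro a ha b hb
          simp only [Set.mem_insert_iff, Set.mem_singleton_iff] at ha hb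
          rw [Subgroup.mem_center_iff] at hzc
          rcases ha with rfl | rfl <;> rcases hb with rfl | rfl
          · rfl
          · exact hzc a
          · exact (hzc b).symm
          · rfl
        have hmc := Subgroup.isMulCommutative_closure hcomm
        have hcyc := hab _ hmc
        have hxB : x ∈ Subgroup.closure ({x, z} : Set (P : Subgroup H)) :=
          Subgroup.subset_closure (by simp)
        have hzB : z ∈ Subgroup.closure ({x, z} : Set (P : Subgroup H)) :=
          Subgroup.subset_closure (by simp)
        have hox' : orderOf (⟨x, hxB⟩ : Subgroup.closure ({x, z} : Set (P : Subgroup H))) = p := by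
          exact (Subgroup.orderOf_mk x hxB).trans hox
        have hoz' : orderOf (⟨z, hzB⟩ : Subgroup.closure ({x, z} : Set (P : Subgroup H))) = p := by
          exact (Subgroup.orderOf_mk z hzB).trans hz
        have hle := le_of_card_dvd_of_isCyclic
          (Subgroup.zpowers (⟨x, hxB⟩ : Subgroup.closure ({x, z} : Set (P : Subgroup H))))
          (Subgroup.zpowers (⟨z, hzB⟩ : Subgroup.closure ({x, z} : Set (P : Subgroup H))))
          (by rw [Nat.card_zpowers, Nat.card_zpowers, hox', hoz'])
        obtain ⟨k, hk⟩ := Subgroup.mem_zpowers_iff.mp (hle (Subgroup.mem_zpowers _))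
        refine Subgroup.mem_zpowers_iff.mpr ⟨k, ?_⟩
        have := congrArg Subtype.val hk
        simpa using this
      · rw [Nat.card_zpowers, hz, hX]
    intro X Y hX hY
    -- a central element of order p
    haveI : Nontrivial (P : Subgroup H) := by
      have h1 : 1 < Nat.card X := by rw [hX]; exact hp.one_lt
      have h2 : Nat.card X ≤ Nat.card (P : Subgroup H) := Nat.card_le_card_of_injective _ (Subgroup.subtype_injective X)
      exact (Finite.one_lt_card_iff_nontrivial).mp (lt_of_lt_of_le h1 h2)
    haveI : Nontrivial (Subgroup.center (P : Subgroup H)) := hP.center_nontrivial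
    have hZp : IsPGroup p (Subgroup.center (P : Subgroup H)) := hP.to_subgroup _
    obtain ⟨j, hj⟩ := IsPGroup.iff_card.mp hZp
    have hj0 : j ≠ 0 := by
      rintro rfl
      rw [pow_zero] at hj
      have h2 : 1 < Nat.card (Subgroup.center (P : Subgroup H)) := Finite.one_lt_card
      omega
    obtain ⟨z, hz⟩ := exists_prime_orderOf_dvd_card' (G := Subgroup.center (P : Subgroup H)) p
      (by rw [hj]; exact dvd_pow_self p hj0)
    have hz' : orderOf (z : (P : Subgroup H)) = p := by rw [Subgroup.orderOf_coe, hz]
    rw [key X hX z z.2 hz', key Y hY z z.2 hz']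
  rcases Cfsg.Agent.S0016.result p hP huniq with h | ⟨-, h⟩
  · left; exact h
  · right; exact h

end Cfsg.Agent.S0040
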