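import Mathlib
import Cfsg.Statements.S0041
import Cfsg.Agent.Lib.helper1.Fpf
import Cfsg.Agent.S0058

set_option autoImplicit false
open Cfsg

namespace Cfsg.Agent.S0041

open Cfsg.Agent.Lib.helper1

open scoped IsMulCommutative in
/-- A group acting on a nontrivial abelian group so that no nonidentity element has a nonidentity fixed point is cyclic, provided it is abelian or its order is a product of two (possibly equal) primes. -/
theorem result {G : Type*} [Group G] [Finite G] (A V : Subgroup G) [IsMulCommutative V]
    (hV : V ≠ ⊥) (hAV : A ≤ Subgroup.normalizer (V : Set G)) (hfpf : ∀ a ∈ A, a ≠ 1 → V ⊓ Subgroup.centralizer {a} = ⊥)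
    (hA : IsMulCommutative A ∨ ∃ p q : ℕ, p.Prime ∧ q.Prime ∧ Nat.card A = p * q) : IsCyclic A := by
  classical
  have hfp := isFpf_fpfHom hAV hfpf
  haveI : Nontrivial V := (Subgroup.nontrivial_iff_ne_bot V).mpr hV
  have hcomm : IsMulCommutative A := by
    rcases hA with hA | ⟨p, q, hp, hq, hcard⟩
    · exact hA
    · by_cases hpq : p = q
      · subst hpq
        haveI := Fact.mk hp
        exact IsPGroup.isMulCommutative_of_card_eq_prime_sq (p := p) (by rw [hcard, sq])
      · wlog h : p < q generalizing p q
        · exact this q p hq hp (by rw [hcard, mul_comm]) (Ne.symm hpq) (by omega)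
        exact ⟨⟨fun a b => fpf_pq_comm (fpfHom hAV) hfp hp hq h hcard a b⟩⟩
  by_contra hnc
  have hcop := fpf_coprime (fpfHom hAV) hfp
  have := Cfsg.Agent.S0058.result A V hnc hAV hcop
  apply hV
  rw [← this]
  simp only [iSup_eq_bot]
  rintro a ⟨ha, ha1⟩
  exact hfpf a ha ha1

end Cfsg.Agent.S0041
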