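import Cfsg.Statements.S0068
import Mathlib

set_option autoImplicit false
open Cfsg

namespace Cfsg.Agent.S0068

/-- An involution acting fixed-point-freely on a finite normal subgroup inverts it. -/
theorem inverts {G : Type*} [Group G] [Finite G] (K : Subgroup G) [K.Normal] (s : G)
    (hs : s * s = 1) (hfp : K ⊓ Subgroup.centralizer {s} = ⊥) :
    (∀ k ∈ K, s * k * s⁻¹ = k⁻¹) ∧ ∀ a ∈ K, ∀ b ∈ K, a * b = b * a := by
  let φ : K →* K := (MulAut.conjNormal s : MulAut K).toMonoidHom
  have hφ : ∀ k : K, ((φ k : K) : G) = s * k * s⁻¹ := fun k => MulAut.conjNormal_apply s k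
  have hfpf : MonoidHom.FixedPointFree φ := by
    intro k hk
    have h1 : s * (k : G) * s⁻¹ = k := by rw [← hφ, hk]
    have h2 : (k : G) ∈ K ⊓ Subgroup.centralizer {s} := by
      refine Subgroup.mem_inf.mpr ⟨k.2, ?_⟩
      rw [Subgroup.mem_centralizer_iff]
      intro z hz
      rw [Set.mem_singleton_iff] at hz
      subst hz
      have := congrArg (fun t => t * z) h1
      simpa [mul_assoc] using this
    rw [hfp] at h2
    exact Subtype.ext (Subgroup.mem_bot.mp h2)
  have hsinv : s⁻¹ = s := inv_eq_of_mul_eq_one_left hs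
  have hinv : Function.Involutive φ := by
    intro k
    apply Subtype.ext
    rw [hφ, hφ, hsinv]
    calc s * (s * (k : G) * s) * s = (s * s) * k * (s * s) := by group
      _ = k := by rw [hs, one_mul, mul_one]
  constructor
  · intro k hk
    have := congrFun (hfpf.coe_eq_inv_of_involutive hinv) ⟨k, hk⟩
    have := congrArg Subtype.val this
    rw [hφ] at this
    simpa using this
  · intro a ha b hb
    have := hfpf.commute_all_of_involutive hinv ⟨a, ha⟩ ⟨b, hb⟩
    exact congrArg Subtype.val this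

/-- Frobenius complements of even order: if H complements a nontrivial normal subgroup K, each nonidentity element of H has trivial centraliser in K, and H has even order, then H contains a unique involution s, K is abelian, and s inverts every element of K. -/
theorem result {G : Type*} [Group G] [Finite G] (K H : Subgroup G) [K.Normal]
    (hc : Subgroup.IsComplement' K H) (hK : K ≠ ⊥) (hfpf : ∀ h ∈ H, h ≠ 1 → K ⊓ Subgroup.centralizer {h} = ⊥)
    (heven : 2 ∣ Nat.card H) :
    (∃ s ∈ H, orderOf s = 2 ∧ (∀ t ∈ H, orderOf t = 2 → t = s) ∧ ∀ k ∈ K, s * k * s⁻¹ = k⁻¹) ∧ IsMulCommutative K := by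
  haveI : Fact (Nat.Prime 2) := ⟨Nat.prime_two⟩
  obtain ⟨s', hs'⟩ := exists_prime_orderOf_dvd_card' 2 heven
  have key : ∀ t ∈ H, orderOf t = 2 →
      (∀ k ∈ K, t * k * t⁻¹ = k⁻¹) ∧ ∀ a ∈ K, ∀ b ∈ K, a * b = b * a := by
    intro t ht ht2
    have ht1 : t ≠ 1 := by
      rintro rfl
      rw [orderOf_one] at ht2
      omega
    have htt : t * t = 1 := by
      rw [← pow_two, ← ht2]; exact pow_orderOf_eq_one t
    exact inverts K t htt (hfpf t ht ht1)
  have hs2 : orderOf (s' : G) = 2 := by rw [Subgroup.orderOf_coe]; exact hs'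
  obtain ⟨hsinv, hcomm⟩ := key s' s'.2 hs2
  refine ⟨⟨s', s'.2, hs2, ?_, hsinv⟩, ⟨⟨fun a b => Subtype.ext (hcomm a a.2 b b.2)⟩⟩⟩
  intro t ht ht2
  obtain ⟨htinv, -⟩ := key t ht ht2
  by_contra hne
  have hst : (s' : G) * t ≠ 1 := by
    intro h
    apply hne
    have h1 : (s' : G) * s' = 1 := by
      rw [← pow_two, ← hs2]; exact pow_orderOf_eq_one _
    have : (s' : G) * t = s' * s' := by rw [h, h1]
    exact mul_left_cancel this
  have hbot := hfpf _ (H.mul_mem s'.2 ht) hst
  apply hK
  rw [eq_bot_iff, ← hbot]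
  intro k hk
  refine Subgroup.mem_inf.mpr ⟨hk, ?_⟩
  rw [Subgroup.mem_centralizer_iff]
  intro z hz
  rw [Set.mem_singleton_iff] at hz
  subst hz
  have h1 : (s' : G) * t * k * ((s' : G) * t)⁻¹ = k := by
    calc (s' : G) * t * k * ((s' : G) * t)⁻¹ = s' * (t * k * t⁻¹) * (s' : G)⁻¹ := by group
      _ = s' * k⁻¹ * (s' : G)⁻¹ := by rw [htinv k hk]
      _ = k := by rw [hsinv k⁻¹ (K.inv_mem hk), inv_inv]
  have := congrArg (fun x => x * ((s' : G) * t)) h1
  simpa [mul_assoc] using this

end Cfsg.Agent.S0068
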