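import Cfsg.Statements.S2581
-- import your own Cfsg.Agent.* helpers here
import Mathlib

set_option autoImplicit false
open Cfsg

namespace Cfsg.Agent.S2581



variable {F : Type*} [Field F] {t : ℕ} (d : Fin t → ℕ)

abbrev Ix := (k : Fin t) × Fin (d k)

/-- N = J - 1 -/
def Nm : Matrix (Ix d) (Ix d) F :=
  fun x y => if x.1 = y.1 ∧ x.2.val = y.2.val + 1 then 1 else 0

theorem J_eq : Cfsg.jordanTypeMatrix d F = 1 + Nm d := by
  ext ⟨k, i⟩ ⟨l, j⟩
  simp only [Cfsg.jordanTypeMatrix, Matrix.blockDiagonal'_apply, Matrix.add_apply, Nm,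
    Matrix.one_apply]
  by_cases h : k = l
  · subst h
    simp only [Cfsg.jordanBlock, Matrix.of_apply, cast_eq, dite_true, Sigma.mk.injEq, heq_eq_eq,
      true_and, Fin.ext_iff]
    by_cases h1 : (i : ℕ) = j
    · have h2 : ¬ ((i : ℕ) = (j : ℕ) + 1) := by omega
      simp [h1]
    · simp [h1]
  · simp [h]

theorem comm_iff (g : Matrix (Ix d) (Ix d) F) :
    g * Cfsg.jordanTypeMatrix d F = Cfsg.jordanTypeMatrix d F * g ↔ g * Nm d = Nm d * g := by
  rw [J_eq, mul_add, add_mul, mul_one, one_mul, add_right_inj]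

theorem mul_N_apply (g : Matrix (Ix d) (Ix d) F) (x y : Ix d) :
    (g * Nm d : Matrix (Ix d) (Ix d) F) x y = if h : y.2.val + 1 < d y.1 then g x ⟨y.1, ⟨y.2.val + 1, h⟩⟩ else 0 := by
  rw [Matrix.mul_apply]
  split_ifs with h
  · rw [Finset.sum_eq_single (⟨y.1, ⟨y.2.val + 1, h⟩⟩ : Ix d)]
    · simp [Nm]
    · intro z _ hz
      have : ¬ (z.1 = y.1 ∧ z.2.val = y.2.val + 1) := by
        rintro ⟨h1, h2⟩
        apply hz
        obtain ⟨z1, z2⟩ := z
        simp only at h1 h2
        subst h1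
        congr 1
        exact Fin.ext h2
      simp [Nm, this]
    · intro h1; exact absurd (Finset.mem_univ _) h1
  · apply Finset.sum_eq_zero
    intro z _
    have : ¬ (z.1 = y.1 ∧ z.2.val = y.2.val + 1) := by
      rintro ⟨h1, h2⟩
      apply h
      have h3 : d z.1 = d y.1 := by rw [h1]
      have := z.2.isLt
      omega
    simp [Nm, this]

theorem N_mul_apply (g : Matrix (Ix d) (Ix d) F) (x y : Ix d) :
    (Nm d * g : Matrix (Ix d) (Ix d) F) x y = if h : 1 ≤ x.2.val then
      g ⟨x.1, ⟨x.2.val - 1, by have := x.2.isLt; omega⟩⟩ y else 0 := by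
  rw [Matrix.mul_apply]
  split_ifs with h
  · rw [Finset.sum_eq_single (⟨x.1, ⟨x.2.val - 1, by have := x.2.isLt; omega⟩⟩ : Ix d)]
    · have h5 : x.2.val = x.2.val - 1 + 1 := by omega
      simp only [Nm]
      rw [if_pos ⟨trivial, h5⟩, one_mul]
    · intro z _ hz
      have : ¬ (x.1 = z.1 ∧ x.2.val = z.2.val + 1) := by
        rintro ⟨h1, h2⟩
        apply hz
        obtain ⟨z1, z2⟩ := z
        simp only at h1 h2
        subst h1
        congr 1
        exact Fin.ext (by simp only; omega)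
      simp [Nm, this]
    · intro h1; exact absurd (Finset.mem_univ _) h1
  · apply Finset.sum_eq_zero
    intro z _
    have : ¬ (x.1 = z.1 ∧ x.2.val = z.2.val + 1) := by
      rintro ⟨h1, h2⟩
      omega
    simp [Nm, this]

/-- matrix from first columns -/
def Gc (c : Fin t → Ix d → F) : Matrix (Ix d) (Ix d) F :=
  fun x y => if y.2.val ≤ x.2.val then
    c y.1 ⟨x.1, ⟨x.2.val - y.2.val, by have := x.2.isLt; omega⟩⟩ else 0

def Cons (c : Fin t → Ix d → F) : Prop :=
  ∀ l (x : Ix d), x.2.val + d l < d x.1 → c l x = 0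

theorem Gc_comm (c : Fin t → Ix d → F) (hc : Cons d c) : Gc d c * Nm d = Nm d * Gc d c := by
  ext x y
  rw [mul_N_apply, N_mul_apply]
  by_cases h1 : y.2.val + 1 < d y.1
  · rw [dif_pos h1]
    by_cases h2 : 1 ≤ x.2.val
    · rw [dif_pos h2]
      simp only [Gc]
      by_cases h3 : y.2.val + 1 ≤ x.2.val
      · have h4 : y.2.val ≤ x.2.val - 1 := by omega
        rw [if_pos h3, if_pos h4]
        congr 3
        omega
      · have h4 : ¬ y.2.val ≤ x.2.val - 1 := by omega
        rw [if_neg h3, if_neg h4]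
    · rw [dif_neg h2]
      simp only [Gc]
      rw [if_neg (by omega)]
  · rw [dif_neg h1]
    by_cases h2 : 1 ≤ x.2.val
    · rw [dif_pos h2]
      simp only [Gc]
      by_cases h4 : y.2.val ≤ x.2.val - 1
      · rw [if_pos h4]
        symm
        apply hc
        have := y.2.isLt
        have := x.2.isLt
        simp only
        omega
      · rw [if_neg h4]
    · rw [dif_neg h2]

variable (hd : ∀ k, 1 ≤ d k)

theorem eq_Gc_aux (g : Matrix (Ix d) (Ix d) F) (hg : g * Nm d = Nm d * g) (j : ℕ) :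
    ∀ (x y : Ix d), y.2.val = j → g x y = Gc d (fun l x => g x ⟨l, ⟨0, hd l⟩⟩) x y := by
  induction j with
  | zero =>
    intro x y hy
    simp only [Gc]
    rw [if_pos (by omega)]
    congr 1
    · obtain ⟨x1, x2⟩ := x
      simp only
      congr 1
      exact Fin.ext (by simp only; omega)
    · obtain ⟨y1, y2⟩ := y
      simp only
      congr 1
      exact Fin.ext (by simpa using hy)
  | succ j ih =>
    intro x y hy
    have hj : j < d y.1 := by have := y.2.isLt; omega
    have h1 := congrFun (congrFun hg x) ⟨y.1, ⟨j, hj⟩⟩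
    rw [mul_N_apply, N_mul_apply] at h1
    simp only at h1
    rw [dif_pos (by have := y.2.isLt; omega)] at h1
    have h2 : (⟨y.1, ⟨j + 1, by have := y.2.isLt; omega⟩⟩ : Ix d) = y := by
      obtain ⟨y1, y2⟩ := y
      simp only
      congr 1
      exact Fin.ext (by simpa using hy.symm)
    rw [h2] at h1
    rw [h1]
    by_cases h3 : 1 ≤ x.2.val
    · rw [dif_pos h3, ih _ _ rfl]
      simp only [Gc]
      by_cases h4 : j ≤ x.2.val - 1
      · rw [if_pos h4, if_pos (by omega)]
        congr 3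
        omega
      · rw [if_neg h4, if_neg (by omega)]
    · rw [dif_neg h3]
      simp only [Gc]
      rw [if_neg (by omega)]

theorem eq_Gc (g : Matrix (Ix d) (Ix d) F) (hg : g * Nm d = Nm d * g) :
    g = Gc d (fun l x => g x ⟨l, ⟨0, hd l⟩⟩) := by
  ext x y
  exact eq_Gc_aux d hd g hg _ x y rfl

theorem cons_of_comm (g : Matrix (Ix d) (Ix d) F) (hg : g * Nm d = Nm d * g) :
    Cons d (fun l x => g x ⟨l, ⟨0, hd l⟩⟩) := by
  intro l x hx
  simp only
  -- use relation at (x.1, x.2 + d l), (l, d l - 1)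
  have hl := hd l
  have h1 := congrFun (congrFun hg ⟨x.1, ⟨x.2.val + d l, hx⟩⟩) ⟨l, ⟨d l - 1, by omega⟩⟩
  rw [mul_N_apply, N_mul_apply] at h1
  simp only at h1
  rw [dif_neg (by omega), dif_pos (by omega)] at h1
  rw [eq_Gc d hd g hg] at h1
  simp only [Gc] at h1
  rw [if_pos (by omega)] at h1
  rw [h1]
  congr 1
  obtain ⟨x1, x2⟩ := x
  simp only
  congr 1
  exact Fin.ext (by simp only; omega)

theorem Gc_col (c : Fin t → Ix d → F) :
    (fun l x => Gc d c x ⟨l, ⟨0, hd l⟩⟩) = c := by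
  funext l x
  simp only [Gc]
  rw [if_pos (by omega)]
  rfl

/-- the commutant equivalence -/
def commEquiv : {g : Matrix (Ix d) (Ix d) F // g * Nm d = Nm d * g} ≃
    {c : Fin t → Ix d → F // Cons d c} where
  toFun g := ⟨fun l x => g.1 x ⟨l, ⟨0, hd l⟩⟩, cons_of_comm d hd g.1 g.2⟩
  invFun c := ⟨Gc d c.1, Gc_comm d c.1 c.2⟩
  left_inv g := Subtype.ext (eq_Gc d hd g.1 g.2).symm
  right_inv c := Subtype.ext (Gc_col d hd c.1)


/-- block order -/
def bb (x : Ix d) : ℕᵒᵈ ×ₗ ℕ := toLex (OrderDual.toDual x.2.val, d x.1)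

theorem Gc_blockTriangular (c : Fin t → Ix d → F) (hc : Cons d c) :
    (Gc d c).BlockTriangular (bb d) := by
  intro x y hxy
  simp only [bb, Prod.Lex.toLex_lt_toLex, OrderDual.toDual_lt_toDual, OrderDual.toDual_inj]
    at hxy
  simp only [Gc]
  rcases hxy with h | ⟨h1, h2⟩
  · rw [if_neg (by omega)]
  · split_ifs with h3
    · apply hc
      simp only
      omega
    · rfl

/-- diagonal blocks of the top coefficients -/
def Tb (c : Fin t → Ix d → F) (e : ℕ) : Matrix {k : Fin t // d k = e} {k : Fin t // d k = e} F :=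
  fun k l => c l.1 ⟨k.1, ⟨0, hd k.1⟩⟩

def blkEquiv (x₀ : Ix d) : {x : Ix d // bb d x = bb d x₀} ≃ {k : Fin t // d k = d x₀.1} where
  toFun x := ⟨x.1.1, by
    have := x.2
    simp only [bb, EmbeddingLike.apply_eq_iff_eq, Prod.mk.injEq] at this
    exact this.2⟩
  invFun k := ⟨⟨k.1, ⟨x₀.2.val, by rw [k.2]; exact x₀.2.isLt⟩⟩, by simp [bb, k.2]⟩
  left_inv x := by
    obtain ⟨⟨x1, x2⟩, hx⟩ := x
    simp only [bb, EmbeddingLike.apply_eq_iff_eq, Prod.mk.injEq] at hx
    apply Subtype.ext
    simp only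
    congr 1
    exact Fin.ext (by simpa using hx.1.symm)
  right_inv k := rfl

theorem toSquareBlock_eq (c : Fin t → Ix d → F) (x₀ : Ix d) :
    (Gc d c).toSquareBlock (bb d) (bb d x₀) =
      (Tb d hd c (d x₀.1)).submatrix (blkEquiv d x₀) (blkEquiv d x₀) := by
  ext x y
  obtain ⟨⟨x1, x2⟩, hx⟩ := x
  obtain ⟨⟨y1, y2⟩, hy⟩ := y
  simp only [bb, EmbeddingLike.apply_eq_iff_eq, Prod.mk.injEq] at hx hy
  have hxy : (y2 : ℕ) = x2 := by
    have h1 := hx.1; have h2 := hy.1
    omega
  simp only [Matrix.toSquareBlock_def, Matrix.of_apply, Gc, Matrix.submatrix_apply, Tb, blkEquiv,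
    Equiv.coe_fn_mk]
  rw [if_pos (by omega)]
  congr 2
  exact Fin.ext (by simp only; omega)

theorem det_Gc_ne_zero_iff (c : Fin t → Ix d → F) (hc : Cons d c) :
    (Gc d c).det ≠ 0 ↔ ∀ e, (Tb d hd c e).det ≠ 0 := by
  rw [(Gc_blockTriangular d c hc).det, Finset.prod_ne_zero_iff]
  constructor
  · intro h e
    by_cases he : ∃ k, d k = e
    · obtain ⟨k, rfl⟩ := he
      have h1 := h (bb d ⟨k, ⟨0, hd k⟩⟩) (Finset.mem_image_of_mem _ (Finset.mem_univ _))
      rw [toSquareBlock_eq d hd, Matrix.det_submatrix_equiv_self] at h1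
      exact h1
    · have : IsEmpty {k : Fin t // d k = e} := ⟨fun k => he ⟨k.1, k.2⟩⟩
      rw [Matrix.det_isEmpty]
      exact one_ne_zero
  · intro h a ha
    obtain ⟨x₀, -, rfl⟩ := Finset.mem_image.1 ha
    rw [toSquareBlock_eq d hd, Matrix.det_submatrix_equiv_self]
    exact h _

/-- first equivalence: GL-centralizer to commuting matrices with nonzero det -/
def e1 : {g : GL (Ix d) F // (g : Matrix (Ix d) (Ix d) F) * Cfsg.jordanTypeMatrix d F =
      Cfsg.jordanTypeMatrix d F * (g : Matrix (Ix d) (Ix d) F)} ≃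
    {g : {g : Matrix (Ix d) (Ix d) F // g * Nm d = Nm d * g} // g.1.det ≠ 0} where
  toFun g := ⟨⟨g.1.1, (comm_iff d _).1 g.2⟩, by
    have := (Matrix.isUnit_iff_isUnit_det _).1 g.1.isUnit
    exact this.ne_zero⟩
  invFun g := ⟨Matrix.GeneralLinearGroup.mkOfDetNeZero g.1.1 g.2, (comm_iff d _).2 g.1.2⟩
  left_inv g := Subtype.ext (Units.ext rfl)
  right_inv g := rfl

def e2 : {g : {g : Matrix (Ix d) (Ix d) F // g * Nm d = Nm d * g} // g.1.det ≠ 0} ≃
    {c : {c : Fin t → Ix d → F // Cons d c} // ∀ e, (Tb d hd c.1 e).det ≠ 0} :=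
  (commEquiv d hd).subtypeEquiv (fun g => by
    rw [← det_Gc_ne_zero_iff d hd _ ((commEquiv d hd) g).2]
    have : Gc d ((commEquiv d hd) g).1 = g.1 := (eq_Gc d hd g.1 g.2).symm
    rw [this])


def Rp (p : Fin t × Ix d) : Prop :=
  ¬ (p.2.2.val + d p.1 < d p.2.1) ∧ ¬ (p.2.2.val = 0 ∧ d p.2.1 = d p.1)

instance : DecidablePred (Rp d) := fun p => by unfold Rp; infer_instance

variable {M : ℕ} (hM : ∀ k, d k < M + 1)

/-- parameters to first-column functions -/
def cfun (r : {p : Fin t × Ix d // Rp d p} → F)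
    (γ : (e : Fin (M + 1)) → GL {k : Fin t // d k = e.val} F) : Fin t → Ix d → F :=
  fun l x => if hZ : x.2.val + d l < d x.1 then 0
    else if hB : x.2.val = 0 ∧ d x.1 = d l then
      ((γ ⟨d l, hM l⟩ : GL {k : Fin t // d k = d l} F) :
        Matrix {k : Fin t // d k = d l} {k : Fin t // d k = d l} F) ⟨x.1, hB.2⟩ ⟨l, rfl⟩
    else r ⟨(l, x), ⟨hZ, hB⟩⟩

theorem cfun_cons (r : {p : Fin t × Ix d // Rp d p} → F)
    (γ : (e : Fin (M + 1)) → GL {k : Fin t // d k = e.val} F) : Cons d (cfun d hM r γ) := by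
  intro l x hx
  simp only [cfun]
  rw [dif_pos hx]

theorem Tb_cfun (r : {p : Fin t × Ix d // Rp d p} → F)
    (γ : (e : Fin (M + 1)) → GL {k : Fin t // d k = e.val} F) (e : ℕ) (he : e < M + 1) :
    Tb d hd (cfun d hM r γ) e = ((γ ⟨e, he⟩ : GL {k : Fin t // d k = e} F) :
        Matrix {k : Fin t // d k = e} {k : Fin t // d k = e} F) := by
  ext k l
  obtain ⟨l, rfl⟩ := l
  obtain ⟨k, hk⟩ := k
  simp only [Tb, cfun]
  rw [dif_neg (by omega), dif_pos ⟨trivial, hk⟩]

theorem det_Tb_cfun (r : {p : Fin t × Ix d // Rp d p} → F)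
    (γ : (e : Fin (M + 1)) → GL {k : Fin t // d k = e.val} F) (e : ℕ) :
    (Tb d hd (cfun d hM r γ) e).det ≠ 0 := by
  by_cases he : e < M + 1
  · rw [Tb_cfun d hd hM r γ e he]
    have := (Matrix.isUnit_iff_isUnit_det _).1 (γ ⟨e, he⟩).isUnit
    exact this.ne_zero
  · have : IsEmpty {k : Fin t // d k = e} := ⟨fun k => he (k.2 ▸ hM k.1)⟩
    rw [Matrix.det_isEmpty]
    exact one_ne_zero

def e3 : {c : {c : Fin t → Ix d → F // Cons d c} // ∀ e, (Tb d hd c.1 e).det ≠ 0} ≃
    ({p : Fin t × Ix d // Rp d p} → F) ×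
      ((e : Fin (M + 1)) → GL {k : Fin t // d k = e.val} F) where
  toFun c := (fun p => c.1.1 p.1.1 p.1.2,
    fun e => Matrix.GeneralLinearGroup.mkOfDetNeZero (Tb d hd c.1.1 e.val) (c.2 e.val))
  invFun rg := ⟨⟨cfun d hM rg.1 rg.2, cfun_cons d hM rg.1 rg.2⟩, det_Tb_cfun d hd hM rg.1 rg.2⟩
  left_inv c := by
    apply Subtype.ext
    apply Subtype.ext
    funext l x
    simp only [cfun]
    by_cases hZ : x.2.val + d l < d x.1
    · rw [dif_pos hZ]
      exact (c.1.2 l x hZ).symm
    · rw [dif_neg hZ]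
      by_cases hB : x.2.val = 0 ∧ d x.1 = d l
      · rw [dif_pos hB]
        show Tb d hd c.1.1 (d l) ⟨x.1, hB.2⟩ ⟨l, rfl⟩ = _
        simp only [Tb]
        have hx : (⟨x.1, ⟨0, hd x.1⟩⟩ : Ix d) = x := by
          obtain ⟨x1, x2⟩ := x
          simp only at hB
          congr 1
          exact Fin.ext hB.1.symm
        rw [hx]
      · rw [dif_neg hB]
  right_inv rg := by
    obtain ⟨r, γ⟩ := rg
    apply Prod.ext
    · funext p
      obtain ⟨⟨l, x⟩, hp⟩ := p
      simp only [cfun]
      rw [dif_neg hp.1, dif_neg hp.2]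
    · funext e
      apply Units.ext
      exact Tb_cfun d hd hM r γ e.val e.isLt


theorem card_GL_sub [Fintype F] (e : ℕ) :
    Nat.card (GL {k : Fin t // d k = e} F) =
      ∏ j : Fin ((Finset.univ.filter (fun k : Fin t => d k = e)).card),
        (Fintype.card F ^ (Finset.univ.filter (fun k : Fin t => d k = e)).card -
          Fintype.card F ^ (j : ℕ)) := by
  have eqv : {k : Fin t // d k = e} ≃ Fin ((Finset.univ.filter (fun k : Fin t => d k = e)).card) :=
    Fintype.equivFinOfCardEq (by rw [Fintype.card_subtype])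
  rw [Nat.card_congr (Units.mapEquiv (Matrix.reindexAlgEquiv F F eqv).toMulEquiv).toEquiv,
    Matrix.card_GL_field]

def rho (a b : ℕ) : ℕ := if a < b then a else if a = b then a - 1 else b

theorem inner_count (n b : ℕ) :
    (∑ i : Fin n, if (¬ (i.val + b < n) ∧ ¬ (i.val = 0 ∧ n = b)) then 1 else 0) = rho n b := by
  rw [Fin.sum_univ_eq_sum_range (fun i => if (¬ (i + b < n) ∧ ¬ (i = 0 ∧ n = b)) then 1 else 0) n,
    ← Finset.card_filter]
  have : (Finset.range n).filter (fun i => ¬ (i + b < n) ∧ ¬ (i = 0 ∧ n = b)) =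
      Finset.Ico (if n < b then 0 else if n = b then 1 else n - b) n := by
    ext i
    simp only [Finset.mem_filter, Finset.mem_range, Finset.mem_Ico]
    split_ifs <;> omega
  rw [this, Nat.card_Ico, rho]
  split_ifs <;> omega

theorem card_Rp : Nat.card {p : Fin t × Ix d // Rp d p} = ∑ l : Fin t, ∑ k : Fin t, rho (d k) (d l) := by
  rw [Nat.card_eq_fintype_card, Fintype.card_subtype, Finset.card_filter, Fintype.sum_prod_type]
  apply Finset.sum_congr rfl
  intro l _
  rw [Fintype.sum_sigma]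
  apply Finset.sum_congr rfl
  intro k _
  rw [← inner_count]
  rfl

include hM in
theorem sum_fiber (g : ℕ → ℕ) :
    ∑ k : Fin t, g (d k) = ∑ i ∈ Finset.range (M + 1),
      (Finset.univ.filter (fun k : Fin t => d k = i)).card * g i := by
  rw [← Finset.sum_fiberwise_of_maps_to (s := Finset.univ) (t := Finset.range (M + 1)) (g := d)
    (fun k _ => Finset.mem_range.2 (hM k))]
  apply Finset.sum_congr rfl
  intro i _
  rw [Finset.sum_congr rfl (fun k hk => by rw [(Finset.mem_filter.1 hk).2] :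
    ∀ k ∈ Finset.univ.filter (fun k : Fin t => d k = i), g (d k) = g i)]
  rw [Finset.sum_const, smul_eq_mul]

include hM in
theorem regroup :
    ∑ l : Fin t, ∑ k : Fin t, rho (d k) (d l) =
      2 * (∑ i ∈ Finset.range (M + 1), ∑ j ∈ Finset.range (M + 1),
        if i < j then i * (Finset.univ.filter (fun k : Fin t => d k = i)).card *
          (Finset.univ.filter (fun k : Fin t => d k = j)).card else 0) +
      ∑ i ∈ Finset.range (M + 1), (i - 1) * (Finset.univ.filter (fun k : Fin t => d k = i)).card ^ 2 := by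
  have h1 : ∀ l : Fin t, ∑ k : Fin t, rho (d k) (d l) = ∑ i ∈ Finset.range (M + 1),
      (Finset.univ.filter (fun k : Fin t => d k = i)).card * rho i (d l) := fun l =>
    sum_fiber d hM (fun a => rho a (d l))
  rw [Finset.sum_congr rfl (fun l _ => h1 l)]
  rw [sum_fiber d hM (fun b => ∑ i ∈ Finset.range (M + 1),
      (Finset.univ.filter (fun k : Fin t => d k = i)).card * rho i b)]
  conv_lhs => simp only [Finset.mul_sum]
  rw [Finset.sum_comm]
  have h2 : ∀ i j : ℕ, (Finset.univ.filter (fun k : Fin t => d k = j)).card *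
      ((Finset.univ.filter (fun k : Fin t => d k = i)).card * rho i j) =
      (if i < j then i * (Finset.univ.filter (fun k : Fin t => d k = i)).card *
          (Finset.univ.filter (fun k : Fin t => d k = j)).card else 0) +
      (if j < i then j * (Finset.univ.filter (fun k : Fin t => d k = j)).card *
          (Finset.univ.filter (fun k : Fin t => d k = i)).card else 0) +
      (if i = j then (i - 1) * (Finset.univ.filter (fun k : Fin t => d k = i)).card ^ 2 else 0) := by
    intro i j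
    unfold rho
    rcases lt_trichotomy i j with h | h | h
    · rw [if_pos h, if_pos h, if_neg (by omega), if_neg (by omega)]
      ring
    · subst h
      simp only [lt_irrefl, if_false, if_true]
      ring
    · rw [if_neg (by omega), if_neg (by omega), if_neg (by omega), if_pos h, if_neg (by omega)]
      ring
  rw [Finset.sum_congr rfl (fun i _ => Finset.sum_congr rfl (fun j _ => h2 i j))]
  simp only [Finset.sum_add_distrib]
  rw [two_mul]
  congr 1
  · congr 1
    rw [Finset.sum_comm]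
  · apply Finset.sum_congr rfl
    intro i hi
    rw [Finset.sum_ite_eq, if_pos hi]


theorem main {F : Type*} [Field F] [Fintype F] {q : ℕ} (hF : Fintype.card F = q) {t : ℕ} (d : Fin t → ℕ) (hd : ∀ k, 1 ≤ d k) : Nat.card {g : GL ((k : Fin t) × Fin (d k)) F // (g : Matrix ((k : Fin t) × Fin (d k)) ((k : Fin t) × Fin (d k)) F) * Cfsg.jordanTypeMatrix d F = Cfsg.jordanTypeMatrix d F * (g : Matrix ((k : Fin t) × Fin (d k)) ((k : Fin t) × Fin (d k)) F)} = q ^ (2 * (∑ i ∈ Finset.range (Finset.univ.sup d + 1), ∑ j ∈ Finset.range (Finset.univ.sup d + 1), if i < j then i * (Finset.univ.filter (fun k : Fin t => d k = i)).card * (Finset.univ.filter (fun k : Fin t => d k = j)).card else 0) + ∑ i ∈ Finset.range (Finset.univ.sup d + 1), (i - 1) * (Finset.univ.filter (fun k : Fin t => d k = i)).card ^ 2) * ∏ i ∈ Finset.range (Finset.univ.sup d + 1), ∏ j : Fin ((Finset.univ.filter (fun k : Fin t => d k = i)).card), (q ^ (Finset.univ.filter (fun k : Fin t => d k = i)).card - q ^ (j :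 ℕ)) := by
  have hM : ∀ k, d k < Finset.univ.sup d + 1 :=
    fun k => Nat.lt_succ_of_le (Finset.le_sup (Finset.mem_univ k))
  rw [Nat.card_congr (((e1 d).trans (e2 d hd)).trans (e3 d hd hM))]
  rw [Nat.card_prod, Nat.card_fun, Nat.card_pi, card_Rp, regroup d hM, Nat.card_eq_fintype_card, hF]
  congr 1
  rw [← Fin.prod_univ_eq_prod_range (fun i => ∏ j : Fin ((Finset.univ.filter (fun k : Fin t => d k = i)).card), (q ^ (Finset.univ.filter (fun k : Fin t => d k = i)).card - q ^ (j : ℕ)))]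
  apply Finset.prod_congr rfl
  intro e _
  rw [card_GL_sub, hF]



/-- Order of the centraliser in GL of a unipotent matrix of given Jordan type over the field with q elements: if the type has a_i blocks of size i (all block sizes at least 1), the invertible matrices commuting with it number q^γ · Π_i |GL_(a_i)(q)| with γ = 2 Σ_(i<j) i a_i a_j + Σ_i (i − 1) a_i² (a group of order q^γ extended by Π GL_(a_i)(q)). -/
theorem result {F : Type*} [Field F] [Fintype F] {q : ℕ} (hF : Fintype.card F = q) {t : ℕ} (d : Fin t → ℕ) (hd : ∀ k, 1 ≤ d k) : Nat.card {g : GL ((k : Fin t) × Fin (d k)) F // (g : Matrix ((k : Fin t) × Fin (d k)) ((k : Fin t) × Fin (d k)) F) * Cfsg.jordanTypeMatrix d F = Cfsg.jordanTypeMatrix d F * (g : Matrix ((k : Fin t) × Fin (d k)) ((k : Fin t) × Fin (d k)) F)} = q ^ (2 * (∑ i ∈ Finset.range (Finset.univ.sup d + 1), ∑ j ∈ Finset.range (Finset.univ.sup d + 1), if i < j then i * (Finset.univ.filter (fun k : Fin t => d k = i)).card * (Finset.univ.filter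 (fun k : Fin t => d k = j)).card else 0) + ∑ i ∈ Finset.range (Finset.univ.sup d + 1), (i - 1) * (Finset.univ.filter (fun k : Fin t => d k = i)).card ^ 2) * ∏ i ∈ Finset.range (Finset.univ.sup d + 1), ∏ j : Fin ((Finset.univ.filter (fun k : Fin t => d k = i)).card), (q ^ (Finset.univ.filter (fun k : Fin t => d k = i)).card - q ^ (j : ℕ)) := by
  exact main hF d hd

end Cfsg.Agent.S2581
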