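import Cfsg.Statements.S2582
-- import your own Cfsg.Agent.* helpers here
import Mathlib
import Cfsg.Agent.Lib.helper18.UniForm2

set_option autoImplicit false
open Cfsg

namespace Cfsg.Agent.S2582



open Cfsg.Agent.Lib.helper18.Jordan Cfsg.Agent.Lib.helper18.UniForm
open Matrix

universe u
variable {F : Type u} [Field F]

theorem J_alt {l : Type*} [Fintype l] [DecidableEq l] (v : l ⊕ l → F) :
    v ⬝ᵥ (Matrix.J l F) *ᵥ v = 0 := by
  simp only [Matrix.J, Matrix.fromBlocks_mulVec, dotProduct, Fintype.sum_sum_type, Sum.elim_inl,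
    Sum.elim_inr, Matrix.zero_mulVec, Matrix.neg_mulVec, Matrix.one_mulVec,
    Pi.neg_apply, zero_add, add_zero, Function.comp_apply]
  rw [← Finset.sum_add_distrib]
  apply Finset.sum_eq_zero
  intro x _
  ring

theorem sp_even_rank {l : Type*} [Fintype l] [DecidableEq l] (A : Matrix (l ⊕ l) (l ⊕ l) F)
    (hA : A ∈ Matrix.symplecticGroup l F) (b : ℕ) : Even (((A - 1) ^ (2 * b)).rank) :=
  even_rank_pow_mat (Matrix.J l F) A J_alt (Matrix.isUnit_det_J l F).ne_zero
    (SymplecticGroup.mem_iff'.1 hA) b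

theorem fwd {m t : ℕ} (d : Fin t → ℕ)
    (e : ((k : Fin t) × Fin (d k)) ≃ (Fin m ⊕ Fin m)) (A : Matrix.symplecticGroup (Fin m) F)
    (hc : IsConj (Matrix.reindex e e (Cfsg.jordanTypeMatrix d F))
      (A : Matrix (Fin m ⊕ Fin m) (Fin m ⊕ Fin m) F)) :
    ∀ j : ℕ, Odd j → Even (Finset.univ.filter (fun k : Fin t => d k = j)).card := by
  have hr : ∀ k, (((A : Matrix (Fin m ⊕ Fin m) (Fin m ⊕ Fin m) F) - 1) ^ k).rank =
      ∑ i, (d i - k) := by
    intro k
    rw [conj_rank _ _ hc, reindex_rank, rank_eq_finrank, rank_jordan]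
  have hev : ∀ b, Even (∑ i, (d i - 2 * b)) := by
    intro b
    rw [← hr]
    exact sp_even_rank _ A.2 b
  intro j hj
  obtain ⟨b, rfl⟩ := hj
  have h1 := cnt_key d (2 * b + 1) (by omega)
  have h2 := hev b
  have h3 := hev (b + 1)
  have e1 : 2 * b + 1 - 1 = 2 * b := by omega
  have e2 : 2 * b + 1 + 1 = 2 * (b + 1) := by omega
  rw [e1, e2] at h1
  obtain ⟨x, hx⟩ := h2
  obtain ⟨y, hy⟩ := h3
  rw [hx, hy] at h1
  exact ⟨x + y - ∑ i, (d i - (2 * b + 1)), by omega⟩


def Good (F : Type u) [Field F] (s : Multiset ℕ) : Prop :=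
  ∃ (l : Type) (_ : Fintype l) (_ : DecidableEq l) (A : Matrix (l ⊕ l) (l ⊕ l) F),
    A ∈ Matrix.symplecticGroup l F ∧ IsNilpotent (A - 1) ∧
      ∀ k, ((A - 1) ^ k).rank = (s.map (fun a => a - k)).sum

theorem good_zero : Good F 0 := by
  refine ⟨Empty, inferInstance, inferInstance, 1, Submonoid.one_mem _, ⟨1, by simp⟩, fun k => ?_⟩
  simp only [Multiset.map_zero, Multiset.sum_zero]
  have := Matrix.rank_le_card_width ((1 - 1 : Matrix (Empty ⊕ Empty) (Empty ⊕ Empty) F) ^ k)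
  simpa using this

theorem J_sum (l₁ l₂ : Type) [Fintype l₁] [Fintype l₂] [DecidableEq l₁] [DecidableEq l₂] :
    Matrix.J (l₁ ⊕ l₂) F = Matrix.reindex (Equiv.sumSumSumComm l₁ l₁ l₂ l₂)
      (Equiv.sumSumSumComm l₁ l₁ l₂ l₂) (Matrix.fromBlocks (Matrix.J l₁ F) 0 0 (Matrix.J l₂ F)) := by
  ext ((i|i)|(i|i)) ((j|j)|(j|j)) <;> simp [Matrix.J, Matrix.one_apply]

theorem good_add {s₁ s₂ : Multiset ℕ} (h₁ : Good F s₁) (h₂ : Good F s₂) : Good F (s₁ + s₂) := by
  obtain ⟨l₁, _, _, A₁, hA₁, ⟨k₁, hk₁⟩, hr₁⟩ := h₁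
  obtain ⟨l₂, _, _, A₂, hA₂, ⟨k₂, hk₂⟩, hr₂⟩ := h₂
  let σ := Equiv.sumSumSumComm l₁ l₁ l₂ l₂
  have hpow : ∀ k, (Matrix.reindex σ σ (Matrix.fromBlocks A₁ 0 0 A₂) - 1) ^ k =
      Matrix.reindex σ σ (Matrix.fromBlocks ((A₁ - 1) ^ k) 0 0 ((A₂ - 1) ^ k)) := by
    intro k
    rw [reindex_sub_one_pow, fromBlocks_diag_sub_one, fromBlocks_diag_pow]
  refine ⟨l₁ ⊕ l₂, inferInstance, inferInstance, Matrix.reindex σ σ (Matrix.fromBlocks A₁ 0 0 A₂),
    ?_, ⟨k₁ + k₂, ?_⟩, fun k => ?_⟩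
  · rw [SymplecticGroup.mem_iff] at hA₁ hA₂ ⊢
    rw [J_sum, Matrix.transpose_reindex, Matrix.fromBlocks_transpose]
    have h : ∀ M : Matrix ((l₁ ⊕ l₁) ⊕ (l₂ ⊕ l₂)) ((l₁ ⊕ l₁) ⊕ (l₂ ⊕ l₂)) F,
        Matrix.reindex σ σ M = Matrix.reindexAlgEquiv F F σ M := fun M => rfl
    rw [h, h, h, ← map_mul, ← map_mul, Matrix.fromBlocks_multiply, Matrix.fromBlocks_multiply]
    simp [hA₁, hA₂]
  · rw [hpow, pow_add, pow_add, hk₁, hk₂]
    simp
  · rw [hpow, Matrix.rank_reindex, rank_fromBlocks_diag, hr₁, hr₂, Multiset.map_add,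
      Multiset.sum_add]

theorem good_pair (j : ℕ) (hj : 0 < j) : Good F {j, j} := by
  let S := Sh F j
  let U : Matrix (Fin j) (Fin j) F := ∑ i ∈ Finset.range j, (-S) ^ i
  have hSj : (-S) ^ j = 0 := by
    rw [neg_pow, Sh_pow_self, mul_zero]
  have hU : U * (1 + S) = 1 := by
    have := geom_sum_mul_neg (-S) j
    rw [sub_neg_eq_add, hSj, sub_zero] at this
    exact this
  have hU' : (1 + S) * U = 1 := by
    have := mul_neg_geom_sum (-S) j
    rw [sub_neg_eq_add, hSj, sub_zero] at this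
    exact this
  have hUS : Commute U S := by
    have h1 : U * (1 + S) = (1 + S) * U := by rw [hU, hU']
    rw [mul_add, add_mul, mul_one, one_mul] at h1
    exact add_left_cancel h1
  have hU1 : U - 1 = (-U) * S := by
    rw [mul_add, mul_one] at hU
    rw [neg_mul, ← hU]
    abel
  have hUunit : IsUnit (-U) :=
    ⟨⟨-U, -(1 + S), by rw [neg_mul_neg, hU], by rw [neg_mul_neg, hU']⟩, rfl⟩
  have hUpow : ∀ k, (U - 1) ^ k = (-U) ^ k * S ^ k := by
    intro k
    rw [hU1, (hUS.neg_left).mul_pow]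
  let A : Matrix (Fin j ⊕ Fin j) (Fin j ⊕ Fin j) F := Matrix.fromBlocks U 0 0 (1 + S)ᵀ
  have hA1 : A - 1 = Matrix.fromBlocks (U - 1) 0 0 Sᵀ := by
    rw [fromBlocks_diag_sub_one]
    simp
  have hApow : ∀ k, (A - 1) ^ k = Matrix.fromBlocks ((-U) ^ k * S ^ k) 0 0 (S ^ k)ᵀ := by
    intro k
    rw [hA1, fromBlocks_diag_pow, hUpow, ← Matrix.transpose_pow]
  refine ⟨Fin j, inferInstance, inferInstance, A, ?_, ⟨j, ?_⟩, fun k => ?_⟩
  · rw [SymplecticGroup.mem_iff]
    have h1 : A * Matrix.J (Fin j) F = Matrix.fromBlocks 0 (-U) (1 + S)ᵀ 0 := by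
      simp only [A, Matrix.J, Matrix.fromBlocks_multiply]
      simp
    have h2 : Aᵀ = Matrix.fromBlocks Uᵀ 0 0 (1 + S) := by
      simp only [A, Matrix.fromBlocks_transpose]
      simp
    rw [h1, h2, Matrix.fromBlocks_multiply]
    simp only [Matrix.zero_mul, Matrix.mul_zero, add_zero, zero_add, Matrix.neg_mul]
    rw [← Matrix.transpose_mul, hU, Matrix.transpose_one]
    rfl
  · rw [hApow, Sh_pow_self]
    simp
  · rw [hApow, rank_fromBlocks_diag, Matrix.rank_transpose,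
      Matrix.rank_mul_eq_right_of_isUnit_det _ _
        ((Matrix.isUnit_iff_isUnit_det _).1 (hUunit.pow k)), rank_Sh_pow j hj]
    simp

theorem good_single (a : ℕ) (ha : 0 < a) : Good F {2 * a} := by
  let S := Sh F a
  let P := Rv F a
  let A₀ : Matrix (Fin a ⊕ Fin a) (Fin a ⊕ Fin a) F := Matrix.fromBlocks 1 (S * P) P (1 + Sᵀ)
  let N₀ : Matrix (Fin a ⊕ Fin a) (Fin a ⊕ Fin a) F := Matrix.fromBlocks 0 (S * P) P Sᵀ
  let Δ : Matrix (Fin a ⊕ Fin a) (Fin a ⊕ Fin a) F := Matrix.fromBlocks S 0 0 Sᵀ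
  have hPP : P * P = 1 := Rv_mul_Rv a
  have hPT : Pᵀ = P := Rv_transpose a
  have hSP : S * P = P * Sᵀ := Sh_Rv a
  have hPS : P * S = Sᵀ * P := Rv_Sh a
  have hA₀ : A₀ = 1 + N₀ := by
    rw [← Matrix.fromBlocks_one, Matrix.fromBlocks_add]
    simp [A₀, N₀]
  have hN₀ : A₀ - 1 = N₀ := by rw [hA₀]; abel
  have hsp : A₀ ∈ Matrix.symplecticGroup (Fin a) F := by
    rw [SymplecticGroup.mem_iff]
    have h1 : A₀ * Matrix.J (Fin a) F = Matrix.fromBlocks (S * P) (-1) (1 + Sᵀ) (-P) := by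
      simp only [A₀, Matrix.J, Matrix.fromBlocks_multiply]
      simp
    have h2 : A₀ᵀ = Matrix.fromBlocks 1 P (P * Sᵀ) (1 + S) := by
      simp only [A₀, Matrix.fromBlocks_transpose]
      simp [Matrix.transpose_mul, hPT]
    rw [h1, h2, Matrix.fromBlocks_multiply]
    have e11 : S * P * 1 + -1 * (P * Sᵀ) = 0 := by rw [hSP]; simp
    have e12 : S * P * P + -1 * (1 + S) = -1 := by rw [mul_assoc, hPP]; simp
    have e21 : (1 + Sᵀ) * 1 + -P * (P * Sᵀ) = 1 := by rw [neg_mul, ← mul_assoc, hPP]; simp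
    have e22 : (1 + Sᵀ) * P + -P * (1 + S) = 0 := by rw [add_mul, neg_mul, mul_add, hPS]; simp
    rw [e11, e12, e21, e22]
    rfl
  have hNN : N₀ * N₀ = Δ * A₀ := by
    simp only [N₀, Δ, A₀, Matrix.fromBlocks_multiply]
    have e11 : (0 : Matrix (Fin a) (Fin a) F) * 0 + S * P * P = S * 1 + 0 * P := by
      rw [mul_assoc, hPP]; simp
    have e12 : (0 : Matrix (Fin a) (Fin a) F) * (S * P) + S * P * Sᵀ = S * (S * P) + 0 * (1 + Sᵀ) := by
      rw [mul_assoc S P, ← hSP]; simp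
    have e21 : P * 0 + Sᵀ * P = (0 : Matrix (Fin a) (Fin a) F) * 1 + Sᵀ * P := by simp
    have e22 : P * (S * P) + Sᵀ * Sᵀ = (0 : Matrix (Fin a) (Fin a) F) * (S * P) + Sᵀ * (1 + Sᵀ) := by
      rw [← mul_assoc, hPS, mul_assoc, hPP]; simp [mul_add]
    rw [e11, e12, e21, e22]
  have hΔN : Δ * N₀ = N₀ * Δ := by
    simp only [N₀, Δ, Matrix.fromBlocks_multiply]
    have e11 : S * 0 + (0 : Matrix (Fin a) (Fin a) F) * P = 0 * S + S * P * 0 := by simp
    have e12 : S * (S * P) + (0 : Matrix (Fin a) (Fin a) F) * Sᵀ = 0 * 0 + S * P * Sᵀ := by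
      rw [mul_assoc S P, ← hSP]; simp
    have e21 : (0 : Matrix (Fin a) (Fin a) F) * 0 + Sᵀ * P = P * S + Sᵀ * 0 := by simp [hPS]
    have e22 : (0 : Matrix (Fin a) (Fin a) F) * (S * P) + Sᵀ * Sᵀ = P * 0 + Sᵀ * Sᵀ := by simp
    rw [e11, e12, e21, e22]
  have hcomm : Commute Δ A₀ := by
    rw [hA₀]
    exact (Commute.one_right Δ).add_right hΔN
  have hpow : ∀ k, N₀ ^ (2 * k) = Δ ^ k * A₀ ^ k := by
    intro k
    rw [pow_mul, pow_two, hNN, hcomm.mul_pow]
  have hΔa : Δ ^ a = 0 := by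
    rw [fromBlocks_diag_pow, ← Matrix.transpose_pow, Sh_pow_self]
    simp
  have hzero : N₀ ^ (2 * a) = 0 := by rw [hpow, hΔa, zero_mul]
  have hne : N₀ ^ (2 * a - 1) ≠ 0 := by
    intro h
    have e : 2 * a - 1 = 2 * (a - 1) + 1 := by omega
    rw [e, pow_succ, hpow] at h
    have hu : IsUnit (A₀ ^ (a - 1)) :=
      ((Matrix.isUnit_iff_isUnit_det _).2 (SymplecticGroup.symplectic_det hsp)).pow _
    have h1 : Δ ^ (a - 1) * N₀ = 0 := by
      have h2 : A₀ ^ (a - 1) * (Δ ^ (a - 1) * N₀) = 0 := by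
        rw [← mul_assoc, ← ((hcomm.pow_pow (a - 1) (a - 1)).eq)]
        exact h
      exact (hu.mul_right_eq_zero).1 h2
    rw [fromBlocks_diag_pow] at h1
    simp only [N₀, Matrix.fromBlocks_multiply] at h1
    have h3 := congrArg Matrix.toBlocks₂₁ h1
    rw [Matrix.toBlocks_fromBlocks₂₁] at h3
    have h4 : (Sᵀ) ^ (a - 1) * P = 0 := by
      rw [mul_zero, zero_add] at h3
      rw [h3]
      rfl
    have h5 : (Sᵀ) ^ (a - 1) = 0 := by
      have : (Sᵀ) ^ (a - 1) * P * P = 0 := by rw [h4, zero_mul]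
      rwa [mul_assoc, hPP, mul_one] at this
    rw [← Matrix.transpose_pow] at h5
    exact Sh_pow_pred_ne a ha (Matrix.transpose_injective (by rw [h5]; rfl))
  refine ⟨Fin a, inferInstance, inferInstance, A₀, hsp, ⟨2 * a, by rw [hN₀]; exact hzero⟩,
    fun k => ?_⟩
  rw [hN₀, rank_eq_finrank]
  rw [rank_single (Matrix.toLin' N₀) (2 * a)
    (by rw [Module.finrank_fintype_fun_eq_card]; simp; ring)
    (by rw [← toLin'_pow', hzero, map_zero])
    (by rw [← toLin'_pow']; intro h; exact hne (Matrix.toLin'.injective (by rw [h, map_zero]))) k]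
  simp


theorem J_reindex {l l' : Type*} [Fintype l] [DecidableEq l] [Fintype l'] [DecidableEq l']
    (f : l ≃ l') :
    Matrix.reindex (f.sumCongr f) (f.sumCongr f) (Matrix.J l F) = Matrix.J l' F := by
  ext (i|i) (j|j) <;> simp [Matrix.J, Matrix.one_apply]

theorem sp_reindex {l l' : Type*} [Fintype l] [DecidableEq l] [Fintype l'] [DecidableEq l']
    (f : l ≃ l') (A : Matrix (l ⊕ l) (l ⊕ l) F) (hA : A ∈ Matrix.symplecticGroup l F) :
    Matrix.reindex (f.sumCongr f) (f.sumCongr f) A ∈ Matrix.symplecticGroup l' F := by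
  rw [SymplecticGroup.mem_iff] at hA ⊢
  rw [← J_reindex f, Matrix.transpose_reindex]
  have h : ∀ M : Matrix (l ⊕ l) (l ⊕ l) F, Matrix.reindex (f.sumCongr f) (f.sumCongr f) M =
      Matrix.reindexAlgEquiv F F (f.sumCongr f) M := fun M => rfl
  rw [h, h, h, ← map_mul, ← map_mul, hA]

theorem good_of_parity : ∀ (n : ℕ) (s : Multiset ℕ), s.card = n → (∀ a ∈ s, 0 < a) →
    (∀ j, Odd j → Even (s.count j)) → Good F s := by
  intro n
  induction n using Nat.strong_induction_on with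
  | _ n ih =>
    intro s hs hpos hpar
    by_cases h0 : s = 0
    · subst h0
      exact good_zero
    by_cases hev : ∃ a ∈ s, Even a
    · obtain ⟨a, ha, hae⟩ := hev
      obtain ⟨s', rfl⟩ := Multiset.exists_cons_of_mem ha
      have h1 : Good F s' := ih s'.card (by rw [← hs, Multiset.card_cons]; omega) s' rfl
        (fun x hx => hpos x (Multiset.mem_cons_of_mem hx)) (fun j hj => by
          have := hpar j hj
          rw [Multiset.count_cons_of_ne (by rintro rfl; exact (Nat.not_even_iff_odd.2 hj) hae)]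
            at this
          exact this)
      have ha0 := hpos a ha
      obtain ⟨b, rfl⟩ := hae
      have h2 : Good F {2 * b} := good_single b (by omega)
      have h3 := good_add h2 h1
      rw [Multiset.singleton_add] at h3
      have e : b + b = 2 * b := by ring
      rw [e]
      exact h3
    · push Not at hev
      obtain ⟨a, ha⟩ := Multiset.exists_mem_of_ne_zero h0
      have hao : Odd a := Nat.not_even_iff_odd.1 (hev a ha)
      have hc := hpar a hao
      have hc1 : 1 ≤ s.count a := Multiset.one_le_count_iff_mem.2 ha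
      have hc2 : 2 ≤ s.count a := by obtain ⟨x, hx⟩ := hc; omega
      obtain ⟨s', rfl⟩ := Multiset.exists_cons_of_mem ha
      have ha' : a ∈ s' := by
        rw [Multiset.count_cons_self] at hc2
        exact Multiset.one_le_count_iff_mem.1 (by omega)
      obtain ⟨s'', rfl⟩ := Multiset.exists_cons_of_mem ha'
      have h1 : Good F s'' := ih s''.card (by rw [← hs]; simp) s'' rfl
        (fun x hx => hpos x (Multiset.mem_cons_of_mem (Multiset.mem_cons_of_mem hx))) (fun j hj => by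
          have := hpar j hj
          by_cases hja : j = a
          · subst hja
            rw [Multiset.count_cons_self, Multiset.count_cons_self] at this
            obtain ⟨x, hx⟩ := this
            exact ⟨x - 1, by omega⟩
          · rw [Multiset.count_cons_of_ne hja, Multiset.count_cons_of_ne hja] at this
            exact this)
      have h2 : Good F {a, a} := good_pair a (hpos a ha)
      have h3 := good_add h2 h1
      have e : ({a, a} : Multiset ℕ) + s'' = a ::ₘ a ::ₘ s'' := by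
        rw [Multiset.insert_eq_cons, Multiset.cons_add, Multiset.singleton_add]
      rw [e] at h3
      exact h3

theorem main {F : Type*} [Field F] [Fintype F] {m t : ℕ} (d : Fin t → ℕ) (hd : ∀ k, 1 ≤ d k) (hsum : ∑ k, d k = 2 * m) : (∃ e : ((k : Fin t) × Fin (d k)) ≃ (Fin m ⊕ Fin m), ∃ A : Matrix.symplecticGroup (Fin m) F, IsConj (Matrix.reindex e e (Cfsg.jordanTypeMatrix d F)) (A : Matrix (Fin m ⊕ Fin m) (Fin m ⊕ Fin m) F)) ↔ ∀ j : ℕ, Odd j → Even (Finset.univ.filter (fun k : Fin t => d k = j)).card := by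
  constructor
  · rintro ⟨e, A, hc⟩
    exact fwd d e A hc
  · intro hpar
    have hg : Good F (pm d) := good_of_parity _ (pm d) rfl (pm_pos d) (fun j hj => by
      obtain ⟨b, rfl⟩ := hj
      rw [count_pm d _ (by omega)]
      exact hpar _ ⟨b, rfl⟩)
    obtain ⟨l, _, _, A, hA, hnil, hr⟩ := hg
    have hr' : ∀ k, ((A - 1) ^ k).rank = ∑ i, (d i - k) := fun k => by rw [hr, pm_sub_sum]
    have hcard : Fintype.card l = m := by
      have := hr' 0
      simp only [pow_zero, Matrix.rank_one, Fintype.card_sum, Nat.sub_zero] at this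
      omega
    let f : l ≃ Fin m := Fintype.equivFinOfCardEq hcard
    let A' := Matrix.reindex (f.sumCongr f) (f.sumCongr f) A
    have hA' : A' ∈ Matrix.symplecticGroup (Fin m) F := sp_reindex f A hA
    have hcardI : Fintype.card ((k : Fin t) × Fin (d k)) = Fintype.card (Fin m ⊕ Fin m) := by
      rw [Fintype.card_sigma, Fintype.card_sum, Fintype.card_fin]
      simp only [Fintype.card_fin]
      omega
    let e : ((k : Fin t) × Fin (d k)) ≃ (Fin m ⊕ Fin m) := Fintype.equivOfCardEq hcardI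
    refine ⟨e, ⟨A', hA'⟩, ?_⟩
    have hJr : ∀ k, ((Matrix.reindex e e (Cfsg.jordanTypeMatrix d F) - 1) ^ k).rank =
        ∑ i, (d i - k) := by
      intro k
      rw [reindex_rank, rank_eq_finrank, rank_jordan]
    apply isConj_of_rank
    · refine ⟨2 * m, ?_⟩
      apply eq_zero_of_rank_eq_zero
      rw [hJr]
      apply Finset.sum_eq_zero
      intro i _
      have := Finset.single_le_sum (f := d) (fun _ _ => Nat.zero_le _) (Finset.mem_univ i)
      omega
    · obtain ⟨k, hk⟩ := hnil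
      refine ⟨k, ?_⟩
      show (Matrix.reindex (f.sumCongr f) (f.sumCongr f) A - 1) ^ k = 0
      rw [reindex_sub_one_pow, hk]
      simp
    · intro k
      rw [hJr]
      show _ = ((Matrix.reindex (f.sumCongr f) (f.sumCongr f) A - 1) ^ k).rank
      rw [reindex_rank, hr']



/-- Which unipotent Jordan types occur in the finite symplectic group: over a finite field, a unipotent matrix with Jordan block sizes d_1, …, d_t (sum 2m, all at least 1) is similar to an element of Sp_2m(F) if and only if every odd block size occurs an even number of times. -/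
theorem result {F : Type*} [Field F] [Fintype F] {m t : ℕ} (d : Fin t → ℕ) (hd : ∀ k, 1 ≤ d k) (hsum : ∑ k, d k = 2 * m) : (∃ e : ((k : Fin t) × Fin (d k)) ≃ (Fin m ⊕ Fin m), ∃ A : Matrix.symplecticGroup (Fin m) F, IsConj (Matrix.reindex e e (Cfsg.jordanTypeMatrix d F)) (A : Matrix (Fin m ⊕ Fin m) (Fin m ⊕ Fin m) F)) ↔ ∀ j : ℕ, Odd j → Even (Finset.univ.filter (fun k : Fin t => d k = j)).card := by
  exact main d hd hsum

end Cfsg.Agent.S2582
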