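import Cfsg.Statements.S2589
-- import your own Cfsg.Agent.* helpers here
import Mathlib
import Cfsg.Agent.S0752
import Cfsg.Agent.S2582
import Cfsg.Agent.Lib.helper18.SemiConj

set_option autoImplicit false
open Cfsg

namespace Cfsg.Agent.S2589


open Matrix


open Cfsg.Agent.Lib.helper18.SemiConj

universe u
variable {F : Type u} [Field F]

theorem alt_equiv {U : Type*} [AddCommGroup U] [Module F U] [FiniteDimensional F U]
    (B₁ B₂ : LinearMap.BilinForm F U) (ha₁ : B₁.IsAlt) (ha₂ : B₂.IsAlt)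
    (hn₁ : ∀ x, (∀ y, B₁ x y = 0) → x = 0) (hn₂ : ∀ x, (∀ y, B₂ x y = 0) → x = 0) :
    ∃ φ : U →ₗ[F] U, ∀ x y, B₁ (φ x) (φ y) = B₂ x y := by
  obtain ⟨m₁, k₁, b₁, h11, h12, h13, h14⟩ := Cfsg.Agent.S0752.result B₁ ha₁
  obtain ⟨m₂, k₂, b₂, h21, h22, h23, h24⟩ := Cfsg.Agent.S0752.result B₂ ha₂
  have hk₁ : k₁ = 0 := by
    by_contra hk
    have := hn₁ (b₁ (Sum.inr ⟨0, Nat.pos_of_ne_zero hk⟩)) (h14 _)
    exact b₁.ne_zero _ this
  have hk₂ : k₂ = 0 := by
    by_contra hk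
    have := hn₂ (b₂ (Sum.inr ⟨0, Nat.pos_of_ne_zero hk⟩)) (h24 _)
    exact b₂.ne_zero _ this
  subst hk₁ hk₂
  have hm : m₁ = m₂ := by
    have c1 := Module.finrank_eq_card_basis b₁
    have c2 := Module.finrank_eq_card_basis b₂
    rw [c1] at c2
    simp only [Fintype.card_sum, Fintype.card_fin] at c2
    omega
  subst hm
  refine ⟨(b₂.equiv b₁ (Equiv.refl _)).toLinearMap, ?_⟩
  have hφ : ∀ i, (b₂.equiv b₁ (Equiv.refl _)) (b₂ i) = b₁ i := by
    intro i
    rw [Module.Basis.equiv_apply]; rfl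
  have key : B₁.comp (b₂.equiv b₁ (Equiv.refl _)).toLinearMap
      (b₂.equiv b₁ (Equiv.refl _)).toLinearMap = B₂ := by
    apply LinearMap.BilinForm.ext_basis b₂
    intro i j
    rw [LinearMap.BilinForm.comp_apply, LinearEquiv.coe_coe, hφ, hφ]
    rcases i with (i | i) | i
    · rcases j with (j | j) | j
      · rw [h12, h22]
      · rw [h11, h21]
      · exact j.elim0
    · rcases j with (j | j) | j
      · rw [← ha₁.neg_eq, ← ha₂.neg_eq, h11, h21]
      · rw [h13, h23]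
      · exact j.elim0
    · exact i.elim0
  intro x y
  have := congrArg (fun B : LinearMap.BilinForm F U => B x y) key
  exact this

theorem mat_ext_bil {ι : Type*} [Fintype ι] [DecidableEq ι] (M N : Matrix ι ι F)
    (h : ∀ v w : ι → F, v ⬝ᵥ M *ᵥ w = v ⬝ᵥ N *ᵥ w) : M = N := by
  ext i j
  have := h (Pi.single i 1) (Pi.single j 1)
  rw [single_one_dotProduct, single_one_dotProduct, Matrix.mulVec_single_one,
    Matrix.mulVec_single_one] at this
  exact this

theorem dot_tr {ι : Type*} [Fintype ι] [DecidableEq ι] (M : Matrix ι ι F) (v y : ι → F) :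
    (M *ᵥ v) ⬝ᵥ y = v ⬝ᵥ (Mᵀ *ᵥ y) := by
  rw [← Matrix.vecMul_transpose, ← Matrix.dotProduct_mulVec]

theorem proj_equiv {ι : Type*} [Fintype ι] [DecidableEq ι] (Jm h : Matrix ι ι F)
    (hJalt : ∀ v : ι → F, v ⬝ᵥ Jm *ᵥ v = 0) (hJu : IsUnit Jm) (hhu : IsUnit h)
    (e₀ : Matrix ι ι F) (he : e₀ * e₀ = e₀) (hde : e₀ᵀ * Jm = Jm * e₀)
    (hhe : h * e₀ = e₀ * h) (halt : ∀ v : ι → F, v ⬝ᵥ (Jm * h) *ᵥ v = 0) :
    ∃ z₀ : Matrix ι ι F, z₀ * e₀ = z₀ ∧ e₀ * z₀ = z₀ ∧
      z₀ᵀ * Jm * z₀ = e₀ᵀ * (Jm * h) * e₀ := by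
  classical
  set U : Submodule F (ι → F) := LinearMap.range (Matrix.toLin' e₀) with hU
  have hfix : ∀ x : U, e₀ *ᵥ (x : ι → F) = x := by
    rintro ⟨x, t, rfl⟩
    show e₀ *ᵥ (Matrix.toLin' e₀ t) = Matrix.toLin' e₀ t
    rw [Matrix.toLin'_apply, Matrix.mulVec_mulVec, he]
  have hmemU : ∀ w : ι → F, e₀ *ᵥ w ∈ U := fun w => ⟨w, by rw [Matrix.toLin'_apply]⟩
  -- nondegeneracy helper
  have hnd : ∀ Gm : Matrix ι ι F, IsUnit Gm → e₀ᵀ * Gm = Gm * e₀ → ∀ x : U,
      (∀ y : U, (x : ι → F) ⬝ᵥ Gm *ᵥ (y : ι → F) = 0) → x = 0 := by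
    intro Gm hGu hGe x hx
    have h1 : ∀ w : ι → F, (x : ι → F) ⬝ᵥ Gm *ᵥ w = 0 := by
      intro w
      have h2 := hx ⟨e₀ *ᵥ w, hmemU w⟩
      rw [Matrix.mulVec_mulVec, ← hGe, ← Matrix.mulVec_mulVec, ← dot_tr, hfix] at h2
      exact h2
    have h3 : Matrix.vecMul (x : ι → F) Gm = 0 := by
      ext i
      have := h1 (Pi.single i 1)
      rw [Matrix.dotProduct_mulVec, dotProduct_single_one] at this
      exact this
    have h4 : (x : ι → F) = 0 := by
      have := Matrix.vecMul_injective_iff_isUnit.mpr hGu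
      apply this
      show Matrix.vecMul (x : ι → F) Gm = Matrix.vecMul 0 Gm
      rw [h3, Matrix.zero_vecMul]
    exact Subtype.ext h4
  let B₁ : LinearMap.BilinForm F U := (Matrix.toBilin' Jm).restrict U
  let B₂ : LinearMap.BilinForm F U := (Matrix.toBilin' (Jm * h)).restrict U
  have hB₁ : ∀ x y : U, B₁ x y = (x : ι → F) ⬝ᵥ Jm *ᵥ (y : ι → F) := fun x y => by
    show Matrix.toBilin' Jm x y = _
    rw [Matrix.toBilin'_apply']
  have hB₂ : ∀ x y : U, B₂ x y = (x : ι → F) ⬝ᵥ (Jm * h) *ᵥ (y : ι → F) := fun x y => by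
    show Matrix.toBilin' (Jm * h) x y = _
    rw [Matrix.toBilin'_apply']
  have hJh : e₀ᵀ * (Jm * h) = (Jm * h) * e₀ := by
    rw [← mul_assoc, hde, mul_assoc, mul_assoc, hhe]
  obtain ⟨φ, hφ⟩ := alt_equiv B₁ B₂ (fun x => by rw [hB₁]; exact hJalt _)
    (fun x => by rw [hB₂]; exact halt _)
    (fun x hx => hnd Jm hJu hde x (fun y => by rw [← hB₁]; exact hx y))
    (fun x hx => hnd (Jm * h) (hJu.mul hhu) hJh x (fun y => by rw [← hB₂]; exact hx y))
  set zl : (ι → F) →ₗ[F] (ι → F) := U.subtype ∘ₗ φ ∘ₗ (Matrix.toLin' e₀).rangeRestrict with hzl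
  have hzv : ∀ v : ι → F, (LinearMap.toMatrix' zl) *ᵥ v = (φ ⟨e₀ *ᵥ v, hmemU v⟩ : ι → F) := by
    intro v
    rw [← Matrix.toLin'_apply, Matrix.toLin'_toMatrix']
    rfl
  refine ⟨LinearMap.toMatrix' zl, ?_, ?_, ?_⟩
  · apply Matrix.toLin'.injective
    apply LinearMap.ext
    intro v
    rw [Matrix.toLin'_apply, Matrix.toLin'_apply, ← Matrix.mulVec_mulVec, hzv, hzv]
    congr 2
    apply Subtype.ext
    show e₀ *ᵥ (e₀ *ᵥ v) = e₀ *ᵥ v
    rw [Matrix.mulVec_mulVec, he]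
  · apply Matrix.toLin'.injective
    apply LinearMap.ext
    intro v
    rw [Matrix.toLin'_apply, Matrix.toLin'_apply, ← Matrix.mulVec_mulVec, hzv, hfix]
  · apply mat_ext_bil
    intro v w
    have e1 : v ⬝ᵥ ((LinearMap.toMatrix' zl)ᵀ * Jm * LinearMap.toMatrix' zl) *ᵥ w
        = (LinearMap.toMatrix' zl *ᵥ v) ⬝ᵥ Jm *ᵥ (LinearMap.toMatrix' zl *ᵥ w) := by
      rw [dot_tr, Matrix.mulVec_mulVec, Matrix.mulVec_mulVec, mul_assoc]
    have e2 : v ⬝ᵥ (e₀ᵀ * (Jm * h) * e₀) *ᵥ w = (e₀ *ᵥ v) ⬝ᵥ (Jm * h) *ᵥ (e₀ *ᵥ w) := by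
      rw [dot_tr, Matrix.mulVec_mulVec, Matrix.mulVec_mulVec, mul_assoc]
    rw [e1, e2, hzv, hzv, ← hB₁, hφ, hB₂]


theorem tr_of_dg {l : Type*} [Fintype l] [DecidableEq l] (e₀ : Matrix (l ⊕ l) (l ⊕ l) F)
    (h : dg (Matrix.J l F) (-Matrix.J l F) e₀ = e₀) :
    e₀ᵀ * Matrix.J l F = Matrix.J l F * e₀ := by
  have hG : Matrix.J l F * (-Matrix.J l F) = 1 := by rw [mul_neg, Matrix.J_squared, neg_neg]
  calc e₀ᵀ * Matrix.J l F = (Matrix.J l F * (-Matrix.J l F)) * e₀ᵀ * Matrix.J l F := by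
        rw [hG, one_mul]
    _ = Matrix.J l F * (-Matrix.J l F * e₀ᵀ * Matrix.J l F) := by simp only [mul_assoc]
    _ = Matrix.J l F * e₀ := by
        have h' : -Matrix.J l F * e₀ᵀ * Matrix.J l F = e₀ := h
        rw [h']

theorem dag_of_tr {l : Type*} [Fintype l] [DecidableEq l] (z₀ e₀ h : Matrix (l ⊕ l) (l ⊕ l) F)
    (hz : z₀ᵀ * Matrix.J l F * z₀ = e₀ᵀ * (Matrix.J l F * h) * e₀)
    (hde : e₀ᵀ * Matrix.J l F = Matrix.J l F * e₀) (he : e₀ * e₀ = e₀) (hhe : h * e₀ = e₀ * h) :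
    dg (Matrix.J l F) (-Matrix.J l F) z₀ * z₀ = h * e₀ := by
  have hG : -Matrix.J l F * Matrix.J l F = 1 := by rw [neg_mul, Matrix.J_squared, neg_neg]
  unfold dg
  calc -Matrix.J l F * z₀ᵀ * Matrix.J l F * z₀ = -Matrix.J l F * (z₀ᵀ * Matrix.J l F * z₀) := by
        simp only [mul_assoc]
    _ = -Matrix.J l F * (e₀ᵀ * Matrix.J l F * h * e₀) := by rw [hz]; simp only [mul_assoc]
    _ = (-Matrix.J l F * Matrix.J l F) * e₀ * h * e₀ := by rw [hde]; simp only [mul_assoc]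
    _ = h * (e₀ * e₀) := by rw [hG, one_mul, ← hhe, mul_assoc]
    _ = h * e₀ := by rw [he]

theorem main {F : Type*} [Field F] [Fintype F] {p : ℕ} [Fact p.Prime] [CharP F p] {m : ℕ} (A B : Matrix.symplecticGroup (Fin m) F) (hA : (orderOf A).Coprime p) : IsConj A B ↔ IsConj (A : Matrix (Fin m ⊕ Fin m) (Fin m ⊕ Fin m) F) (B : Matrix (Fin m ⊕ Fin m) (Fin m ⊕ Fin m) F) := by
  classical
  constructor
  · intro h
    obtain ⟨c, hc⟩ := isConj_iff.mp h
    refine ⟨⟨(c : Matrix (Fin m ⊕ Fin m) (Fin m ⊕ Fin m) F), ((c⁻¹ : symplecticGroup (Fin m) F) : Matrix (Fin m ⊕ Fin m) (Fin m ⊕ Fin m) F), ?_, ?_⟩, ?_⟩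
    · exact congrArg Subtype.val (mul_inv_cancel c)
    · exact congrArg Subtype.val (inv_mul_cancel c)
    · show (c : Matrix (Fin m ⊕ Fin m) (Fin m ⊕ Fin m) F) * A = B * c
      have h1 : c * A = B * c := mul_inv_eq_iff_eq_mul.mp hc
      exact congrArg Subtype.val h1
  · rintro ⟨c, hc⟩
    set Jm := Matrix.J (Fin m) F with hJm
    have hG : Jm * (-Jm) = 1 := by rw [mul_neg, Matrix.J_squared, neg_neg]
    have hG' : -Jm * Jm = 1 := by rw [neg_mul, Matrix.J_squared, neg_neg]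
    have hε : (-1 : F) * (-1) = 1 := by ring
    have hsym : Jmᵀ = (-1 : F) • Jm := by rw [Matrix.J_transpose, neg_smul, one_smul]
    have ddg : ∀ M, dg Jm (-Jm) (dg Jm (-Jm) M) = M := dg_dg Jm (-Jm) hG (-1) hε hsym
    have dmul : ∀ M N, dg Jm (-Jm) (M * N) = dg Jm (-Jm) N * dg Jm (-Jm) M := dg_mul Jm (-Jm) hG
    set Am : Matrix (Fin m ⊕ Fin m) (Fin m ⊕ Fin m) F := (A : Matrix (Fin m ⊕ Fin m) (Fin m ⊕ Fin m) F) with hAm
    set Ai : Matrix (Fin m ⊕ Fin m) (Fin m ⊕ Fin m) F := ((A⁻¹ : symplecticGroup (Fin m) F) : Matrix (Fin m ⊕ Fin m) (Fin m ⊕ Fin m) F) with hAi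
    set Bm : Matrix (Fin m ⊕ Fin m) (Fin m ⊕ Fin m) F := (B : Matrix (Fin m ⊕ Fin m) (Fin m ⊕ Fin m) F) with hBm
    set Bi : Matrix (Fin m ⊕ Fin m) (Fin m ⊕ Fin m) F := ((B⁻¹ : symplecticGroup (Fin m) F) : Matrix (Fin m ⊕ Fin m) (Fin m ⊕ Fin m) F) with hBi
    have hAAi : Am * Ai = 1 := congrArg Subtype.val (mul_inv_cancel A)
    have hAiA : Ai * Am = 1 := congrArg Subtype.val (inv_mul_cancel A)
    have hBBi : Bm * Bi = 1 := congrArg Subtype.val (mul_inv_cancel B)
    have hBiB : Bi * Bm = 1 := congrArg Subtype.val (inv_mul_cancel B)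
    have hdA : dg Jm (-Jm) Am = Ai := rfl
    have hdB : dg Jm (-Jm) Bm = Bi := rfl
    set x : Matrix (Fin m ⊕ Fin m) (Fin m ⊕ Fin m) F := (c : Matrix (Fin m ⊕ Fin m) (Fin m ⊕ Fin m) F) with hx
    set xi : Matrix (Fin m ⊕ Fin m) (Fin m ⊕ Fin m) F := ((c⁻¹ : (Matrix (Fin m ⊕ Fin m) (Fin m ⊕ Fin m) F)ˣ) : Matrix (Fin m ⊕ Fin m) (Fin m ⊕ Fin m) F) with hxi
    have hxxi : x * xi = 1 := Units.mul_inv c
    have hxix : xi * x = 1 := Units.inv_mul c
    have hxA : x * Am = Bm * x := hc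
    set h := dg Jm (-Jm) x * x with hh
    set hi := xi * dg Jm (-Jm) xi with hhi
    have hhhi : h * hi = 1 := by
      calc h * hi = dg Jm (-Jm) x * (x * xi) * dg Jm (-Jm) xi := by
            rw [hh, hhi]; simp only [mul_assoc]
        _ = 1 := by rw [hxxi, mul_one, ← dmul, hxix, dg_one Jm (-Jm) hG]
    have hhih : hi * h = 1 := mul_eq_one_comm.mp hhhi
    have hdh : dg Jm (-Jm) h = h := by rw [hh, dmul, ddg]
    have hAh : Am * h = h * Am := by
      have h1 : x * Ai = Bi * x := by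
        calc x * Ai = (Bi * Bm) * x * Ai := by rw [hBiB, one_mul]
          _ = Bi * (Bm * x) * Ai := by simp only [mul_assoc]
          _ = Bi * (x * Am) * Ai := by rw [hxA]
          _ = Bi * x * (Am * Ai) := by simp only [mul_assoc]
          _ = Bi * x := by rw [hAAi, mul_one]
      have h2 : Am * dg Jm (-Jm) x = dg Jm (-Jm) x * Bm := by
        have := congrArg (dg Jm (-Jm)) h1
        rw [dmul, dmul, ← hdA, ← hdB, ddg, ddg] at this
        exact this
      calc Am * h = (Am * dg Jm (-Jm) x) * x := by rw [hh, mul_assoc]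
        _ = dg Jm (-Jm) x * (Bm * x) := by rw [h2, mul_assoc]
        _ = h * Am := by rw [← hxA, hh, mul_assoc]
    set k := orderOf A with hk
    have hkF : (k : F) ≠ 0 := by
      rw [Ne, CharP.cast_eq_zero_iff F p k]
      exact (Nat.Prime.coprime_iff_not_dvd (Fact.out)).mp hA.symm
    have hAk : Am ^ k = 1 := by
      have := congrArg Subtype.val (pow_orderOf_eq_one A)
      exact this
    set g := Am * Am with hg
    have hgk : g ^ k = 1 := by
      rw [hg, (Commute.refl Am).mul_pow, hAk, one_mul]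
    have hggi : g * (Ai * Ai) = 1 := by
      calc g * (Ai * Ai) = Am * (Am * Ai) * Ai := by rw [hg]; simp only [mul_assoc]
        _ = 1 := by rw [hAAi, mul_one, hAAi]
    have hdg : dg Jm (-Jm) g = Ai * Ai := by rw [hg, dmul, hdA]
    set e := avg g k with he_def
    set r := avgR g k with hr_def
    have he : e * e = e := avg_idem g k hgk hkF
    have hde : dg Jm (-Jm) e = e := avg_dg Jm (-Jm) hG (-1) hε hsym g (Ai * Ai) hggi hdg k hgk hkF
    have hzg : ∀ z : Matrix (Fin m ⊕ Fin m) (Fin m ⊕ Fin m) F, z * Am = Am * z → z * g = g * z := by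
      intro z hz
      rw [hg, ← mul_assoc, hz, mul_assoc, hz, mul_assoc]
    have hec : ∀ z : Matrix (Fin m ⊕ Fin m) (Fin m ⊕ Fin m) F, z * Am = Am * z → z * e = e * z :=
      fun z hz => avg_comm g k z (hzg z hz)
    have hρc : ∀ z : Matrix (Fin m ⊕ Fin m) (Fin m ⊕ Fin m) F, z * Am = Am * z →
        z * (Am * r) = (Am * r) * z := by
      intro z hz
      rw [← mul_assoc, hz, mul_assoc, avgR_comm g k z (hzg z hz), mul_assoc]
    have hρ : (Am - Ai) * (Am * r) = 1 - e := by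
      rw [← mul_assoc, sub_mul, hAiA]
      exact sub_one_mul_avgR g k hgk hkF
    obtain ⟨u, huA, hue, hun⟩ := norm_trick Jm (-Jm) hG (-1) hε hsym Am Ai h hi e (Am * r) hAAi hdA
      hhhi hdh hAh he hde hec hρc hρ
    have hhe : h * e = e * h := hec h hAh.symm
    have hge : g * e = e := mul_avg g k hgk
    -- the eigenprojections
    set ep := avg Am k with hep_def
    have hep : ep * ep = ep := avg_idem Am k hAk hkF
    have hdep : dg Jm (-Jm) ep = ep := avg_dg Jm (-Jm) hG (-1) hε hsym Am Ai hAAi hdA k hAk hkF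
    have hAep : Am * ep = ep := mul_avg Am k hAk
    have hepc : ∀ z : Matrix (Fin m ⊕ Fin m) (Fin m ⊕ Fin m) F, z * Am = Am * z → z * ep = ep * z :=
      fun z hz => avg_comm Am k z hz
    have hepA : ep * Am = ep := by rw [← hepc Am rfl]; exact hAep
    have heep : e * ep = ep := avg_fix g k hkF ep (by rw [hg, mul_assoc, hAep, hAep])
    have hepe : ep * e = ep := by
      rw [hec ep (by rw [hepA, hAep])]; exact heep
    set em := e - ep with hem_def
    have hem : em * em = em := by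
      rw [hem_def, sub_mul, mul_sub, mul_sub, he, heep, hepe, hep]; abel
    have hdem : dg Jm (-Jm) em = em := by rw [hem_def, dg_sub, hde, hdep]
    have hepem : ep * em = 0 := by rw [hem_def, mul_sub, hepe, hep, sub_self]
    have hemep : em * ep = 0 := by rw [hem_def, sub_mul, heep, hep, sub_self]
    have heem : e * em = em := by rw [hem_def, mul_sub, he, heep]
    have heme : em * e = em := by rw [hem_def, sub_mul, he, hepe]
    have hAe : Am * e = ep + ep - e := by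
      have hAf : Am * ((Am + 1) * e) = (Am + 1) * e := by
        rw [← mul_assoc, mul_add, mul_one, add_mul, add_mul, one_mul, ← hg, hge, add_comm]
      have hf1 : ep * ((Am + 1) * e) = (Am + 1) * e := avg_fix Am k hkF _ hAf
      have hf2 : ep * ((Am + 1) * e) = ep + ep := by
        rw [← mul_assoc, mul_add, mul_one, hepA, add_mul, hepe]
      have hf3 : (Am + 1) * e = ep + ep := by rw [← hf1, hf2]
      rw [add_mul, one_mul] at hf3
      rw [← hf3]; abel
    have hAem : Am * em = -em := by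
      rw [hem_def, mul_sub, hAe, hAep]; abel
    have hemc : ∀ z : Matrix (Fin m ⊕ Fin m) (Fin m ⊕ Fin m) F, z * Am = Am * z → z * em = em * z := by
      intro z hz
      rw [hem_def, mul_sub, sub_mul, hec z hz, hepc z hz]
    have hemA : em * Am = -em := by rw [← hemc Am rfl]; exact hAem
    have hhep : h * ep = ep * h := hepc h hAh.symm
    have hhem : h * em = em * h := hemc h hAh.symm
    have hJu : IsUnit Jm := ⟨⟨Jm, -Jm, hG, hG'⟩, rfl⟩
    have hhu : IsUnit h := ⟨⟨h, hi, hhhi, hhih⟩, rfl⟩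
    have halt : ∀ v : Fin m ⊕ Fin m → F, v ⬝ᵥ (Jm * h) *ᵥ v = 0 := by
      intro v
      have e1 : Jm * h = xᵀ * Jm * x := by
        rw [hh]
        unfold dg
        calc Jm * (-Jm * xᵀ * Jm * x) = (Jm * -Jm) * xᵀ * Jm * x := by simp only [mul_assoc]
          _ = xᵀ * Jm * x := by rw [hG, one_mul]
      rw [e1, ← Matrix.mulVec_mulVec, ← Matrix.mulVec_mulVec, ← dot_tr]
      exact Cfsg.Agent.S2582.J_alt _
    obtain ⟨zp, hzp1, hzp2, hzp3⟩ := proj_equiv Jm h (fun v => Cfsg.Agent.S2582.J_alt v) hJu hhu ep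
      hep (tr_of_dg ep hdep) hhep halt
    obtain ⟨zm, hzm1, hzm2, hzm3⟩ := proj_equiv Jm h (fun v => Cfsg.Agent.S2582.J_alt v) hJu hhu em
      hem (tr_of_dg em hdem) hhem halt
    have hzp : dg Jm (-Jm) zp * zp = h * ep := dag_of_tr zp ep h hzp3 (tr_of_dg ep hdep) hep hhep
    have hzm : dg Jm (-Jm) zm * zm = h * em := dag_of_tr zm em h hzm3 (tr_of_dg em hdem) hem hhem
    have hdzp : dg Jm (-Jm) zp = dg Jm (-Jm) zp * ep := by
      conv_lhs => rw [← hzp2]
      rw [dmul, hdep]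
    have hdzm : dg Jm (-Jm) zm = dg Jm (-Jm) zm * em := by
      conv_lhs => rw [← hzm2]
      rw [dmul, hdem]
    have h1e : (1 - e) * (1 - e) = 1 - e := by
      rw [mul_sub, sub_mul, sub_mul, he]; simp
    have hdue : dg Jm (-Jm) u * e = e * dg Jm (-Jm) u := by
      have := congrArg (dg Jm (-Jm)) hue
      rw [dmul, dmul, hde] at this
      exact this.symm
    set z' := (1 - e) * u with hz'
    have hdz' : dg Jm (-Jm) z' = dg Jm (-Jm) u * (1 - e) := by
      rw [hz', dmul, dg_sub, dg_one Jm (-Jm) hG, hde]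
    have t1 : dg Jm (-Jm) z' * z' = (1 - e) * h := by
      have c1 : dg Jm (-Jm) u * (1 - e) = (1 - e) * dg Jm (-Jm) u := by
        rw [mul_sub, sub_mul, hdue, mul_one, one_mul]
      calc dg Jm (-Jm) z' * z' = dg Jm (-Jm) u * ((1 - e) * (1 - e)) * u := by
            rw [hdz', hz']; simp only [mul_assoc]
        _ = (1 - e) * (dg Jm (-Jm) u * u) := by rw [h1e, c1, mul_assoc]
        _ = (1 - e) * h := hun
    have q1 : (1 - e) * ep = 0 := by rw [sub_mul, one_mul, heep, sub_self]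
    have q2 : ep * (1 - e) = 0 := by rw [mul_sub, mul_one, hepe, sub_self]
    have q3 : (1 - e) * em = 0 := by rw [sub_mul, one_mul, heem, sub_self]
    have q4 : em * (1 - e) = 0 := by rw [mul_sub, mul_one, heme, sub_self]
    have t3 : dg Jm (-Jm) z' * zp = 0 := by
      rw [hdz', ← hzp2]
      calc dg Jm (-Jm) u * (1 - e) * (ep * zp) = dg Jm (-Jm) u * ((1 - e) * ep) * zp := by
            simp only [mul_assoc]
        _ = 0 := by rw [q1, mul_zero, zero_mul]
    have t7 : dg Jm (-Jm) z' * zm = 0 := by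
      rw [hdz', ← hzm2]
      calc dg Jm (-Jm) u * (1 - e) * (em * zm) = dg Jm (-Jm) u * ((1 - e) * em) * zm := by
            simp only [mul_assoc]
        _ = 0 := by rw [q3, mul_zero, zero_mul]
    have t4 : dg Jm (-Jm) zp * z' = 0 := by
      rw [hdzp, hz']
      calc dg Jm (-Jm) zp * ep * ((1 - e) * u) = dg Jm (-Jm) zp * (ep * (1 - e)) * u := by
            simp only [mul_assoc]
        _ = 0 := by rw [q2, mul_zero, zero_mul]
    have t8 : dg Jm (-Jm) zm * z' = 0 := by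
      rw [hdzm, hz']
      calc dg Jm (-Jm) zm * em * ((1 - e) * u) = dg Jm (-Jm) zm * (em * (1 - e)) * u := by
            simp only [mul_assoc]
        _ = 0 := by rw [q4, mul_zero, zero_mul]
    have t5 : dg Jm (-Jm) zp * zm = 0 := by
      rw [hdzp, ← hzm2]
      calc dg Jm (-Jm) zp * ep * (em * zm) = dg Jm (-Jm) zp * (ep * em) * zm := by
            simp only [mul_assoc]
        _ = 0 := by rw [hepem, mul_zero, zero_mul]
    have t6 : dg Jm (-Jm) zm * zp = 0 := by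
      rw [hdzm, ← hzp2]
      calc dg Jm (-Jm) zm * em * (ep * zp) = dg Jm (-Jm) zm * (em * ep) * zp := by
            simp only [mul_assoc]
        _ = 0 := by rw [hemep, mul_zero, zero_mul]
    set z := z' + zp + zm with hz
    have hzz : dg Jm (-Jm) z * z = h := by
      rw [hz, dg_add, dg_add]
      simp only [add_mul, mul_add, t1, t3, t7, t4, t8, t5, t6, hzp, hzm, add_zero, zero_add]
      rw [add_assoc, ← mul_add, hem_def, add_sub_cancel, sub_mul, one_mul, hhe]
      abel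
    have hzA : z * Am = Am * z := by
      have a1 : z' * Am = Am * z' := by
        rw [hz', mul_assoc, huA, ← mul_assoc, ← mul_assoc]
        congr 1
        rw [sub_mul, mul_sub, one_mul, mul_one, hec Am rfl]
      have a2 : zp * Am = Am * zp := by
        calc zp * Am = zp * (ep * Am) := by rw [← mul_assoc, hzp1]
          _ = zp := by rw [hepA, hzp1]
          _ = Am * zp := by rw [← hzp2, ← mul_assoc, hAep]
      have a3 : zm * Am = Am * zm := by
        calc zm * Am = zm * (em * Am) := by rw [← mul_assoc, hzm1]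
          _ = -zm := by rw [hemA, mul_neg, hzm1]
          _ = Am * zm := by rw [← hzm2, ← mul_assoc, hAem, neg_mul]
      rw [hz, add_mul, add_mul, mul_add, mul_add, a1, a2, a3]
    set zi := hi * dg Jm (-Jm) z with hzi
    have hziz : zi * z = 1 := by rw [hzi, mul_assoc, hzz, hhih]
    have hzzi : z * zi = 1 := mul_eq_one_comm.mp hziz
    have hziA : zi * Am = Am * zi := by
      calc zi * Am = zi * Am * (z * zi) := by rw [hzzi, mul_one]
        _ = zi * (Am * z) * zi := by simp only [mul_assoc]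
        _ = zi * (z * Am) * zi := by rw [hzA]
        _ = (zi * z) * Am * zi := by simp only [mul_assoc]
        _ = Am * zi := by rw [hziz, one_mul]
    have hs : dg Jm (-Jm) (x * zi) * (x * zi) = 1 := by
      calc dg Jm (-Jm) (x * zi) * (x * zi) = dg Jm (-Jm) zi * (dg Jm (-Jm) x * x) * zi := by
            rw [dmul x zi]; simp only [mul_assoc]
        _ = dg Jm (-Jm) zi * (dg Jm (-Jm) z * z) * zi := by rw [← hh, hzz]
        _ = dg Jm (-Jm) (z * zi) * (z * zi) := by rw [dmul z zi]; simp only [mul_assoc]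
        _ = 1 := by rw [hzzi, dg_one Jm (-Jm) hG, one_mul]
    have hsJ : (x * zi)ᵀ * Jm * (x * zi) = Jm := by
      have h1 : -Jm * (x * zi)ᵀ * Jm * (x * zi) = 1 := hs
      calc (x * zi)ᵀ * Jm * (x * zi) = (Jm * -Jm) * ((x * zi)ᵀ * Jm * (x * zi)) := by
            rw [hG, one_mul]
        _ = Jm * (-Jm * (x * zi)ᵀ * Jm * (x * zi)) := by simp only [mul_assoc]
        _ = Jm := by rw [h1, mul_one]
    have hsA : (x * zi) * Am = Bm * (x * zi) := by
      rw [mul_assoc, hziA, ← mul_assoc, hxA, mul_assoc]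
    rw [isConj_iff]
    refine ⟨⟨x * zi, SymplecticGroup.mem_iff'.mpr hsJ⟩, ?_⟩
    rw [mul_inv_eq_iff_eq_mul]
    exact Subtype.ext hsA



/-- Two semisimple elements of the finite symplectic group Sp_2m(F) (elements of order prime to the characteristic) are conjugate in Sp_2m(F) if and only if they are conjugate in GL_2m(F). -/
theorem result {F : Type*} [Field F] [Fintype F] {p : ℕ} [Fact p.Prime] [CharP F p] {m : ℕ} (A B : Matrix.symplecticGroup (Fin m) F) (hA : (orderOf A).Coprime p) : IsConj A B ↔ IsConj (A : Matrix (Fin m ⊕ Fin m) (Fin m ⊕ Fin m) F) (B : Matrix (Fin m ⊕ Fin m) (Fin m ⊕ Fin m) F) := by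
  exact main A B hA

end Cfsg.Agent.S2589
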