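import Cfsg.Statements.S2568
-- import your own Cfsg.Agent.* helpers here
import Mathlib
import Cfsg.Agent.Lib.helper18.RCF4

set_option autoImplicit false
open Cfsg

namespace Cfsg.Agent.S2568


open Polynomial Cfsg.Agent.Lib.helper18.RCF UniqueFactorizationMonoid
open scoped MatrixGroups

open Classical in
theorem cyc_facts {F : Type*} [Field F] [Fintype F] {p q : ℕ} [Fact p.Prime] [CharP F p]
    (hF : Fintype.card F = q) (r i t : ℕ) (hr : r.Prime) (hrp : r ≠ p)
    (hi : i = orderOf (q : ZMod r)) (ht : t * i = r - 1) :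
    ∃ S : Finset F[X], S.card = t ∧ (X - 1 : F[X]) ∉ S ∧ 0 < i ∧
      (∀ P ∈ S, P.Monic ∧ Irreducible P ∧ P.natDegree = i ∧ P ∣ (X ^ r - 1 : F[X])) ∧
      (∀ h : F[X], h.Monic → Irreducible h → h ∣ (X ^ r - 1 : F[X]) → h = X - 1 ∨ h ∈ S) := by
  obtain ⟨f, hpf, hcard⟩ := FiniteField.card F p
  have hK : Fintype.card F = p ^ (f : ℕ) := hcard
  have hn : p.Coprime r := (Nat.coprime_primes (Fact.out) hr).2 (Ne.symm hrp)
  have hrF : (r : F) ≠ 0 := cast_ne_zero_of_coprime p r hn.symm
  have : Fact r.Prime := ⟨hr⟩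
  have hord : orderOf (ZMod.unitOfCoprime _ (hn.pow_left f)) = i := by
    rw [hi, ← orderOf_units, ZMod.coe_unitOfCoprime, ← hK, hF]
  have hipos : 0 < i := by rw [← hord]; exact orderOf_pos _
  refine ⟨(normalizedFactors (cyclotomic r F)).toFinset, ?_, ?_, hipos, ?_, ?_⟩
  · rw [normalizedFactors_cyclotomic_card hK hn, hord, Nat.totient_prime hr, ← ht,
      Nat.mul_div_cancel _ hipos]
  · intro hmem
    rw [Multiset.mem_toFinset] at hmem
    have hdvd := dvd_of_mem_normalizedFactors hmem
    have h1 : (cyclotomic r F).eval 1 = 0 := by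
      obtain ⟨c, hc⟩ := hdvd
      rw [hc]
      simp
    rw [eval_one_cyclotomic_prime] at h1
    exact hrF h1
  · intro P hP
    rw [Multiset.mem_toFinset] at hP
    have hirr := irreducible_of_normalized_factor P hP
    refine ⟨?_, hirr, ?_, ?_⟩
    · have h1 := normalize_normalized_factor P hP
      rw [← h1]
      exact Polynomial.monic_normalize hirr.ne_zero
    · rw [natDegree_of_mem_normalizedFactors_cyclotomic hK hn hP, hord]
    · exact dvd_trans (dvd_of_mem_normalizedFactors hP)
        ⟨X - 1, (cyclotomic_prime_mul_X_sub_one F r).symm⟩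
  · intro h hmon hirr hdvd
    rw [← cyclotomic_prime_mul_X_sub_one F r] at hdvd
    rcases hirr.prime.dvd_or_dvd hdvd with h1 | h1
    · right
      rw [Multiset.mem_toFinset]
      obtain ⟨h', hh', hass⟩ := exists_mem_normalizedFactors_of_dvd (cyclotomic_ne_zero r F) hirr h1
      have hmon' : h'.Monic := by
        have h2 := normalize_normalized_factor h' hh'
        rw [← h2]
        exact Polynomial.monic_normalize (irreducible_of_normalized_factor h' hh').ne_zero
      have : h = h' := eq_of_monic_of_associated hmon hmon' hass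
      rw [this]
      exact hh'
    · left
      have hirr1 : Irreducible (X - 1 : F[X]) := by simpa using irreducible_X_sub_C (1 : F)
      have hmon1 : (X - 1 : F[X]).Monic := by simpa using monic_X_sub_C (1 : F)
      exact eq_of_monic_of_associated hmon hmon1 (hirr.associated_of_dvd hirr1 h1)

theorem main {F : Type*} [Field F] [Fintype F] {p q : ℕ} [Fact p.Prime] [CharP F p] (hF : Fintype.card F = q) (n r i t : ℕ) (hr : r.Prime) (hrp : r ≠ p) (hi : i = orderOf (q : ZMod r)) (ht : t * i = r - 1) : Nat.card {C : ConjClasses (GL (Fin n) F) // ∃ g : GL (Fin n) F, ConjClasses.mk g = C ∧ orderOf g = r} = Nat.choose (n / i + t) t - 1 := by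
  classical
  obtain ⟨S, hSc, hxS, hipos, hS1, hS2⟩ := cyc_facts hF r i t hr hrp hi ht
  have hrF : (r : F) ≠ 0 := cast_ne_zero_of_coprime p r ((Nat.coprime_primes hr Fact.out).2 hrp)
  have hx0m : (X - 1 : F[X]).Monic := by simpa using monic_X_sub_C (1 : F)
  have hx0i : Irreducible (X - 1 : F[X]) := by simpa using irreducible_X_sub_C (1 : F)
  have hx0d : (X - 1 : F[X]).natDegree = 1 := by simpa using natDegree_X_sub_C (1 : F)
  have hx0r : (X - 1 : F[X]) ∣ X ^ r - 1 := by simpa using sub_dvd_pow_sub_pow (X : F[X]) 1 r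
  have hdegsum : ∀ M : Multiset F[X], (∀ h ∈ M, h = X - 1 ∨ h ∈ S) →
      (M.map natDegree).sum =
        M.count (X - 1) + i * Multiset.card (M.filter (fun h => h ≠ X - 1)) := by
    intro M hM
    have hfi : ∀ h ∈ M.filter (fun h => h ≠ X - 1), h.natDegree = i := by
      intro h hh
      rw [Multiset.mem_filter] at hh
      exact (hS1 h ((hM h hh.1).resolve_left hh.2)).2.2.1
    conv_lhs => rw [ms_decomp (X - 1 : F[X]) M]
    rw [Multiset.map_add, Multiset.sum_add, Multiset.map_replicate, Multiset.sum_replicate, hx0d,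
      smul_eq_mul, mul_one, add_comm, Multiset.map_congr rfl hfi, Multiset.map_const',
      Multiset.sum_replicate, smul_eq_mul, mul_comm]
  have hcp : ∀ a b : GL (Fin n) F, IsConj a b →
      (a : Matrix (Fin n) (Fin n) F).charpoly = (b : Matrix (Fin n) (Fin n) F).charpoly := by
    intro a b hab
    obtain ⟨c, rfl⟩ := isConj_iff.1 hab
    rw [Units.val_mul, Units.val_mul, Matrix.coe_units_inv]
    exact (Matrix.charpoly_units_conj c a).symm
  let cp : ConjClasses (GL (Fin n) F) → F[X] :=
    Quotient.lift (fun g : GL (Fin n) F => (g : Matrix (Fin n) (Fin n) F).charpoly) hcp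
  have hNFmon : ∀ (f h : F[X]), h ∈ normalizedFactors f → h.Monic := by
    intro f h hh
    rw [← normalize_normalized_factor h hh]
    exact monic_normalize (irreducible_of_normalized_factor h hh).ne_zero
  have hfac : ∀ A : Matrix (Fin n) (Fin n) F, A ^ r = 1 →
      ∀ h ∈ normalizedFactors A.charpoly, h = X - 1 ∨ h ∈ S := by
    intro A hA h hh
    have hirr := irreducible_of_normalized_factor h hh
    exact hS2 h (hNFmon _ h hh) hirr
      (factor_dvd_of_pow_eq_one A r hA h hirr (dvd_of_mem_normalizedFactors hh))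
  have hprodM : ∀ A : Matrix (Fin n) (Fin n) F, (normalizedFactors A.charpoly).prod = A.charpoly := by
    intro A
    apply eq_of_monic_of_associated _ (Matrix.charpoly_monic A)
      (prod_normalizedFactors (Matrix.charpoly_monic A).ne_zero)
    have := monic_multiset_prod_of_monic (normalizedFactors A.charpoly) id
      (fun h hh => hNFmon _ h hh)
    simpa using this
  have hdegM : ∀ A : Matrix (Fin n) (Fin n) F,
      ((normalizedFactors A.charpoly).map natDegree).sum = n := by
    intro A
    rw [← natDegree_multiset_prod_of_monic _ (fun h hh => hNFmon _ h hh), hprodM,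
      Matrix.charpoly_natDegree_eq_dim, Fintype.card_fin]
  have hone : ∀ A : Matrix (Fin n) (Fin n) F, A ^ r = 1 →
      (∀ h ∈ normalizedFactors A.charpoly, h = X - 1) → A = 1 := by
    intro A hA hall
    have hM : normalizedFactors A.charpoly =
        Multiset.replicate (Multiset.card (normalizedFactors A.charpoly)) (X - 1) :=
      Multiset.eq_replicate_card.2 hall
    have hcnt : Multiset.card (normalizedFactors A.charpoly) = n := by
      have h1 := hdegM A
      rw [hM, Multiset.map_replicate, Multiset.sum_replicate, hx0d, smul_eq_mul, mul_one] at h1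
      exact h1
    have hc : A.charpoly = (1 : Matrix (Fin n) (Fin n) F).charpoly := by
      rw [Matrix.charpoly_one, Fintype.card_fin, ← hprodM A, hM, Multiset.prod_replicate, hcnt]
    obtain ⟨C, D, h1, h2, h3⟩ := ss_conj_mat A 1 r 1 hrF
      (by rw [Nat.cast_one]; exact one_ne_zero) hA (pow_one 1) hc
    calc A = (D * C) * A := by rw [h2, Matrix.one_mul]
      _ = D * (C * A) := Matrix.mul_assoc _ _ _
      _ = D * (1 * C) := by rw [h3]
      _ = 1 := by rw [Matrix.one_mul, h2]
  have hone' : ∀ h ∈ normalizedFactors (1 : Matrix (Fin n) (Fin n) F).charpoly, h = X - 1 := by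
    intro h hh
    have hmon := hNFmon _ h hh
    have hirr := irreducible_of_normalized_factor h hh
    have hd := dvd_of_mem_normalizedFactors hh
    rw [Matrix.charpoly_one] at hd
    have hd' : h ∣ X - 1 := hirr.prime.dvd_of_dvd_pow hd
    exact eq_of_monic_of_associated hmon hx0m (hirr.associated_of_dvd hx0i hd')
  rw [← hSc]
  refine (Eq.trans ?_ (card_slack (X - 1 : F[X]) S hxS (fun c => c ≠ 0 ∧ c ≤ n / i)
    (fun c => n - i * c))).trans (card_multiset_le_ne (X - 1 : F[X]) S hxS (n / i))
  apply Nat.card_congr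
  refine Equiv.ofBijective (fun c => ⟨normalizedFactors (cp c.1), ?_⟩) ⟨?_, ?_⟩
  · rcases c with ⟨c, g, rfl, hg⟩
    have hA : (g : Matrix (Fin n) (Fin n) F) ^ r = 1 := by
      rw [← Units.val_pow_eq_pow_val, ← hg, pow_orderOf_eq_one, Units.val_one]
    have h1 := hfac _ hA
    have h2 := hdegsum _ h1
    rw [hdegM] at h2
    show (∀ h ∈ normalizedFactors (g : Matrix (Fin n) (Fin n) F).charpoly, h = X - 1 ∨ h ∈ S) ∧
      (Multiset.card ((normalizedFactors (g : Matrix (Fin n) (Fin n) F).charpoly).filter
        (fun h => h ≠ X - 1)) ≠ 0 ∧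
       Multiset.card ((normalizedFactors (g : Matrix (Fin n) (Fin n) F).charpoly).filter
        (fun h => h ≠ X - 1)) ≤ n / i) ∧
      Multiset.count (X - 1) (normalizedFactors (g : Matrix (Fin n) (Fin n) F).charpoly) =
        n - i * Multiset.card ((normalizedFactors (g : Matrix (Fin n) (Fin n) F).charpoly).filter
        (fun h => h ≠ X - 1))
    refine ⟨h1, ⟨?_, ?_⟩, ?_⟩
    · intro h0
      rw [Multiset.card_eq_zero, Multiset.filter_eq_nil] at h0
      have h3 : (g : Matrix (Fin n) (Fin n) F) = 1 := hone _ hA (fun h hh => not_not.1 (h0 h hh))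
      have hg1 : g = 1 := Units.ext h3
      rw [hg1, orderOf_one] at hg
      exact hr.one_lt.ne hg
    · rw [Nat.le_div_iff_mul_le hipos, mul_comm]
      omega
    · omega
  · rintro ⟨c, g, rfl, hg⟩ ⟨c', g', rfl, hg'⟩ heq
    have heq' : normalizedFactors (g : Matrix (Fin n) (Fin n) F).charpoly =
        normalizedFactors (g' : Matrix (Fin n) (Fin n) F).charpoly := congrArg Subtype.val heq
    apply Subtype.ext
    show ConjClasses.mk g = ConjClasses.mk g'
    rw [ConjClasses.mk_eq_mk_iff_isConj]
    have hc : (g : Matrix (Fin n) (Fin n) F).charpoly = (g' : Matrix (Fin n) (Fin n) F).charpoly := by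
      rw [← hprodM, ← hprodM (g' : Matrix (Fin n) (Fin n) F), heq']
    have hA : (g : Matrix (Fin n) (Fin n) F) ^ r = 1 := by
      rw [← Units.val_pow_eq_pow_val, ← hg, pow_orderOf_eq_one, Units.val_one]
    have hB : (g' : Matrix (Fin n) (Fin n) F) ^ r = 1 := by
      rw [← Units.val_pow_eq_pow_val, ← hg', pow_orderOf_eq_one, Units.val_one]
    obtain ⟨C, D, h1, h2, h3⟩ := ss_conj_mat _ _ r r hrF hrF hA hB hc
    rw [isConj_iff]
    obtain ⟨c, hcC⟩ : ∃ c : GL (Fin n) F, (c : Matrix (Fin n) (Fin n) F) = C :=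
      ⟨⟨C, D, h1, h2⟩, rfl⟩
    refine ⟨c, ?_⟩
    have h5 : c * g = g' * c := by
      apply Units.ext
      rw [Units.val_mul, Units.val_mul, hcC]
      exact h3
    rw [h5, mul_inv_cancel_right]
  · rintro ⟨M, hM1, ⟨hM2, hM3⟩, hM4⟩
    have hM3' : i * Multiset.card (M.filter (fun h => h ≠ X - 1)) ≤ n := by
      rw [mul_comm]
      exact (Nat.le_div_iff_mul_le hipos).1 hM3
    have hM4' : M.count (X - 1) = n - i * Multiset.card (M.filter (fun h => h ≠ X - 1)) := hM4
    have hdeg : (M.map natDegree).sum = n := by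
      rw [hdegsum M hM1, hM4']
      omega
    obtain ⟨A, hA, hAc⟩ := exists_mat_of_multiset M r (fun h hh => by
      rcases hM1 h hh with rfl | hS
      · exact ⟨hx0m, hx0r⟩
      · exact ⟨(hS1 h hS).1, (hS1 h hS).2.2.2⟩) hdeg
    have hNF : normalizedFactors A.charpoly = M := by
      rw [hAc, normalizedFactors_prod_eq]
      · refine (Multiset.map_congr rfl ?_).trans (Multiset.map_id _)
        intro h hh
        rcases hM1 h hh with rfl | hS
        · exact hx0m.normalize_eq_self
        · exact (hS1 h hS).1.normalize_eq_self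
      · intro h hh
        rcases hM1 h hh with rfl | hS
        · exact hx0i
        · exact (hS1 h hS).2.1
    have hA1 : A ≠ 1 := by
      intro h1
      apply hM2
      rw [Multiset.card_eq_zero, Multiset.filter_eq_nil]
      intro h hh
      rw [← hNF, h1] at hh
      exact not_not.2 (hone' h hh)
    have hr0 : 0 < r := hr.pos
    obtain ⟨g, hgA⟩ : ∃ g : GL (Fin n) F, (g : Matrix (Fin n) (Fin n) F) = A :=
      ⟨⟨A, A ^ (r - 1), by rw [← pow_succ', Nat.sub_add_cancel hr0, hA],
        by rw [← pow_succ, Nat.sub_add_cancel hr0, hA]⟩, rfl⟩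
    have hgr : g ^ r = 1 := by
      apply Units.ext
      rw [Units.val_pow_eq_pow_val, hgA, hA, Units.val_one]
    have hg1 : g ≠ 1 := by
      intro h
      apply hA1
      rw [← hgA, h, Units.val_one]
    haveI : Fact r.Prime := ⟨hr⟩
    refine ⟨⟨ConjClasses.mk g, g, rfl, orderOf_eq_prime hgr hg1⟩, ?_⟩
    apply Subtype.ext
    show normalizedFactors (g : Matrix (Fin n) (Fin n) F).charpoly = M
    rw [hgA, hNF]



/-- Number of conjugacy classes of elements of a given prime order r, coprime to the characteristic, in GL_n(q): if i is the multiplicative order of q modulo r and t = (r − 1)/i, the classes correspond to the non-zero t-tuples of natural numbers (a_1, …, a_t) with i(a_1 + ⋯ + a_t) ≤ n (a_j is the multiplicity of the j-th Frobenius orbit of nontrivial r-th roots of unity among the eigenvalues), so there are exactly C(⌊n/i⌋ + t, t) − 1 of them. -/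
theorem result {F : Type*} [Field F] [Fintype F] {p q : ℕ} [Fact p.Prime] [CharP F p] (hF : Fintype.card F = q) (n r i t : ℕ) (hr : r.Prime) (hrp : r ≠ p) (hi : i = orderOf (q : ZMod r)) (ht : t * i = r - 1) : Nat.card {C : ConjClasses (GL (Fin n) F) // ∃ g : GL (Fin n) F, ConjClasses.mk g = C ∧ orderOf g = r} = Nat.choose (n / i + t) t - 1 := by
  exact main hF n r i t hr hrp hi ht

end Cfsg.Agent.S2568
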