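import Cfsg.Statements.S2645
-- import your own Cfsg.Agent.* helpers here
import Mathlib
import Cfsg.Agent.S2568
import Cfsg.Agent.S2389
import Cfsg.Agent.Lib.helper18.SpRz2

set_option autoImplicit false
open Cfsg

namespace Cfsg.Agent.S2645




open Polynomial Cfsg.Agent.Lib.helper18.RCF UniqueFactorizationMonoid Cfsg.Agent.Lib.helper18.SpRz
open scoped Matrix

theorem classes_card {F : Type*} [Field F] [Fintype F] {p : ℕ} [Fact p.Prime] [CharP F p]
    [DecidableEq F] [DecidableEq F[X]]
    (m r i : ℕ) (hr : r.Prime) (hrp : r ≠ p) (S : Finset F[X]) (hxS : (X - 1 : F[X]) ∉ S)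
    (hipos : 0 < i)
    (hS1 : ∀ P ∈ S, P.Monic ∧ Irreducible P ∧ P.natDegree = i ∧ P ∣ (X ^ r - 1 : F[X]))
    (hS2 : ∀ h : F[X], h.Monic → Irreducible h → h ∣ (X ^ r - 1 : F[X]) → h = X - 1 ∨ h ∈ S)
    (σ : F[X] → F[X])
    (H1 : ∀ g : Matrix.symplecticGroup (Fin m) F, g ^ r = 1 →
      (∀ h ∈ normalizedFactors g.1.charpoly, h = X - 1 ∨ h ∈ S) →
      (normalizedFactors g.1.charpoly).map σ = normalizedFactors g.1.charpoly)
    (H2 : ∀ M : Multiset F[X], (∀ h ∈ M, h = X - 1 ∨ h ∈ S) → M.map σ = M →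
      Even (M.map natDegree).sum → Rz r M.prod) :
    Nat.card {C : ConjClasses (Matrix.symplecticGroup (Fin m) F) //
      ∃ g : Matrix.symplecticGroup (Fin m) F, ConjClasses.mk g = C ∧ orderOf g = r} =
    Nat.card {M : Multiset F[X] // (∀ h ∈ M, h = X - 1 ∨ h ∈ S) ∧ M.map σ = M ∧
      (Multiset.card (M.filter (fun h => h ≠ X - 1)) ≠ 0 ∧
        Multiset.card (M.filter (fun h => h ≠ X - 1)) ≤ 2 * m / i) ∧
      M.count (X - 1) = 2 * m - i * Multiset.card (M.filter (fun h => h ≠ X - 1))} := by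
  have hrF : (r : F) ≠ 0 := cast_ne_zero_of_coprime p r ((Nat.coprime_primes hr Fact.out).2 hrp)
  have hx0m : (X - 1 : F[X]).Monic := by simpa using monic_X_sub_C (1 : F)
  have hx0i : Irreducible (X - 1 : F[X]) := by simpa using irreducible_X_sub_C (1 : F)
  have hx0d : (X - 1 : F[X]).natDegree = 1 := by simpa using natDegree_X_sub_C (1 : F)
  have hx0r : (X - 1 : F[X]) ∣ X ^ r - 1 := by simpa using sub_dvd_pow_sub_pow (X : F[X]) 1 r
  have hdegsum : ∀ M : Multiset F[X], (∀ h ∈ M, h = X - 1 ∨ h ∈ S) →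
      (M.map natDegree).sum =
        M.count (X - 1) + i * Multiset.card (M.filter (fun h => h ≠ X - 1)) := by
    intro M hM
    have hfi : ∀ h ∈ M.filter (fun h => h ≠ X - 1), h.natDegree = i := by
      intro h hh
      rw [Multiset.mem_filter] at hh
      exact (hS1 h ((hM h hh.1).resolve_left hh.2)).2.2.1
    conv_lhs => rw [ms_decomp (X - 1 : F[X]) M]
    rw [Multiset.map_add, Multiset.sum_add, Multiset.map_replicate, Multiset.sum_replicate, hx0d,
      smul_eq_mul, mul_one, add_comm, Multiset.map_congr rfl hfi, Multiset.map_const',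
      Multiset.sum_replicate, smul_eq_mul, mul_comm]
  have hcp : ∀ a b : Matrix.symplecticGroup (Fin m) F, IsConj a b →
      a.1.charpoly = b.1.charpoly := by
    intro a b hab
    obtain ⟨c, rfl⟩ := isConj_iff.1 hab
    have e1 : (c * a * c⁻¹ : Matrix.symplecticGroup (Fin m) F).1 = c.1 * (a.1 * (c⁻¹).1) := by
      rw [← Matrix.mul_assoc]; rfl
    have e2 : (c⁻¹).1 * c.1 = 1 := by
      have : (c⁻¹ * c).1 = 1 := by rw [inv_mul_cancel]; rfl
      exact this
    rw [e1, Matrix.charpoly_mul_comm, Matrix.mul_assoc, e2, Matrix.mul_one]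
  let cp : ConjClasses (Matrix.symplecticGroup (Fin m) F) → F[X] :=
    Quotient.lift (fun g : Matrix.symplecticGroup (Fin m) F => g.1.charpoly) hcp
  have hNFmon : ∀ (f h : F[X]), h ∈ normalizedFactors f → h.Monic := by
    intro f h hh
    rw [← normalize_normalized_factor h hh]
    exact monic_normalize (irreducible_of_normalized_factor h hh).ne_zero
  have hfac : ∀ A : Matrix (Fin m ⊕ Fin m) (Fin m ⊕ Fin m) F, A ^ r = 1 →
      ∀ h ∈ normalizedFactors A.charpoly, h = X - 1 ∨ h ∈ S := by
    intro A hA h hh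
    have hirr := irreducible_of_normalized_factor h hh
    refine hS2 h (hNFmon _ h hh) hirr ?_
    have haev : aeval (Matrix.toLin' A) (X ^ r - 1 : F[X]) = 0 := by
      rw [map_sub, map_pow, aeval_X, map_one, ← Matrix.toLin'_pow, hA, Matrix.toLin'_one]
      exact sub_self _
    exact factor_dvd_of_aeval (Matrix.toLin' A) _ haev h hirr
      (by rw [Matrix.charpoly_toLin']; exact dvd_of_mem_normalizedFactors hh)
  have hprodM : ∀ A : Matrix (Fin m ⊕ Fin m) (Fin m ⊕ Fin m) F,
      (normalizedFactors A.charpoly).prod = A.charpoly := by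
    intro A
    apply eq_of_monic_of_associated _ (Matrix.charpoly_monic A)
      (prod_normalizedFactors (Matrix.charpoly_monic A).ne_zero)
    have := monic_multiset_prod_of_monic (normalizedFactors A.charpoly) id
      (fun h hh => hNFmon _ h hh)
    simpa using this
  have hdegM : ∀ A : Matrix (Fin m ⊕ Fin m) (Fin m ⊕ Fin m) F,
      ((normalizedFactors A.charpoly).map natDegree).sum = 2 * m := by
    intro A
    rw [← natDegree_multiset_prod_of_monic _ (fun h hh => hNFmon _ h hh), hprodM,
      Matrix.charpoly_natDegree_eq_dim, Fintype.card_sum, Fintype.card_fin, two_mul]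
  have hone : ∀ A : Matrix (Fin m ⊕ Fin m) (Fin m ⊕ Fin m) F, A ^ r = 1 →
      (∀ h ∈ normalizedFactors A.charpoly, h = X - 1) → A = 1 := by
    intro A hA hall
    have hM : normalizedFactors A.charpoly =
        Multiset.replicate (Multiset.card (normalizedFactors A.charpoly)) (X - 1) :=
      Multiset.eq_replicate_card.2 hall
    have hcnt : Multiset.card (normalizedFactors A.charpoly) = 2 * m := by
      have h1 := hdegM A
      rw [hM, Multiset.map_replicate, Multiset.sum_replicate, hx0d, smul_eq_mul, mul_one] at h1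
      exact h1
    have hc : A.charpoly = (1 : Matrix (Fin m ⊕ Fin m) (Fin m ⊕ Fin m) F).charpoly := by
      rw [Matrix.charpoly_one, Fintype.card_sum, Fintype.card_fin, ← two_mul, ← hprodM A, hM,
        Multiset.prod_replicate, hcnt]
    obtain ⟨c, hc'⟩ := Cfsg.Agent.Lib.helper4.SympSS.mat_isConj_of_charpoly A 1 r hrF hA
      (one_pow r) hc
    have hc'' : (c : Matrix (Fin m ⊕ Fin m) (Fin m ⊕ Fin m) F) * A = 1 * c := hc'
    calc A = ((c⁻¹ : (Matrix (Fin m ⊕ Fin m) (Fin m ⊕ Fin m) F)ˣ) : Matrix _ _ F) *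
          ((c : Matrix (Fin m ⊕ Fin m) (Fin m ⊕ Fin m) F) * A) := by
          rw [← Matrix.mul_assoc, Units.inv_mul, Matrix.one_mul]
      _ = 1 := by rw [hc'', Matrix.one_mul, Units.inv_mul]
  have hone' : ∀ h ∈ normalizedFactors (1 : Matrix (Fin m ⊕ Fin m) (Fin m ⊕ Fin m) F).charpoly,
      h = X - 1 := by
    intro h hh
    have hmon := hNFmon _ h hh
    have hirr := irreducible_of_normalized_factor h hh
    have hd := dvd_of_mem_normalizedFactors hh
    rw [Matrix.charpoly_one] at hd
    have hd' : h ∣ X - 1 := hirr.prime.dvd_of_dvd_pow hd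
    exact eq_of_monic_of_associated hmon hx0m (hirr.associated_of_dvd hx0i hd')
  apply Nat.card_congr
  refine Equiv.ofBijective (fun c => ⟨normalizedFactors (cp c.1), ?_⟩) ⟨?_, ?_⟩
  · rcases c with ⟨c, g, rfl, hg⟩
    have hgr : g ^ r = 1 := by rw [← hg, pow_orderOf_eq_one]
    have hA : g.1 ^ r = 1 := by
      have : (g ^ r).1 = 1 := by rw [hgr]; rfl
      rwa [SubmonoidClass.coe_pow] at this
    have h1 := hfac _ hA
    have h2 := hdegsum _ h1
    rw [hdegM] at h2
    show (∀ h ∈ normalizedFactors g.1.charpoly, h = X - 1 ∨ h ∈ S) ∧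
      (normalizedFactors g.1.charpoly).map σ = normalizedFactors g.1.charpoly ∧
      (Multiset.card ((normalizedFactors g.1.charpoly).filter (fun h => h ≠ X - 1)) ≠ 0 ∧
       Multiset.card ((normalizedFactors g.1.charpoly).filter (fun h => h ≠ X - 1)) ≤ 2 * m / i) ∧
      Multiset.count (X - 1) (normalizedFactors g.1.charpoly) =
        2 * m - i * Multiset.card ((normalizedFactors g.1.charpoly).filter (fun h => h ≠ X - 1))
    refine ⟨h1, H1 g hgr h1, ⟨?_, ?_⟩, ?_⟩
    · intro h0
      rw [Multiset.card_eq_zero, Multiset.filter_eq_nil] at h0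
      have h3 : g.1 = 1 := hone _ hA (fun h hh => not_not.1 (h0 h hh))
      have hg1 : g = 1 := Subtype.ext h3
      rw [hg1, orderOf_one] at hg
      exact hr.one_lt.ne hg
    · rw [Nat.le_div_iff_mul_le hipos, mul_comm]
      omega
    · omega
  · rintro ⟨c, g, rfl, hg⟩ ⟨c', g', rfl, hg'⟩ heq
    have heq' : normalizedFactors g.1.charpoly = normalizedFactors g'.1.charpoly :=
      congrArg Subtype.val heq
    apply Subtype.ext
    show ConjClasses.mk g = ConjClasses.mk g'
    rw [ConjClasses.mk_eq_mk_iff_isConj]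
    have hc : g.1.charpoly = g'.1.charpoly := by
      rw [← hprodM, ← hprodM g'.1, heq']
    have hcop : r.Coprime p := (Nat.coprime_primes hr Fact.out).2 hrp
    exact Cfsg.Agent.S2389.result p m g g' (by rw [hg]; exact hcop) (by rw [hg']; exact hcop) hc
  · rintro ⟨M, hM1, hMσ, ⟨hM2, hM3⟩, hM4⟩
    have hM3' : i * Multiset.card (M.filter (fun h => h ≠ X - 1)) ≤ 2 * m := by
      rw [mul_comm]
      exact (Nat.le_div_iff_mul_le hipos).1 hM3
    have hdeg : (M.map natDegree).sum = 2 * m := by
      rw [hdegsum M hM1, hM4]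
      omega
    have hmonM : ∀ h ∈ M, h.Monic := by
      intro h hh
      rcases hM1 h hh with rfl | hS
      · exact hx0m
      · exact (hS1 h hS).1
    have hz := H2 M hM1 hMσ (by rw [hdeg]; exact even_two_mul m)
    obtain ⟨s, hs1, hs2⟩ := rz_to_sp r m M.prod
      (by rw [natDegree_multiset_prod_of_monic _ hmonM, hdeg]) hz
    have hNF : normalizedFactors s.1.charpoly = M := by
      rw [hs1, normalizedFactors_prod_eq]
      · refine (Multiset.map_congr rfl ?_).trans (Multiset.map_id _)
        intro h hh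
        exact (hmonM h hh).normalize_eq_self
      · intro h hh
        rcases hM1 h hh with rfl | hS
        · exact hx0i
        · exact (hS1 h hS).2.1
    have hs1' : s ≠ 1 := by
      intro h1
      apply hM2
      rw [Multiset.card_eq_zero, Multiset.filter_eq_nil]
      intro h hh
      rw [← hNF, h1] at hh
      exact not_not.2 (hone' h hh)
    have : Fact r.Prime := ⟨hr⟩
    refine ⟨⟨ConjClasses.mk s, s, rfl, orderOf_eq_prime hs2 hs1'⟩, ?_⟩
    apply Subtype.ext
    show normalizedFactors s.1.charpoly = M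
    exact hNF

theorem main {F : Type*} [Field F] [Fintype F] {p q : ℕ} [Fact p.Prime] [CharP F p] (hF : Fintype.card F = q) (m r i t : ℕ) (hr : r.Prime) (hr2 : r ≠ 2) (hrp : r ≠ p) (hi : i = orderOf (q : ZMod r)) (ht : t * i = r - 1) : Nat.card {C : ConjClasses ↥(Matrix.symplecticGroup (Fin m) F) // ∃ g : Matrix.symplecticGroup (Fin m) F, ConjClasses.mk g = C ∧ orderOf g = r} = if Odd i then Nat.choose (m / i + t / 2) (t / 2) - 1 else Nat.choose (2 * m / i + t) t - 1 := by
  classical
  obtain ⟨S, hSc, hxS, hipos, hS1, hS2⟩ := Cfsg.Agent.S2568.cyc_facts hF r i t hr hrp hi ht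
  have hrF : (r : F) ≠ 0 := cast_ne_zero_of_coprime p r ((Nat.coprime_primes hr Fact.out).2 hrp)
  have hrodd : Odd r := hr.odd_of_ne_two hr2
  have hx0m : (X - 1 : F[X]).Monic := by simpa using monic_X_sub_C (1 : F)
  have hx0i : Irreducible (X - 1 : F[X]) := by simpa using irreducible_X_sub_C (1 : F)
  have hmat : ∀ P ∈ S, ∃ A Ai : Matrix (Fin i) (Fin i) F, A ^ r = 1 ∧ A * Ai = 1 ∧
      A.charpoly = P ∧ A ≠ 1 := by
    intro P hP
    obtain ⟨hPm, hPi, hPd, hPr⟩ := hS1 P hP
    obtain ⟨A, hA, hAc⟩ := exists_mat_of_multiset (n := i) ({P} : Multiset F[X]) r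
      (by intro h hh; rw [Multiset.mem_singleton] at hh; rw [hh]; exact ⟨hPm, hPr⟩)
      (by rw [Multiset.map_singleton, Multiset.sum_singleton, hPd])
    rw [Multiset.prod_singleton] at hAc
    refine ⟨A, A ^ (r - 1), hA, ?_, hAc, ?_⟩
    · rw [← pow_succ', Nat.sub_add_cancel hr.pos, hA]
    · intro h1
      rw [h1, Matrix.charpoly_one, Fintype.card_fin] at hAc
      have hdvd : (X - 1 : F[X]) ∣ P := by rw [← hAc]; exact dvd_pow_self _ hipos.ne'
      have := eq_of_monic_of_associated hx0m hPm (hx0i.associated_of_dvd hPi hdvd)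
      exact hxS (this ▸ hP)
  by_cases hodd : Odd i
  · rw [if_pos hodd]
    have hstS : ∀ P ∈ S, st P ∈ S := by
      intro P hP
      obtain ⟨A, Ai, hA, hAi, hAc, hA1⟩ := hmat P hP
      have hAi' : Ai * A = 1 := mul_eq_one_comm.mp hAi
      have hAir : Ai ^ r = 1 := by
        have hcomm : Commute A Ai := by rw [Commute, SemiconjBy, hAi, hAi']
        have := hcomm.mul_pow r
        rw [hAi, one_pow, hA, one_mul] at this
        exact this.symm
      have h1 : Ai.charpoly = st P := by rw [charpoly_inv A Ai hAi, hAc]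
      have hirr : Irreducible (st P) := st_irr P (hS1 P hP).2.1
      have hdvd : st P ∣ X ^ r - 1 :=
        factor_dvd_of_pow_eq_one Ai r hAir (st P) hirr (by rw [h1])
      rcases hS2 (st P) (st_monic P (hS1 P hP).1.ne_zero) hirr hdvd with h | h
      · exfalso
        have := st_st P (hS1 P hP).1
        rw [h, st_X_sub_one] at this
        exact hxS (this ▸ hP)
      · exact h
    have hfp : ∀ P ∈ S, st P ≠ P := by
      intro P hP hfix
      obtain ⟨A, Ai, hA, hAi, hAc, hA1⟩ := hmat P hP
      have hz := rz_self r hrodd hrF A Ai hA hAi (by rw [hAc]; exact (hS1 P hP).2.1) hA1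
        (by rw [charpoly_inv A Ai hAi, hAc, hfix])
      have := rz_even r _ hz
      rw [hAc, (hS1 P hP).2.2.1] at this
      exact (Nat.not_even_iff_odd.2 hodd) this
    obtain ⟨σ, hσdef⟩ : ∃ σ : F[X] → F[X], σ = fun P => if P ∈ S then st P else P := ⟨_, rfl⟩
    have hσS : ∀ P ∈ S, σ P = st P := by
      intro P hP; rw [hσdef]; exact if_pos hP
    have hσnS : ∀ P, P ∉ S → σ P = P := by
      intro P hP; rw [hσdef]; exact if_neg hP
    have hσinv : Function.Involutive σ := by
      intro P
      by_cases hP : P ∈ S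
      · rw [hσS P hP, hσS _ (hstS P hP), st_st P (hS1 P hP).1]
      · rw [hσnS P hP, hσnS P hP]
    have hσx : σ (X - 1) = X - 1 := hσnS _ hxS
    have hσSS : ∀ P ∈ S, σ P ∈ S := fun P hP => by rw [hσS P hP]; exact hstS P hP
    have H1 : ∀ g : Matrix.symplecticGroup (Fin m) F, g ^ r = 1 →
        (∀ h ∈ normalizedFactors g.1.charpoly, h = X - 1 ∨ h ∈ S) →
        (normalizedFactors g.1.charpoly).map σ = normalizedFactors g.1.charpoly := by
      intro g hg hfac
      have hgi : g.1 * (g⁻¹).1 = 1 := by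
        have : (g * g⁻¹).1 = 1 := by rw [mul_inv_cancel]; rfl
        exact this
      have h1 := nf_st g.1 (g⁻¹).1 hgi (Cfsg.Agent.Lib.helper4.SpPalin.sp_charpoly_inv g)
      conv_rhs => rw [← h1]
      apply Multiset.map_congr rfl
      intro h hh
      rcases hfac h hh with rfl | hS
      · rw [hσx, st_X_sub_one]
      · exact hσS h hS
    have H2 : ∀ M : Multiset F[X], (∀ h ∈ M, h = X - 1 ∨ h ∈ S) → M.map σ = M →
        Even (M.map natDegree).sum → Rz r M.prod := by
      intro M hM hMσ hMe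
      refine rz_multiset r S σ i (fun P hP => ⟨(hS1 P hP).1, (hS1 P hP).2.2.1⟩) hσSS
        (fun P _ => hσinv P) ?_ ?_ _ M rfl hM hMσ hMe
      · intro P hP hfix
        rw [hσS P hP] at hfix
        exact absurd hfix (hfp P hP)
      · intro P hP _
        obtain ⟨A, Ai, hA, hAi, hAc, hA1⟩ := hmat P hP
        have := rz_hyp r A Ai hA hAi
        rwa [charpoly_inv A Ai hAi, hAc, ← hσS P hP] at this
    obtain ⟨T, hTS, hT1, hTc⟩ := exists_transversal S σ hσinv hσSS
      (fun P hP => by rw [hσS P hP]; exact hfp P hP)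
    rw [classes_card m r i hr hrp S hxS hipos hS1 hS2 σ H1 H2,
      card_inv (X - 1 : F[X]) S T σ hσinv hxS hσx hTS hT1 hσSS m i hipos,
      card_multiset_le_ne (X - 1 : F[X]) T (fun h => hxS (hTS h)) (m / i)]
    have : T.card = t / 2 := by omega
    rw [this]
  · rw [if_neg hodd]
    have hev : Even i := Nat.not_odd_iff_even.1 hodd
    obtain ⟨e, he⟩ := hev
    have : Fact r.Prime := ⟨hr⟩
    have hq1 : ((q : ZMod r)) ^ e = -1 := by
      have h1 : ((q : ZMod r) ^ e) * ((q : ZMod r) ^ e) = 1 := by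
        rw [← pow_add, ← he, hi, pow_orderOf_eq_one]
      rcases mul_self_eq_one_iff.1 h1 with h | h
      · exfalso
        have : e < orderOf (q : ZMod r) := by rw [← hi]; omega
        exact pow_ne_one_of_lt_orderOf (by omega) this h
      · exact h
    have hdvd : r ∣ q ^ e + 1 := by
      rw [← ZMod.natCast_eq_zero_iff]
      push_cast
      rw [hq1]; ring
    have hfrob : ∀ (A : Matrix (Fin i) (Fin i) F) (k : ℕ),
        (A ^ (q ^ k)).charpoly = A.charpoly := by
      intro A k
      induction k with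
      | zero => rw [pow_zero, pow_one]
      | succ k ih =>
        have := FiniteField.Matrix.charpoly_pow_card (A ^ (q ^ k))
        rw [hF] at this
        rw [pow_succ, pow_mul, this, ih]
    have H2 : ∀ M : Multiset F[X], (∀ h ∈ M, h = X - 1 ∨ h ∈ S) → M.map id = M →
        Even (M.map natDegree).sum → Rz r M.prod := by
      intro M hM hMσ hMe
      refine rz_multiset r S id i (fun P hP => ⟨(hS1 P hP).1, (hS1 P hP).2.2.1⟩)
        (fun P hP => hP) (fun P hP => rfl) ?_ (fun P hP h => absurd rfl h) _ M rfl hM hMσ hMe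
      intro P hP _
      refine ⟨?_, ⟨e, he⟩⟩
      obtain ⟨A, Ai, hA, hAi, hAc, hA1⟩ := hmat P hP
      have hAq : A ^ (q ^ e) * A = 1 := by
        obtain ⟨k, hk⟩ := hdvd
        rw [← pow_succ, hk, pow_mul, hA, one_pow]
      have hAiq : Ai = A ^ (q ^ e) := by
        calc Ai = (A ^ (q ^ e) * A) * Ai := by rw [hAq, Matrix.one_mul]
          _ = A ^ (q ^ e) := by rw [Matrix.mul_assoc, hAi, Matrix.mul_one]
      have := rz_self r hrodd hrF A Ai hA hAi (by rw [hAc]; exact (hS1 P hP).2.1) hA1
        (by rw [hAiq, hfrob])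
      rwa [hAc] at this
    rw [classes_card m r i hr hrp S hxS hipos hS1 hS2 id (fun g _ _ => Multiset.map_id _) H2,
      ← hSc]
    refine (Eq.trans ?_ (card_slack (X - 1 : F[X]) S hxS (fun c => c ≠ 0 ∧ c ≤ 2 * m / i)
      (fun c => 2 * m - i * c))).trans (card_multiset_le_ne (X - 1 : F[X]) S hxS (2 * m / i))
    apply Nat.card_congr
    exact Equiv.subtypeEquivRight
      (fun M => ⟨fun h => ⟨h.1, h.2.2⟩, fun h => ⟨h.1, Multiset.map_id M, h.2⟩⟩)



/-- Number of conjugacy classes of elements of odd prime order r, r different from the characteristic, in the symplectic group Sp_2m(q): let i be the multiplicative order of q modulo r and t = (r − 1)/i. If i is odd the eigenvalue orbits pair off (Λ ≠ Λ⁻¹) and the classes correspond to the non-zero (t/2)-tuples (a_j) with 2i Σ a_j ≤ 2m, giving C(⌊m/i⌋ + t/2, t/2) − 1 classes; if i is even (Λ = Λ⁻¹) they correspond to the non-zero t-tuples with i Σ a_j ≤ 2m, giving C(⌊2m/i⌋ + t, t) − 1 classes. -/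
theorem result {F : Type*} [Field F] [Fintype F] {p q : ℕ} [Fact p.Prime] [CharP F p] (hF : Fintype.card F = q) (m r i t : ℕ) (hr : r.Prime) (hr2 : r ≠ 2) (hrp : r ≠ p) (hi : i = orderOf (q : ZMod r)) (ht : t * i = r - 1) : Nat.card {C : ConjClasses ↥(Matrix.symplecticGroup (Fin m) F) // ∃ g : Matrix.symplecticGroup (Fin m) F, ConjClasses.mk g = C ∧ orderOf g = r} = if Odd i then Nat.choose (m / i + t / 2) (t / 2) - 1 else Nat.choose (2 * m / i + t) t - 1 := by
  exact main hF m r i t hr hr2 hrp hi ht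

end Cfsg.Agent.S2645
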