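import Cfsg.Statements.S1959
import Cfsg.Agent.Lib.helper10.FChain

set_option autoImplicit false
open Cfsg

namespace Cfsg.Agent.S1959

open Cfsg.Agent.Lib.helper10

/-- Let p be a prime, G a finite group with Sylow p-subgroup S, and 𝓦 a set of conjugacy functors for p on G. Suppose that 𝓦 controls strong fusion in N_G(T) for every nonidentity subgroup T of S for which N_S(T) is a Sylow p-subgroup of N_G(T). Then 𝓦 controls strong fusion in G. (A set of functors controls strong fusion in a subgroup H when, for a Sylow p-subgroup T' of H, every conjugation of a tuple of elements of T' into T' by an element of H is a composite of conjugations inside the normalizers N_H(W(T')), W ∈ 𝓦, all intermediate tuples staying in T'.) -/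
theorem result {G : Type*} [Group G] [Finite G] {p : ℕ} [Fact p.Prime] (S : Sylow p G) (𝓦 : Set (Subgroup G → Subgroup G)) (h𝓦 : ∀ W ∈ 𝓦, Cfsg.IsConjugacyFunctor p W) (hloc : ∀ T : Subgroup G, T ≤ (S : Subgroup G) → T ≠ ⊥ → ¬ p ∣ ((S : Subgroup G) ⊓ Subgroup.normalizer ((T : Subgroup G) : Set G)).relIndex (Subgroup.normalizer ((T : Subgroup G) : Set G)) → Cfsg.FamilyControlsStrongFusionIn p 𝓦 (Subgroup.normalizer ((T : Subgroup G) : Set G))) : Cfsg.FamilyControlsStrongFusionIn p 𝓦 ⊤ := by
  refine ⟨S, le_top, S.2, by rw [Subgroup.relIndex_top_right]; exact S.not_dvd_index, ?_⟩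
  intro A h _ hAS hhA
  obtain ⟨Ns, hNs⟩ : ∃ Ns : Set G, Ns = {z | ∃ W ∈ 𝓦,
      z ∈ Subgroup.normalizer ((W (S : Subgroup G) : Subgroup G) : Set G)} := ⟨_, rfl⟩
  have hNsinv : ∀ y ∈ Ns, y⁻¹ ∈ Ns := by
    rw [hNs]; rintro y ⟨W, hW, hy⟩; exact ⟨W, hW, Subgroup.inv_mem _ hy⟩
  have key := local_to_global S 𝓦 h𝓦
    {T | T ≤ (S : Subgroup G) ∧ ¬ p ∣ (nS (S : Subgroup G) T).relIndex
      (Subgroup.normalizer (T : Set G))}
    (fun T hT => hT)
    (fun R hR => by
      obtain ⟨g, hg, hidx⟩ := exists_extremal_conj S R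
      refine ⟨_, ⟨?_, hidx⟩, g, rfl⟩
      rw [map_conj_le_iff]
      intro x hx
      exact hg x ⟨hR hx, Subgroup.le_normalizer hx⟩)
    (ChainGood Ns ((S : Subgroup G) : Set G))
    (fun A hA => ChainGood.refl hA)
    (fun A g g' hg hgg' => hg.congr hgg')
    (fun A A' g hg hA' => hg.mono hA')
    (fun A g k hg hk => hg.trans hk)
    (fun A g hg => hg.symm hNsinv)
    (fun W hW A y hA hy hyA => ChainGood.single (by rw [hNs]; exact ⟨W, hW, hy⟩) hA hyA)
    ?L A h hAS (fun a ha => hhA ⟨a, ha, rfl⟩)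
  · obtain ⟨c, hch, hagree⟩ := key
    obtain ⟨n, c', h0, hstep, himg, hlast⟩ := hch.exists_fin
    refine ⟨n, c', h0, ?_, ?_, ?_⟩
    · intro i
      have := hstep i
      rw [hNs] at this
      obtain ⟨W, hW, hz⟩ := this
      exact ⟨W, hW, Subgroup.mem_top _, hz⟩
    · rintro i _ ⟨a, ha, rfl⟩
      exact himg i a ha
    · intro a ha; rw [hlast]; exact hagree a ha
  · intro T hT hTne A x hA hx hxA Hstep
    have hc := hloc T hT.1 hTne hT.2
    obtain ⟨c, hch, hagree⟩ := familyControlsStrongFusionIn_sylow h𝓦 hc inf_le_right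
      (S.2.to_le inf_le_left) hT.2 A x hx hA hxA
    have hgood : ∀ d : G, FChain {z | ∃ W ∈ 𝓦, z ∈ Subgroup.normalizer (T : Set G) ⊓
          Subgroup.normalizer ((W (nS (S : Subgroup G) T) : Subgroup G) : Set G)}
        ((nS (S : Subgroup G) T : Subgroup G) : Set G) A d →
        ChainGood Ns ((S : Subgroup G) : Set G) A d := by
      intro d hd
      induction hd with
      | one hA' => exact ChainGood.refl (fun a ha => (hA' ha).1)
      | step d y hy hd hA' ih =>
        obtain ⟨W, hW, hyT, hyV⟩ := hy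
        have hstep := Hstep W hW ((fun a => d * a * d⁻¹) '' A) y
          (by rintro _ ⟨a, ha, rfl⟩; exact hd.image_subset a ha) hyT hyV
          (by
            rintro _ ⟨a, ha, rfl⟩
            have := hA' a ha
            have e : y * (d * a * d⁻¹) * y⁻¹ = y * d * a * (y * d)⁻¹ := by group
            rw [e]; exact this)
        exact ih.trans hstep
    exact (hgood c hch).congr hagree

end Cfsg.Agent.S1959
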