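import Cfsg.Statements.S0749
-- import your own Cfsg.Agent.* helpers here
import Mathlib

set_option autoImplicit false
open Cfsg

namespace Cfsg.Agent.S0749

section Helpers

variable {F V : Type*} [Field F] [AddCommGroup V] [Module F V] [FiniteDimensional F V]

theorem orth_of_forall (B : LinearMap.BilinForm F V) {k : ℕ} (y : Fin k → V) (w : V)
    (h : ∀ i, B (y i) w = 0) : w ∈ B.orthogonal (Submodule.span F (Set.range y)) := by
  rw [LinearMap.BilinForm.mem_orthogonal_iff]
  intro u hu
  induction hu using Submodule.span_induction with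
  | mem u hu =>
    obtain ⟨i, rfl⟩ := hu
    exact h i
  | zero => simp
  | add a b _ _ ha hb => rw [map_add, LinearMap.add_apply, ha, hb, add_zero]
  | smul c a _ ha => rw [map_smul, LinearMap.smul_apply, ha, smul_zero]

theorem extA (B : LinearMap.BilinForm F V) (hB : B.Nondegenerate)
    {k : ℕ} (x y : Fin k → V) (hx : LinearIndependent F x) (hy : LinearIndependent F y)
    (hG : ∀ i j, B (x i) (x j) = B (y i) (y j)) (hk : k < Module.finrank F V)
    (hcase : (¬ B.orthogonal (Submodule.span F (Set.range y)) ≤ Submodule.span F (Set.range y)) ∨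
      (B.orthogonal (Submodule.span F (Set.range x)) ≤ Submodule.span F (Set.range x))) :
    ∃ v w : V, v ∉ Submodule.span F (Set.range x) ∧ w ∉ Submodule.span F (Set.range y) ∧
      ∀ i, B (x i) v = B (y i) w := by
  classical
  have hXne : Submodule.span F (Set.range x) ≠ ⊤ := by
    intro h
    have h1 := finrank_span_eq_card hx
    rw [h, finrank_top, Fintype.card_fin] at h1
    omega
  obtain ⟨v, -, hv⟩ := SetLike.exists_of_lt (lt_top_iff_ne_top.mpr hXne)
  obtain ⟨L, hL⟩ : ∃ L : V →ₗ[F] (Fin k → F), ∀ w i, L w i = B (y i) w :=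
    ⟨LinearMap.pi (fun i => B (y i)), fun w i => rfl⟩
  have hker : LinearMap.ker L = B.orthogonal (Submodule.span F (Set.range y)) := by
    ext w
    rw [LinearMap.mem_ker]
    constructor
    · intro h
      apply orth_of_forall
      intro i
      rw [← hL, h]; rfl
    · intro h
      rw [LinearMap.BilinForm.mem_orthogonal_iff] at h
      funext i
      rw [hL]
      exact h _ (Submodule.subset_span ⟨i, rfl⟩)
  have hsurj : LinearMap.range L = ⊤ := by
    apply Submodule.eq_top_of_finrank_eq
    have h1 := LinearMap.finrank_range_add_finrank_ker L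
    rw [hker, LinearMap.BilinForm.finrank_orthogonal hB, finrank_span_eq_card hy,
      Fintype.card_fin] at h1
    rw [Module.finrank_fin_fun]
    omega
  obtain ⟨w₀, hw₀⟩ : ∃ w₀, L w₀ = fun i => B (x i) v := by
    have : (fun i => B (x i) v) ∈ LinearMap.range L := by rw [hsurj]; exact Submodule.mem_top
    exact this
  have hw₀' : ∀ i, B (y i) w₀ = B (x i) v := by
    intro i
    rw [← hL, hw₀]
  rcases hcase with h | h
  · obtain ⟨z, hz1, hz2⟩ := SetLike.not_le_iff_exists.mp h
    rw [LinearMap.BilinForm.mem_orthogonal_iff] at hz1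
    by_cases hw : w₀ ∈ Submodule.span F (Set.range y)
    · refine ⟨v, w₀ + z, hv, ?_, ?_⟩
      · intro hcon
        apply hz2
        have := Submodule.sub_mem _ hcon hw
        rwa [add_sub_cancel_left] at this
      · intro i
        rw [map_add, hw₀', hz1 _ (Submodule.subset_span ⟨i, rfl⟩), add_zero]
    · exact ⟨v, w₀, hv, hw, fun i => (hw₀' i).symm⟩
  · refine ⟨v, w₀, hv, ?_, fun i => (hw₀' i).symm⟩
    intro hw
    obtain ⟨c, hc⟩ := (Submodule.mem_span_range_iff_exists_fun F).mp hw
    have hx₀ : ∑ i, c i • x i ∈ Submodule.span F (Set.range x) :=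
      Submodule.sum_mem _ (fun i _ => Submodule.smul_mem _ _ (Submodule.subset_span ⟨i, rfl⟩))
    have h1 : v - ∑ i, c i • x i ∈ B.orthogonal (Submodule.span F (Set.range x)) := by
      apply orth_of_forall
      intro j
      rw [map_sub, map_sum, ← hw₀' j, ← hc, map_sum, sub_eq_zero]
      apply Finset.sum_congr rfl
      intro i _
      rw [map_smul, map_smul, hG]
    have h2 := Submodule.add_mem _ (h h1) hx₀
    rw [sub_add_cancel] at h2
    exact hv h2

theorem ext_step (B : LinearMap.BilinForm F V) (hB : B.Nondegenerate)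
    {k : ℕ} (x y : Fin k → V) (hx : LinearIndependent F x) (hy : LinearIndependent F y)
    (hG : ∀ i j, B (x i) (x j) = B (y i) (y j)) (hk : k < Module.finrank F V) :
    ∃ v w : V, v ∉ Submodule.span F (Set.range x) ∧ w ∉ Submodule.span F (Set.range y) ∧
      ∀ i, B (x i) v = B (y i) w := by
  by_cases h1 : B.orthogonal (Submodule.span F (Set.range y)) ≤ Submodule.span F (Set.range y)
  · by_cases h2 : B.orthogonal (Submodule.span F (Set.range x)) ≤ Submodule.span F (Set.range x)
    · exact extA B hB x y hx hy hG hk (Or.inr h2)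
    · obtain ⟨w, v, hw, hv, h⟩ := extA B hB y x hy hx (fun i j => (hG i j).symm) hk (Or.inl h2)
      exact ⟨v, w, hv, hw, fun i => (h i).symm⟩
  · exact extA B hB x y hx hy hG hk (Or.inl h1)

theorem main_ind (B : LinearMap.BilinForm F V) (hB : B.Nondegenerate) (hA : B.IsAlt) :
    ∀ (m k : ℕ) (x y : Fin k → V), k + m = Module.finrank F V → LinearIndependent F x →
      LinearIndependent F y → (∀ i j, B (x i) (x j) = B (y i) (y j)) →
      ∃ g : V ≃ₗ[F] V, (∀ u v : V, B (g u) (g v) = B u v) ∧ ∀ i, g (x i) = y i := by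
  intro m
  induction m with
  | zero =>
    intro k x y hk hx hy hG
    have hcard : Fintype.card (Fin k) = Module.finrank F V := by rw [Fintype.card_fin]; omega
    obtain ⟨bx, hbx⟩ : ∃ bx : Module.Basis (Fin k) F V, ⇑bx = x :=
      ⟨basisOfLinearIndependentOfCardEqFinrank' x hx hcard,
        coe_basisOfLinearIndependentOfCardEqFinrank' x hx hcard⟩
    obtain ⟨by', hby⟩ : ∃ by' : Module.Basis (Fin k) F V, ⇑by' = y :=
      ⟨basisOfLinearIndependentOfCardEqFinrank' y hy hcard,
        coe_basisOfLinearIndependentOfCardEqFinrank' y hy hcard⟩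
    have hg : ∀ i, (bx.equiv by' (Equiv.refl _)) (x i) = y i := by
      intro i
      rw [← hbx, Module.Basis.equiv_apply, ← hby]; rfl
    refine ⟨bx.equiv by' (Equiv.refl _), ?_, hg⟩
    have hBB : B.comp (bx.equiv by' (Equiv.refl _) : V →ₗ[F] V) (bx.equiv by' (Equiv.refl _) : V →ₗ[F] V)
        = B := by
      apply LinearMap.BilinForm.ext_basis bx
      intro i j
      rw [LinearMap.BilinForm.comp_apply, hbx]
      show B ((bx.equiv by' (Equiv.refl _)) (x i)) ((bx.equiv by' (Equiv.refl _)) (x j)) = _
      rw [hg, hg, hG]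
    intro u v
    have := congrArg (fun C : LinearMap.BilinForm F V => C u v) hBB
    exact this
  | succ m ih =>
    intro k x y hk hx hy hG
    obtain ⟨v, w, hv, hw, hvw⟩ := ext_step B hB x y hx hy hG (by omega)
    have hx' : LinearIndependent F (Fin.snoc x v : Fin (k + 1) → V) :=
      linearIndependent_finSnoc.mpr ⟨hx, hv⟩
    have hy' : LinearIndependent F (Fin.snoc y w : Fin (k + 1) → V) :=
      linearIndependent_finSnoc.mpr ⟨hy, hw⟩
    have hG' : ∀ i j : Fin (k + 1), B ((Fin.snoc x v : Fin (k + 1) → V) i)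
        ((Fin.snoc x v : Fin (k + 1) → V) j) = B ((Fin.snoc y w : Fin (k + 1) → V) i)
        ((Fin.snoc y w : Fin (k + 1) → V) j) := by
      intro i j
      refine Fin.lastCases ?_ (fun i' => ?_) i <;> refine Fin.lastCases ?_ (fun j' => ?_) j
      · rw [Fin.snoc_last, Fin.snoc_last, hA v, hA w]
      · rw [Fin.snoc_last, Fin.snoc_last, Fin.snoc_castSucc, Fin.snoc_castSucc,
          ← hA.neg_eq, ← hA.neg_eq (y j') w, hvw]
      · rw [Fin.snoc_last, Fin.snoc_last, Fin.snoc_castSucc, Fin.snoc_castSucc, hvw]
      · rw [Fin.snoc_castSucc, Fin.snoc_castSucc, Fin.snoc_castSucc, Fin.snoc_castSucc, hG]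
    obtain ⟨g, hg1, hg2⟩ := ih (k + 1) _ _ (by omega) hx' hy' hG'
    refine ⟨g, hg1, ?_⟩
    intro i
    have := hg2 i.castSucc
    rwa [Fin.snoc_castSucc, Fin.snoc_castSucc] at this

end Helpers

/-- Witt's Lemma for alternating forms. If B is a non-degenerate alternating bilinear form on a finite-dimensional vector space V (over any field) and φ is a linear equivalence between subspaces X and Y of V preserving B, then φ extends to a B-preserving linear automorphism of V. -/
theorem result {F V : Type*} [Field F] [AddCommGroup V] [Module F V] [FiniteDimensional F V] (B : LinearMap.BilinForm F V) (hB : B.Nondegenerate) (hA : B.IsAlt) (X Y : Submodule F V) (φ : X ≃ₗ[F] Y) (hφ : ∀ x x' : X, B (φ x : V) (φ x' : V) = B (x : V) (x' : V)) : ∃ g : V ≃ₗ[F] V, (∀ u v : V, B (g u) (g v) = B u v) ∧ ∀ x : X, g (x : V) = (φ x : V) := by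
  classical
  obtain ⟨bX⟩ : Nonempty (Module.Basis (Fin (Module.finrank F X)) F X) := ⟨Module.finBasis F X⟩
  have hx : LinearIndependent F (fun i => ((bX i : X) : V)) :=
    bX.linearIndependent.map' X.subtype (Submodule.ker_subtype X)
  have hy : LinearIndependent F (fun i => ((φ (bX i) : Y) : V)) := by
    have h1 : LinearIndependent F (fun i => φ (bX i)) :=
      bX.linearIndependent.map' (φ : X →ₗ[F] Y) (LinearEquiv.ker φ)
    exact h1.map' Y.subtype (Submodule.ker_subtype Y)
  have hle : Module.finrank F X ≤ Module.finrank F V := Submodule.finrank_le X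
  obtain ⟨g, hg1, hg2⟩ := main_ind B hB hA (Module.finrank F V - Module.finrank F X)
    (Module.finrank F X) _ _ (by omega) hx hy (fun i j => (hφ (bX i) (bX j)).symm)
  refine ⟨g, hg1, ?_⟩
  have heq : (g : V →ₗ[F] V).comp X.subtype = Y.subtype.comp (φ : X →ₗ[F] Y) := by
    apply bX.ext
    intro i
    exact hg2 i
  intro x
  exact congrArg (fun f : X →ₗ[F] V => f x) heq

end Cfsg.Agent.S0749
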