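import Cfsg.Statements.S0271
-- import your own Cfsg.Agent.* helpers here
import Cfsg.Agent.Lib.helper4.SpTI

set_option autoImplicit false
open Cfsg

namespace Cfsg.Agent.S0271

/-- Sp_{2m}(F) is transitive on non-zero vectors. -/
theorem result {F : Type*} [Field F] (m : ℕ) (v w : Fin m ⊕ Fin m → F) (hv : v ≠ 0) (hw : w ≠ 0) : ∃ g : Matrix.symplecticGroup (Fin m) F, (g : Matrix (Fin m ⊕ Fin m) (Fin m ⊕ Fin m) F).mulVec v = w := by
  classical
  have hv' : LinearIndependent F (fun _ : Fin 1 => v) := by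
    rw [linearIndependent_unique_iff]
    exact hv
  have hw' : LinearIndependent F (fun _ : Fin 1 => w) := by
    rw [linearIndependent_unique_iff]
    exact hw
  obtain ⟨A, hA⟩ := Cfsg.Agent.Lib.helper4.witt_frames (fun _ : Fin 1 => v) (fun _ => w) hv' hw'
    (fun i j => by
      rw [← Cfsg.Agent.S0776.sB_apply, ← Cfsg.Agent.S0776.sB_apply, Cfsg.Agent.S0776.sB_alt,
        Cfsg.Agent.S0776.sB_alt])
  exact ⟨A, hA 0⟩

end Cfsg.Agent.S0271
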