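import Cfsg.Statements.S2638
import Mathlib

set_option autoImplicit false
open Cfsg

namespace Cfsg.Agent.S2638

section Helpers

open Matrix

lemma nt_aux {q r n d e : ℕ} (hn : 1 ≤ n) (hi : orderOf (q : ZMod r) = n) (hed : e ≤ d)
    (hdn : d ≤ n) (h : q ^ d ≡ q ^ e [MOD r]) : e = d ∨ (e = 0 ∧ d = n) := by
  have h1 : ((q : ZMod r)) ^ d = (q : ZMod r) ^ e := by
    have := (ZMod.natCast_eq_natCast_iff _ _ _).mpr h
    simpa using this
  have hqn : (q : ZMod r) ^ n = 1 := by rw [← hi]; exact pow_orderOf_eq_one _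
  have hu : IsUnit (q : ZMod r) := IsUnit.of_pow_eq_one hqn (by omega)
  have h2 : (q : ZMod r) ^ (d - e) = 1 := by
    have : (q : ZMod r) ^ e * (q : ZMod r) ^ (d - e) = (q : ZMod r) ^ e * 1 := by
      rw [← pow_add, mul_one, Nat.add_sub_cancel' hed, h1]
    exact (hu.pow e).mul_left_cancel this
  have h3 : n ∣ d - e := by rw [← hi]; exact orderOf_dvd_of_pow_eq_one h2
  rcases Nat.eq_zero_or_pos (d - e) with h0 | hpos
  · left; omega
  · right
    have := Nat.le_of_dvd hpos h3
    omega

variable {F : Type*} [Field F] [Fintype F]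

lemma card_fixed {n : ℕ} (X : Matrix (Fin n) (Fin n) F) {r : ℕ} (hr : r.Prime) (hX : X ^ r = 1)
    (W : Submodule F (Fin n → F)) (hW : ∀ w ∈ W, X *ᵥ w ∈ W) :
    Fintype.card F ^ Module.finrank F W ≡
      Fintype.card F ^ Module.finrank F
        (W ⊓ LinearMap.ker (Matrix.mulVecLin X - LinearMap.id) : Submodule F (Fin n → F)) [MOD r] := by
  classical
  haveI : Fact r.Prime := ⟨hr⟩
  let f : Function.End W := fun w => ⟨X *ᵥ (w : Fin n → F), hW _ w.2⟩
  have hpow : ∀ k (w : W), (((f ^ k) w : W) : Fin n → F) = (X ^ k) *ᵥ (w : Fin n → F) := by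
    intro k
    induction k with
    | zero =>
      intro w
      rw [pow_zero, pow_zero, Matrix.one_mulVec]
      rfl
    | succ k ih =>
      intro w
      rw [pow_succ', Function.End.mul_def]
      show X *ᵥ (((f ^ k) w : W) : Fin n → F) = _
      rw [ih, Matrix.mulVec_mulVec, ← pow_succ']
  have hf : f ^ r ^ 1 = 1 := by
    rw [pow_one]
    funext w
    apply Subtype.ext
    rw [hpow, hX, Matrix.one_mulVec]
    rfl
  have h1 := Equiv.Perm.card_fixedPoints_modEq (p := r) (n := 1) hf
  have h2 : Fintype.card W = Fintype.card F ^ Module.finrank F W := Module.card_eq_pow_finrank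
  have h3 : Fintype.card (Function.fixedPoints f) = Fintype.card F ^ Module.finrank F
      (W ⊓ LinearMap.ker (Matrix.mulVecLin X - LinearMap.id) : Submodule F (Fin n → F)) := by
    rw [← Module.card_eq_pow_finrank]
    apply Fintype.card_congr
    refine
      { toFun := fun w => ⟨(w.1 : Fin n → F), ⟨w.1.2, ?_⟩⟩
        invFun := fun v => ⟨⟨v.1, v.2.1⟩, ?_⟩
        left_inv := fun w => rfl
        right_inv := fun v => rfl }
    · have := w.2
      have h4 : f w.1 = w.1 := this
      have h5 : X *ᵥ (w.1 : Fin n → F) = (w.1 : Fin n → F) := congrArg Subtype.val h4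
      simp [sub_eq_zero, h5]
    · have h4 := v.2.2
      have h5 : X *ᵥ (v : Fin n → F) = (v : Fin n → F) := by
        simpa [sub_eq_zero] using h4
      show f ⟨v.1, v.2.1⟩ = ⟨v.1, v.2.1⟩
      exact Subtype.ext h5
  rw [h2, h3] at h1
  exact h1

end Helpers

/-- If an element x of GL_n(q), n ≥ 1, has prime order r and the multiplicative order of q modulo r is n (r is a primitive prime divisor of q^n − 1, so x acts irreducibly), then the centraliser of x in GL_n(q) is cyclic of order q^n − 1 (the multiplicative group of the field with q^n elements, a Singer cycle). -/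
theorem result {F : Type*} [Field F] [Fintype F] {p q : ℕ} [Fact p.Prime] [CharP F p] (hF : Fintype.card F = q) {n r : ℕ} (hn : 1 ≤ n) (hr : r.Prime) (hrp : r ≠ p) (hi : orderOf (q : ZMod r) = n) (x : GL (Fin n) F) (hx : orderOf x = r) : IsCyclic ↥(Subgroup.centralizer ({x} : Set (GL (Fin n) F))) ∧ Nat.card ↥(Subgroup.centralizer ({x} : Set (GL (Fin n) F))) = q ^ n - 1 := by
  classical
  haveI : Nonempty (Fin n) := ⟨⟨0, hn⟩⟩
  obtain ⟨X, hXdef⟩ : ∃ X : Matrix (Fin n) (Fin n) F, X = (x : Matrix (Fin n) (Fin n) F) := ⟨_, rfl⟩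
  have hXr : X ^ r = 1 := by
    have h1 : x ^ r = 1 := by rw [← hx]; exact pow_orderOf_eq_one x
    have := congrArg (fun g : GL (Fin n) F => (g : Matrix (Fin n) (Fin n) F)) h1
    rw [hXdef]
    simpa using this
  have hext : ∀ c : Matrix (Fin n) (Fin n) F, (∀ v, c.mulVec v = 0) → c = 0 := by
    intro c hc
    apply Matrix.toLin'.injective
    apply LinearMap.ext
    intro v
    simp [hc v]
  have hcnt := fun W hW => card_fixed X hr hXr W hW
  have hK0 : LinearMap.ker (Matrix.mulVecLin X - LinearMap.id) = ⊥ := by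
    have h1 := hcnt ⊤ (fun w _ => Submodule.mem_top)
    rw [top_inf_eq, finrank_top, Module.finrank_fin_fun, hF] at h1
    have hle : Module.finrank F (LinearMap.ker (Matrix.mulVecLin X - LinearMap.id)) ≤ n := by
      have := Submodule.finrank_le (LinearMap.ker (Matrix.mulVecLin X - LinearMap.id))
      rwa [Module.finrank_fin_fun] at this
    rcases nt_aux hn hi hle le_rfl h1 with h | ⟨h, -⟩
    · exfalso
      have hKtop : LinearMap.ker (Matrix.mulVecLin X - LinearMap.id) = ⊤ :=
        Submodule.eq_top_of_finrank_eq (by rw [h, Module.finrank_fin_fun])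
      have hX1 : X - 1 = 0 := by
        apply hext
        intro v
        have : v ∈ LinearMap.ker (Matrix.mulVecLin X - LinearMap.id) := by
          rw [hKtop]; exact Submodule.mem_top
        rw [LinearMap.mem_ker] at this
        simpa [Matrix.sub_mulVec] using this
      have hx1 : x = 1 := by
        apply Units.ext
        rw [← hXdef]
        exact sub_eq_zero.mp hX1
      rw [hx1, orderOf_one] at hx
      exact hr.one_lt.ne hx
    · exact Submodule.finrank_eq_zero.mp h
  have L1 : ∀ W : Submodule F (Fin n → F), (∀ w ∈ W, X.mulVec w ∈ W) → W = ⊥ ∨ W = ⊤ := by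
    intro W hW
    have h1 := hcnt W hW
    rw [hK0, inf_bot_eq, finrank_bot, hF] at h1
    have hle : Module.finrank F W ≤ n := by
      have := Submodule.finrank_le W
      rwa [Module.finrank_fin_fun] at this
    rcases nt_aux hn hi (Nat.zero_le _) hle h1 with h | ⟨-, h⟩
    · left; exact Submodule.finrank_eq_zero.mp h.symm
    · right; exact Submodule.eq_top_of_finrank_eq (by rw [h, Module.finrank_fin_fun])
  have L2 : ∀ c : Matrix (Fin n) (Fin n) F, c * X = X * c → ∀ v, v ≠ 0 → c.mulVec v = 0 → c = 0 := by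
    intro c hc v hv hcv
    have hW : ∀ w ∈ LinearMap.ker (Matrix.mulVecLin c), X.mulVec w ∈ LinearMap.ker (Matrix.mulVecLin c) := by
      intro w hw
      rw [LinearMap.mem_ker, Matrix.mulVecLin_apply] at hw ⊢
      rw [Matrix.mulVec_mulVec, hc, ← Matrix.mulVec_mulVec, hw, Matrix.mulVec_zero]
    rcases L1 _ hW with h | h
    · exfalso
      have : v ∈ LinearMap.ker (Matrix.mulVecLin c) := by
        rw [LinearMap.mem_ker, Matrix.mulVecLin_apply]; exact hcv
      rw [h] at this
      exact hv ((Submodule.mem_bot F).mp this)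
    · apply hext
      intro w
      have : w ∈ LinearMap.ker (Matrix.mulVecLin c) := by rw [h]; exact Submodule.mem_top
      rwa [LinearMap.mem_ker, Matrix.mulVecLin_apply] at this
  have L3 : ∀ v : Fin n → F, v ≠ 0 → ∀ w : Fin n → F, ∃ c : Matrix (Fin n) (Fin n) F,
      c * X = X * c ∧ (∀ c' : Matrix (Fin n) (Fin n) F, c' * X = X * c' → c * c' = c' * c) ∧
        c.mulVec v = w := by
    intro v hv
    let W' : Submodule F (Fin n → F) :=
      { carrier := {w | ∃ c : Matrix (Fin n) (Fin n) F, c * X = X * c ∧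
          (∀ c' : Matrix (Fin n) (Fin n) F, c' * X = X * c' → c * c' = c' * c) ∧ c.mulVec v = w}
        add_mem' := by
          rintro _ _ ⟨c1, h1, h1', rfl⟩ ⟨c2, h2, h2', rfl⟩
          refine ⟨c1 + c2, ?_, ?_, ?_⟩
          · rw [add_mul, mul_add, h1, h2]
          · intro c' hc'
            rw [add_mul, mul_add, h1' c' hc', h2' c' hc']
          · rw [Matrix.add_mulVec]
        zero_mem' := ⟨0, by simp, by simp, by simp⟩
        smul_mem' := by
          rintro a _ ⟨c1, h1, h1', rfl⟩
          refine ⟨a • c1, ?_, ?_, ?_⟩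
          · rw [Matrix.smul_mul, Matrix.mul_smul, h1]
          · intro c' hc'
            rw [Matrix.smul_mul, Matrix.mul_smul, h1' c' hc']
          · rw [Matrix.smul_mulVec] }
    have hW' : ∀ w ∈ W', X.mulVec w ∈ W' := by
      rintro _ ⟨c1, h1, h1', rfl⟩
      refine ⟨X * c1, ?_, ?_, ?_⟩
      · rw [mul_assoc, h1]
      · intro c' hc'
        rw [mul_assoc, h1' c' hc', ← mul_assoc, ← hc', mul_assoc]
      · rw [Matrix.mulVec_mulVec]
    have hv' : v ∈ W' := ⟨1, by simp, by simp, by simp⟩
    rcases L1 W' hW' with h | h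
    · exfalso
      rw [h] at hv'
      exact hv ((Submodule.mem_bot F).mp hv')
    · intro w
      have : w ∈ W' := by rw [h]; exact Submodule.mem_top
      exact this
  obtain ⟨v₀, hv₀⟩ : ∃ v₀ : Fin n → F, v₀ ≠ 0 :=
    ⟨fun _ => 1, fun h => one_ne_zero (congrFun h ⟨0, hn⟩)⟩
  have L4 : ∀ c c' : Matrix (Fin n) (Fin n) F, c * X = X * c → c' * X = X * c' → c * c' = c' * c := by
    intro c c' hc hc'
    obtain ⟨c₀, h1, h2, h3⟩ := L3 v₀ hv₀ (c.mulVec v₀)
    have : c - c₀ = 0 := by
      apply L2 (c - c₀) (by rw [sub_mul, mul_sub, hc, h1]) v₀ hv₀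
      rw [Matrix.sub_mulVec, h3, sub_self]
    rw [sub_eq_zero.mp this]
    exact h2 c' hc'
  have L5 : ∀ c : Matrix (Fin n) (Fin n) F, c * X = X * c → c ≠ 0 → c.det ≠ 0 := by
    intro c hc hc0 hdet
    obtain ⟨v, hv, hcv⟩ := Matrix.exists_mulVec_eq_zero_iff.mpr hdet
    exact hc0 (L2 c hc v hv hcv)
  have hZ : ∀ g : GL (Fin n) F, g ∈ Subgroup.centralizer ({x} : Set (GL (Fin n) F)) ↔
      (g : Matrix (Fin n) (Fin n) F) * X = X * (g : Matrix (Fin n) (Fin n) F) := by
    intro g
    rw [Subgroup.mem_centralizer_iff]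
    constructor
    · intro h
      have := h x rfl
      have := congrArg (fun g : GL (Fin n) F => (g : Matrix (Fin n) (Fin n) F)) this
      rw [hXdef]
      exact this.symm
    · rintro h _ rfl
      apply Units.ext
      rw [hXdef] at h
      exact h.symm
  constructor
  · -- cyclic
    letI : CommRing (Subring.centralizer ({X} : Set (Matrix (Fin n) (Fin n) F))) :=
      { (inferInstance : Ring (Subring.centralizer ({X} : Set (Matrix (Fin n) (Fin n) F)))) with
        mul_comm := fun a b => Subtype.ext (L4 a.1 b.1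
          ((Subring.mem_centralizer_iff.mp a.2 X rfl).symm)
          ((Subring.mem_centralizer_iff.mp b.2 X rfl).symm)) }
    haveI : IsDomain (Subring.centralizer ({X} : Set (Matrix (Fin n) (Fin n) F))) := by
      haveI : Nontrivial (Subring.centralizer ({X} : Set (Matrix (Fin n) (Fin n) F))) :=
        ⟨⟨0, 1, fun h => zero_ne_one (congrArg Subtype.val h)⟩⟩
      haveI : NoZeroDivisors (Subring.centralizer ({X} : Set (Matrix (Fin n) (Fin n) F))) := by
        refine ⟨fun {a b} hab => ?_⟩
        by_cases ha : a = 0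
        · exact Or.inl ha
        · right
          have ha' : a.1 ≠ 0 := fun h => ha (Subtype.ext h)
          have hdet := L5 a.1 ((Subring.mem_centralizer_iff.mp a.2 X rfl).symm) ha'
          have h1 : a.1 * b.1 = 0 := congrArg Subtype.val hab
          have h2 : b.1 = a.1⁻¹ * (a.1 * b.1) := by
            rw [← Matrix.mul_assoc, Matrix.nonsing_inv_mul _ (Ne.isUnit hdet), Matrix.one_mul]
          apply Subtype.ext
          rw [h2, h1, Matrix.mul_zero]
          rfl
      exact NoZeroDivisors.to_isDomain _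
    let f : Subgroup.centralizer ({x} : Set (GL (Fin n) F)) →*
        Subring.centralizer ({X} : Set (Matrix (Fin n) (Fin n) F)) :=
      { toFun := fun g => ⟨((g : GL (Fin n) F) : Matrix (Fin n) (Fin n) F), by
          rw [Subring.mem_centralizer_iff]
          rintro _ rfl
          exact ((hZ g.1).mp g.2).symm⟩
        map_one' := rfl
        map_mul' := fun _ _ => rfl }
    have hf : Function.Injective f := by
      intro a b hab
      apply Subtype.ext
      apply Units.ext
      exact congrArg Subtype.val hab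
    exact isCyclic_of_injective_ringHom f hf
  · -- order
    have hmem : ∀ g : Subgroup.centralizer ({x} : Set (GL (Fin n) F)),
        ((g : GL (Fin n) F) : Matrix (Fin n) (Fin n) F).mulVec v₀ ≠ 0 := by
      intro g h
      have := L2 _ ((hZ g.1).mp g.2) v₀ hv₀ h
      have hdet : ((g : GL (Fin n) F) : Matrix (Fin n) (Fin n) F).det ≠ 0 :=
        (Matrix.GeneralLinearGroup.det (g : GL (Fin n) F)).ne_zero
      rw [this, Matrix.det_zero] at hdet
      exact hdet rfl
    let φ : Subgroup.centralizer ({x} : Set (GL (Fin n) F)) → {v : Fin n → F // v ≠ 0} :=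
      fun g => ⟨((g : GL (Fin n) F) : Matrix (Fin n) (Fin n) F).mulVec v₀, hmem g⟩
    have hφ : Function.Bijective φ := by
      constructor
      · intro a b hab
        have h1 : ((a : GL (Fin n) F) : Matrix (Fin n) (Fin n) F).mulVec v₀ =
            ((b : GL (Fin n) F) : Matrix (Fin n) (Fin n) F).mulVec v₀ := congrArg Subtype.val hab
        have h2 := L2 (((a : GL (Fin n) F) : Matrix (Fin n) (Fin n) F) -
            ((b : GL (Fin n) F) : Matrix (Fin n) (Fin n) F))
          (by rw [sub_mul, mul_sub, (hZ a.1).mp a.2, (hZ b.1).mp b.2]) v₀ hv₀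
          (by rw [Matrix.sub_mulVec, h1, sub_self])
        apply Subtype.ext
        apply Units.ext
        exact sub_eq_zero.mp h2
      · rintro ⟨w, hw⟩
        obtain ⟨c, h1, -, h3⟩ := L3 v₀ hv₀ w
        have hc0 : c ≠ 0 := by
          rintro rfl
          rw [Matrix.zero_mulVec] at h3
          exact hw h3.symm
        have hdet := L5 c h1 hc0
        refine ⟨⟨Matrix.GeneralLinearGroup.mkOfDetNeZero c hdet, ?_⟩, ?_⟩
        · rw [hZ]
          exact h1
        · apply Subtype.ext
          exact h3
    rw [Nat.card_congr (Equiv.ofBijective φ hφ), Nat.card_eq_fintype_card,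
      Fintype.card_subtype_compl, Fintype.card_subtype_eq, Fintype.card_fun, Fintype.card_fin, hF]

end Cfsg.Agent.S2638
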