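import Cfsg.Statements.S2468
-- import your own Cfsg.Agent.* helpers here
import Mathlib
import Cfsg.Agent.S2568
import Cfsg.Agent.S2638
import Cfsg.Agent.Lib.helper18.RCF4

set_option autoImplicit false
open Cfsg

namespace Cfsg.Agent.S2468




open Polynomial Cfsg.Agent.Lib.helper18.RCF
open scoped Matrix

/-- fixed space of a matrix -/
def fx {F : Type*} [Field F] {ι : Type} [Fintype ι] [DecidableEq ι] (a : Matrix ι ι F) :
    Submodule F (ι → F) :=
  LinearMap.ker (Matrix.toLin' a - 1)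

theorem mem_fx {F : Type*} [Field F] {ι : Type} [Fintype ι] [DecidableEq ι] (a : Matrix ι ι F)
    (v : ι → F) : v ∈ fx a ↔ a *ᵥ v = v := by
  unfold fx
  rw [LinearMap.mem_ker, LinearMap.sub_apply, Matrix.toLin'_apply, sub_eq_zero]
  rfl

theorem fix_modEq {F : Type*} [Field F] [Fintype F] {ι : Type} [Fintype ι] [DecidableEq ι]
    (r : ℕ) [Fact r.Prime] (a : Matrix ι ι F) (ha : a ^ r = 1) (W : Submodule F (ι → F))
    (hW : ∀ w ∈ W, a *ᵥ w ∈ W) :
    Fintype.card F ^ Module.finrank F W ≡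
      Fintype.card F ^ Module.finrank F ↥(W ⊓ fx a) [MOD r] := by
  classical
  let f : Function.End W := fun v => ⟨a *ᵥ v.1, hW _ v.2⟩
  have hpow : ∀ (n : ℕ) (v : W), ((f ^ n) v).1 = (a ^ n) *ᵥ v.1 := by
    intro n
    induction n with
    | zero =>
      intro v
      rw [pow_zero, pow_zero, Matrix.one_mulVec]
      rfl
    | succ n ih =>
      intro v
      have e1 : (f ^ (n + 1)) v = f ((f ^ n) v) := by rw [pow_succ']; rfl
      rw [e1]
      show a *ᵥ ((f ^ n) v).1 = _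
      rw [ih, Matrix.mulVec_mulVec, ← pow_succ']
  have hf : f ^ r ^ 1 = 1 := by
    funext v
    apply Subtype.ext
    rw [pow_one, hpow, ha, Matrix.one_mulVec]
    rfl
  have h1 := Equiv.Perm.card_fixedPoints_modEq (p := r) (n := 1) hf
  have h2 : Fintype.card ↥(Function.fixedPoints f) = Nat.card ↥(W ⊓ fx a) := by
    rw [← Nat.card_eq_fintype_card]
    apply Nat.card_congr
    exact ⟨fun x => ⟨x.1.1, x.1.2, (mem_fx a _).2 (congrArg Subtype.val x.2)⟩,
      fun y => ⟨⟨y.1, y.2.1⟩, Subtype.ext ((mem_fx a _).1 y.2.2)⟩, fun x => rfl, fun y => rfl⟩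
  have e1 : Fintype.card ↥W = Fintype.card F ^ Module.finrank F ↥W :=
    Module.card_eq_pow_finrank
  have e2 : Fintype.card ↥(W ⊓ fx a) = Fintype.card F ^ Module.finrank F ↥(W ⊓ fx a) :=
    Module.card_eq_pow_finrank
  rw [h2, Nat.card_eq_fintype_card, e1, e2] at h1
  exact h1

theorem lift_order {G : Type*} [Group G] [Finite G] (N : Subgroup G) [N.Normal] (x : G ⧸ N)
    (m : ℕ) (hx : orderOf x = m) : ∃ g : G, orderOf g = m := by
  obtain ⟨g, rfl⟩ := QuotientGroup.mk_surjective x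
  have ho : orderOf g ≠ 0 := (orderOf_pos g).ne'
  have hdvd : m ∣ orderOf g := by
    rw [← hx]
    apply orderOf_dvd_of_pow_eq_one
    rw [← QuotientGroup.mk_pow, pow_orderOf_eq_one]
    rfl
  exact ⟨g ^ (orderOf g / m), orderOf_pow_orderOf_div ho hdvd⟩

/-- numeric: a unit `Q` of order `k` with `Q^x = Q^y`, `y ≤ x` -/
theorem dvd_sub_of_pow_eq (r : ℕ) [Fact r.Prime] (Q : ZMod r) (k : ℕ) (hk : k = orderOf Q)
    (hk0 : 0 < k) (x y : ℕ) (hyx : y ≤ x) (h : Q ^ x = Q ^ y) : k ∣ x - y := by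
  have hQ0 : Q ≠ 0 := by
    intro h0
    have h1 : Q ^ k = 1 := by rw [hk, pow_orderOf_eq_one]
    rw [h0, zero_pow hk0.ne'] at h1
    exact zero_ne_one h1
  have h2 : Q ^ y * (Q ^ (x - y) - 1) = 0 := by
    rw [mul_sub, ← pow_add, Nat.add_sub_cancel' hyx, h, mul_one, sub_self]
  rcases mul_eq_zero.1 h2 with h3 | h3
  · exact absurd h3 (pow_ne_zero _ hQ0)
  · rw [hk]
    exact orderOf_dvd_of_pow_eq_one (sub_eq_zero.1 h3)


/-- core non-existence: a matrix of order `r*s` forces `k + l ≤ n` or `k ∣ l`. -/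
theorem no_elt {F : Type*} [Field F] [Fintype F] (n r s : ℕ) (hr : r.Prime) (hs : s.Prime)
    (k l : ℕ) (hk : k = orderOf ((Fintype.card F : ℕ) : ZMod r))
    (hl : l = orderOf ((Fintype.card F : ℕ) : ZMod s)) (hk0 : 0 < k) (hkl : k ≤ l)
    (G : Matrix (Fin n) (Fin n) F) (h1 : G ^ (r * s) = 1) (h2 : G ^ r ≠ 1) (h3 : G ^ s ≠ 1) :
    k + l ≤ n ∨ k ∣ l := by
  classical
  by_contra hcon
  push Not at hcon
  obtain ⟨hn, hnd⟩ := hcon
  have hl0 : 0 < l := lt_of_lt_of_le hk0 hkl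
  have : Fact r.Prime := ⟨hr⟩
  have : Fact s.Prime := ⟨hs⟩
  obtain ⟨a, ha⟩ : ∃ a : Matrix (Fin n) (Fin n) F, a = G ^ s := ⟨_, rfl⟩
  obtain ⟨b, hb⟩ : ∃ b : Matrix (Fin n) (Fin n) F, b = G ^ r := ⟨_, rfl⟩
  have har : a ^ r = 1 := by rw [ha, ← pow_mul, mul_comm, h1]
  have hbs : b ^ s = 1 := by rw [hb, ← pow_mul, h1]
  have hab : a * b = b * a := by rw [ha, hb, ← pow_add, ← pow_add, add_comm]
  have htop : ∀ c : Matrix (Fin n) (Fin n) F, c ≠ 1 → Module.finrank F ↥(fx c) < n := by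
    intro c hc
    have hne : fx c ≠ ⊤ := by
      intro htop
      apply hc
      apply Matrix.toLin'.injective
      apply LinearMap.ext
      intro v
      have hv : v ∈ fx c := by rw [htop]; exact Submodule.mem_top
      rw [Matrix.toLin'_apply, (mem_fx c v).1 hv, Matrix.toLin'_one]
      rfl
    have := Submodule.finrank_lt hne
    rwa [Module.finrank_fin_fun] at this
  have hinv : ∀ c d : Matrix (Fin n) (Fin n) F, c * d = d * c → ∀ w ∈ fx c, d *ᵥ w ∈ fx c := by
    intro c d hcd w hw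
    rw [mem_fx] at hw ⊢
    rw [Matrix.mulVec_mulVec, hcd, ← Matrix.mulVec_mulVec, hw]
  have htopfin : Module.finrank F ↥(⊤ : Submodule F (Fin n → F)) = n := by
    rw [finrank_top, Module.finrank_fin_fun]
  -- the four congruences
  have c1 := fix_modEq r a har ⊤ (fun w _ => Submodule.mem_top)
  have c2 := fix_modEq s b hbs ⊤ (fun w _ => Submodule.mem_top)
  have c3 := fix_modEq s b hbs (fx a) (hinv a b hab)
  have c4 := fix_modEq r a har (fx b) (hinv b a hab.symm)
  rw [top_inf_eq, htopfin] at c1 c2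
  rw [inf_comm] at c4
  obtain ⟨da, hda⟩ : ∃ da : ℕ, da = Module.finrank F ↥(fx a) := ⟨_, rfl⟩
  obtain ⟨db, hdb⟩ : ∃ db : ℕ, db = Module.finrank F ↥(fx b) := ⟨_, rfl⟩
  obtain ⟨dc, hdc⟩ : ∃ dc : ℕ, dc = Module.finrank F ↥(fx a ⊓ fx b) := ⟨_, rfl⟩
  rw [← hda] at c1 c3
  rw [← hdb] at c2 c4
  rw [← hdc] at c3 c4
  have hda_lt : da < n := by
    rw [hda]; exact htop a (by rw [ha]; exact h3)
  have hdb_lt : db < n := by
    rw [hdb]; exact htop b (by rw [hb]; exact h2)
  have hdca : dc ≤ da := by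
    rw [hda, hdc]; exact Submodule.finrank_mono inf_le_left
  have hdcb : dc ≤ db := by
    rw [hdb, hdc]; exact Submodule.finrank_mono inf_le_right
  have e1 := dvd_sub_of_pow_eq r _ k hk hk0 n da hda_lt.le
    (by have := (ZMod.natCast_eq_natCast_iff _ _ _).2 c1; push_cast at this; exact this)
  have e2 := dvd_sub_of_pow_eq s _ l hl hl0 n db hdb_lt.le
    (by have := (ZMod.natCast_eq_natCast_iff _ _ _).2 c2; push_cast at this; exact this)
  have e3 := dvd_sub_of_pow_eq s _ l hl hl0 da dc hdca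
    (by have := (ZMod.natCast_eq_natCast_iff _ _ _).2 c3; push_cast at this; exact this)
  have e4 := dvd_sub_of_pow_eq r _ k hk hk0 db dc hdcb
    (by have := (ZMod.natCast_eq_natCast_iff _ _ _).2 c4; push_cast at this; exact this)
  have f1 : k ≤ n - da := Nat.le_of_dvd (by omega) e1
  have f2 : l ≤ n - db := Nat.le_of_dvd (by omega) e2
  have f3 : da - dc = 0 := Nat.eq_zero_of_dvd_of_lt e3 (by omega)
  have f4 : db - dc = 0 := Nat.eq_zero_of_dvd_of_lt e4 (by omega)
  have hdab : da = db := by omega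
  rw [← hdab] at e2
  have hlcm : Nat.lcm k l ∣ n - da := Nat.lcm_dvd e1 e2
  have hlcm_le : Nat.lcm k l ≤ n - da := Nat.le_of_dvd (by omega) hlcm
  obtain ⟨c, hc⟩ := Nat.dvd_lcm_right k l
  have hc1 : c ≠ 1 := by
    intro h
    rw [h, mul_one] at hc
    apply hnd
    have := Nat.dvd_lcm_left k l
    rwa [hc] at this
  have hc0 : c ≠ 0 := by
    intro h
    rw [h, mul_zero] at hc
    have := Nat.lcm_pos hk0 hl0
    omega
  have hc2 : 2 ≤ c := by omega
  have : l * 2 ≤ l * c := Nat.mul_le_mul_left l hc2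
  omega


theorem pow_coprime_one {M : Type*} [Monoid M] (x : M) (a b : ℕ) (hab : a.Coprime b)
    (h1 : x ^ a = 1) (h2 : x ^ b = 1) : x = 1 := by
  have h3 : orderOf x ∣ Nat.gcd a b :=
    Nat.dvd_gcd (orderOf_dvd_of_pow_eq_one h1) (orderOf_dvd_of_pow_eq_one h2)
  rw [Nat.Coprime] at hab
  rw [hab] at h3
  exact orderOf_eq_one_iff.1 (Nat.dvd_one.1 h3)

theorem fx_lt {F : Type*} [Field F] (n : ℕ) (c : Matrix (Fin n) (Fin n) F) (hc : c ≠ 1) :
    Module.finrank F ↥(fx c) < n := by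
  have hne : fx c ≠ ⊤ := by
    intro htop
    apply hc
    apply Matrix.toLin'.injective
    apply LinearMap.ext
    intro v
    have hv : v ∈ fx c := by rw [htop]; exact Submodule.mem_top
    rw [Matrix.toLin'_apply, (mem_fx c v).1 hv, Matrix.toLin'_one]
    rfl
  have := Submodule.finrank_lt hne
  rwa [Module.finrank_fin_fun] at this

theorem le_of_elt {F : Type*} [Field F] [Fintype F] (n s : ℕ) (hs : s.Prime) (l : ℕ)
    (hl : l = orderOf ((Fintype.card F : ℕ) : ZMod s)) (hl0 : 0 < l)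
    (a : Matrix (Fin n) (Fin n) F) (has : a ^ s = 1) (ha1 : a ≠ 1) : l ≤ n := by
  classical
  have : Fact s.Prime := ⟨hs⟩
  have hlt := fx_lt n a ha1
  have c1 := fix_modEq s a has ⊤ (fun w _ => Submodule.mem_top)
  rw [top_inf_eq, finrank_top, Module.finrank_fin_fun] at c1
  have e1 := dvd_sub_of_pow_eq s _ l hl hl0 n _ hlt.le
    (by have := (ZMod.natCast_eq_natCast_iff _ _ _).2 c1; push_cast at this; exact this)
  have := Nat.le_of_dvd (by omega) e1
  omega

theorem exists_mat_order {F : Type*} [Field F] [Fintype F] (p : ℕ) [Fact p.Prime] [CharP F p]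
    (r : ℕ) (hr : r.Prime) (hrp : r ≠ p) (k : ℕ)
    (hk : k = orderOf ((Fintype.card F : ℕ) : ZMod r)) (hk0 : 0 < k) :
    ∃ A : Matrix (Fin k) (Fin k) F, A ^ r = 1 ∧ A ≠ 1 := by
  classical
  have : Fact r.Prime := ⟨hr⟩
  have hQ : ((Fintype.card F : ℕ) : ZMod r) ≠ 0 := by
    intro h0
    have h1 : ((Fintype.card F : ℕ) : ZMod r) ^ k = 1 := by rw [hk, pow_orderOf_eq_one]
    rw [h0, zero_pow hk0.ne'] at h1
    exact zero_ne_one h1
  have hdvd : k ∣ r - 1 := by
    rw [hk]; exact orderOf_dvd_of_pow_eq_one (ZMod.pow_card_sub_one_eq_one hQ)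
  obtain ⟨t, ht⟩ := hdvd
  obtain ⟨S, hSc, hxS, hipos, hS1, hS2⟩ := Cfsg.Agent.S2568.cyc_facts (F := F) (p := p) rfl r k t
    hr hrp hk (by rw [mul_comm]; exact ht.symm)
  have ht0 : 0 < t := by
    rcases Nat.eq_zero_or_pos t with h | h
    · rw [h, mul_zero] at ht; have := hr.two_le; omega
    · exact h
  obtain ⟨P, hP⟩ : ∃ P, P ∈ S := Finset.card_pos.1 (by rw [hSc]; exact ht0)
  have hx0m : (X - 1 : F[X]).Monic := by simpa using monic_X_sub_C (1 : F)
  have hx0i : Irreducible (X - 1 : F[X]) := by simpa using irreducible_X_sub_C (1 : F)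
  obtain ⟨hPm, hPi, hPd, hPr⟩ := hS1 P hP
  obtain ⟨A, hA, hAc⟩ := exists_mat_of_multiset (n := k) ({P} : Multiset F[X]) r
    (by intro h hh; rw [Multiset.mem_singleton] at hh; rw [hh]; exact ⟨hPm, hPr⟩)
    (by rw [Multiset.map_singleton, Multiset.sum_singleton, hPd])
  rw [Multiset.prod_singleton] at hAc
  refine ⟨A, hA, ?_⟩
  intro h1
  rw [h1, Matrix.charpoly_one, Fintype.card_fin] at hAc
  have hdvd : (X - 1 : F[X]) ∣ P := by rw [← hAc]; exact dvd_pow_self _ hipos.ne'
  have := eq_of_monic_of_associated hx0m hPm (hx0i.associated_of_dvd hPi hdvd)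
  exact hxS (this ▸ hP)

theorem embed_psl {F : Type*} [Field F] [Fintype F] {ι : Type} [Fintype ι] [DecidableEq ι]
    (n r s : ℕ) (hr : r.Prime) (hs : s.Prime)
    (hcop : (r * s).Coprime (Fintype.card F - 1)) (hn0 : 0 < n)
    (hι : Fintype.card ι ≤ n) (h : Matrix ι ι F) (h1 : h ^ (r * s) = 1) (h2 : h ^ r ≠ 1)
    (h3 : h ^ s ≠ 1) :
    ∃ x : Matrix.ProjectiveSpecialLinearGroup (Fin n) F, orderOf x = r * s := by
  classical
  have hrs0 : r * s ≠ 0 := (Nat.mul_pos hr.pos hs.pos).ne'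
  have hscal : ∀ (c : F) (N : ℕ), N ∣ r * s → c ^ N = 1 → c = 1 := by
    intro c N hN hc
    have hN0 : N ≠ 0 := fun h0 => hrs0 (by rw [h0] at hN; exact Nat.eq_zero_of_zero_dvd hN)
    have hc0 : c ≠ 0 := by
      rintro rfl
      rw [zero_pow hN0] at hc
      exact zero_ne_one hc
    have h4 : c ^ (Fintype.card F - 1) = 1 := FiniteField.pow_card_sub_one_eq_one c hc0
    have h5 : c ^ (r * s) = 1 := by
      obtain ⟨m, hm⟩ := hN
      rw [hm, pow_mul, hc, one_pow]
    exact pow_coprime_one c _ _ hcop h5 h4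
  have : Nonempty (Fin n) := ⟨⟨0, hn0⟩⟩
  obtain ⟨e⟩ : Nonempty (ι ⊕ Fin (n - Fintype.card ι) ≃ Fin n) :=
    ⟨Fintype.equivFinOfCardEq (by rw [Fintype.card_sum, Fintype.card_fin]; omega)⟩
  obtain ⟨φ, hφ⟩ : ∃ φ : Matrix (ι ⊕ Fin (n - Fintype.card ι)) (ι ⊕ Fin (n - Fintype.card ι)) F ≃ₐ[F]
      Matrix (Fin n) (Fin n) F, φ = Matrix.reindexAlgEquiv F F e := ⟨_, rfl⟩
  obtain ⟨H, hH⟩ : ∃ H : Matrix (ι ⊕ Fin (n - Fintype.card ι)) (ι ⊕ Fin (n - Fintype.card ι)) F,
      H = Matrix.fromBlocks h 0 0 1 := ⟨_, rfl⟩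
  have hHpow : ∀ j : ℕ, H ^ j = Matrix.fromBlocks (h ^ j) 0 0 1 := by
    intro j; rw [hH, Matrix.fromBlocks_diagonal_pow, one_pow]
  have hdet : (φ H).det = 1 := by
    rw [hφ, Matrix.det_reindexAlgEquiv, hH, Matrix.det_fromBlocks_zero₂₁, Matrix.det_one, mul_one]
    apply hscal h.det (r * s) dvd_rfl
    rw [← Matrix.det_pow, h1, Matrix.det_one]
  obtain ⟨g, hg⟩ : ∃ g : Matrix.SpecialLinearGroup (Fin n) F, g.1 = φ H := ⟨⟨φ H, hdet⟩, rfl⟩
  have hgpow : ∀ j : ℕ, (g ^ j).1 = φ (Matrix.fromBlocks (h ^ j) 0 0 1) := by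
    intro j
    have : (g ^ j).1 = g.1 ^ j := Matrix.SpecialLinearGroup.coe_pow g j
    rw [this, hg, ← hHpow, map_pow]
  have hg1 : g ^ (r * s) = 1 := by
    apply Subtype.ext
    rw [hgpow, h1, Matrix.fromBlocks_one, map_one]
    rfl
  have hkey : ∀ j j' : ℕ, j * j' = r * s → h ^ j ≠ 1 →
      g ^ j ∉ Subgroup.center (Matrix.SpecialLinearGroup (Fin n) F) := by
    intro j j' hjj hne hmem
    rw [Matrix.SpecialLinearGroup.mem_center_iff] at hmem
    obtain ⟨c, -, hc⟩ := hmem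
    have hc' : Matrix.scalar (Fin n) (c ^ j') = Matrix.scalar (Fin n) (1 : F) := by
      rw [map_pow, hc, map_one]
      have : ((g ^ j) ^ j').1 = (g ^ j).1 ^ j' := Matrix.SpecialLinearGroup.coe_pow (g ^ j) j'
      rw [← this, ← pow_mul, hjj, hg1]
      rfl
    have hc1 : c = 1 := hscal c j' (Dvd.intro_left j hjj) (Matrix.scalar_inj.1 hc')
    rw [hc1, map_one] at hc
    have h5 : φ (Matrix.fromBlocks (h ^ j) 0 0 1) = φ 1 := by
      rw [← hgpow, map_one]; exact hc.symm
    have h6 := φ.injective h5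
    rw [← Matrix.fromBlocks_one, Matrix.fromBlocks_inj] at h6
    exact hne h6.1
  refine ⟨QuotientGroup.mk g, ?_⟩
  apply orderOf_eq_of_pow_and_pow_div_prime (Nat.mul_pos hr.pos hs.pos)
  · rw [← QuotientGroup.mk_pow, hg1]; rfl
  · intro p' hp' hd
    rw [← QuotientGroup.mk_pow]
    intro hcon
    have hmem := (QuotientGroup.eq_one_iff _).1 hcon
    rcases (Nat.Prime.dvd_mul hp').1 hd with h' | h'
    · have : p' = r := (Nat.prime_dvd_prime_iff_eq hp' hr).1 h'
      rw [this, Nat.mul_div_cancel_left s hr.pos] at hmem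
      exact hkey s r (mul_comm s r) h3 hmem
    · have : p' = s := (Nat.prime_dvd_prime_iff_eq hp' hs).1 h'
      rw [this, Nat.mul_div_cancel r hs.pos] at hmem
      exact hkey r s rfl h2 hmem


theorem main {F : Type*} [Field F] [Fintype F] (p : ℕ) [Fact p.Prime] [CharP F p] (n : ℕ) (hn : 2 ≤ n) (hsmall : n = 2 → 4 ≤ Fintype.card F)
    (r s : ℕ) (hr : r.Prime) (hs : s.Prime) (hr2 : r ≠ 2) (hs2 : s ≠ 2) (hrp : r ≠ p) (hsp : s ≠ p) (hrs : r ≠ s)
    (hrG : r ∣ Nat.card (Matrix.ProjectiveSpecialLinearGroup (Fin n) F)) (hsG : s ∣ Nat.card (Matrix.ProjectiveSpecialLinearGroup (Fin n) F))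
    (k l : ℕ) (hk : k = orderOf ((Fintype.card F : ℕ) : ZMod r)) (hl : l = orderOf ((Fintype.card F : ℕ) : ZMod s))
    (h2k : 2 ≤ k) (hkl : k ≤ l) :
    (r * s ∉ Set.range (orderOf : Matrix.ProjectiveSpecialLinearGroup (Fin n) F → ℕ)) ↔ (n < k + l ∧ ¬ k ∣ l) := by
  classical
  have : Fact r.Prime := ⟨hr⟩
  have : Fact s.Prime := ⟨hs⟩
  have hk0 : 0 < k := by omega
  have hl0 : 0 < l := by omega
  have hqpos : 1 ≤ Fintype.card F := Fintype.card_pos
  have hcoprime : ∀ (r' : ℕ), r'.Prime → ∀ k' : ℕ, k' = orderOf ((Fintype.card F : ℕ) : ZMod r') →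
      2 ≤ k' → r'.Coprime (Fintype.card F - 1) := by
    intro r' hr' k' hk' h2k'
    rw [Nat.Prime.coprime_iff_not_dvd hr']
    intro hd
    have h1 := (ZMod.natCast_eq_zero_iff _ _).2 hd
    rw [Nat.cast_sub hqpos, Nat.cast_one, sub_eq_zero] at h1
    rw [h1, orderOf_one] at hk'
    omega
  have hcop : (r * s).Coprime (Fintype.card F - 1) :=
    Nat.Coprime.mul_left (hcoprime r hr k hk h2k) (hcoprime s hs l hl (by omega))
  constructor
  · intro hno
    by_contra hcon
    apply hno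
    have hcase : k + l ≤ n ∨ k ∣ l := by
      by_contra h
      push Not at h
      exact hcon ⟨h.1, h.2⟩
    obtain ⟨Ar, hAr, hAr1⟩ := exists_mat_order p r hr hrp k hk hk0
    obtain ⟨As, hAs, hAs1⟩ := exists_mat_order p s hs hsp l hl hl0
    have hcoprs : r.Coprime s := (Nat.coprime_primes hr hs).2 hrs
    rcases hcase with hc | hc
    · obtain ⟨x, hx⟩ := embed_psl (ι := Fin k ⊕ Fin l) n r s hr hs hcop (by omega)
        (by rw [Fintype.card_sum, Fintype.card_fin, Fintype.card_fin]; exact hc)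
        (Matrix.fromBlocks Ar 0 0 As)
        (by
          rw [Matrix.fromBlocks_diagonal_pow, pow_mul, hAr, one_pow, mul_comm, pow_mul, hAs,
            one_pow, Matrix.fromBlocks_one])
        (by
          rw [Matrix.fromBlocks_diagonal_pow, ← Matrix.fromBlocks_one]
          intro h
          rw [Matrix.fromBlocks_inj] at h
          exact hAs1 (pow_coprime_one As r s hcoprs h.2.2.2 hAs))
        (by
          rw [Matrix.fromBlocks_diagonal_pow, ← Matrix.fromBlocks_one]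
          intro h
          rw [Matrix.fromBlocks_inj] at h
          exact hAr1 (pow_coprime_one Ar r s hcoprs hAr h.1))
      exact ⟨x, hx⟩
    · -- l ≤ n from `s ∣ |PSL|`
      have hln : l ≤ n := by
        obtain ⟨x, hx⟩ := exists_prime_orderOf_dvd_card' s hsG
        obtain ⟨g, hg⟩ := lift_order (Subgroup.center (Matrix.SpecialLinearGroup (Fin n) F)) x s hx
        have hgs : g.1 ^ s = 1 := by
          have h1 : g ^ s = 1 := by rw [← hg, pow_orderOf_eq_one]
          have h2 : (g ^ s).1 = g.1 ^ s := Matrix.SpecialLinearGroup.coe_pow g s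
          rw [← h2, h1]; rfl
        have hg1 : g.1 ≠ 1 := by
          intro h1
          have : g = 1 := Subtype.ext h1
          rw [this, orderOf_one] at hg
          exact hs.one_lt.ne hg
        exact le_of_elt n s hs l hl hl0 g.1 hgs hg1
      -- the unit of `As`
      obtain ⟨x, hx⟩ : ∃ x : GL (Fin l) F, x.1 = As :=
        ⟨⟨As, As ^ (s - 1), by rw [← pow_succ', Nat.sub_add_cancel hs.pos, hAs],
          by rw [← pow_succ, Nat.sub_add_cancel hs.pos, hAs]⟩, rfl⟩
      have hxo : orderOf x = s := by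
        apply orderOf_eq_prime
        · apply Units.ext
          rw [Units.val_pow_eq_pow_val, hx, hAs]; rfl
        · intro h1
          apply hAs1
          rw [← hx, h1]; rfl
      obtain ⟨hcyc, hcard⟩ := Cfsg.Agent.S2638.result (F := F) (p := p) rfl hl0 hs hsp hl.symm x hxo
      have hdvd : r ∣ Nat.card ↥(Subgroup.centralizer ({x} : Set (GL (Fin l) F))) := by
        rw [hcard, ← ZMod.natCast_eq_zero_iff, Nat.cast_sub (Nat.one_le_pow _ _ hqpos)]
        push_cast
        have : ((Fintype.card F : ℕ) : ZMod r) ^ l = 1 := by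
          obtain ⟨c, hc'⟩ := hc
          rw [hc', pow_mul, hk, pow_orderOf_eq_one, one_pow]
        rw [this, sub_self]
      obtain ⟨y, hy⟩ := exists_prime_orderOf_dvd_card' r hdvd
      have hyo : orderOf (y : GL (Fin l) F) = r := by rw [Subgroup.orderOf_coe]; exact hy
      have hcomm : Commute x (y : GL (Fin l) F) :=
        Subgroup.mem_centralizer_iff.1 y.2 x (Set.mem_singleton x)
      have huo : orderOf (x * (y : GL (Fin l) F)) = s * r := by
        rw [hcomm.orderOf_mul_eq_mul_orderOf_of_coprime (by rw [hxo, hyo]; exact hcoprs.symm),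
          hxo, hyo]
      obtain ⟨u, hu⟩ : ∃ u : GL (Fin l) F, u = x * (y : GL (Fin l) F) := ⟨_, rfl⟩
      rw [← hu] at huo
      obtain ⟨x', hx'⟩ := embed_psl (ι := Fin l) n r s hr hs hcop (by omega)
        (by rw [Fintype.card_fin]; exact hln) u.1
        (by
          have h1 : u ^ (r * s) = 1 := by rw [mul_comm, ← huo, pow_orderOf_eq_one]
          rw [← Units.val_pow_eq_pow_val, h1]; rfl)
        (by
          intro hh
          have h1 : u ^ r = 1 := Units.ext (by rw [Units.val_pow_eq_pow_val]; exact hh)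
          have h2 := Nat.le_of_dvd hr.pos (huo ▸ orderOf_dvd_of_pow_eq_one h1)
          have := hs.two_le
          have := hr.pos
          nlinarith)
        (by
          intro hh
          have h1 : u ^ s = 1 := Units.ext (by rw [Units.val_pow_eq_pow_val]; exact hh)
          have h2 := Nat.le_of_dvd hs.pos (huo ▸ orderOf_dvd_of_pow_eq_one h1)
          have := hr.two_le
          have := hs.pos
          nlinarith)
      exact ⟨x', hx'⟩
  · rintro ⟨hlt, hnd⟩ ⟨x, hx⟩
    obtain ⟨g, hg⟩ := lift_order (Subgroup.center (Matrix.SpecialLinearGroup (Fin n) F)) x (r * s) hx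
    have hpw : ∀ j : ℕ, (g ^ j).1 = g.1 ^ j := fun j => Matrix.SpecialLinearGroup.coe_pow g j
    have hne : ∀ j : ℕ, 0 < j → j < r * s → g.1 ^ j ≠ 1 := by
      intro j hj0 hj hh
      have h1 : g ^ j = 1 := Subtype.ext (by rw [hpw]; exact hh)
      have h2 := Nat.le_of_dvd hj0 (hg ▸ orderOf_dvd_of_pow_eq_one h1)
      omega
    have h1 : g.1 ^ (r * s) = 1 := by
      have h1 : g ^ (r * s) = 1 := by rw [← hg, pow_orderOf_eq_one]
      rw [← hpw, h1]; rfl
    have hr1 := hr.two_le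
    have hs1 := hs.two_le
    rcases no_elt n r s hr hs k l hk hl hk0 hkl g.1 h1
      (hne r hr.pos (by nlinarith)) (hne s hs.pos (by nlinarith)) with h | h
    · omega
    · exact hnd h



/-- Adjacency of two odd primes in the prime graph of PSL(n,q): let F be a finite field of characteristic p with q elements, n ≥ 2 with PSL(n,F) simple, and let r ≠ s be odd primes different from p dividing the order of PSL(n,F). Let k and l be the multiplicative orders of q modulo r and modulo s, and suppose 2 ≤ k ≤ l. Then PSL(n,F) has NO element of order r·s if and only if k + l > n and k does not divide l. -/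
theorem result {F : Type*} [Field F] [Fintype F] (p : ℕ) [Fact p.Prime] [CharP F p] (n : ℕ) (hn : 2 ≤ n) (hsmall : n = 2 → 4 ≤ Fintype.card F)
    (r s : ℕ) (hr : r.Prime) (hs : s.Prime) (hr2 : r ≠ 2) (hs2 : s ≠ 2) (hrp : r ≠ p) (hsp : s ≠ p) (hrs : r ≠ s)
    (hrG : r ∣ Nat.card (Matrix.ProjectiveSpecialLinearGroup (Fin n) F)) (hsG : s ∣ Nat.card (Matrix.ProjectiveSpecialLinearGroup (Fin n) F))
    (k l : ℕ) (hk : k = orderOf ((Fintype.card F : ℕ) : ZMod r)) (hl : l = orderOf ((Fintype.card F : ℕ) : ZMod s))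
    (h2k : 2 ≤ k) (hkl : k ≤ l) :
    (r * s ∉ Set.range (orderOf : Matrix.ProjectiveSpecialLinearGroup (Fin n) F → ℕ)) ↔ (n < k + l ∧ ¬ k ∣ l) := by
  exact main p n hn hsmall r s hr hs hr2 hs2 hrp hsp hrs hrG hsG k l hk hl h2k hkl

end Cfsg.Agent.S2468
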