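import Mathlib
import Cfsg.Statements.S3377

set_option autoImplicit false
open Cfsg

namespace Cfsg.Agent.S3377

theorem ded3_1 {G : Type*} [Group G] {s1 s2 s3 a0 a1 a2 : G} (h : s1 * s2 * s3 = 1) (e2 : a1 * s2 = a2) (e3 : a2 * s3 = a0) : a0 * s1 = a1 := by
  subst e2
  subst e3
  have h' : s3 = (s1 * s2)⁻¹ := eq_inv_of_mul_eq_one_right h
  subst h'
  group

theorem ded3_2 {G : Type*} [Group G] {s1 s2 s3 a0 a1 a2 : G} (h : s1 * s2 * s3 = 1) (e1 : a0 * s1 = a1) (e3 : a2 * s3 = a0) : a1 * s2 = a2 := by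
  subst e3
  subst e1
  have h' : s3 = (s1 * s2)⁻¹ := eq_inv_of_mul_eq_one_right h
  subst h'
  group

theorem ded3_3 {G : Type*} [Group G] {s1 s2 s3 a0 a1 a2 : G} (h : s1 * s2 * s3 = 1) (e1 : a0 * s1 = a1) (e2 : a1 * s2 = a2) : a2 * s3 = a0 := by
  subst e1
  subst e2
  have h' : s3 = (s1 * s2)⁻¹ := eq_inv_of_mul_eq_one_right h
  subst h'
  group

theorem ded4_1 {G : Type*} [Group G] {s1 s2 s3 s4 a0 a1 a2 a3 : G} (h : s1 * s2 * s3 * s4 = 1) (e2 : a1 * s2 = a2) (e3 : a2 * s3 = a3) (e4 : a3 * s4 = a0) : a0 * s1 = a1 := by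
  subst e2
  subst e3
  subst e4
  have h' : s4 = (s1 * s2 * s3)⁻¹ := eq_inv_of_mul_eq_one_right h
  subst h'
  group

theorem ded4_2 {G : Type*} [Group G] {s1 s2 s3 s4 a0 a1 a2 a3 : G} (h : s1 * s2 * s3 * s4 = 1) (e1 : a0 * s1 = a1) (e3 : a2 * s3 = a3) (e4 : a3 * s4 = a0) : a1 * s2 = a2 := by
  subst e3
  subst e4
  subst e1
  have h' : s4 = (s1 * s2 * s3)⁻¹ := eq_inv_of_mul_eq_one_right h
  subst h'
  group

theorem ded4_3 {G : Type*} [Group G] {s1 s2 s3 s4 a0 a1 a2 a3 : G} (h : s1 * s2 * s3 * s4 = 1) (e1 : a0 * s1 = a1) (e2 : a1 * s2 = a2) (e4 : a3 * s4 = a0) : a2 * s3 = a3 := by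
  subst e4
  subst e1
  subst e2
  have h' : s4 = (s1 * s2 * s3)⁻¹ := eq_inv_of_mul_eq_one_right h
  subst h'
  group

theorem ded4_4 {G : Type*} [Group G] {s1 s2 s3 s4 a0 a1 a2 a3 : G} (h : s1 * s2 * s3 * s4 = 1) (e1 : a0 * s1 = a1) (e2 : a1 * s2 = a2) (e3 : a2 * s3 = a3) : a3 * s4 = a0 := by
  subst e1
  subst e2
  subst e3
  have h' : s4 = (s1 * s2 * s3)⁻¹ := eq_inv_of_mul_eq_one_right h
  subst h'
  group

theorem ded5_1 {G : Type*} [Group G] {s1 s2 s3 s4 s5 a0 a1 a2 a3 a4 : G} (h : s1 * s2 * s3 * s4 * s5 = 1) (e2 : a1 * s2 = a2) (e3 : a2 * s3 = a3) (e4 : a3 * s4 = a4) (e5 : a4 * s5 = a0) : a0 * s1 = a1 := by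
  subst e2
  subst e3
  subst e4
  subst e5
  have h' : s5 = (s1 * s2 * s3 * s4)⁻¹ := eq_inv_of_mul_eq_one_right h
  subst h'
  group

theorem ded5_2 {G : Type*} [Group G] {s1 s2 s3 s4 s5 a0 a1 a2 a3 a4 : G} (h : s1 * s2 * s3 * s4 * s5 = 1) (e1 : a0 * s1 = a1) (e3 : a2 * s3 = a3) (e4 : a3 * s4 = a4) (e5 : a4 * s5 = a0) : a1 * s2 = a2 := by
  subst e3
  subst e4
  subst e5
  subst e1
  have h' : s5 = (s1 * s2 * s3 * s4)⁻¹ := eq_inv_of_mul_eq_one_right h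
  subst h'
  group

theorem ded5_3 {G : Type*} [Group G] {s1 s2 s3 s4 s5 a0 a1 a2 a3 a4 : G} (h : s1 * s2 * s3 * s4 * s5 = 1) (e1 : a0 * s1 = a1) (e2 : a1 * s2 = a2) (e4 : a3 * s4 = a4) (e5 : a4 * s5 = a0) : a2 * s3 = a3 := by
  subst e4
  subst e5
  subst e1
  subst e2
  have h' : s5 = (s1 * s2 * s3 * s4)⁻¹ := eq_inv_of_mul_eq_one_right h
  subst h'
  group

theorem ded5_4 {G : Type*} [Group G] {s1 s2 s3 s4 s5 a0 a1 a2 a3 a4 : G} (h : s1 * s2 * s3 * s4 * s5 = 1) (e1 : a0 * s1 = a1) (e2 : a1 * s2 = a2) (e3 : a2 * s3 = a3) (e5 : a4 * s5 = a0) : a3 * s4 = a4 := by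
  subst e5
  subst e1
  subst e2
  subst e3
  have h' : s5 = (s1 * s2 * s3 * s4)⁻¹ := eq_inv_of_mul_eq_one_right h
  subst h'
  group

theorem ded5_5 {G : Type*} [Group G] {s1 s2 s3 s4 s5 a0 a1 a2 a3 a4 : G} (h : s1 * s2 * s3 * s4 * s5 = 1) (e1 : a0 * s1 = a1) (e2 : a1 * s2 = a2) (e3 : a2 * s3 = a3) (e4 : a3 * s4 = a4) : a4 * s5 = a0 := by
  subst e1
  subst e2
  subst e3
  subst e4
  have h' : s5 = (s1 * s2 * s3 * s4)⁻¹ := eq_inv_of_mul_eq_one_right h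
  subst h'
  group

theorem card_bound {G : Type*} [Group G] (x y : G) (hx : x * x * x = 1) (hy : y * y * y * y * y = 1)
    (hxy : x * y * x * y = 1) :
    ∃ L : List G, L.length = 60 ∧ (1 : G) ∈ L ∧ (∀ c ∈ L, c * x ∈ L) ∧ (∀ c ∈ L, c * y ∈ L) := by
  obtain ⟨w0, h0⟩ : ∃ w : G, w = 1 := ⟨_, rfl⟩
  obtain ⟨w1, h1⟩ : ∃ w : G, w = w0 * x := ⟨_, rfl⟩
  obtain ⟨w2, h2⟩ : ∃ w : G, w = w0 * y := ⟨_, rfl⟩
  obtain ⟨w3, h3⟩ : ∃ w : G, w = w1 * x := ⟨_, rfl⟩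
  obtain ⟨w4, h4⟩ : ∃ w : G, w = w1 * y := ⟨_, rfl⟩
  obtain ⟨w5, h5⟩ : ∃ w : G, w = w2 * x := ⟨_, rfl⟩
  obtain ⟨w6, h6⟩ : ∃ w : G, w = w2 * y := ⟨_, rfl⟩
  obtain ⟨w7, h7⟩ : ∃ w : G, w = w3 * y := ⟨_, rfl⟩
  obtain ⟨w8, h8⟩ : ∃ w : G, w = w4 * x := ⟨_, rfl⟩
  obtain ⟨w9, h9⟩ : ∃ w : G, w = w4 * y := ⟨_, rfl⟩
  obtain ⟨w10, h10⟩ : ∃ w : G, w = w5 * x := ⟨_, rfl⟩
  obtain ⟨w11, h11⟩ : ∃ w : G, w = w6 * x := ⟨_, rfl⟩
  obtain ⟨w12, h12⟩ : ∃ w : G, w = w6 * y := ⟨_, rfl⟩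
  obtain ⟨w13, h13⟩ : ∃ w : G, w = w7 * x := ⟨_, rfl⟩
  obtain ⟨w14, h14⟩ : ∃ w : G, w = w7 * y := ⟨_, rfl⟩
  obtain ⟨w15, h15⟩ : ∃ w : G, w = w8 * x := ⟨_, rfl⟩
  obtain ⟨w16, h16⟩ : ∃ w : G, w = w9 * x := ⟨_, rfl⟩
  obtain ⟨w17, h17⟩ : ∃ w : G, w = w9 * y := ⟨_, rfl⟩
  obtain ⟨w18, h18⟩ : ∃ w : G, w = w10 * y := ⟨_, rfl⟩
  obtain ⟨w19, h19⟩ : ∃ w : G, w = w11 * x := ⟨_, rfl⟩
  obtain ⟨w20, h20⟩ : ∃ w : G, w = w12 * x := ⟨_, rfl⟩
  obtain ⟨w21, h21⟩ : ∃ w : G, w = w13 * x := ⟨_, rfl⟩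
  obtain ⟨w22, h22⟩ : ∃ w : G, w = w14 * x := ⟨_, rfl⟩
  obtain ⟨w23, h23⟩ : ∃ w : G, w = w14 * y := ⟨_, rfl⟩
  obtain ⟨w24, h24⟩ : ∃ w : G, w = w15 * y := ⟨_, rfl⟩
  obtain ⟨w25, h25⟩ : ∃ w : G, w = w16 * x := ⟨_, rfl⟩
  obtain ⟨w26, h26⟩ : ∃ w : G, w = w17 * x := ⟨_, rfl⟩
  obtain ⟨w27, h27⟩ : ∃ w : G, w = w18 * y := ⟨_, rfl⟩
  obtain ⟨w28, h28⟩ : ∃ w : G, w = w19 * y := ⟨_, rfl⟩
  obtain ⟨w29, h29⟩ : ∃ w : G, w = w21 * y := ⟨_, rfl⟩
  obtain ⟨w30, h30⟩ : ∃ w : G, w = w22 * x := ⟨_, rfl⟩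
  obtain ⟨w31, h31⟩ : ∃ w : G, w = w23 * x := ⟨_, rfl⟩
  obtain ⟨w32, h32⟩ : ∃ w : G, w = w24 * y := ⟨_, rfl⟩
  obtain ⟨w33, h33⟩ : ∃ w : G, w = w25 * y := ⟨_, rfl⟩
  obtain ⟨w34, h34⟩ : ∃ w : G, w = w27 * x := ⟨_, rfl⟩
  obtain ⟨w35, h35⟩ : ∃ w : G, w = w27 * y := ⟨_, rfl⟩
  obtain ⟨w36, h36⟩ : ∃ w : G, w = w28 * y := ⟨_, rfl⟩
  obtain ⟨w37, h37⟩ : ∃ w : G, w = w29 * y := ⟨_, rfl⟩
  obtain ⟨w38, h38⟩ : ∃ w : G, w = w30 * y := ⟨_, rfl⟩
  obtain ⟨w39, h39⟩ : ∃ w : G, w = w32 * x := ⟨_, rfl⟩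
  obtain ⟨w40, h40⟩ : ∃ w : G, w = w32 * y := ⟨_, rfl⟩
  obtain ⟨w41, h41⟩ : ∃ w : G, w = w33 * y := ⟨_, rfl⟩
  obtain ⟨w42, h42⟩ : ∃ w : G, w = w34 * x := ⟨_, rfl⟩
  obtain ⟨w43, h43⟩ : ∃ w : G, w = w35 * x := ⟨_, rfl⟩
  obtain ⟨w44, h44⟩ : ∃ w : G, w = w36 * x := ⟨_, rfl⟩
  obtain ⟨w45, h45⟩ : ∃ w : G, w = w37 * x := ⟨_, rfl⟩
  obtain ⟨w46, h46⟩ : ∃ w : G, w = w37 * y := ⟨_, rfl⟩
  obtain ⟨w47, h47⟩ : ∃ w : G, w = w38 * y := ⟨_, rfl⟩
  obtain ⟨w48, h48⟩ : ∃ w : G, w = w39 * x := ⟨_, rfl⟩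
  obtain ⟨w49, h49⟩ : ∃ w : G, w = w40 * x := ⟨_, rfl⟩
  obtain ⟨w50, h50⟩ : ∃ w : G, w = w41 * x := ⟨_, rfl⟩
  obtain ⟨w51, h51⟩ : ∃ w : G, w = w42 * y := ⟨_, rfl⟩
  obtain ⟨w52, h52⟩ : ∃ w : G, w = w44 * x := ⟨_, rfl⟩
  obtain ⟨w53, h53⟩ : ∃ w : G, w = w45 * x := ⟨_, rfl⟩
  obtain ⟨w54, h54⟩ : ∃ w : G, w = w46 * x := ⟨_, rfl⟩
  obtain ⟨w55, h55⟩ : ∃ w : G, w = w47 * x := ⟨_, rfl⟩
  obtain ⟨w56, h56⟩ : ∃ w : G, w = w50 * x := ⟨_, rfl⟩
  obtain ⟨w57, h57⟩ : ∃ w : G, w = w51 * y := ⟨_, rfl⟩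
  obtain ⟨w58, h58⟩ : ∃ w : G, w = w52 * y := ⟨_, rfl⟩
  obtain ⟨w59, h59⟩ : ∃ w : G, w = w56 * y := ⟨_, rfl⟩
  have e_0_x : w0 * x = w1 := h1.symm
  have e_0_y : w0 * y = w2 := h2.symm
  have e_1_x : w1 * x = w3 := h3.symm
  have e_1_y : w1 * y = w4 := h4.symm
  have e_2_x : w2 * x = w5 := h5.symm
  have e_2_y : w2 * y = w6 := h6.symm
  have e_3_y : w3 * y = w7 := h7.symm
  have e_4_x : w4 * x = w8 := h8.symm
  have e_4_y : w4 * y = w9 := h9.symm
  have e_5_x : w5 * x = w10 := h10.symm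
  have e_6_x : w6 * x = w11 := h11.symm
  have e_6_y : w6 * y = w12 := h12.symm
  have e_7_x : w7 * x = w13 := h13.symm
  have e_7_y : w7 * y = w14 := h14.symm
  have e_8_x : w8 * x = w15 := h15.symm
  have e_9_x : w9 * x = w16 := h16.symm
  have e_9_y : w9 * y = w17 := h17.symm
  have e_10_y : w10 * y = w18 := h18.symm
  have e_11_x : w11 * x = w19 := h19.symm
  have e_12_x : w12 * x = w20 := h20.symm
  have e_13_x : w13 * x = w21 := h21.symm
  have e_14_x : w14 * x = w22 := h22.symm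
  have e_14_y : w14 * y = w23 := h23.symm
  have e_15_y : w15 * y = w24 := h24.symm
  have e_16_x : w16 * x = w25 := h25.symm
  have e_17_x : w17 * x = w26 := h26.symm
  have e_18_y : w18 * y = w27 := h27.symm
  have e_19_y : w19 * y = w28 := h28.symm
  have e_21_y : w21 * y = w29 := h29.symm
  have e_22_x : w22 * x = w30 := h30.symm
  have e_23_x : w23 * x = w31 := h31.symm
  have e_24_y : w24 * y = w32 := h32.symm
  have e_25_y : w25 * y = w33 := h33.symm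
  have e_27_x : w27 * x = w34 := h34.symm
  have e_27_y : w27 * y = w35 := h35.symm
  have e_28_y : w28 * y = w36 := h36.symm
  have e_29_y : w29 * y = w37 := h37.symm
  have e_30_y : w30 * y = w38 := h38.symm
  have e_32_x : w32 * x = w39 := h39.symm
  have e_32_y : w32 * y = w40 := h40.symm
  have e_33_y : w33 * y = w41 := h41.symm
  have e_34_x : w34 * x = w42 := h42.symm
  have e_35_x : w35 * x = w43 := h43.symm
  have e_36_x : w36 * x = w44 := h44.symm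
  have e_37_x : w37 * x = w45 := h45.symm
  have e_37_y : w37 * y = w46 := h46.symm
  have e_38_y : w38 * y = w47 := h47.symm
  have e_39_x : w39 * x = w48 := h48.symm
  have e_40_x : w40 * x = w49 := h49.symm
  have e_41_x : w41 * x = w50 := h50.symm
  have e_42_y : w42 * y = w51 := h51.symm
  have e_44_x : w44 * x = w52 := h52.symm
  have e_45_x : w45 * x = w53 := h53.symm
  have e_46_x : w46 * x = w54 := h54.symm
  have e_47_x : w47 * x = w55 := h55.symm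
  have e_50_x : w50 * x = w56 := h56.symm
  have e_51_y : w51 * y = w57 := h57.symm
  have e_52_y : w52 * y = w58 := h58.symm
  have e_56_y : w56 * y = w59 := h59.symm
  have e_3_x : w3 * x = w0 := ded3_3 hx e_0_x e_1_x
  have e_8_y : w8 * y = w0 := ded4_4 hxy e_0_x e_1_y e_4_x
  have e_13_y : w13 * y = w1 := ded4_4 hxy e_1_x e_3_y e_7_x
  have e_10_x : w10 * x = w2 := ded3_3 hx e_2_x e_5_x
  have e_12_y : w12 * y = w8 := ded5_3 hy e_2_y e_6_y e_8_y e_0_y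
  have e_5_y : w5 * y = w3 := ded4_2 hxy e_2_x e_3_x e_0_y
  have e_23_y : w23 * y = w5 := ded5_4 hy e_3_y e_7_y e_14_y e_5_y
  have e_15_x : w15 * x = w4 := ded3_3 hx e_4_x e_8_x
  have e_17_y : w17 * y = w13 := ded5_3 hy e_4_y e_9_y e_13_y e_1_y
  have e_18_x : w18 * x = w23 := ded4_3 hxy e_5_x e_10_y e_23_y
  have e_19_x : w19 * x = w6 := ded3_3 hx e_6_x e_11_x
  have e_11_y : w11 * y = w10 := ded4_2 hxy e_6_x e_10_x e_2_y
  have e_21_x : w21 * x = w7 := ded3_3 hx e_7_x e_13_x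
  have e_24_x : w24 * x = w12 := ded4_3 hxy e_8_x e_15_y e_12_y
  have e_25_x : w25 * x = w9 := ded3_3 hx e_9_x e_16_x
  have e_16_y : w16 * y = w15 := ded4_2 hxy e_9_x e_15_x e_4_y
  have e_35_y : w35 * y = w11 := ded5_4 hy e_10_y e_18_y e_27_y e_11_y
  have e_28_x : w28 * x = w35 := ded4_3 hxy e_11_x e_19_y e_35_y
  have e_20_x : w20 * x = w24 := ded3_2 hx e_12_x e_24_x
  have e_20_y : w20 * y = w19 := ded4_2 hxy e_12_x e_19_x e_6_y
  have e_29_x : w29 * x = w17 := ded4_3 hxy e_13_x e_21_y e_17_y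
  have e_30_x : w30 * x = w14 := ded3_3 hx e_14_x e_22_x
  have e_22_y : w22 * y = w21 := ded4_2 hxy e_14_x e_21_x e_7_y
  have e_40_y : w40 * y = w16 := ded5_4 hy e_15_y e_24_y e_32_y e_16_y
  have e_33_x : w33 * x = w40 := ded4_3 hxy e_16_x e_25_y e_40_y
  have e_26_x : w26 * x = w29 := ded3_2 hx e_17_x e_29_x
  have e_26_y : w26 * y = w25 := ded4_2 hxy e_17_x e_25_x e_9_y
  have e_31_x : w31 * x = w18 := ded3_3 hx e_18_x e_23_x
  have e_39_y : w39 * y = w20 := ded4_4 hxy e_20_x e_24_y e_32_x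
  have e_46_y : w46 * y = w22 := ded5_4 hy e_21_y e_29_y e_37_y e_22_y
  have e_38_x : w38 * x = w46 := ded4_3 hxy e_22_x e_30_y e_46_y
  have e_31_y : w31 * y = w30 := ded4_2 hxy e_23_x e_30_x e_14_y
  have e_45_y : w45 * y = w26 := ded4_4 hxy e_26_x e_29_y e_37_x
  have e_42_x : w42 * x = w27 := ded3_3 hx e_27_x e_34_x
  have e_34_y : w34 * y = w31 := ded4_2 hxy e_27_x e_31_x e_18_y
  have e_43_x : w43 * x = w28 := ded3_3 hx e_28_x e_35_x
  have e_36_y : w36 * y = w39 := ded5_2 hy e_28_y e_39_y e_20_y e_19_y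
  have e_47_y : w47 * y = w34 := ded5_3 hy e_30_y e_38_y e_34_y e_31_y
  have e_48_x : w48 * x = w32 := ded3_3 hx e_32_x e_39_x
  have e_49_x : w49 * x = w33 := ded3_3 hx e_33_x e_40_x
  have e_41_y : w41 * y = w45 := ded5_2 hy e_33_y e_45_y e_26_y e_25_y
  have e_51_x : w51 * x = w47 := ded4_3 hxy e_34_x e_42_y e_47_y
  have e_43_y : w43 * y = w42 := ded4_2 hxy e_35_x e_42_x e_27_y
  have e_52_x : w52 * x = w36 := ded3_3 hx e_36_x e_44_x
  have e_44_y : w44 * y = w43 := ded4_2 hxy e_36_x e_43_x e_28_y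
  have e_53_x : w53 * x = w37 := ded3_3 hx e_37_x e_45_x
  have e_54_x : w54 * x = w38 := ded3_3 hx e_38_x e_46_x
  have e_48_y : w48 * y = w52 := ded4_2 hxy e_39_x e_52_x e_36_y
  have e_49_y : w49 * y = w48 := ded4_2 hxy e_40_x e_48_x e_32_y
  have e_56_x : w56 * x = w41 := ded3_3 hx e_41_x e_50_x
  have e_50_y : w50 * y = w49 := ded4_2 hxy e_41_x e_49_x e_33_y
  have e_57_y : w57 * y = w44 := ded5_3 hy e_42_y e_51_y e_44_y e_43_y
  have e_58_x : w58 * x = w57 := ded4_3 hxy e_44_x e_52_y e_57_y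
  have e_53_y : w53 * y = w56 := ded4_2 hxy e_45_x e_56_x e_41_y
  have e_54_y : w54 * y = w53 := ded4_2 hxy e_46_x e_53_x e_37_y
  have e_55_x : w55 * x = w51 := ded3_2 hx e_47_x e_51_x
  have e_55_y : w55 * y = w54 := ded4_2 hxy e_47_x e_54_x e_38_y
  have e_58_y : w58 * y = w50 := ded5_3 hy e_48_y e_52_y e_50_y e_49_y
  have e_59_x : w59 * x = w58 := ded4_3 hxy e_50_x e_56_y e_58_y
  have e_59_y : w59 * y = w55 := ded5_3 hy e_53_y e_56_y e_55_y e_54_y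
  have e_57_x : w57 * x = w59 := ded4_3 hxy e_55_x e_51_y e_59_y
  refine ⟨[w0, w1, w2, w3, w4, w5, w6, w7, w8, w9, w10, w11, w12, w13, w14, w15, w16, w17, w18, w19, w20, w21, w22, w23, w24, w25, w26, w27, w28, w29, w30, w31, w32, w33, w34, w35, w36, w37, w38, w39, w40, w41, w42, w43, w44, w45, w46, w47, w48, w49, w50, w51, w52, w53, w54, w55, w56, w57, w58, w59], rfl, ?_, ?_, ?_⟩
  · rw [← h0]; simp
  · intro c hc
    simp only [List.mem_cons, List.not_mem_nil, or_false] at hc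
    rcases hc with rfl | rfl | rfl | rfl | rfl | rfl | rfl | rfl | rfl | rfl | rfl | rfl | rfl | rfl | rfl | rfl | rfl | rfl | rfl | rfl | rfl | rfl | rfl | rfl | rfl | rfl | rfl | rfl | rfl | rfl | rfl | rfl | rfl | rfl | rfl | rfl | rfl | rfl | rfl | rfl | rfl | rfl | rfl | rfl | rfl | rfl | rfl | rfl | rfl | rfl | rfl | rfl | rfl | rfl | rfl | rfl | rfl | rfl | rfl | rfl
    · rw [e_0_x]; simp
    · rw [e_1_x]; simp
    · rw [e_2_x]; simp
    · rw [e_3_x]; simp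
    · rw [e_4_x]; simp
    · rw [e_5_x]; simp
    · rw [e_6_x]; simp
    · rw [e_7_x]; simp
    · rw [e_8_x]; simp
    · rw [e_9_x]; simp
    · rw [e_10_x]; simp
    · rw [e_11_x]; simp
    · rw [e_12_x]; simp
    · rw [e_13_x]; simp
    · rw [e_14_x]; simp
    · rw [e_15_x]; simp
    · rw [e_16_x]; simp
    · rw [e_17_x]; simp
    · rw [e_18_x]; simp
    · rw [e_19_x]; simp
    · rw [e_20_x]; simp
    · rw [e_21_x]; simp
    · rw [e_22_x]; simp
    · rw [e_23_x]; simp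
    · rw [e_24_x]; simp
    · rw [e_25_x]; simp
    · rw [e_26_x]; simp
    · rw [e_27_x]; simp
    · rw [e_28_x]; simp
    · rw [e_29_x]; simp
    · rw [e_30_x]; simp
    · rw [e_31_x]; simp
    · rw [e_32_x]; simp
    · rw [e_33_x]; simp
    · rw [e_34_x]; simp
    · rw [e_35_x]; simp
    · rw [e_36_x]; simp
    · rw [e_37_x]; simp
    · rw [e_38_x]; simp
    · rw [e_39_x]; simp
    · rw [e_40_x]; simp
    · rw [e_41_x]; simp
    · rw [e_42_x]; simp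
    · rw [e_43_x]; simp
    · rw [e_44_x]; simp
    · rw [e_45_x]; simp
    · rw [e_46_x]; simp
    · rw [e_47_x]; simp
    · rw [e_48_x]; simp
    · rw [e_49_x]; simp
    · rw [e_50_x]; simp
    · rw [e_51_x]; simp
    · rw [e_52_x]; simp
    · rw [e_53_x]; simp
    · rw [e_54_x]; simp
    · rw [e_55_x]; simp
    · rw [e_56_x]; simp
    · rw [e_57_x]; simp
    · rw [e_58_x]; simp
    · rw [e_59_x]; simp
  · intro c hc
    simp only [List.mem_cons, List.not_mem_nil, or_false] at hc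
    rcases hc with rfl | rfl | rfl | rfl | rfl | rfl | rfl | rfl | rfl | rfl | rfl | rfl | rfl | rfl | rfl | rfl | rfl | rfl | rfl | rfl | rfl | rfl | rfl | rfl | rfl | rfl | rfl | rfl | rfl | rfl | rfl | rfl | rfl | rfl | rfl | rfl | rfl | rfl | rfl | rfl | rfl | rfl | rfl | rfl | rfl | rfl | rfl | rfl | rfl | rfl | rfl | rfl | rfl | rfl | rfl | rfl | rfl | rfl | rfl | rfl
    · rw [e_0_y]; simp
    · rw [e_1_y]; simp
    · rw [e_2_y]; simp
    · rw [e_3_y]; simp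
    · rw [e_4_y]; simp
    · rw [e_5_y]; simp
    · rw [e_6_y]; simp
    · rw [e_7_y]; simp
    · rw [e_8_y]; simp
    · rw [e_9_y]; simp
    · rw [e_10_y]; simp
    · rw [e_11_y]; simp
    · rw [e_12_y]; simp
    · rw [e_13_y]; simp
    · rw [e_14_y]; simp
    · rw [e_15_y]; simp
    · rw [e_16_y]; simp
    · rw [e_17_y]; simp
    · rw [e_18_y]; simp
    · rw [e_19_y]; simp
    · rw [e_20_y]; simp
    · rw [e_21_y]; simp
    · rw [e_22_y]; simp
    · rw [e_23_y]; simp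
    · rw [e_24_y]; simp
    · rw [e_25_y]; simp
    · rw [e_26_y]; simp
    · rw [e_27_y]; simp
    · rw [e_28_y]; simp
    · rw [e_29_y]; simp
    · rw [e_30_y]; simp
    · rw [e_31_y]; simp
    · rw [e_32_y]; simp
    · rw [e_33_y]; simp
    · rw [e_34_y]; simp
    · rw [e_35_y]; simp
    · rw [e_36_y]; simp
    · rw [e_37_y]; simp
    · rw [e_38_y]; simp
    · rw [e_39_y]; simp
    · rw [e_40_y]; simp
    · rw [e_41_y]; simp
    · rw [e_42_y]; simp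
    · rw [e_43_y]; simp
    · rw [e_44_y]; simp
    · rw [e_45_y]; simp
    · rw [e_46_y]; simp
    · rw [e_47_y]; simp
    · rw [e_48_y]; simp
    · rw [e_49_y]; simp
    · rw [e_50_y]; simp
    · rw [e_51_y]; simp
    · rw [e_52_y]; simp
    · rw [e_53_y]; simp
    · rw [e_54_y]; simp
    · rw [e_55_y]; simp
    · rw [e_56_y]; simp
    · rw [e_57_y]; simp
    · rw [e_58_y]; simp
    · rw [e_59_y]; simp

/-- the image of the first generator: the 3-cycle (2 3 4) -/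
def X : alternatingGroup (Fin 5) :=
  ⟨Equiv.swap (2 : Fin 5) 4 * Equiv.swap 2 3, by rw [Equiv.Perm.mem_alternatingGroup]; decide⟩

/-- the image of the second generator: the 5-cycle (0 2 4 1 3) -/
def Y : alternatingGroup (Fin 5) :=
  ⟨Equiv.swap (0 : Fin 5) 3 * Equiv.swap 0 1 * Equiv.swap 0 4 * Equiv.swap 0 2, by
    rw [Equiv.Perm.mem_alternatingGroup]; decide⟩

theorem X_pow : X ^ 3 = 1 := by
  apply Subtype.ext
  show (Equiv.swap (2 : Fin 5) 4 * Equiv.swap 2 3) ^ 3 = 1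
  decide

theorem Y_pow : Y ^ 5 = 1 := by
  apply Subtype.ext
  show (Equiv.swap (0 : Fin 5) 3 * Equiv.swap 0 1 * Equiv.swap 0 4 * Equiv.swap 0 2) ^ 5 = 1
  decide

theorem XY_pow : (X * Y) ^ 2 = 1 := by
  apply Subtype.ext
  show ((Equiv.swap (2 : Fin 5) 4 * Equiv.swap 2 3) *
    (Equiv.swap (0 : Fin 5) 3 * Equiv.swap 0 1 * Equiv.swap 0 4 * Equiv.swap 0 2)) ^ 2 = 1
  decide

theorem X_ne : X ≠ 1 := by
  intro h
  have h1 : (X : Equiv.Perm (Fin 5)) = 1 := congrArg Subtype.val h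
  revert h1
  show ¬ ((Equiv.swap (2 : Fin 5) 4 * Equiv.swap 2 3 : Equiv.Perm (Fin 5)) = 1)
  decide

theorem Y_ne : Y ≠ 1 := by
  intro h
  have h1 : (Y : Equiv.Perm (Fin 5)) = 1 := congrArg Subtype.val h
  revert h1
  show ¬ ((Equiv.swap (0 : Fin 5) 3 * Equiv.swap 0 1 * Equiv.swap 0 4 * Equiv.swap 0 2 :
    Equiv.Perm (Fin 5)) = 1)
  decide

theorem XY_ne : X * Y ≠ 1 := by
  intro h
  have h1 : ((X * Y : alternatingGroup (Fin 5)) : Equiv.Perm (Fin 5)) = 1 := congrArg Subtype.val h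
  revert h1
  show ¬ (((Equiv.swap (2 : Fin 5) 4 * Equiv.swap 2 3) *
    (Equiv.swap (0 : Fin 5) 3 * Equiv.swap 0 1 * Equiv.swap 0 4 * Equiv.swap 0 2) :
    Equiv.Perm (Fin 5)) = 1)
  decide

theorem card_A5 : Nat.card (alternatingGroup (Fin 5)) = 60 := by
  rw [Nat.card_eq_fintype_card]
  have h := two_mul_card_alternatingGroup (α := Fin 5)
  rw [Fintype.card_perm, Fintype.card_fin] at h
  have : (5 : ℕ).factorial = 120 := by decide
  omega

/-- a subgroup of `A₅` containing elements of orders 2, 3 and 5 is everything -/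
theorem eq_top_of_mem (H : Subgroup (alternatingGroup (Fin 5))) (hX : X ∈ H) (hY : Y ∈ H) : H = ⊤ := by
  have hp3 : Fact (Nat.Prime 3) := ⟨by norm_num⟩
  have hp5 : Fact (Nat.Prime 5) := ⟨by norm_num⟩
  have hp2 : Fact (Nat.Prime 2) := ⟨by norm_num⟩
  have h3 : orderOf X = 3 := orderOf_eq_prime X_pow X_ne
  have h5 : orderOf Y = 5 := orderOf_eq_prime Y_pow Y_ne
  have h2 : orderOf (X * Y) = 2 := orderOf_eq_prime XY_pow XY_ne
  have d3 : 3 ∣ Nat.card H := by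
    have h := Subgroup.orderOf_dvd_natCard H hX
    rwa [h3] at h
  have d5 : 5 ∣ Nat.card H := by
    have h := Subgroup.orderOf_dvd_natCard H hY
    rwa [h5] at h
  have d2 : 2 ∣ Nat.card H := by
    have h := Subgroup.orderOf_dvd_natCard H (H.mul_mem hX hY)
    rwa [h2] at h
  have hdvd : Nat.card H ∣ 60 := by
    have h := Subgroup.card_subgroup_dvd_card H
    rwa [card_A5] at h
  have hidx := Subgroup.card_mul_index H
  rw [card_A5] at hidx
  have h30 : 30 ∣ Nat.card H := by omega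
  have hpos : 0 < Nat.card H := Nat.card_pos
  have hcases : Nat.card H = 30 ∨ Nat.card H = 60 := by
    obtain ⟨k, hk⟩ := h30
    have hle : Nat.card H ≤ 60 := Nat.le_of_dvd (by norm_num) hdvd
    have : k = 1 ∨ k = 2 := by omega
    rcases this with rfl | rfl
    · left; omega
    · right; omega
  rcases hcases with h | h
  · exfalso
    have hi : H.index = 2 := by
      rw [h] at hidx
      omega
    have hn : H.Normal := Subgroup.normal_of_index_eq_two hi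
    have hs : IsSimpleGroup (alternatingGroup (Fin 5)) := alternatingGroup.isSimpleGroup (by simp)
    rcases hn.eq_bot_or_eq_top with hb | ht
    · rw [hb] at hX
      exact X_ne (Subgroup.mem_bot.mp hX)
    · rw [ht, Subgroup.index_top] at hi
      omega
  · apply Subgroup.eq_top_of_card_eq
    rw [h, card_A5]

/-- The alternating group of degree 5 has the presentation ⟨x, y | x³ = 1, y⁵ = 1, (xy)² = 1⟩: the group so presented is isomorphic to Alt(5). -/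
theorem result :
    Nonempty (PresentedGroup ({FreeGroup.of (0 : Fin 2) ^ 3, FreeGroup.of (1 : Fin 2) ^ 5,
        (FreeGroup.of (0 : Fin 2) * FreeGroup.of 1) ^ 2} : Set (FreeGroup (Fin 2))) ≃* alternatingGroup (Fin 5)) := by
  classical
  obtain ⟨rels, hrels⟩ : ∃ rels : Set (FreeGroup (Fin 2)), rels = {FreeGroup.of (0 : Fin 2) ^ 3,
      FreeGroup.of (1 : Fin 2) ^ 5, (FreeGroup.of (0 : Fin 2) * FreeGroup.of 1) ^ 2} := ⟨_, rfl⟩
  rw [← hrels]
  obtain ⟨x, hxdef⟩ : ∃ x : PresentedGroup rels, x = PresentedGroup.of 0 := ⟨_, rfl⟩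
  obtain ⟨y, hydef⟩ : ∃ y : PresentedGroup rels, y = PresentedGroup.of 1 := ⟨_, rfl⟩
  have hx : x * x * x = 1 := by
    have h1 : (PresentedGroup.mk rels) (FreeGroup.of (0 : Fin 2) ^ 3) = 1 :=
      PresentedGroup.one_of_mem (by rw [hrels]; simp)
    rw [map_pow] at h1
    rw [hxdef, ← h1, pow_succ, pow_succ, pow_one]
    rfl
  have hy : y * y * y * y * y = 1 := by
    have h1 : (PresentedGroup.mk rels) (FreeGroup.of (1 : Fin 2) ^ 5) = 1 :=
      PresentedGroup.one_of_mem (by rw [hrels]; simp)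
    rw [map_pow] at h1
    rw [hydef, ← h1, pow_succ, pow_succ, pow_succ, pow_succ, pow_one]
    rfl
  have hxy : x * y * x * y = 1 := by
    have h1 : (PresentedGroup.mk rels) ((FreeGroup.of (0 : Fin 2) * FreeGroup.of 1) ^ 2) = 1 :=
      PresentedGroup.one_of_mem (by rw [hrels]; simp)
    rw [map_pow, map_mul] at h1
    rw [hxdef, hydef, ← h1, pow_succ, pow_one, mul_assoc]
    rfl
  obtain ⟨L, hlen, h1L, hLx, hLy⟩ := card_bound x y hx hy hxy
  have hxinv : x⁻¹ = x * x := by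
    rw [inv_eq_iff_mul_eq_one, ← mul_assoc]
    exact hx
  have hyinv : y⁻¹ = y * y * y * y := by
    rw [inv_eq_iff_mul_eq_one, ← mul_assoc, ← mul_assoc, ← mul_assoc]
    exact hy
  have hLxi : ∀ c ∈ L, c * x⁻¹ ∈ L := by
    intro c hc
    rw [hxinv, ← mul_assoc]
    exact hLx _ (hLx _ hc)
  have hLyi : ∀ c ∈ L, c * y⁻¹ ∈ L := by
    intro c hc
    rw [hyinv, ← mul_assoc, ← mul_assoc, ← mul_assoc]
    exact hLy _ (hLy _ (hLy _ (hLy _ hc)))
  have hclosed : ∀ g : FreeGroup (Fin 2), ∀ c ∈ L, c * PresentedGroup.mk rels g ∈ L := by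
    intro g
    induction g using FreeGroup.induction_on with
    | C1 =>
      intro c hc
      rw [map_one, mul_one]
      exact hc
    | of i =>
      intro c hc
      fin_cases i
      · have h := hLx c hc
        rw [hxdef] at h
        exact h
      · have h := hLy c hc
        rw [hydef] at h
        exact h
    | inv_of i ih =>
      intro c hc
      rw [map_inv]
      fin_cases i
      · have h := hLxi c hc
        rw [hxdef] at h
        exact h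
      · have h := hLyi c hc
        rw [hydef] at h
        exact h
    | mul a b iha ihb =>
      intro c hc
      rw [map_mul, ← mul_assoc]
      exact ihb _ (iha _ hc)
  have hall : ∀ g : PresentedGroup rels, g ∈ L := by
    intro g
    obtain ⟨g', rfl⟩ := PresentedGroup.mk_surjective rels g
    have := hclosed g' 1 h1L
    rwa [one_mul] at this
  have hsurjL : Function.Surjective (fun i : Fin L.length => L.get i) := by
    intro g
    obtain ⟨i, hi⟩ := List.mem_iff_get.mp (hall g)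
    exact ⟨i, hi⟩
  have hfin : Finite (PresentedGroup rels) := Finite.of_surjective _ hsurjL
  have hcard : Nat.card (PresentedGroup rels) ≤ 60 := by
    have := Nat.card_le_card_of_surjective _ hsurjL
    rw [Nat.card_fin, hlen] at this
    exact this
  -- the homomorphism onto A₅
  have hlift : ∀ r ∈ rels, FreeGroup.lift (![X, Y] : Fin 2 → alternatingGroup (Fin 5)) r = 1 := by
    intro r hr
    rw [hrels] at hr
    simp only [Set.mem_insert_iff, Set.mem_singleton_iff] at hr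
    rcases hr with rfl | rfl | rfl
    · rw [map_pow, FreeGroup.lift_apply_of]
      exact X_pow
    · rw [map_pow, FreeGroup.lift_apply_of]
      exact Y_pow
    · rw [map_pow, map_mul, FreeGroup.lift_apply_of, FreeGroup.lift_apply_of]
      exact XY_pow
  have hf0 : (PresentedGroup.toGroup hlift) (PresentedGroup.of 0) = X := PresentedGroup.toGroup.of hlift
  have hf1 : (PresentedGroup.toGroup hlift) (PresentedGroup.of 1) = Y := PresentedGroup.toGroup.of hlift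
  have hrange : (PresentedGroup.toGroup hlift).range = ⊤ :=
    eq_top_of_mem _ ⟨_, hf0⟩ ⟨_, hf1⟩
  have hsurj : Function.Surjective (PresentedGroup.toGroup hlift) :=
    MonoidHom.range_eq_top.mp hrange
  have hbij : Function.Bijective (PresentedGroup.toGroup hlift) := by
    refine ⟨?_, hsurj⟩
    have hc2 : Nat.card (alternatingGroup (Fin 5)) ≤ Nat.card (PresentedGroup rels) :=
      Nat.card_le_card_of_surjective _ hsurj
    have hc3 : Nat.card (PresentedGroup rels) ≤ Nat.card (alternatingGroup (Fin 5)) := by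
      rw [card_A5]; exact hcard
    exact (Function.Surjective.bijective_of_nat_card_le hsurj hc3).1
  exact ⟨MulEquiv.ofBijective (PresentedGroup.toGroup hlift) hbij⟩

end Cfsg.Agent.S3377
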