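import Cfsg.Statements.S4209
-- import your own Cfsg.Agent.* helpers here

set_option autoImplicit false
open Cfsg

namespace Cfsg.Agent.S4209

open scoped commutatorElement

universe u

section basic
variable {Q : Type*} [Group Q]

theorem comm_central_mul (ζ x y : Q) (h : ∀ w : Q, ζ * w = w * ζ) : ⁅ζ * x, y⁆ = ⁅x, y⁆ := by
  rw [commutatorElement_def, commutatorElement_def]
  have e1 : ζ * x * y * (ζ * x)⁻¹ * y⁻¹ = ζ * (x * y * x⁻¹) * ζ⁻¹ * y⁻¹ := by group
  rw [e1, h (x * y * x⁻¹)]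
  group

theorem comm_mul_right' (x δ y : Q) (h1 : x * δ = δ * x) (h2 : ⁅x, y⁆ * δ = δ * ⁅x, y⁆) :
    ⁅x, δ * y⁆ = ⁅x, y⁆ := by
  have e1 : ⁅x, δ * y⁆ = (x * δ) * (y * x⁻¹ * y⁻¹) * δ⁻¹ := by
    rw [commutatorElement_def]; group
  have e2 : δ * x * (y * x⁻¹ * y⁻¹) * δ⁻¹ = δ * ⁅x, y⁆ * δ⁻¹ := by
    rw [commutatorElement_def]; group
  rw [e1, h1, e2, ← h2, mul_inv_cancel_right]

theorem comm_pow_left' (a b : Q) (hc : ∀ w : Q, ⁅a, b⁆ * w = w * ⁅a, b⁆) (m : ℕ) :
    ⁅a ^ m, b⁆ = ⁅a, b⁆ ^ m := by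
  induction m with
  | zero => simp
  | succ m ih =>
    have e1 : ⁅a ^ (m + 1), b⁆ = a ^ m * ⁅a, b⁆ * (a ^ m)⁻¹ * ⁅a ^ m, b⁆ := by
      rw [pow_succ]
      generalize a ^ m = A
      simp only [commutatorElement_def]
      group
    rw [e1, ih, ← hc (a ^ m), mul_inv_cancel_right, pow_succ']

theorem comm_pow_right' (a b : Q) (hc : ∀ w : Q, ⁅a, b⁆ * w = w * ⁅a, b⁆) (m : ℕ) :
    ⁅a, b ^ m⁆ = ⁅a, b⁆ ^ m := by
  induction m with
  | zero => simp
  | succ m ih =>
    have e1 : ⁅a, b ^ (m + 1)⁆ = ⁅a, b ^ m⁆ * (b ^ m * ⁅a, b⁆ * (b ^ m)⁻¹) := by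
      rw [pow_succ]
      generalize b ^ m = B
      simp only [commutatorElement_def]
      group
    rw [e1, ih, ← hc (b ^ m), mul_inv_cancel_right, pow_succ]

end basic

theorem three_aux (F : Type u) [Group F] (A N : Subgroup F) [N.Normal]
    (h : ⁅⁅A, (⊤ : Subgroup F)⁆, (⊤ : Subgroup F)⁆ ≤ N) :
    ⁅A, ⁅(⊤ : Subgroup F), (⊤ : Subgroup F)⁆⁆ ≤ N := by
  have hsurj := QuotientGroup.mk'_surjective N
  have h1 : ⁅⁅A.map (QuotientGroup.mk' N), (⊤ : Subgroup (F ⧸ N))⁆, (⊤ : Subgroup (F ⧸ N))⁆ = ⊥ := by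
    rw [← Subgroup.map_top_of_surjective (QuotientGroup.mk' N) hsurj, ← Subgroup.map_commutator,
      ← Subgroup.map_commutator, Subgroup.map_eq_bot_iff, QuotientGroup.ker_mk']
    exact h
  have h2 : ⁅⁅(⊤ : Subgroup (F ⧸ N)), A.map (QuotientGroup.mk' N)⁆, (⊤ : Subgroup (F ⧸ N))⁆ = ⊥ := by
    rw [Subgroup.commutator_comm ⊤ (A.map (QuotientGroup.mk' N))]; exact h1
  have h3 := Subgroup.commutator_commutator_eq_bot_of_rotate (H₁ := (⊤ : Subgroup (F ⧸ N)))
    (H₂ := (⊤ : Subgroup (F ⧸ N))) (H₃ := A.map (QuotientGroup.mk' N)) h2 h1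
  rw [Subgroup.commutator_comm ⁅(⊤ : Subgroup (F ⧸ N)), (⊤ : Subgroup (F ⧸ N))⁆
    (A.map (QuotientGroup.mk' N))] at h3
  have h4 : (⁅A, ⁅(⊤ : Subgroup F), (⊤ : Subgroup F)⁆⁆).map (QuotientGroup.mk' N) = ⊥ := by
    rw [Subgroup.map_commutator, Subgroup.map_commutator,
      Subgroup.map_top_of_surjective (QuotientGroup.mk' N) hsurj]
    exact h3
  rw [Subgroup.map_eq_bot_iff, QuotientGroup.ker_mk'] at h4
  exact h4

theorem three (F : Type u) [Group F] (k : ℕ) :
    ⁅(⊤ : Subgroup F).lowerCentralSeries k, (⊤ : Subgroup F).lowerCentralSeries 1⁆ ≤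
      (⊤ : Subgroup F).lowerCentralSeries (k + 2) :=
  three_aux F ((⊤ : Subgroup F).lowerCentralSeries k) ((⊤ : Subgroup F).lowerCentralSeries (k + 2))
    (le_refl _)

/-- Homogeneity: an endomorphism acting as the `t`-th power modulo the derived subgroup acts as the
`t^(k+1)`-th power on `γ_{k+1}/γ_{k+2}`. -/
theorem homog (F : Type u) [Group F] (θ : F →* F) (t : ℕ)
    (h0 : ∀ g : F, θ g * (g ^ t)⁻¹ ∈ (⊤ : Subgroup F).lowerCentralSeries 1) :
    ∀ k : ℕ, ∀ w ∈ (⊤ : Subgroup F).lowerCentralSeries k,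
      θ w * (w ^ (t ^ (k + 1)))⁻¹ ∈ (⊤ : Subgroup F).lowerCentralSeries (k + 1) := by
  intro k
  induction k with
  | zero =>
    intro w _
    simpa using h0 w
  | succ k ih =>
    intro w hw
    obtain ⟨π, hπ⟩ : ∃ π : F →* F ⧸ (⊤ : Subgroup F).lowerCentralSeries (k + 1 + 1),
        π = QuotientGroup.mk' ((⊤ : Subgroup F).lowerCentralSeries (k + 1 + 1)) := ⟨_, rfl⟩
    have hker : ∀ x : F, π x = 1 ↔ x ∈ (⊤ : Subgroup F).lowerCentralSeries (k + 1 + 1) := by
      intro x; rw [hπ]; exact QuotientGroup.eq_one_iff x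
    have hsurj : Function.Surjective π := by rw [hπ]; exact QuotientGroup.mk'_surjective _
    have f1 : ∀ z ∈ (⊤ : Subgroup F).lowerCentralSeries (k + 1), ∀ y, π z * y = y * π z := by
      intro z hz y
      obtain ⟨g, rfl⟩ := hsurj y
      have hc : ⁅z, g⁆ ∈ (⊤ : Subgroup F).lowerCentralSeries (k + 1 + 1) :=
        Subgroup.commutator_mem_commutator hz (Subgroup.mem_top g)
      have h1 := (hker _).mpr hc
      rw [map_commutatorElement] at h1
      exact commutatorElement_eq_one_iff_mul_comm.mp h1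
    have f2 : ∀ u ∈ (⊤ : Subgroup F).lowerCentralSeries k,
        ∀ d ∈ (⊤ : Subgroup F).lowerCentralSeries 1, π u * π d = π d * π u := by
      intro u hu d hd
      have hc : ⁅u, d⁆ ∈ (⊤ : Subgroup F).lowerCentralSeries (k + 1 + 1) :=
        three F k (Subgroup.commutator_mem_commutator hu hd)
      have h1 := (hker _).mpr hc
      rw [map_commutatorElement] at h1
      exact commutatorElement_eq_one_iff_mul_comm.mp h1
    have hgen : ∀ u ∈ (⊤ : Subgroup F).lowerCentralSeries k, ∀ g : F,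
        π (θ ⁅u, g⁆) = π ⁅u, g⁆ ^ (t ^ (k + 1 + 1)) := by
      intro u hu g
      have hz := ih u hu
      have hd := h0 g
      have eu : θ u = (θ u * (u ^ (t ^ (k + 1)))⁻¹) * u ^ (t ^ (k + 1)) := by group
      have eg : θ g = (θ g * (g ^ t)⁻¹) * g ^ t := by group
      have huS : u ^ (t ^ (k + 1)) ∈ (⊤ : Subgroup F).lowerCentralSeries k := pow_mem hu _
      have hcen1 : ∀ y, π ⁅u ^ (t ^ (k + 1)), g ^ t⁆ * y = y * π ⁅u ^ (t ^ (k + 1)), g ^ t⁆ :=
        f1 _ (Subgroup.commutator_mem_commutator huS (Subgroup.mem_top _))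
      have hcen2 : ∀ y, π ⁅u, g ^ t⁆ * y = y * π ⁅u, g ^ t⁆ :=
        f1 _ (Subgroup.commutator_mem_commutator hu (Subgroup.mem_top _))
      have hcen3 : ∀ y, π ⁅u, g⁆ * y = y * π ⁅u, g⁆ :=
        f1 _ (Subgroup.commutator_mem_commutator hu (Subgroup.mem_top _))
      simp only [map_commutatorElement, map_pow] at hcen1 hcen2 hcen3
      have e1 : π (θ u) = π (θ u * (u ^ (t ^ (k + 1)))⁻¹) * π u ^ (t ^ (k + 1)) := by
        rw [← map_pow, ← map_mul, ← eu]
      have e2 : π (θ g) = π (θ g * (g ^ t)⁻¹) * π g ^ t := by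
        rw [← map_pow, ← map_mul, ← eg]
      have hcomm1 : π u ^ (t ^ (k + 1)) * π (θ g * (g ^ t)⁻¹) =
          π (θ g * (g ^ t)⁻¹) * π u ^ (t ^ (k + 1)) := by
        rw [← map_pow]; exact f2 _ huS _ hd
      calc π (θ ⁅u, g⁆) = ⁅π (θ u), π (θ g)⁆ := by
            rw [map_commutatorElement, map_commutatorElement]
        _ = ⁅π (θ u * (u ^ (t ^ (k + 1)))⁻¹) * π u ^ (t ^ (k + 1)),
              π (θ g * (g ^ t)⁻¹) * π g ^ t⁆ := by rw [← e1, ← e2]
        _ = ⁅π u ^ (t ^ (k + 1)), π (θ g * (g ^ t)⁻¹) * π g ^ t⁆ :=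
            comm_central_mul _ _ _ (f1 _ hz)
        _ = ⁅π u ^ (t ^ (k + 1)), π g ^ t⁆ := comm_mul_right' _ _ _ hcomm1 (hcen1 _)
        _ = ⁅π u, π g ^ t⁆ ^ (t ^ (k + 1)) := comm_pow_left' _ _ hcen2 _
        _ = (⁅π u, π g⁆ ^ t) ^ (t ^ (k + 1)) := by rw [comm_pow_right' _ _ hcen3 _]
        _ = π ⁅u, g⁆ ^ (t ^ (k + 1 + 1)) := by
            rw [map_commutatorElement, ← pow_mul, ← pow_succ']
    have key : w ∈ (⊤ : Subgroup F).lowerCentralSeries (k + 1) ∧
        π (θ w) = π w ^ (t ^ (k + 1 + 1)) := by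
      have hw' : w ∈ Subgroup.closure {x | ∃ p ∈ (⊤ : Subgroup F).lowerCentralSeries k,
          ∃ q ∈ (⊤ : Subgroup F), ⁅p, q⁆ = x} := hw
      refine Subgroup.closure_induction
        (p := fun w _ => w ∈ (⊤ : Subgroup F).lowerCentralSeries (k + 1) ∧
          π (θ w) = π w ^ (t ^ (k + 1 + 1))) ?_ ?_ ?_ ?_ hw'
      · rintro x ⟨u, hu, g, _, rfl⟩
        exact ⟨Subgroup.commutator_mem_commutator hu (Subgroup.mem_top g), hgen u hu g⟩
      · exact ⟨one_mem _, by rw [map_one, map_one, one_pow]⟩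
      · rintro x y _ _ ⟨hx, ex⟩ ⟨hy, ey⟩
        refine ⟨mul_mem hx hy, ?_⟩
        simp only [map_mul]
        rw [ex, ey]
        exact ((show Commute (π x) (π y) from f1 x hx (π y)).mul_pow _).symm
      · rintro x _ ⟨hx, ex⟩
        refine ⟨inv_mem hx, ?_⟩
        simp only [map_inv]
        rw [ex, inv_pow]
    have hfin : π (θ w * (w ^ (t ^ (k + 1 + 1)))⁻¹) = 1 := by
      rw [map_mul, map_inv, map_pow, key.2, mul_inv_cancel]
    exact (hker _).mp hfin

theorem class_L (H : Type u) [Group H] (g : H) (n : ℕ) (hn : 1 ≤ n) :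
    (Subgroup.zpowers g ⊔ commutator H).lowerCentralSeries n ≤
      (⊤ : Subgroup H).lowerCentralSeries (n + 1) := by
  induction n, hn using Nat.le_induction with
  | base =>
    show ⁅Subgroup.zpowers g ⊔ commutator H, Subgroup.zpowers g ⊔ commutator H⁆ ≤ _
    rw [Subgroup.commutator_le]
    intro a ha b hb
    obtain ⟨y, hy, z, hz, rfl⟩ := Subgroup.mem_sup_of_normal_right.mp ha
    obtain ⟨y', hy', z', hz', rfl⟩ := Subgroup.mem_sup_of_normal_right.mp hb
    obtain ⟨i, rfl⟩ := Subgroup.mem_zpowers_iff.mp hy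
    obtain ⟨j, rfl⟩ := Subgroup.mem_zpowers_iff.mp hy'
    obtain ⟨π, hπ⟩ : ∃ π : H →* H ⧸ (⊤ : Subgroup H).lowerCentralSeries (1 + 1),
        π = QuotientGroup.mk' ((⊤ : Subgroup H).lowerCentralSeries (1 + 1)) := ⟨_, rfl⟩
    have hker : ∀ x : H, π x = 1 ↔ x ∈ (⊤ : Subgroup H).lowerCentralSeries (1 + 1) := by
      intro x; rw [hπ]; exact QuotientGroup.eq_one_iff x
    have hsurj : Function.Surjective π := by rw [hπ]; exact QuotientGroup.mk'_surjective _
    have hcen : ∀ d ∈ commutator H, ∀ y, Commute (π d) y := by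
      intro d hd y
      obtain ⟨x, rfl⟩ := hsurj y
      have hc : ⁅d, x⁆ ∈ (⊤ : Subgroup H).lowerCentralSeries (1 + 1) :=
        Subgroup.commutator_mem_commutator hd (Subgroup.mem_top x)
      have h1 := (hker _).mpr hc
      rw [map_commutatorElement] at h1
      exact commutatorElement_eq_one_iff_commute.mp h1
    have hcomm : Commute (π (g ^ i * z)) (π (g ^ j * z')) := by
      rw [map_mul, map_mul, map_zpow, map_zpow]
      exact Commute.mul_left
        (((Commute.refl (π g)).zpow_zpow i j).mul_right ((hcen z' hz' _).symm)) (hcen z hz _)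
    apply (hker _).mp
    rw [map_commutatorElement]
    exact commutatorElement_eq_one_iff_commute.mpr hcomm
  | succ n hn ih =>
    show ⁅(Subgroup.zpowers g ⊔ commutator H).lowerCentralSeries n,
      Subgroup.zpowers g ⊔ commutator H⁆ ≤ ⁅(⊤ : Subgroup H).lowerCentralSeries (n + 1), ⊤⁆
    exact Subgroup.commutator_mono ih le_top

theorem quot_apply {q c : ℕ}
    (ihc : ∀ (K : Type u) [Group K], (⊤ : Subgroup K).lowerCentralSeries c = ⊥ →
      (∀ u ∈ commutator K, u ^ q = 1) → ∀ x y : K, (x * y) ^ q = x ^ q * y ^ q)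
    (K : Type u) [Group K] (M : Subgroup K) [M.Normal]
    (hM1 : (⊤ : Subgroup K).lowerCentralSeries c ≤ M)
    (hM2 : ∀ u ∈ commutator K, u ^ q ∈ M) (x y : K) :
    (x ^ q * y ^ q)⁻¹ * (x * y) ^ q ∈ M := by
  have hsurj := QuotientGroup.mk'_surjective M
  have hcl : (⊤ : Subgroup (K ⧸ M)).lowerCentralSeries c = ⊥ := by
    have h := Subgroup.map_lowerCentralSeries (⊤ : Subgroup K) (QuotientGroup.mk' M) c
    rw [Subgroup.map_top_of_surjective _ hsurj] at h
    rw [← h, eq_bot_iff]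
    calc ((⊤ : Subgroup K).lowerCentralSeries c).map (QuotientGroup.mk' M)
        ≤ M.map (QuotientGroup.mk' M) := Subgroup.map_mono hM1
      _ = ⊥ := QuotientGroup.map_mk'_self M
  have hexp : ∀ u ∈ commutator (K ⧸ M), u ^ q = 1 := by
    have hc : commutator (K ⧸ M) = (commutator K).map (QuotientGroup.mk' M) := by
      rw [commutator_def, commutator_def, Subgroup.map_commutator,
        Subgroup.map_top_of_surjective _ hsurj]
    intro u hu
    rw [hc] at hu
    obtain ⟨d, hd, rfl⟩ := hu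
    rw [← map_pow]
    exact (QuotientGroup.eq_one_iff _).mpr (hM2 d hd)
  have h := ihc (K ⧸ M) hcl hexp (QuotientGroup.mk' M x) (QuotientGroup.mk' M y)
  rw [← QuotientGroup.eq]
  simpa using h.symm

theorem step1 {q c : ℕ} (hc : 1 ≤ c)
    (ihc : ∀ (K : Type u) [Group K], (⊤ : Subgroup K).lowerCentralSeries c = ⊥ →
      (∀ u ∈ commutator K, u ^ q = 1) → ∀ x y : K, (x * y) ^ q = x ^ q * y ^ q)
    (H : Type u) [Group H] (hcl : (⊤ : Subgroup H).lowerCentralSeries (c + 1) = ⊥)
    (hexp : ∀ u ∈ commutator H, u ^ q = 1) (g d : H) (hd : d ∈ commutator H) :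
    (g * d) ^ q = g ^ q := by
  have hLcl : (⊤ : Subgroup ↥(Subgroup.zpowers g ⊔ commutator H)).lowerCentralSeries c = ⊥ := by
    have h := class_L H g c hc
    rw [hcl] at h
    have h2 : ((⊤ : Subgroup ↥(Subgroup.zpowers g ⊔ commutator H)).lowerCentralSeries c).map
        (Subgroup.zpowers g ⊔ commutator H).subtype = ⊥ := by
      rw [Subgroup.top_subtype_lowerCentralSeries]; exact le_bot_iff.mp h
    exact (Subgroup.map_eq_bot_iff_of_injective _ (Subgroup.subtype_injective _)).mp h2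
  have hLexp : ∀ u ∈ commutator ↥(Subgroup.zpowers g ⊔ commutator H), u ^ q = 1 := by
    intro u hu
    have h3 : (commutator ↥(Subgroup.zpowers g ⊔ commutator H)).map
        (Subgroup.zpowers g ⊔ commutator H).subtype ≤ commutator H := by
      rw [commutator_def, commutator_def, Subgroup.map_commutator]
      exact Subgroup.commutator_mono le_top le_top
    have h4 : (u : H) ∈ commutator H := h3 (Subgroup.mem_map_of_mem _ hu)
    have h5 := hexp _ h4
    apply Subtype.ext
    simpa using h5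
  have hg : g ∈ Subgroup.zpowers g ⊔ commutator H :=
    Subgroup.mem_sup_left (Subgroup.mem_zpowers g)
  have hd' : d ∈ Subgroup.zpowers g ⊔ commutator H := Subgroup.mem_sup_right hd
  have h := ihc _ hLcl hLexp ⟨g, hg⟩ ⟨d, hd'⟩
  have h' : (g * d) ^ q = g ^ q * d ^ q := by simpa using congrArg Subtype.val h
  rw [h', hexp d hd, mul_one]

theorem exists_t (p : ℕ) [hp : Fact p.Prime] (c : ℕ) (hc1 : 1 ≤ c) (hc2 : c + 1 ≤ p - 1) :
    ∃ t : ℕ, t ≤ t ^ (c + 1) ∧ ¬ p ∣ (t ^ (c + 1) - t) := by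
  have : NeZero p := ⟨hp.out.ne_zero⟩
  obtain ⟨g, hg⟩ := IsCyclic.exists_generator (α := (ZMod p)ˣ)
  have hord : orderOf g = p - 1 := by
    rw [orderOf_eq_card_of_forall_mem_zpowers hg, Nat.card_eq_fintype_card, ZMod.card_units]
  have hgc : g ^ c ≠ 1 := by
    intro h
    have h1 := orderOf_dvd_of_pow_eq_one h
    rw [hord] at h1
    have h2 := Nat.le_of_dvd (by omega) h1
    omega
  have hle : (g : ZMod p).val ≤ (g : ZMod p).val ^ (c + 1) := Nat.le_self_pow (by omega) _
  refine ⟨(g : ZMod p).val, hle, ?_⟩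
  intro hdvd
  have h1 : (((g : ZMod p).val ^ (c + 1) - (g : ZMod p).val : ℕ) : ZMod p) = 0 :=
    (ZMod.natCast_eq_zero_iff _ _).mpr hdvd
  rw [Nat.cast_sub hle, Nat.cast_pow, ZMod.natCast_zmod_val, sub_eq_zero] at h1
  have h2 : g ^ (c + 1) = g := Units.ext (by simpa using h1)
  apply hgc
  rw [pow_succ] at h2
  exact mul_eq_right.mp h2

theorem step5 {q c : ℕ}
    (ihc : ∀ (K : Type u) [Group K], (⊤ : Subgroup K).lowerCentralSeries c = ⊥ →
      (∀ u ∈ commutator K, u ^ q = 1) → ∀ x y : K, (x * y) ^ q = x ^ q * y ^ q)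
    (H : Type u) [Group H] (hcl : (⊤ : Subgroup H).lowerCentralSeries (c + 1) = ⊥)
    (hexp : ∀ u ∈ commutator H, u ^ q = 1) (x y : H) (t : ℕ) :
    ((x ^ t) ^ q * (y ^ t) ^ q)⁻¹ * (x ^ t * y ^ t) ^ q =
      ((x ^ q * y ^ q)⁻¹ * (x * y) ^ q) ^ (t ^ (c + 1)) := by
  have hmaps : ∀ ψ : FreeGroup H →* H, ∀ v ∈ Subgroup.normalClosure
      {v : FreeGroup H | ∃ u ∈ commutator (FreeGroup H), v = u ^ q}, ψ v = 1 := by
    intro ψ v hv
    have hle : Subgroup.normalClosure
        {v : FreeGroup H | ∃ u ∈ commutator (FreeGroup H), v = u ^ q} ≤ ψ.ker := by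
      apply Subgroup.normalClosure_le_normal
      rintro v ⟨u, hu, rfl⟩
      rw [SetLike.mem_coe, MonoidHom.mem_ker, map_pow]
      apply hexp
      have h3 : (commutator (FreeGroup H)).map ψ ≤ commutator H := by
        rw [commutator_def, commutator_def, Subgroup.map_commutator]
        exact Subgroup.commutator_mono le_top le_top
      exact h3 (Subgroup.mem_map_of_mem _ hu)
    exact MonoidHom.mem_ker.mp (hle hv)
  have he := quot_apply ihc (FreeGroup H)
    ((⊤ : Subgroup (FreeGroup H)).lowerCentralSeries c ⊔ Subgroup.normalClosure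
      {v : FreeGroup H | ∃ u ∈ commutator (FreeGroup H), v = u ^ q})
    le_sup_left
    (fun u hu => (le_sup_right : Subgroup.normalClosure
      {v : FreeGroup H | ∃ u ∈ commutator (FreeGroup H), v = u ^ q} ≤ _)
      (Subgroup.subset_normalClosure ⟨u, hu, rfl⟩))
    (FreeGroup.of x) (FreeGroup.of y)
  obtain ⟨w, hw, v, hv, hwv⟩ := Subgroup.mem_sup_of_normal_right.mp he
  have h0θ : ∀ g : FreeGroup H, (FreeGroup.lift (fun h : H => FreeGroup.of h ^ t)) g * (g ^ t)⁻¹ ∈
      (⊤ : Subgroup (FreeGroup H)).lowerCentralSeries 1 := by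
    intro g
    have hab : (Abelianization.of : FreeGroup H →* Abelianization (FreeGroup H)).comp
        (FreeGroup.lift (fun h : H => FreeGroup.of h ^ t)) =
        (powMonoidHom t).comp Abelianization.of := by
      apply FreeGroup.ext_hom
      intro h
      simp
    have h1 := DFunLike.congr_fun hab g
    simp only [MonoidHom.comp_apply, powMonoidHom_apply] at h1
    show _ ∈ commutator (FreeGroup H)
    rw [← Abelianization.ker_of (FreeGroup H), MonoidHom.mem_ker, map_mul, map_inv, map_pow, h1,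
      mul_inv_cancel]
  have hA := homog (FreeGroup H) (FreeGroup.lift (fun h : H => FreeGroup.of h ^ t)) t h0θ c w hw
  have hφ : ∀ z ∈ (⊤ : Subgroup (FreeGroup H)).lowerCentralSeries (c + 1),
      (FreeGroup.lift (id : H → H)) z = 1 := by
    intro z hz
    have h3 : ((⊤ : Subgroup (FreeGroup H)).lowerCentralSeries (c + 1)).map
        (FreeGroup.lift (id : H → H)) ≤ (⊤ : Subgroup H).lowerCentralSeries (c + 1) := by
      rw [Subgroup.map_lowerCentralSeries]
      exact Subgroup.lowerCentralSeries_mono (c + 1) le_top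
    rw [hcl] at h3
    exact Subgroup.mem_bot.mp (h3 (Subgroup.mem_map_of_mem _ hz))
  have hcomp : (FreeGroup.lift (id : H → H)).comp
      (FreeGroup.lift (fun h : H => FreeGroup.of h ^ t)) = FreeGroup.lift (fun h : H => h ^ t) := by
    apply FreeGroup.ext_hom
    intro h
    simp
  have hφe : (FreeGroup.lift (id : H → H)) ((FreeGroup.of x ^ q * FreeGroup.of y ^ q)⁻¹ *
      (FreeGroup.of x * FreeGroup.of y) ^ q) = (x ^ q * y ^ q)⁻¹ * (x * y) ^ q := by simp
  have hφte : (FreeGroup.lift (fun h : H => h ^ t)) ((FreeGroup.of x ^ q * FreeGroup.of y ^ q)⁻¹ *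
      (FreeGroup.of x * FreeGroup.of y) ^ q) =
      ((x ^ t) ^ q * (y ^ t) ^ q)⁻¹ * (x ^ t * y ^ t) ^ q := by simp
  rw [← hφe, ← hφte, ← hwv, map_mul, map_mul, hmaps _ v hv, hmaps _ v hv, mul_one, mul_one,
    ← hcomp, MonoidHom.comp_apply]
  have h6 := hφ _ hA
  rw [map_mul, map_inv, map_pow, mul_inv_eq_one] at h6
  exact h6

/-- In a group of class `< p` whose derived subgroup has exponent dividing `p^n`, the `p^n`-th
power map is a homomorphism. -/
theorem powHom (p : ℕ) [hp : Fact p.Prime] (n : ℕ) :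
    ∀ c : ℕ, c ≤ p - 1 → ∀ (H : Type u) [Group H],
      (⊤ : Subgroup H).lowerCentralSeries c = ⊥ → (∀ u ∈ commutator H, u ^ (p ^ n) = 1) →
      ∀ x y : H, (x * y) ^ (p ^ n) = x ^ (p ^ n) * y ^ (p ^ n) := by
  intro c
  induction c with
  | zero =>
    intro _ H _ h0 _ x y
    have hz : ∀ z : H, z = 1 := by
      intro z
      have hz' : z ∈ (⊤ : Subgroup H).lowerCentralSeries 0 := Subgroup.mem_top z
      rw [h0] at hz'
      exact Subgroup.mem_bot.mp hz'
    rw [hz x, hz y]; simp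
  | succ c ih =>
    intro hcp H _ hcl hexp x y
    rcases Nat.eq_zero_or_pos c with rfl | hcpos
    · have hcomm : Commute x y := by
        have h1 : ⁅x, y⁆ ∈ (⊤ : Subgroup H).lowerCentralSeries (0 + 1) :=
          Subgroup.commutator_mem_commutator (Subgroup.mem_top x) (Subgroup.mem_top y)
        rw [hcl] at h1
        exact commutatorElement_eq_one_iff_commute.mp (Subgroup.mem_bot.mp h1)
      exact hcomm.mul_pow _
    · have ihc := ih (by omega)
      generalize hq : p ^ n = q at ihc hexp ⊢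
      have h1 : ∀ g d : H, d ∈ commutator H → (g * d) ^ q = g ^ q :=
        fun g d hd => step1 hcpos ihc H hcl hexp g d hd
      have h2 : ∀ g k : H, k * g ^ q = g ^ q * k := by
        intro g k
        have e1 : k * g * k⁻¹ = g * ⁅g⁻¹, k⁆ := by rw [commutatorElement_def]; group
        have e2 : (k * g * k⁻¹) ^ q = g ^ q := by
          rw [e1]
          exact h1 g _ (Subgroup.commutator_mem_commutator (Subgroup.mem_top _) (Subgroup.mem_top _))
        rw [conj_pow] at e2
        exact mul_inv_eq_iff_eq_mul.mp e2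
      have hE : (x ^ q * y ^ q)⁻¹ * (x * y) ^ q ∈ (⊤ : Subgroup H).lowerCentralSeries c :=
        quot_apply ihc H _ le_rfl (fun u hu => by rw [hexp u hu]; exact one_mem _) x y
      obtain ⟨E, hEdef⟩ : ∃ E : H, E = (x ^ q * y ^ q)⁻¹ * (x * y) ^ q := ⟨_, rfl⟩
      rw [← hEdef] at hE
      have hxy : (x * y) ^ q = (x ^ q * y ^ q) * E := by rw [hEdef]; group
      have hEc : ∀ k : H, E * k = k * E := by
        intro k
        have h3 : ⁅E, k⁆ ∈ (⊤ : Subgroup H).lowerCentralSeries (c + 1) :=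
          Subgroup.commutator_mem_commutator hE (Subgroup.mem_top k)
        rw [hcl] at h3
        exact commutatorElement_eq_one_iff_mul_comm.mp (Subgroup.mem_bot.mp h3)
      have hEq : E ^ q = 1 := by
        apply hexp
        have h3 : (⊤ : Subgroup H).lowerCentralSeries c ≤ (⊤ : Subgroup H).lowerCentralSeries 1 :=
          Subgroup.lowerCentralSeries_antitone _ hcpos
        exact h3 hE
      obtain ⟨t, ht1, ht2⟩ := exists_t p c hcpos hcp
      have h5 := step5 ihc H hcl hexp x y t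
      rw [← hEdef] at h5
      have h4 : ((x ^ t) ^ q * (y ^ t) ^ q)⁻¹ * (x ^ t * y ^ t) ^ q = E ^ t := by
        have hd : ((x * y) ^ t)⁻¹ * (x ^ t * y ^ t) ∈ commutator H := by
          rw [← Abelianization.ker_of H, MonoidHom.mem_ker]
          simp only [map_mul, map_inv, map_pow]
          rw [mul_pow, inv_mul_cancel]
        have e1 : (x ^ t * y ^ t) ^ q = ((x * y) ^ t) ^ q := by
          have h3 := h1 ((x * y) ^ t) _ hd
          rwa [mul_inv_cancel_left] at h3
        have e2 : ((x * y) ^ t) ^ q = ((x ^ q) ^ t * (y ^ q) ^ t) * E ^ t := by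
          calc ((x * y) ^ t) ^ q = ((x * y) ^ q) ^ t := pow_right_comm _ _ _
            _ = ((x ^ q * y ^ q) * E) ^ t := by rw [hxy]
            _ = (x ^ q * y ^ q) ^ t * E ^ t :=
                (show Commute (x ^ q * y ^ q) E from (hEc _).symm).mul_pow t
            _ = ((x ^ q) ^ t * (y ^ q) ^ t) * E ^ t := by
                rw [(show Commute (x ^ q) (y ^ q) from (h2 x (y ^ q)).symm).mul_pow t]
        have e4 : ((x ^ t) ^ q * (y ^ t) ^ q) *
            (((x ^ t) ^ q * (y ^ t) ^ q)⁻¹ * (x ^ t * y ^ t) ^ q) =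
            ((x ^ t) ^ q * (y ^ t) ^ q) * E ^ t := by
          rw [mul_inv_cancel_left, e1, e2, pow_right_comm x t q, pow_right_comm y t q]
        exact mul_left_cancel e4
      have h7 : E ^ (t ^ (c + 1) - t) = 1 := by
        have h8 : E ^ (t ^ (c + 1) - t) * E ^ t = E ^ t := by
          rw [← pow_add, Nat.sub_add_cancel ht1, ← h5, h4]
        exact mul_eq_right.mp h8
      have h9 : orderOf E ∣ t ^ (c + 1) - t := orderOf_dvd_of_pow_eq_one h7
      have h10 : orderOf E ∣ q := orderOf_dvd_of_pow_eq_one hEq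
      have hcop : Nat.Coprime (t ^ (c + 1) - t) q := by
        rw [← hq]
        exact Nat.Coprime.pow_right n ((Nat.Prime.coprime_iff_not_dvd hp.out).mpr ht2).symm
      have h11 : orderOf E = 1 := Nat.eq_one_of_dvd_coprimes hcop h9 h10
      have hE1 : E = 1 := orderOf_eq_one_iff.mp h11
      rw [hxy, hE1, mul_one]

/-- A finite `p`-group of nilpotency class less than `p` (the term of index `p - 1` of the lower central series of the whole group, indexed from `0`, is trivial) is a regular `p`-group. -/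
theorem result {G : Type*} [Group G] [Finite G] {p : ℕ} [Fact p.Prime] (hG : IsPGroup p G) (hcl : (⊤ : Subgroup G).lowerCentralSeries (p - 1) = ⊥) : Cfsg.IsRegularPGroup p G := by
  refine ⟨hG, fun a b n => ?_⟩
  have ha : a ∈ Subgroup.closure ({a, b} : Set G) := Subgroup.subset_closure (by simp)
  have hb : b ∈ Subgroup.closure ({a, b} : Set G) := Subgroup.subset_closure (by simp)
  have hHcl : (⊤ : Subgroup ↥(Subgroup.closure ({a, b} : Set G))).lowerCentralSeries (p - 1) ≤
      Subgroup.normalClosure {v : ↥(Subgroup.closure ({a, b} : Set G)) |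
        ∃ u ∈ commutator ↥(Subgroup.closure ({a, b} : Set G)), v = u ^ (p ^ n)} := by
    have h1 : ((⊤ : Subgroup ↥(Subgroup.closure ({a, b} : Set G))).lowerCentralSeries (p - 1)).map
        (Subgroup.closure ({a, b} : Set G)).subtype = ⊥ := by
      rw [Subgroup.top_subtype_lowerCentralSeries, eq_bot_iff, ← hcl]
      exact Subgroup.lowerCentralSeries_mono (p - 1) le_top
    rw [(Subgroup.map_eq_bot_iff_of_injective _ (Subgroup.subtype_injective _)).mp h1]
    exact bot_le
  have key := quot_apply (powHom p n (p - 1) le_rfl) ↥(Subgroup.closure ({a, b} : Set G))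
    (Subgroup.normalClosure {v : ↥(Subgroup.closure ({a, b} : Set G)) |
        ∃ u ∈ commutator ↥(Subgroup.closure ({a, b} : Set G)), v = u ^ (p ^ n)})
    hHcl (fun u hu => Subgroup.subset_normalClosure ⟨u, hu, rfl⟩) ⟨a, ha⟩ ⟨b, hb⟩
  have hWG : ∀ z ∈ Subgroup.normalClosure {v : ↥(Subgroup.closure ({a, b} : Set G)) |
        ∃ u ∈ commutator ↥(Subgroup.closure ({a, b} : Set G)), v = u ^ (p ^ n)},
      (z : G) ∈ Cfsg.powerClosure p n
        ⁅Subgroup.closure ({a, b} : Set G), Subgroup.closure ({a, b} : Set G)⁆ := by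
    intro z hz
    have hz' : z ∈ Subgroup.closure (Group.conjugatesOfSet
        {v : ↥(Subgroup.closure ({a, b} : Set G)) |
          ∃ u ∈ commutator ↥(Subgroup.closure ({a, b} : Set G)), v = u ^ (p ^ n)}) := hz
    refine Subgroup.closure_induction (p := fun (z : ↥(Subgroup.closure ({a, b} : Set G))) _ => (z : G) ∈ Cfsg.powerClosure p n
        ⁅Subgroup.closure ({a, b} : Set G), Subgroup.closure ({a, b} : Set G)⁆) ?_ ?_ ?_ ?_ hz'
    · intro z hz
      rw [Group.mem_conjugatesOfSet_iff] at hz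
      obtain ⟨s, ⟨u, hu, rfl⟩, hconj⟩ := hz
      obtain ⟨g, rfl⟩ := isConj_iff.mp hconj
      have hu' : g * u * g⁻¹ ∈ commutator ↥(Subgroup.closure ({a, b} : Set G)) :=
        (inferInstance : (commutator ↥(Subgroup.closure ({a, b} : Set G))).Normal).conj_mem u hu g
      have h3 : (commutator ↥(Subgroup.closure ({a, b} : Set G))).map
          (Subgroup.closure ({a, b} : Set G)).subtype =
          ⁅Subgroup.closure ({a, b} : Set G), Subgroup.closure ({a, b} : Set G)⁆ := by
        rw [commutator_def, Subgroup.map_commutator, ← MonoidHom.range_eq_map,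
          Subgroup.range_subtype]
      have hmem : ((g * u * g⁻¹ : ↥(Subgroup.closure ({a, b} : Set G))) : G) ∈
          ⁅Subgroup.closure ({a, b} : Set G), Subgroup.closure ({a, b} : Set G)⁆ := by
        rw [← h3]; exact Subgroup.mem_map_of_mem _ hu'
      apply Subgroup.subset_closure
      refine ⟨_, hmem, ?_⟩
      rw [← Subgroup.coe_pow, conj_pow]
    · simp [one_mem]
    · intro x y _ _ hx hy
      simpa using mul_mem hx hy
    · intro x _ hx
      simpa using inv_mem hx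
  refine ⟨(a ^ (p ^ n) * b ^ (p ^ n))⁻¹ * (a * b) ^ (p ^ n), ?_, by group⟩
  have := hWG _ key
  simpa using this

end Cfsg.Agent.S4209
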