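import Cfsg.Statements.S4210
-- import your own Cfsg.Agent.* helpers here

set_option autoImplicit false
open Cfsg

namespace Cfsg.Agent.S4210

open scoped commutatorElement

universe u

theorem powerClosure_map {G H : Type*} [Group G] [Group H] (f : G →* H) (p n : ℕ) (K : Subgroup G) :
    (Cfsg.powerClosure p n K).map f = Cfsg.powerClosure p n (K.map f) := by
  unfold Cfsg.powerClosure
  rw [MonoidHom.map_closure]
  congr 1
  ext y
  constructor
  · rintro ⟨x, ⟨z, hz, rfl⟩, rfl⟩
    exact ⟨f z, Subgroup.mem_map_of_mem _ hz, map_pow _ _ _⟩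
  · rintro ⟨x, ⟨z, hz, rfl⟩, rfl⟩
    exact ⟨z ^ p ^ n, ⟨z, hz, rfl⟩, map_pow _ _ _⟩

theorem regular_of_injective {p : ℕ} {H G : Type*} [Group H] [Group G] (f : H →* G)
    (hf : Function.Injective f) (hG : Cfsg.IsRegularPGroup p G) : Cfsg.IsRegularPGroup p H := by
  obtain ⟨hp, hreg⟩ := hG
  refine ⟨hp.of_injective f hf, ?_⟩
  intro a b n
  obtain ⟨c, hc, hceq⟩ := hreg (f a) (f b) n
  have h1 : Cfsg.powerClosure p n ⁅Subgroup.closure ({f a, f b} : Set G),
        Subgroup.closure ({f a, f b} : Set G)⁆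
      = (Cfsg.powerClosure p n ⁅Subgroup.closure ({a, b} : Set H),
        Subgroup.closure ({a, b} : Set H)⁆).map f := by
    rw [powerClosure_map, Subgroup.map_commutator, MonoidHom.map_closure, Set.image_pair]
  rw [h1] at hc
  obtain ⟨c', hc', rfl⟩ := hc
  refine ⟨c', hc', hf ?_⟩
  simpa using hceq

/-- the subgroup of `g` with `[g, s] ∈ T` for all `s ∈ S`, for `T` normal -/
def commSub {G : Type*} [Group G] (S : Set G) (T : Subgroup G) [hT : T.Normal] : Subgroup G where
  carrier := {g : G | ∀ n ∈ S, ⁅g, n⁆ ∈ T}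
  one_mem' := by
    intro n _
    rw [commutatorElement_one_left]
    exact T.one_mem
  mul_mem' := by
    intro a b ha hb n hn
    rw [commutatorElement_mul_left_eq_conj_mul]
    exact T.mul_mem (hT.conj_mem _ (hb n hn) a) (ha n hn)
  inv_mem' := by
    intro a ha n hn
    rw [commutatorElement_inv_left]
    have h1 : ⁅n, a⁆ ∈ T := by
      rw [← commutatorElement_inv]
      exact T.inv_mem (ha n hn)
    have := hT.conj_mem _ h1 a⁻¹
    simpa using this

theorem commutator_mem_of_two_gen {G : Type*} [Group G] (u v : G) (T : Subgroup G) [hT : T.Normal]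
    (hgen : Subgroup.closure ({u, v} : Set G) = ⊤) (h : ⁅u, v⁆ ∈ T) : ∀ g h : G, ⁅g, h⁆ ∈ T := by
  have h' : ⁅v, u⁆ ∈ T := by rw [← commutatorElement_inv]; exact T.inv_mem h
  have h1 : ∀ g : G, g ∈ commSub ({u, v} : Set G) T := by
    intro g
    have : Subgroup.closure ({u, v} : Set G) ≤ commSub ({u, v} : Set G) T := by
      rw [Subgroup.closure_le]
      intro x hx
      rcases hx with rfl | rfl
      · intro s hs
        rcases hs with rfl | rfl
        · rw [commutatorElement_self]; exact T.one_mem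
        · exact h
      · intro s hs
        rcases hs with rfl | rfl
        · exact h'
        · rw [commutatorElement_self]; exact T.one_mem
    exact this (hgen ▸ Subgroup.mem_top g)
  have h2 : ∀ g : G, g ∈ commSub (Set.univ : Set G) T := by
    intro g
    have : Subgroup.closure ({u, v} : Set G) ≤ commSub (Set.univ : Set G) T := by
      rw [Subgroup.closure_le]
      intro x hx s _
      have hs : ⁅s, x⁆ ∈ T := h1 s x hx
      rw [← commutatorElement_inv]; exact T.inv_mem hs
    exact this (hgen ▸ Subgroup.mem_top g)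
  intro g h
  exact h2 g h (Set.mem_univ h)

theorem key {p : ℕ} [Fact p.Prime] {D : Type u} [Group D] [Finite D]
    (hD : Cfsg.IsRegularPGroup p D)
    (IH : ∀ (H : Type u) [Group H] [Finite H], Nat.card H < Nat.card D →
      Cfsg.IsRegularPGroup p H →
      ∀ a b : H, ∀ k : ℕ, a ^ p ^ k = b ^ p ^ k ↔ (a * b⁻¹) ^ p ^ k = 1)
    (u v : D) (k : ℕ) (hgen : Subgroup.closure ({u, v} : Set D) = ⊤)
    (huv : u ^ p ^ k = (v * u * v⁻¹) ^ p ^ k) :
    ∀ x ∈ ⁅(⊤ : Subgroup D), (⊤ : Subgroup D)⁆, x ^ p ^ k = 1 := by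
  classical
  by_cases hc : Commute u v
  · have : ∀ g h : D, ⁅g, h⁆ ∈ (⊥ : Subgroup D) :=
      commutator_mem_of_two_gen u v ⊥ hgen (by rw [Subgroup.mem_bot]; exact hc.commutator_eq)
    have hle : ⁅(⊤ : Subgroup D), (⊤ : Subgroup D)⁆ ≤ ⊥ := Subgroup.commutator_le.mpr (fun g _ h _ => this g h)
    intro x hx
    rw [Subgroup.mem_bot.mp (hle hx), one_pow]
  · have hne : Subgroup.zpowers u ≠ ⊤ := by
      intro htop
      have hv : v ∈ Subgroup.zpowers u := htop ▸ Subgroup.mem_top v
      obtain ⟨m, rfl⟩ := Subgroup.mem_zpowers_iff.mp hv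
      exact hc (Commute.zpow_right (Commute.refl u) m)
    obtain ⟨M, hM, huM⟩ := (eq_top_or_exists_le_coatom (Subgroup.zpowers u)).resolve_left hne
    have hnil : Group.IsNilpotent D := hD.1.isNilpotent
    have hMn : M.Normal :=
      Subgroup.NormalizerCondition.normal_of_coatom M Group.normalizerCondition_of_isNilpotent hM
    have hcard : Nat.card M < Nat.card D := by
      by_contra hcon
      exact hM.1 (Subgroup.eq_top_of_le_card M (not_lt.mp hcon))
    have hMreg : Cfsg.IsRegularPGroup p M :=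
      regular_of_injective M.subtype M.subtype_injective hD
    have PM := IH M hcard hMreg
    have hu : u ∈ M := huM (Subgroup.mem_zpowers u)
    have hw : v * u * v⁻¹ ∈ M := hMn.conj_mem u hu v
    have h1 : ⁅u, v⁆ ^ p ^ k = 1 := by
      have := (PM ⟨u, hu⟩ ⟨v * u * v⁻¹, hw⟩ k).mp (Subtype.ext (by simpa using huv))
      have h2 := congrArg (Subtype.val) this
      simp only [Subgroup.coe_pow, Subgroup.coe_mul, Subgroup.coe_inv, Subgroup.coe_one] at h2
      rw [commutatorElement_def]
      have h3 : u * v * u⁻¹ * v⁻¹ = u * (v * u * v⁻¹)⁻¹ := by group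
      rw [h3]; exact h2
    let W : Subgroup D :=
      { carrier := {x : D | x ∈ M ∧ x ^ p ^ k = 1}
        one_mem' := ⟨M.one_mem, one_pow _⟩
        mul_mem' := by
          rintro x y ⟨hx, hx1⟩ ⟨hy, hy1⟩
          refine ⟨M.mul_mem hx hy, ?_⟩
          have := (PM ⟨x, hx⟩ (⟨y, hy⟩ : M)⁻¹ k).mp (Subtype.ext (by simp [hx1, hy1]))
          have h2 := congrArg (Subtype.val) this
          simpa using h2
        inv_mem' := by
          rintro x ⟨hx, hx1⟩
          exact ⟨M.inv_mem hx, by rw [inv_pow, hx1, inv_one]⟩ }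
    have hWn : W.Normal := ⟨by
      rintro x ⟨hx, hx1⟩ g
      exact ⟨hMn.conj_mem x hx g, by rw [conj_pow, hx1]; simp⟩⟩
    have hW : ⁅u, v⁆ ∈ W := ⟨by
      rw [commutatorElement_def]
      have : u * v * u⁻¹ * v⁻¹ = u * (v * u * v⁻¹)⁻¹ := by group
      rw [this]
      exact M.mul_mem hu (M.inv_mem hw), h1⟩
    have hle : ⁅(⊤ : Subgroup D), (⊤ : Subgroup D)⁆ ≤ W :=
      Subgroup.commutator_le.mpr (fun g _ h _ => commutator_mem_of_two_gen u v W hgen hW g h)
    intro x hx
    exact (hle hx).2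

theorem key2 {p : ℕ} [Fact p.Prime] {D : Type u} [Group D] [Finite D]
    (hD : Cfsg.IsRegularPGroup p D)
    (IH : ∀ (H : Type u) [Group H] [Finite H], Nat.card H < Nat.card D →
      Cfsg.IsRegularPGroup p H →
      ∀ a b : H, ∀ k : ℕ, a ^ p ^ k = b ^ p ^ k ↔ (a * b⁻¹) ^ p ^ k = 1)
    (a b : D) (k : ℕ) (hgen : Subgroup.closure ({a, b} : Set D) = ⊤)
    (hAB : a ^ p ^ k = b ^ p ^ k ∨ (a * b⁻¹) ^ p ^ k = 1) :
    ∀ x ∈ ⁅(⊤ : Subgroup D), (⊤ : Subgroup D)⁆, x ^ p ^ k = 1 := by
  rcases hAB with hA | hB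
  · apply key hD IH a b k hgen
    rw [conj_pow, hA]; group
  · have hgen' : Subgroup.closure ({a * b⁻¹, b} : Set D) = ⊤ := by
      rw [eq_top_iff, ← hgen, Subgroup.closure_le]
      intro x hx
      rcases hx with rfl | rfl
      · have h1 : x * b⁻¹ ∈ Subgroup.closure ({x * b⁻¹, b} : Set D) :=
          Subgroup.subset_closure (by simp)
        have h2 : b ∈ Subgroup.closure ({x * b⁻¹, b} : Set D) :=
          Subgroup.subset_closure (by simp)
        have := Subgroup.mul_mem _ h1 h2
        simpa using this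
      · exact Subgroup.subset_closure (by simp)
    apply key hD IH (a * b⁻¹) b k hgen'
    rw [conj_pow, hB]; simp

theorem main {p : ℕ} [Fact p.Prime] : ∀ n : ℕ, ∀ (G : Type u) [Group G] [Finite G],
    Nat.card G = n → Cfsg.IsRegularPGroup p G →
    ∀ a b : G, ∀ k : ℕ, a ^ p ^ k = b ^ p ^ k ↔ (a * b⁻¹) ^ p ^ k = 1 := by
  intro n
  induction n using Nat.strong_induction_on with
  | _ n ih =>
    intro G _ _ hn hG a b k
    obtain ⟨D, hDdef⟩ : ∃ D : Subgroup G, D = Subgroup.closure ({a, b} : Set G) := ⟨_, rfl⟩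
    have hDreg : Cfsg.IsRegularPGroup p D :=
      regular_of_injective D.subtype D.subtype_injective hG
    have IH : ∀ (H : Type u) [Group H] [Finite H], Nat.card H < Nat.card D →
        Cfsg.IsRegularPGroup p H →
        ∀ a b : H, ∀ k : ℕ, a ^ p ^ k = b ^ p ^ k ↔ (a * b⁻¹) ^ p ^ k = 1 := by
      intro H _ _ hH hHreg
      exact ih (Nat.card H) (lt_of_lt_of_le hH (hn ▸ Subgroup.card_le_card_group D)) H rfl hHreg
    have haD : a ∈ D := by rw [hDdef]; exact Subgroup.subset_closure (by simp)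
    have hbD : b ∈ D := by rw [hDdef]; exact Subgroup.subset_closure (by simp)
    obtain ⟨a', ha'⟩ : ∃ a' : D, (a' : G) = a := ⟨⟨a, haD⟩, rfl⟩
    obtain ⟨b', hb'⟩ : ∃ b' : D, (b' : G) = b := ⟨⟨b, hbD⟩, rfl⟩
    have hgen : Subgroup.closure ({a', b'} : Set D) = ⊤ := by
      subst hDdef
      have := Subgroup.closure_closure_coe_preimage (k := ({a, b} : Set G))
      convert this using 2
      ext x
      simp [Subtype.ext_iff, ha', hb']
    have hexp : (a ^ p ^ k = b ^ p ^ k ∨ (a * b⁻¹) ^ p ^ k = 1) →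
        ∀ x ∈ ⁅D, D⁆, x ^ p ^ k = 1 := by
      intro hAB
      have hAB' : a' ^ p ^ k = b' ^ p ^ k ∨ (a' * b'⁻¹) ^ p ^ k = 1 := by
        rcases hAB with hA | hB
        · left
          apply Subtype.ext
          simp only [Subgroup.coe_pow, ha', hb']
          exact hA
        · right
          apply Subtype.ext
          simp only [Subgroup.coe_pow, Subgroup.coe_mul, Subgroup.coe_inv, Subgroup.coe_one,
            ha', hb']
          exact hB
      have hkey := key2 hDreg IH a' b' k hgen hAB'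
      intro x hx
      have hmap : ⁅D, D⁆ = (⁅(⊤ : Subgroup D), (⊤ : Subgroup D)⁆).map D.subtype := by
        rw [Subgroup.map_commutator, ← MonoidHom.range_eq_map, Subgroup.range_subtype]
      rw [hmap] at hx
      obtain ⟨x', hx', rfl⟩ := hx
      have := hkey x' hx'
      simpa using congrArg Subtype.val this
    have hclo : Subgroup.closure ({a, b⁻¹} : Set G) = D := by
      apply le_antisymm
      · rw [Subgroup.closure_le]
        intro x hx
        rcases hx with rfl | rfl
        · exact haD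
        · exact D.inv_mem hbD
      · rw [hDdef, Subgroup.closure_le]
        intro x hx
        rcases hx with rfl | rfl
        · exact Subgroup.subset_closure (by simp)
        · have : x⁻¹ ∈ Subgroup.closure ({a, x⁻¹} : Set G) := Subgroup.subset_closure (by simp)
          simpa using Subgroup.inv_mem _ this
    have hfinal : (a ^ p ^ k = b ^ p ^ k ∨ (a * b⁻¹) ^ p ^ k = 1) →
        (a * b⁻¹) ^ p ^ k = a ^ p ^ k * (b ^ p ^ k)⁻¹ := by
      intro hAB
      obtain ⟨c, hc, hceq⟩ := hG.2 a b⁻¹ k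
      rw [hclo] at hc
      have hc1 : c = 1 := by
        have : Cfsg.powerClosure p k ⁅D, D⁆ ≤ ⊥ := by
          unfold Cfsg.powerClosure
          rw [Subgroup.closure_le]
          rintro y ⟨x, hx, rfl⟩
          rw [hexp hAB x hx]; exact Subgroup.one_mem _
        exact Subgroup.mem_bot.mp (this hc)
      rw [hceq, hc1, mul_one, inv_pow]
    constructor
    · intro h
      rw [hfinal (Or.inl h), h, mul_inv_cancel]
    · intro h
      have := hfinal (Or.inr h)
      rw [h] at this
      exact (mul_inv_eq_one.mp this.symm)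

/-- In a regular `p`-group, for all elements `a`, `b` and every power `q = p^k`: `a^q = b^q` if and only if `(ab⁻¹)^q = 1`. -/
theorem result {G : Type*} [Group G] [Finite G] {p : ℕ} [Fact p.Prime] (hG : Cfsg.IsRegularPGroup p G) (a b : G) (k : ℕ) : a ^ p ^ k = b ^ p ^ k ↔ (a * b⁻¹) ^ p ^ k = 1 := by
  exact main (Nat.card G) G rfl hG a b k

end Cfsg.Agent.S4210
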