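import Cfsg.Statements.S3872
-- import your own Cfsg.Agent.* helpers here
import Cfsg.Agent.S4209
import Cfsg.Agent.S4225

set_option autoImplicit false
open Cfsg

namespace Cfsg.Agent.S3872

theorem cyclic_of_omega {Z : Type*} [Group Z] [Finite Z] {p : ℕ} [hp : Fact p.Prime]
    (hcomm : ∀ a b : Z, a * b = b * a)
    (hZ : IsPGroup p Z) (g0 : Z) (hg0 : g0 ^ p = 1)
    (h : ∀ a : Z, a ^ p = 1 → a ∈ Subgroup.zpowers g0) : IsCyclic Z := by
  classical
  haveI := Fintype.ofFinite Z
  have hb : ∀ j : ℕ, (Finset.univ.filter (fun a : Z => a ^ (p ^ j) = 1)).card ≤ p ^ j := by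
    intro j
    induction j with
    | zero =>
      have h0 : Finset.univ.filter (fun a : Z => a ^ (p ^ 0) = 1) = {1} := by
        ext a; simp
      rw [h0]; simp
    | succ j ih =>
      have h1 := Finset.card_le_mul_card_image (f := fun a : Z => a ^ p)
        (Finset.univ.filter (fun a : Z => a ^ (p ^ (j + 1)) = 1)) p ?_
      · have h2 : (Finset.univ.filter (fun a : Z => a ^ (p ^ (j + 1)) = 1)).image
            (fun a : Z => a ^ p) ⊆ Finset.univ.filter (fun a : Z => a ^ (p ^ j) = 1) := by
          intro b hb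
          rw [Finset.mem_image] at hb
          obtain ⟨a, ha, rfl⟩ := hb
          rw [Finset.mem_filter] at ha ⊢
          refine ⟨Finset.mem_univ _, ?_⟩
          rw [← pow_mul, ← pow_succ']; exact ha.2
        calc (Finset.univ.filter (fun a : Z => a ^ (p ^ (j + 1)) = 1)).card
            ≤ p * ((Finset.univ.filter (fun a : Z => a ^ (p ^ (j + 1)) = 1)).image
              (fun a : Z => a ^ p)).card := h1
          _ ≤ p * (Finset.univ.filter (fun a : Z => a ^ (p ^ j) = 1)).card :=
              Nat.mul_le_mul_left _ (Finset.card_le_card h2)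
          _ ≤ p * p ^ j := Nat.mul_le_mul_left _ ih
          _ = p ^ (j + 1) := (pow_succ' p j).symm
      · intro b hb
        rw [Finset.mem_image] at hb
        obtain ⟨a0, ha0, rfl⟩ := hb
        have hsub : Finset.filter (fun a => a ^ p = a0 ^ p)
            (Finset.univ.filter (fun a : Z => a ^ (p ^ (j + 1)) = 1)) ⊆
            (Finset.range p).image (fun k => a0 * g0 ^ k) := by
          intro a ha
          rw [Finset.mem_filter] at ha
          have h3 : (a0⁻¹ * a) ^ p = 1 := by
            rw [(show Commute a0⁻¹ a from hcomm _ _).mul_pow p, inv_pow, ha.2, inv_mul_cancel]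
          obtain ⟨k, hk⟩ := Subgroup.mem_zpowers_iff.mp (h _ h3)
          have hp0 : (p : ℤ) ≠ 0 := by exact_mod_cast hp.out.ne_zero
          have hppos : (0 : ℤ) < p := by exact_mod_cast hp.out.pos
          rw [Finset.mem_image]
          refine ⟨(k % p).toNat, ?_, ?_⟩
          · rw [Finset.mem_range]
            have h4 := Int.emod_lt_of_pos k hppos
            have h5 := Int.emod_nonneg k hp0
            omega
          · have h4 : g0 ^ (k % p).toNat = g0 ^ k := by
              rw [← zpow_natCast, Int.toNat_of_nonneg (Int.emod_nonneg k hp0)]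
              have h6 : g0 ^ k = g0 ^ (k % p + p * (k / p)) := by rw [Int.emod_add_mul_ediv]
              rw [h6, zpow_add, zpow_mul, zpow_natCast, hg0, one_zpow, mul_one]
            rw [h4, hk, mul_inv_cancel_left]
        calc (Finset.filter (fun a => a ^ p = a0 ^ p)
              (Finset.univ.filter (fun a : Z => a ^ (p ^ (j + 1)) = 1))).card
            ≤ ((Finset.range p).image (fun k => a0 * g0 ^ k)).card := Finset.card_le_card hsub
          _ ≤ (Finset.range p).card := Finset.card_image_le
          _ = p := Finset.card_range p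
  apply isCyclic_of_card_pow_eq_one_le
  intro n hn
  obtain ⟨j, m, hm, rfl⟩ := Nat.exists_eq_pow_mul_and_not_dvd (Nat.pos_iff_ne_zero.mp hn) p
    hp.out.ne_one
  have hsub : Finset.univ.filter (fun a : Z => a ^ (p ^ j * m) = 1) ⊆
      Finset.univ.filter (fun a : Z => a ^ (p ^ j) = 1) := by
    intro a ha
    rw [Finset.mem_filter] at ha ⊢
    refine ⟨Finset.mem_univ _, ?_⟩
    obtain ⟨k, hk⟩ := hZ a
    have h1 : orderOf a ∣ p ^ j * m := orderOf_dvd_of_pow_eq_one ha.2
    have h2 : orderOf a ∣ p ^ k := orderOf_dvd_of_pow_eq_one hk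
    have h3 : Nat.Coprime (orderOf a) m := by
      obtain ⟨i, _, hi⟩ := (Nat.dvd_prime_pow hp.out).mp h2
      rw [hi]
      exact Nat.Coprime.pow_left i ((Nat.Prime.coprime_iff_not_dvd hp.out).mpr hm)
    exact orderOf_dvd_iff_pow_eq_one.mp (h3.dvd_of_dvd_mul_right h1)
  have hmpos : 0 < m := Nat.pos_of_ne_zero (by rintro rfl; simp at hn)
  calc (Finset.univ.filter (fun a : Z => a ^ (p ^ j * m) = 1)).card
      ≤ (Finset.univ.filter (fun a : Z => a ^ (p ^ j) = 1)).card := Finset.card_le_card hsub
    _ ≤ p ^ j := hb j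
    _ ≤ p ^ j * m := Nat.le_mul_of_pos_right _ hmpos

theorem lcs_strict {G : Type*} [Group G] [Group.IsNilpotent G] (k : ℕ)
    (hk : (⊤ : Subgroup G).lowerCentralSeries k ≠ ⊥) :
    (⊤ : Subgroup G).lowerCentralSeries (k + 1) ≠ (⊤ : Subgroup G).lowerCentralSeries k := by
  intro heq
  obtain ⟨m, hm⟩ := Subgroup.nilpotent_iff_lowerCentralSeries.mp (inferInstance : Group.IsNilpotent G)
  have hall : ∀ j, (⊤ : Subgroup G).lowerCentralSeries (k + j) =
      (⊤ : Subgroup G).lowerCentralSeries k := by
    intro j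
    induction j with
    | zero => rfl
    | succ j ih =>
      show ⁅(⊤ : Subgroup G).lowerCentralSeries (k + j), (⊤ : Subgroup G)⁆ = _
      rw [ih]; exact heq
  have h1 := hall m
  have h2 : (⊤ : Subgroup G).lowerCentralSeries (k + m) ≤ (⊤ : Subgroup G).lowerCentralSeries m :=
    Subgroup.lowerCentralSeries_antitone _ (Nat.le_add_left m k)
  rw [hm, h1] at h2
  exact hk (le_bot_iff.mp h2)

theorem card_growth {G : Type*} [Group G] [Finite G] {p : ℕ} [hp : Fact p.Prime] (hG : IsPGroup p G)
    (A B : Subgroup G) (hAB : A ≤ B) (hne : A ≠ B) : p * Nat.card A ≤ Nat.card B := by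
  obtain ⟨b, hb⟩ := (IsPGroup.iff_card).mp (hG.to_subgroup B)
  have hdvd : Nat.card A ∣ Nat.card B := Subgroup.card_dvd_of_le hAB
  rw [hb] at hdvd
  obtain ⟨a, hab, ha⟩ := (Nat.dvd_prime_pow hp.out).mp hdvd
  have hlt : a ≠ b := by
    rintro rfl
    exact hne (Subgroup.eq_of_le_of_card_ge hAB (by rw [ha, hb]))
  rw [ha, hb, ← pow_succ']
  exact Nat.pow_le_pow_right hp.out.pos (by omega)

theorem lcs_card {G : Type*} [Group G] [Finite G] {p : ℕ} [hp : Fact p.Prime] (hG : IsPGroup p G) :
    ∀ d k : ℕ, (⊤ : Subgroup G).lowerCentralSeries (k + d) ≠ ⊥ →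
      p ^ (d + 1) ≤ Nat.card ((⊤ : Subgroup G).lowerCentralSeries k) := by
  haveI : Group.IsNilpotent G := hG.isNilpotent
  intro d
  induction d with
  | zero =>
    intro k hk
    have h1 := card_growth hG _ _ (Subgroup.lowerCentralSeries_antitone _ (Nat.le_succ k))
      (lcs_strict k hk)
    have h2 : 0 < Nat.card ((⊤ : Subgroup G).lowerCentralSeries (k + 1)) := Nat.card_pos
    calc p ^ (0 + 1) = p * 1 := by ring
      _ ≤ p * Nat.card ((⊤ : Subgroup G).lowerCentralSeries (k + 1)) := Nat.mul_le_mul_left _ h2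
      _ ≤ _ := h1
  | succ d ih =>
    intro k hk
    have hk' : (⊤ : Subgroup G).lowerCentralSeries (k + 1 + d) ≠ ⊥ := by
      rw [show k + 1 + d = k + (d + 1) by ring]; exact hk
    have h0 : (⊤ : Subgroup G).lowerCentralSeries k ≠ ⊥ := by
      intro h
      apply hk
      have := Subgroup.lowerCentralSeries_antitone (⊤ : Subgroup G) (Nat.le_add_right k (d + 1))
      rw [h] at this
      exact le_bot_iff.mp this
    have h1 := card_growth hG _ _ (Subgroup.lowerCentralSeries_antitone _ (Nat.le_succ k))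
      (lcs_strict k h0)
    calc p ^ (d + 1 + 1) = p * p ^ (d + 1) := pow_succ' p (d + 1)
      _ ≤ p * Nat.card ((⊤ : Subgroup G).lowerCentralSeries (k + 1)) :=
          Nat.mul_le_mul_left _ (ih (k + 1) hk')
      _ ≤ _ := h1

/-- Say that a finite group is p-exponent closed when its elements of order dividing p form a subgroup. Let G be a finite p-group that is not p-exponent closed, but all of whose proper subgroups and proper quotients are. Then G is generated by two elements, has nilpotency class at least p, has exponent p², has cyclic center, and has order at least p^(p+1). -/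
theorem result {G : Type*} [Group G] [Finite G] {p : ℕ} [Fact p.Prime] (hG : IsPGroup p G)
    (hnc : ¬ (∃ H : Subgroup G, (H : Set G) = {g : G | g ^ p = 1})) (hsub : ∀ K : Subgroup G, K ≠ ⊤ → (∃ H : Subgroup ↥K, (H : Set ↥K) = {g : ↥K | g ^ p = 1}))
    (hquo : ∀ (N : Subgroup G) [N.Normal], N ≠ ⊥ → (∃ H : Subgroup (G ⧸ N), (H : Set (G ⧸ N)) = {g : (G ⧸ N) | g ^ p = 1})) :
    (∃ x y : G, Subgroup.closure ({x, y} : Set G) = ⊤) ∧ (⊤ : Subgroup G).lowerCentralSeries (p - 1) ≠ ⊥ ∧
      Monoid.exponent G = p ^ 2 ∧ IsCyclic ↥(Subgroup.center G) ∧ p ^ (p + 1) ≤ Nat.card G := by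
  classical
  have hp := (Fact.out : p.Prime)
  obtain ⟨x, y, hx, hy, hxyp⟩ : ∃ x y : G, x ^ p = 1 ∧ y ^ p = 1 ∧ (x * y) ^ p ≠ 1 := by
    by_contra hcon
    push_neg at hcon
    apply hnc
    exact ⟨{ carrier := {g : G | g ^ p = 1}
             mul_mem' := fun {a b} ha hb => hcon a b ha hb
             one_mem' := one_pow p
             inv_mem' := fun {a} ha => by
               show a⁻¹ ^ p = 1
               rw [inv_pow, show a ^ p = 1 from ha, inv_one] }, rfl⟩
  have hgen : Subgroup.closure ({x, y} : Set G) = ⊤ := by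
    by_contra hne
    obtain ⟨H, hH⟩ := hsub _ hne
    have hxK : x ∈ Subgroup.closure ({x, y} : Set G) := Subgroup.subset_closure (by simp)
    have hyK : y ∈ Subgroup.closure ({x, y} : Set G) := Subgroup.subset_closure (by simp)
    have h1 : (⟨x, hxK⟩ : ↥(Subgroup.closure ({x, y} : Set G))) ∈ H := by
      rw [← SetLike.mem_coe, hH]
      exact Subtype.ext (by simpa using hx)
    have h2 : (⟨y, hyK⟩ : ↥(Subgroup.closure ({x, y} : Set G))) ∈ H := by
      rw [← SetLike.mem_coe, hH]
      exact Subtype.ext (by simpa using hy)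
    have h3 := mul_mem h1 h2
    rw [← SetLike.mem_coe, hH] at h3
    have h4 : ((⟨x, hxK⟩ * ⟨y, hyK⟩ : ↥(Subgroup.closure ({x, y} : Set G))) ^ p) = 1 := h3
    exact hxyp (by simpa using congrArg Subtype.val h4)
  have hquoexp : ∀ (N : Subgroup G) [N.Normal], N ≠ ⊥ → ∀ g : G, g ^ p ∈ N := by
    intro N _ hN g
    obtain ⟨H, hH⟩ := hquo N hN
    have hxH : QuotientGroup.mk' N x ∈ H := by
      rw [← SetLike.mem_coe, hH]
      show (QuotientGroup.mk' N x) ^ p = 1
      rw [← map_pow, hx, map_one]
    have hyH : QuotientGroup.mk' N y ∈ H := by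
      rw [← SetLike.mem_coe, hH]
      show (QuotientGroup.mk' N y) ^ p = 1
      rw [← map_pow, hy, map_one]
    have hle : (Subgroup.closure ({x, y} : Set G)).map (QuotientGroup.mk' N) ≤ H := by
      rw [MonoidHom.map_closure, Subgroup.closure_le]
      rintro _ ⟨z, hz, rfl⟩
      rcases hz with rfl | rfl
      · exact hxH
      · exact hyH
    have hg : QuotientGroup.mk' N g ∈ H :=
      hle (Subgroup.mem_map_of_mem _ (by rw [hgen]; exact Subgroup.mem_top g))
    rw [← SetLike.mem_coe, hH] at hg
    have hg' : (QuotientGroup.mk' N g) ^ p = 1 := hg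
    rw [← map_pow] at hg'
    exact (QuotientGroup.eq_one_iff _).mp hg'
  have hcentral_normal : ∀ a : G, a ∈ Subgroup.center G → (Subgroup.zpowers a).Normal := by
    intro a ha
    constructor
    intro n hn g
    have hnc' : n ∈ Subgroup.center G := (Subgroup.zpowers_le.mpr ha) hn
    rw [Subgroup.mem_center_iff] at hnc'
    rw [hnc' g, mul_inv_cancel_right]
    exact hn
  haveI : Nontrivial G := ⟨⟨x * y, 1, fun h => hxyp (by rw [h, one_pow])⟩⟩
  have hZnt : Nontrivial (Subgroup.center G) := hG.center_nontrivial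
  have hpZ : p ∣ Nat.card (Subgroup.center G) := by
    rcases (hG.to_subgroup (Subgroup.center G)).card_eq_or_dvd with h | h
    · have := Finite.one_lt_card (α := Subgroup.center G)
      omega
    · exact h
  obtain ⟨z, hz⟩ := exists_prime_orderOf_dvd_card' p hpZ
  have hzc : (z : G) ∈ Subgroup.center G := z.2
  have hzord : orderOf (z : G) = p := by rw [Subgroup.orderOf_coe]; exact hz
  have hzp : (z : G) ^ p = 1 := by rw [← hzord]; exact pow_orderOf_eq_one _
  have hz1 : (z : G) ≠ 1 := by
    intro h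
    rw [h, orderOf_one] at hzord
    exact hp.one_lt.ne hzord
  have hp2 : ∀ g : G, g ^ (p ^ 2) = 1 := by
    intro g
    haveI := hcentral_normal _ hzc
    have h1 := hquoexp (Subgroup.zpowers (z : G)) (Subgroup.zpowers_ne_bot.mpr hz1) g
    obtain ⟨k, hk⟩ := Subgroup.mem_zpowers_iff.mp h1
    rw [pow_two, pow_mul, ← hk, ← zpow_natCast, ← zpow_mul, mul_comm, zpow_mul, zpow_natCast, hzp,
      one_zpow]
  have hexp : Monoid.exponent G = p ^ 2 := by
    have h1 : Monoid.exponent G ∣ p ^ 2 := Monoid.exponent_dvd_iff_forall_pow_eq_one.mpr hp2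
    obtain ⟨k, hk, hk'⟩ := (Nat.dvd_prime_pow hp).mp h1
    have h2 := Monoid.pow_exponent_eq_one (x * y)
    interval_cases k
    · exfalso
      rw [hk', pow_zero, pow_one] at h2
      exact hxyp (by rw [h2, one_pow])
    · exfalso
      rw [hk', pow_one] at h2
      exact hxyp h2
    · exact hk'
  have hclass : (⊤ : Subgroup G).lowerCentralSeries (p - 1) ≠ ⊥ := by
    intro hcl
    have hreg := Cfsg.Agent.S4209.result hG hcl
    obtain ⟨H, _, hH⟩ := Cfsg.Agent.S4225.result hreg 1
    apply hnc
    refine ⟨H, ?_⟩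
    rw [hH, pow_one]
  have hg0p : ((x * y) ^ p) ^ p = 1 := by rw [← pow_mul, ← pow_two]; exact hp2 _
  have hg0c : (x * y) ^ p ∈ Subgroup.center G :=
    hquoexp (Subgroup.center G) ((Subgroup.nontrivial_iff_ne_bot _).mp hZnt) (x * y)
  have hcyc : IsCyclic ↥(Subgroup.center G) := by
    apply cyclic_of_omega (fun a b => Subtype.ext (by
        have := (Subgroup.mem_center_iff.mp b.2) (a : G)
        simpa using this)) (hG.to_subgroup (Subgroup.center G)) ⟨(x * y) ^ p, hg0c⟩
    · exact Subtype.ext (by simpa using hg0p)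
    · intro a ha
      by_cases ha1 : a = 1
      · rw [ha1]; exact one_mem _
      · have hap : (a : G) ^ p = 1 := by simpa using congrArg Subtype.val ha
        have ha1' : (a : G) ≠ 1 := fun h => ha1 (Subtype.ext (by simpa using h))
        haveI := hcentral_normal _ a.2
        have h1 := hquoexp (Subgroup.zpowers (a : G)) (Subgroup.zpowers_ne_bot.mpr ha1') (x * y)
        have h2 : Subgroup.zpowers ((x * y) ^ p) = Subgroup.zpowers (a : G) := by
          apply Subgroup.eq_of_le_of_card_ge (Subgroup.zpowers_le.mpr h1)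
          rw [Nat.card_zpowers, Nat.card_zpowers, orderOf_eq_prime hap ha1',
            orderOf_eq_prime hg0p hxyp]
        have h3 : (a : G) ∈ Subgroup.zpowers ((x * y) ^ p) := by
          rw [h2]; exact Subgroup.mem_zpowers _
        obtain ⟨k, hk⟩ := Subgroup.mem_zpowers_iff.mp h3
        rw [Subgroup.mem_zpowers_iff]
        exact ⟨k, Subtype.ext (by simpa using hk)⟩
  refine ⟨⟨x, y, hgen⟩, hclass, hexp, hcyc, ?_⟩
  -- the order bound
  haveI : Group.IsNilpotent G := hG.isNilpotent
  have hp2' : 2 ≤ p := hp.two_le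
  have h1ne : (⊤ : Subgroup G).lowerCentralSeries 1 ≠ ⊥ := by
    intro h
    apply hclass
    have := Subgroup.lowerCentralSeries_antitone (⊤ : Subgroup G) (show 1 ≤ p - 1 by omega)
    rw [h] at this
    exact le_bot_iff.mp this
  have hcard1 : p ^ (p - 1) ≤ Nat.card ((⊤ : Subgroup G).lowerCentralSeries 1) := by
    have := lcs_card hG (p - 2) 1 (by rw [show 1 + (p - 2) = p - 1 by omega]; exact hclass)
    rwa [show p - 2 + 1 = p - 1 by omega] at this
  have h0ne : (⊤ : Subgroup G).lowerCentralSeries 0 ≠ ⊥ := by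
    intro h
    apply h1ne
    have := Subgroup.lowerCentralSeries_antitone (⊤ : Subgroup G) (show 0 ≤ 1 by omega)
    rw [h] at this
    exact le_bot_iff.mp this
  have hne_top : (⊤ : Subgroup G).lowerCentralSeries 1 ≠ ⊤ := Cfsg.Agent.S3872.lcs_strict 0 h0ne
  have hidx : p ^ 2 ≤ ((⊤ : Subgroup G).lowerCentralSeries 1).index := by
    obtain ⟨a, ha⟩ := (IsPGroup.iff_card).mp hG
    have hdvd : ((⊤ : Subgroup G).lowerCentralSeries 1).index ∣ Nat.card G :=
      Subgroup.index_dvd_card _
    rw [ha] at hdvd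
    obtain ⟨i, _, hi⟩ := (Nat.dvd_prime_pow hp).mp hdvd
    have hi0 : i ≠ 0 := by
      rintro rfl
      rw [pow_zero, Subgroup.index_eq_one] at hi
      exact hne_top hi
    have hi1 : i ≠ 1 := by
      rintro rfl
      rw [pow_one] at hi
      -- index p: pick g outside
      obtain ⟨g, hg⟩ : ∃ g : G, g ∉ (⊤ : Subgroup G).lowerCentralSeries 1 := by
        by_contra hcon
        push_neg at hcon
        exact hne_top (eq_top_iff.mpr (fun g _ => hcon g))
      have hL : Subgroup.zpowers g ⊔ commutator G = ⊤ := by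
        have hle : commutator G ≤ Subgroup.zpowers g ⊔ commutator G := le_sup_right
        have hne : commutator G ≠ Subgroup.zpowers g ⊔ commutator G := by
          intro h
          apply hg
          show g ∈ commutator G
          rw [h]
          exact Subgroup.mem_sup_left (Subgroup.mem_zpowers g)
        have h1 := card_growth hG _ _ hle hne
        have h2 : ((⊤ : Subgroup G).lowerCentralSeries 1).index *
            Nat.card ((⊤ : Subgroup G).lowerCentralSeries 1) = Nat.card G :=
          Subgroup.index_mul_card _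
        rw [hi] at h2
        apply Subgroup.eq_top_of_le_card
        rw [← h2]
        exact h1
      have h3 := Cfsg.Agent.S4209.class_L G g 1 le_rfl
      rw [hL] at h3
      have h4 : (⊤ : Subgroup G).lowerCentralSeries (1 + 1) = (⊤ : Subgroup G).lowerCentralSeries 1 :=
        le_antisymm (Subgroup.lowerCentralSeries_antitone _ (Nat.le_succ 1)) h3
      exact Cfsg.Agent.S3872.lcs_strict 1 h1ne h4
    rw [hi]
    exact Nat.pow_le_pow_right hp.pos (by omega)
  have hmul : ((⊤ : Subgroup G).lowerCentralSeries 1).index *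
      Nat.card ((⊤ : Subgroup G).lowerCentralSeries 1) = Nat.card G := Subgroup.index_mul_card _
  calc p ^ (p + 1) = p ^ 2 * p ^ (p - 1) := by rw [← pow_add]; congr 1; omega
    _ ≤ ((⊤ : Subgroup G).lowerCentralSeries 1).index *
        Nat.card ((⊤ : Subgroup G).lowerCentralSeries 1) := Nat.mul_le_mul hidx hcard1
    _ = Nat.card G := hmul

end Cfsg.Agent.S3872
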