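import Cfsg.Statements.S0639

import Cfsg.Agent.S0637
import Cfsg.Agent.S3872
set_option autoImplicit false
open Cfsg

namespace Cfsg.Agent.S0639

open scoped commutatorElement

universe u

theorem quot_cyclic {R : Type u} [Group R] [Finite R] {p : ℕ} [Fact p.Prime]
    (hR : IsPGroup p R)
    (hΩ : Nat.card (Subgroup.closure {x : R | x ^ p = 1}) ≤ p ^ 2)
    (hmul : ∀ x y : R, (x * y) ^ p = x ^ p * y ^ p)
    (w : R) (hw : ∀ u : R, u ^ p ≠ w) [hn : (Subgroup.zpowers w).Normal]
    (hab : ∀ a b : R, ⁅a, b⁆ ∈ Subgroup.zpowers w) :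
    IsCyclic (R ⧸ Subgroup.zpowers w) := by
  have hpp : p.Prime := Fact.out
  let φ : R →* R :=
    { toFun := fun x => x ^ p
      map_one' := one_pow p
      map_mul' := hmul }
  have hker_le : Nat.card φ.ker ≤ p ^ 2 := by
    have hle : φ.ker ≤ Subgroup.closure {x : R | x ^ p = 1} := by
      intro x hx
      apply Subgroup.subset_closure
      exact MonoidHom.mem_ker.mp hx
    exact (Subgroup.card_le_of_le hle).trans hΩ
  have hker_dvd : Nat.card φ.ker ∣ p ^ 2 := by
    obtain ⟨k, hk⟩ := IsPGroup.iff_card.mp (hR.to_subgroup φ.ker)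
    rw [hk] at hker_le ⊢
    exact pow_dvd_pow p ((Nat.pow_le_pow_iff_right hpp.one_lt).mp hker_le)
  have hidx : φ.range.index = Nat.card φ.ker := by
    have h1 : Nat.card φ.ker * Nat.card φ.range = Nat.card R := by
      rw [← Subgroup.index_ker]; exact Subgroup.card_mul_index φ.ker
    have h2 := Subgroup.card_mul_index φ.range
    have hpos : 0 < Nat.card φ.range := Nat.card_pos
    apply Nat.eq_of_mul_eq_mul_left hpos
    rw [h2, ← h1, mul_comm]
  have hwP : w ∉ φ.range := by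
    rintro ⟨u, hu⟩
    exact hw u hu
  have hlt : Nat.card φ.range < Nat.card (φ.range ⊔ Subgroup.zpowers w : Subgroup R) := by
    by_contra hcon
    have heq := Subgroup.eq_of_le_of_card_ge
      (le_sup_left : φ.range ≤ φ.range ⊔ Subgroup.zpowers w) (not_lt.mp hcon)
    apply hwP
    rw [heq]
    exact (le_sup_right : Subgroup.zpowers w ≤ φ.range ⊔ Subgroup.zpowers w)
      (Subgroup.mem_zpowers w)
  have hidx2 : (φ.range ⊔ Subgroup.zpowers w).index ∣ p := by
    have hd : (φ.range ⊔ Subgroup.zpowers w).index ∣ φ.range.index :=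
      Subgroup.index_dvd_of_le le_sup_left
    have hd2 : (φ.range ⊔ Subgroup.zpowers w).index ∣ p ^ 2 := by
      rw [hidx] at hd
      exact hd.trans hker_dvd
    obtain ⟨f, hf2, hf⟩ := (Nat.dvd_prime_pow hpp).mp hd2
    have e1 := Subgroup.card_mul_index φ.range
    have e2 := Subgroup.card_mul_index (φ.range ⊔ Subgroup.zpowers w)
    have hne : (φ.range ⊔ Subgroup.zpowers w).index < φ.range.index := by
      have hpos1 : 0 < (φ.range ⊔ Subgroup.zpowers w).index :=
        Nat.pos_of_ne_zero Subgroup.index_ne_zero_of_finite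
      by_contra hcon
      have hh : Nat.card φ.range * φ.range.index <
          Nat.card (φ.range ⊔ Subgroup.zpowers w : Subgroup R) *
            (φ.range ⊔ Subgroup.zpowers w).index := by
        calc Nat.card φ.range * φ.range.index
            ≤ Nat.card φ.range * (φ.range ⊔ Subgroup.zpowers w).index :=
              Nat.mul_le_mul_left _ (not_lt.mp hcon)
          _ < Nat.card (φ.range ⊔ Subgroup.zpowers w : Subgroup R) *
                (φ.range ⊔ Subgroup.zpowers w).index :=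
              Nat.mul_lt_mul_of_pos_right hlt hpos1
      rw [e1, e2] at hh
      exact lt_irrefl _ hh
    obtain ⟨e, he2, he⟩ := (Nat.dvd_prime_pow hpp).mp hker_dvd
    rw [hidx, he, hf] at hne
    have hfe : f < e := (Nat.pow_lt_pow_iff_right hpp.one_lt).mp hne
    rw [hf]
    have hf1 : f ≤ 1 := by omega
    calc p ^ f ∣ p ^ 1 := pow_dvd_pow p hf1
      _ = p := pow_one p
  have comm : ∀ a b : R ⧸ Subgroup.zpowers w, a * b = b * a := by
    intro a b
    induction a using QuotientGroup.induction_on with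
    | H x =>
      induction b using QuotientGroup.induction_on with
      | H y =>
        rw [← QuotientGroup.mk_mul, ← QuotientGroup.mk_mul, QuotientGroup.eq]
        have h := hab y⁻¹ x⁻¹
        have e : (x * y)⁻¹ * (y * x) = ⁅y⁻¹, x⁻¹⁆ := by
          rw [commutatorElement_def]; group
        rw [e]; exact h
  let ψ : R ⧸ Subgroup.zpowers w →* R ⧸ Subgroup.zpowers w :=
    { toFun := fun a => a ^ p
      map_one' := one_pow p
      map_mul' := fun a b => (Commute.mul_pow (comm a b) p) }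
  have hrange : ψ.range = φ.range.map (QuotientGroup.mk' (Subgroup.zpowers w)) := by
    ext a
    constructor
    · rintro ⟨b, rfl⟩
      induction b using QuotientGroup.induction_on with
      | H u =>
        exact ⟨u ^ p, ⟨u, rfl⟩, rfl⟩
    · rintro ⟨_, ⟨u, rfl⟩, rfl⟩
      exact ⟨(u : R ⧸ Subgroup.zpowers w), rfl⟩
  have hψidx : ψ.range.index ∣ p := by
    rw [hrange, Subgroup.index_map, QuotientGroup.ker_mk',
      MonoidHom.range_eq_top.mpr (QuotientGroup.mk'_surjective (Subgroup.zpowers w)),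
      Subgroup.index_top, mul_one]
    exact hidx2
  have hψker : Nat.card ψ.ker ∣ p := by
    have h1 : Nat.card ψ.ker * Nat.card ψ.range = Nat.card (R ⧸ Subgroup.zpowers w) := by
      rw [← Subgroup.index_ker]; exact Subgroup.card_mul_index ψ.ker
    have h2 := Subgroup.card_mul_index ψ.range
    have hpos : 0 < Nat.card ψ.range := Nat.card_pos
    have h3 : ψ.range.index = Nat.card ψ.ker := by
      apply Nat.eq_of_mul_eq_mul_left hpos
      rw [h2, ← h1, mul_comm]
    rw [← h3]; exact hψidx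
  have hex : ∃ g0 : R ⧸ Subgroup.zpowers w, g0 ^ p = 1 ∧
      ∀ a : R ⧸ Subgroup.zpowers w, a ^ p = 1 → a ∈ Subgroup.zpowers g0 := by
    rcases (Nat.dvd_prime hpp).mp hψker with h1 | h1
    · refine ⟨1, one_pow p, fun a ha => ?_⟩
      have hbot : ψ.ker = ⊥ := Subgroup.eq_bot_of_card_eq _ h1
      have ha' : a ∈ ψ.ker := MonoidHom.mem_ker.mpr ha
      rw [hbot, Subgroup.mem_bot] at ha'
      rw [ha']; exact Subgroup.one_mem _
    · have hne : ψ.ker ≠ ⊥ := by
        intro hbot
        rw [hbot, Subgroup.card_bot] at h1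
        exact hpp.one_lt.ne h1
      obtain ⟨⟨g0, hg0k⟩, hg01⟩ := (Subgroup.ne_bot_iff_exists_ne_one).mp hne
      have hg0 : g0 ^ p = 1 := MonoidHom.mem_ker.mp hg0k
      have hg01' : g0 ≠ 1 := fun h => hg01 (Subtype.ext h)
      have ho : orderOf g0 = p := orderOf_eq_prime hg0 hg01'
      have hle : Subgroup.zpowers g0 ≤ ψ.ker := by
        rw [Subgroup.zpowers_le]; exact hg0k
      have heq : Subgroup.zpowers g0 = ψ.ker :=
        Subgroup.eq_of_le_of_card_ge hle (by rw [h1, Nat.card_zpowers, ho])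
      refine ⟨g0, hg0, fun a ha => ?_⟩
      rw [heq]
      exact MonoidHom.mem_ker.mpr ha
  obtain ⟨g0, hg0, h⟩ := hex
  exact Cfsg.Agent.S3872.cyclic_of_omega comm (hR.to_quotient _) g0 hg0 h

theorem meta_of_pow_hom {R : Type u} [Group R] [Finite R] {p : ℕ} [Fact p.Prime]
    (hR : IsPGroup p R)
    (hΩ : Nat.card (Subgroup.closure {x : R | x ^ p = 1}) ≤ p ^ 2)
    (hnc : ¬ IsCyclic R)
    (hmul : ∀ x y : R, (x * y) ^ p = x ^ p * y ^ p)
    (d : R) (hd : ∀ a b : R, ⁅a, b⁆ ∈ Subgroup.zpowers d) : Cfsg.IsMetacyclic R := by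
  have hpp : p.Prime := Fact.out
  have : Nonempty {w : R // d ∈ Subgroup.zpowers w} := ⟨⟨d, Subgroup.mem_zpowers d⟩⟩
  obtain ⟨⟨w, hdw⟩, hmax⟩ :=
    Finite.exists_max (fun w : {w : R // d ∈ Subgroup.zpowers w} => orderOf (w : R))
  have hw : ∀ u : R, u ^ p ≠ w := by
    intro u hu
    have hwu : Subgroup.zpowers w ≤ Subgroup.zpowers u := by
      rw [Subgroup.zpowers_le, ← hu]
      exact Subgroup.pow_mem _ (Subgroup.mem_zpowers u) p
    have h1 : orderOf u ≤ orderOf w := hmax ⟨u, hwu hdw⟩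
    by_cases hu1 : u = 1
    · have hw1 : w = 1 := by rw [← hu, hu1, one_pow]
      have hd1 : d = 1 := by
        rw [hw1] at hdw
        obtain ⟨k, hk⟩ := Subgroup.mem_zpowers_iff.mp hdw
        rw [← hk, one_zpow]
      apply hnc
      have hall : ∀ g : R, g = 1 := by
        intro g
        have h2 : orderOf g ≤ orderOf w :=
          hmax ⟨g, by rw [hd1]; exact Subgroup.one_mem _⟩
        rw [hw1, orderOf_one] at h2
        have h4 : orderOf g = 1 := le_antisymm h2 (orderOf_pos g)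
        exact orderOf_eq_one_iff.mp h4
      have : Subsingleton R := ⟨fun a b => by rw [hall a, hall b]⟩
      exact isCyclic_of_subsingleton
    · obtain ⟨k, hk⟩ := (IsPGroup.iff_orderOf.mp hR) u
      have hk0 : k ≠ 0 := by
        intro h0
        rw [h0, pow_zero] at hk
        exact hu1 (orderOf_eq_one_iff.mp hk)
      have h2 : orderOf (u ^ p) = orderOf u / Nat.gcd (orderOf u) p :=
        orderOf_pow' u hpp.ne_zero
      have h3 : Nat.gcd (orderOf u) p = p := by
        rw [hk]; exact Nat.gcd_eq_right (dvd_pow_self p hk0)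
      have h4 : orderOf (u ^ p) < orderOf u := by
        rw [h2, h3]
        exact Nat.div_lt_self (orderOf_pos u) hpp.one_lt
      rw [hu] at h4
      exact absurd h1 (not_le.mpr h4)
  have hdle : Subgroup.zpowers d ≤ Subgroup.zpowers w := by
    rw [Subgroup.zpowers_le]; exact hdw
  have hn : (Subgroup.zpowers w).Normal := by
    refine ⟨fun h hh g => ?_⟩
    obtain ⟨k, rfl⟩ := Subgroup.mem_zpowers_iff.mp hh
    have h1 : g * w * g⁻¹ ∈ Subgroup.zpowers w := by
      have h2 : g * w * g⁻¹ = ⁅g, w⁆ * w := by rw [commutatorElement_def]; group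
      rw [h2]
      exact Subgroup.mul_mem _ (hdle (hd g w)) (Subgroup.mem_zpowers w)
    have h3 : g * w ^ k * g⁻¹ = (g * w * g⁻¹) ^ k := conj_zpow.symm
    rw [h3]
    exact Subgroup.zpow_mem _ h1 k
  exact ⟨Subgroup.zpowers w, hn, inferInstance,
    @quot_cyclic R _ _ p _ hR hΩ hmul w hw hn (fun a b => hdle (hd a b))⟩

theorem quot_comap_cyclic {R : Type u} [Group R] (T : Subgroup R) [T.Normal]
    (Nb : Subgroup (R ⧸ T)) [Nb.Normal] (hc2 : IsCyclic ((R ⧸ T) ⧸ Nb)) :
    IsCyclic (R ⧸ Nb.comap (QuotientGroup.mk' T)) := by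
  have h1 : T ≤ (QuotientGroup.mk' (Nb.comap (QuotientGroup.mk' T))).ker := by
    intro t ht
    rw [QuotientGroup.ker_mk']
    show (QuotientGroup.mk' T t) ∈ Nb
    have h : QuotientGroup.mk' T t = 1 := (QuotientGroup.eq_one_iff t).mpr ht
    rw [h]; exact Nb.one_mem
  have h2 : Nb ≤ (QuotientGroup.lift T
      (QuotientGroup.mk' (Nb.comap (QuotientGroup.mk' T))) h1).ker := by
    intro y hy
    obtain ⟨x, rfl⟩ := QuotientGroup.mk_surjective y
    rw [MonoidHom.mem_ker, QuotientGroup.lift_mk]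
    exact (QuotientGroup.eq_one_iff x).mpr hy
  have := hc2
  apply isCyclic_of_surjective (QuotientGroup.lift Nb (QuotientGroup.lift T
      (QuotientGroup.mk' (Nb.comap (QuotientGroup.mk' T))) h1) h2)
  intro q
  obtain ⟨x, rfl⟩ := QuotientGroup.mk_surjective q
  refine ⟨(((x : R ⧸ T)) : (R ⧸ T) ⧸ Nb), ?_⟩
  rw [QuotientGroup.lift_mk, QuotientGroup.lift_mk]
  rfl

theorem class_two_of_noncyclic {R : Type u} [Group R] [Finite R] {p : ℕ} [Fact p.Prime]
    (hR : IsPGroup p R) (T : Subgroup R) [hTn : T.Normal]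
    (hTc : T ≤ Subgroup.center R) (hTcard : Nat.card T = p)
    (hTcomm : T ≤ commutator R)
    (Nb : Subgroup (R ⧸ T)) [hNb : Nb.Normal] (hc1 : IsCyclic Nb)
    (hc2 : IsCyclic ((R ⧸ T) ⧸ Nb))
    (hN : ¬ IsCyclic (Nb.comap (QuotientGroup.mk' T))) :
    ∃ d ∈ T, ∀ a b : R, ⁅a, b⁆ ∈ Subgroup.zpowers d := by
  have hpp : p.Prime := Fact.out
  set N : Subgroup R := Nb.comap (QuotientGroup.mk' T) with hNdef
  have hTN : T ≤ N := by
    intro t ht
    show (QuotientGroup.mk' T t) ∈ Nb
    have h : QuotientGroup.mk' T t = 1 := (QuotientGroup.eq_one_iff t).mpr ht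
    rw [h]; exact Nb.one_mem
  have hNn : N.Normal := Subgroup.Normal.comap hNb _
  have hTcomm' : ∀ t ∈ T, ∀ g : R, Commute t g := fun t ht g =>
    (Subgroup.mem_center_iff.mp (hTc ht) g).symm
  have hTp : ∀ t ∈ T, t ^ p = 1 := by
    intro t ht
    have h1 : (⟨t, ht⟩ : T) ^ Nat.card T = 1 := pow_card_eq_one'
    rw [hTcard] at h1
    exact congrArg Subtype.val h1
  obtain ⟨⟨gb, hgb⟩, hgen⟩ := hc1.exists_generator
  obtain ⟨c, rfl⟩ := QuotientGroup.mk_surjective gb
  have hcN : c ∈ N := hgb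
  have hNform : ∀ n ∈ N, ∃ i : ℤ, ∃ t ∈ T, n = c ^ i * t := by
    intro n hn
    have h1 := hgen ⟨(n : R ⧸ T), hn⟩
    obtain ⟨i, hi⟩ := Subgroup.mem_zpowers_iff.mp h1
    have h3 : ((c : R ⧸ T)) ^ i = (n : R ⧸ T) := congrArg Subtype.val hi
    have h2 : ((c ^ i : R) : R ⧸ T) = (n : R ⧸ T) := by
      rw [QuotientGroup.mk_zpow]; exact h3
    exact ⟨i, (c ^ i)⁻¹ * n, QuotientGroup.eq.mp h2, by group⟩
  obtain ⟨xb, hxb⟩ := hc2.exists_generator
  obtain ⟨xb', rfl⟩ := QuotientGroup.mk_surjective xb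
  obtain ⟨x, rfl⟩ := QuotientGroup.mk_surjective xb'
  have hRform : ∀ g : R, ∃ k : ℕ, ∃ n ∈ N, g = x ^ k * n := by
    intro g
    have h1 := hxb (((g : R ⧸ T)) : (R ⧸ T) ⧸ Nb)
    rw [← mem_powers_iff_mem_zpowers] at h1
    obtain ⟨k, hk⟩ := (Submonoid.mem_powers_iff _ _).mp h1
    have h2 : ((((x ^ k : R) : R ⧸ T)) : (R ⧸ T) ⧸ Nb) =
        (((g : R ⧸ T)) : (R ⧸ T) ⧸ Nb) := by
      rw [QuotientGroup.mk_pow, QuotientGroup.mk_pow]; exact hk
    have h3 := QuotientGroup.eq.mp h2
    refine ⟨k, (x ^ k)⁻¹ * g, ?_, by group⟩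
    show (((x ^ k)⁻¹ * g : R) : R ⧸ T) ∈ Nb
    rw [QuotientGroup.mk_mul, QuotientGroup.mk_inv]
    exact h3
  have hNab : ∀ a ∈ N, ∀ b ∈ N, Commute a b := by
    intro a ha b hb
    obtain ⟨i, t, ht, rfl⟩ := hNform a ha
    obtain ⟨j, s, hs, rfl⟩ := hNform b hb
    exact Commute.mul_left
      (Commute.mul_right ((Commute.refl c).zpow_zpow i j) (hTcomm' s hs _).symm)
      (hTcomm' t ht _)
  have hcx : ∀ n ∈ N, ⁅n, x⁆ ∈ N := by
    intro n hn
    have h1 : x * n⁻¹ * x⁻¹ ∈ N := hNn.conj_mem _ (N.inv_mem hn) x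
    have h2 : ⁅n, x⁆ = n * (x * n⁻¹ * x⁻¹) := by rw [commutatorElement_def]; group
    rw [h2]; exact N.mul_mem hn h1
  let θ : N →* N :=
    { toFun := fun n => ⟨⁅(n : R), x⁆, hcx n n.2⟩
      map_one' := by
        apply Subtype.ext
        show ⁅(1 : R), x⁆ = 1
        rw [commutatorElement_def]; group
      map_mul' := by
        intro a b
        apply Subtype.ext
        show ⁅(a : R) * (b : R), x⁆ = ⁅(a : R), x⁆ * ⁅(b : R), x⁆
        have e1 : ⁅(a : R) * (b : R), x⁆ =
            (a : R) * ⁅(b : R), x⁆ * (a : R)⁻¹ * ⁅(a : R), x⁆ := by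
          simp only [commutatorElement_def]; group
        have e2 : (a : R) * ⁅(b : R), x⁆ = ⁅(b : R), x⁆ * (a : R) :=
          (hNab _ a.2 _ (hcx b b.2)).eq
        have e3 : ⁅(b : R), x⁆ * ⁅(a : R), x⁆ = ⁅(a : R), x⁆ * ⁅(b : R), x⁆ :=
          (hNab _ (hcx b b.2) _ (hcx a a.2)).eq
        rw [e1, e2, mul_inv_cancel_right, e3] }
  set d : R := ⁅c, x⁆ with hd
  have hdN : d ∈ N := hcx c hcN
  have hθT : ∀ t ∈ T, ⁅t, x⁆ = 1 := by
    intro t ht
    rw [commutatorElement_eq_one_iff_commute]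
    exact hTcomm' t ht x
  have hθ : ∀ n ∈ N, ⁅n, x⁆ ∈ Subgroup.zpowers d := by
    intro n hn
    obtain ⟨i, t, ht, rfl⟩ := hNform n hn
    have h1 : θ ((⟨c, hcN⟩ : N) ^ i * (⟨t, hTN ht⟩ : N)) =
        (θ (⟨c, hcN⟩ : N)) ^ i * θ (⟨t, hTN ht⟩ : N) := by
      rw [map_mul, map_zpow]
    have h3 : ⁅c ^ i * t, x⁆ = d ^ i * ⁅t, x⁆ := congrArg Subtype.val h1
    rw [h3, hθT t ht, mul_one]
    exact Subgroup.zpow_mem _ (Subgroup.mem_zpowers d) i
  have hxd : x * d * x⁻¹ ∈ Subgroup.zpowers d := by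
    have e : x * d * x⁻¹ = ⁅d, x⁆⁻¹ * d := by rw [commutatorElement_def]; group
    rw [e]
    exact Subgroup.mul_mem _ (Subgroup.inv_mem _ (hθ d hdN)) (Subgroup.mem_zpowers d)
  have hxD : ∀ y ∈ Subgroup.zpowers d, x * y * x⁻¹ ∈ Subgroup.zpowers d := by
    intro y hy
    obtain ⟨j, rfl⟩ := Subgroup.mem_zpowers_iff.mp hy
    have e : x * d ^ j * x⁻¹ = (x * d * x⁻¹) ^ j := conj_zpow.symm
    rw [e]; exact Subgroup.zpow_mem _ hxd j
  have hxkD : ∀ k : ℕ, ∀ y ∈ Subgroup.zpowers d,
      x ^ k * y * (x ^ k)⁻¹ ∈ Subgroup.zpowers d := by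
    intro k
    induction k with
    | zero => intro y hy; simpa using hy
    | succ k ih =>
      intro y hy
      have e : x ^ (k + 1) * y * (x ^ (k + 1))⁻¹ = x * (x ^ k * y * (x ^ k)⁻¹) * x⁻¹ := by
        rw [pow_succ']; group
      rw [e]; exact hxD _ (ih y hy)
  have hDn : (Subgroup.zpowers d).Normal := by
    refine ⟨fun y hy g => ?_⟩
    obtain ⟨k, n, hn, rfl⟩ := hRform g
    obtain ⟨j, rfl⟩ := Subgroup.mem_zpowers_iff.mp hy
    have e1 : n * d ^ j * n⁻¹ = d ^ j := by
      have hc' : Commute n (d ^ j) := (hNab n hn d hdN).zpow_right j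
      rw [hc'.eq, mul_inv_cancel_right]
    have e2 : x ^ k * n * d ^ j * (x ^ k * n)⁻¹ =
        x ^ k * (n * d ^ j * n⁻¹) * (x ^ k)⁻¹ := by group
    rw [e2, e1]
    exact hxkD k _ (Subgroup.zpow_mem _ (Subgroup.mem_zpowers d) j)
  have := hDn
  have hNX : ∀ n ∈ N, Commute (QuotientGroup.mk' (Subgroup.zpowers d) n)
      (QuotientGroup.mk' (Subgroup.zpowers d) x) := by
    intro n hn
    rw [← commutatorElement_eq_one_iff_commute, ← map_commutatorElement]
    exact (QuotientGroup.eq_one_iff _).mpr (hθ n hn)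
  have hallD : ∀ a b : R, ⁅a, b⁆ ∈ Subgroup.zpowers d := by
    intro a b
    obtain ⟨k, n₁, h₁, rfl⟩ := hRform a
    obtain ⟨l, n₂, h₂, rfl⟩ := hRform b
    have h : (QuotientGroup.mk' (Subgroup.zpowers d)) ⁅x ^ k * n₁, x ^ l * n₂⁆ = 1 := by
      rw [map_commutatorElement, commutatorElement_eq_one_iff_commute, map_mul, map_mul,
        map_pow, map_pow]
      exact Commute.mul_left
        (Commute.mul_right (Commute.pow_pow (Commute.refl _) k l)
          ((hNX n₂ h₂).symm.pow_left k))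
        (Commute.mul_right ((hNX n₁ h₁).pow_right l) ((hNab n₁ h₁ n₂ h₂).map _))
    exact (QuotientGroup.eq_one_iff _).mp h
  have hTD : T ≤ Subgroup.zpowers d := by
    refine hTcomm.trans ?_
    rw [commutator_def, Subgroup.commutator_le]
    intro a _ b _
    exact hallD a b
  have hcT : ∀ t ∈ T, t ∈ Subgroup.zpowers c → t = 1 := by
    intro t ht htc
    by_contra hne
    apply hN
    have hTle : T ≤ Subgroup.zpowers c := by
      have ho : orderOf t = p := orderOf_eq_prime (hTp t ht) hne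
      have hle : Subgroup.zpowers t ≤ T := by rw [Subgroup.zpowers_le]; exact ht
      have heq : Subgroup.zpowers t = T :=
        Subgroup.eq_of_le_of_card_ge hle (by rw [hTcard, Nat.card_zpowers, ho])
      rw [← heq, Subgroup.zpowers_le]; exact htc
    have hNle : N ≤ Subgroup.zpowers c := by
      intro n hn
      obtain ⟨i, s, hs, rfl⟩ := hNform n hn
      exact Subgroup.mul_mem _ (Subgroup.zpow_mem _ (Subgroup.mem_zpowers c) i) (hTle hs)
    have hNeq : N = Subgroup.zpowers c :=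
      le_antisymm hNle (by rw [Subgroup.zpowers_le]; exact hcN)
    rw [hNeq]
    infer_instance
  obtain ⟨i, t₁, ht₁, hi⟩ := hNform (x * c * x⁻¹) (hNn.conj_mem c hcN x)
  have hsT : t₁⁻¹ ∈ T := T.inv_mem ht₁
  have hdform : d = c ^ (1 - i) * t₁⁻¹ := by
    have e1 : d = c * (x * c * x⁻¹)⁻¹ := by rw [hd, commutatorElement_def]; group
    have hc' : t₁⁻¹ * (c ^ i)⁻¹ = (c ^ i)⁻¹ * t₁⁻¹ := (hTcomm' t₁⁻¹ hsT _).eq
    rw [e1, hi]
    calc c * (c ^ i * t₁)⁻¹ = c * (t₁⁻¹ * (c ^ i)⁻¹) := by group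
      _ = c * ((c ^ i)⁻¹ * t₁⁻¹) := by rw [hc']
      _ = c ^ (1 - i) * t₁⁻¹ := by group
  have hne1 : ∃ t₀ ∈ T, t₀ ≠ 1 := by
    have hTne : T ≠ ⊥ := by
      intro hbot
      rw [hbot, Subgroup.card_bot] at hTcard
      exact hpp.one_lt.ne hTcard
    obtain ⟨⟨t₀, ht₀⟩, h⟩ := (Subgroup.ne_bot_iff_exists_ne_one).mp hTne
    exact ⟨t₀, ht₀, fun h' => h (Subtype.ext h')⟩
  obtain ⟨t₀, ht₀, ht₀1⟩ := hne1
  obtain ⟨m, hm⟩ := Subgroup.mem_zpowers_iff.mp (hTD ht₀)
  have hcomm1 : Commute (c ^ (1 - i)) t₁⁻¹ := (hTcomm' _ hsT _).symm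
  have hm2 : (c ^ (1 - i)) ^ m * (t₁⁻¹) ^ m = t₀ := by
    rw [← hcomm1.mul_zpow, ← hdform]; exact hm
  have hce : (c ^ (1 - i)) ^ m = 1 := by
    apply hcT
    · have e : (c ^ (1 - i)) ^ m = t₀ * ((t₁⁻¹) ^ m)⁻¹ := by rw [← hm2]; group
      rw [e]
      exact T.mul_mem ht₀ (T.inv_mem (T.zpow_mem hsT m))
    · exact Subgroup.zpow_mem _ (Subgroup.zpow_mem _ (Subgroup.mem_zpowers c) _) m
  have hpm : ¬ (p : ℤ) ∣ m := by
    rintro ⟨q, rfl⟩
    apply ht₀1
    rw [← hm2, hce, one_mul, zpow_mul, zpow_natCast, hTp _ hsT, one_zpow]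
  have hce1 : c ^ (1 - i) = 1 := by
    obtain ⟨j, hj⟩ := (IsPGroup.iff_orderOf.mp hR) (c ^ (1 - i))
    have h1 : (orderOf (c ^ (1 - i)) : ℤ) ∣ m := orderOf_dvd_iff_zpow_eq_one.mpr hce
    rcases Nat.eq_zero_or_pos j with hj0 | hjpos
    · rw [hj0, pow_zero] at hj
      exact orderOf_eq_one_iff.mp hj
    · exfalso
      apply hpm
      refine Dvd.dvd.trans ?_ h1
      rw [hj]
      exact_mod_cast dvd_pow_self p hjpos.ne'
  refine ⟨d, ?_, hallD⟩
  rw [hdform, hce1, one_mul]
  exact hsT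

theorem meta_main (p : ℕ) [Fact p.Prime] (hp : 3 < p) :
    ∀ (n : ℕ) (R : Type u) [Group R] [Finite R], Nat.card R ≤ n → IsPGroup p R →
      Nat.card (Subgroup.closure {x : R | x ^ p = 1}) ≤ p ^ 2 → Cfsg.IsMetacyclic R := by
  have hpp : p.Prime := Fact.out
  intro n
  induction n with
  | zero =>
    intro R _ _ hn
    exact absurd hn (by have := Nat.card_pos (α := R); omega)
  | succ n ih =>
    intro R _ _ hn hR hΩ
    by_cases hcyc : IsCyclic R
    · refine ⟨⊤, inferInstance, ?_, ?_⟩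
      · exact isCyclic_of_surjective (Subgroup.topEquiv (G := R)).symm
          (Subgroup.topEquiv (G := R)).symm.surjective
      · have : Subsingleton (R ⧸ (⊤ : Subgroup R)) := QuotientGroup.subsingleton_quotient_top
        exact isCyclic_of_subsingleton
    by_cases hcomm : ∀ a b : R, a * b = b * a
    · apply meta_of_pow_hom hR hΩ hcyc (fun x y => Commute.mul_pow (hcomm x y) p) 1
      intro a b
      have h : ⁅a, b⁆ = 1 := by
        rw [commutatorElement_eq_one_iff_commute]; exact hcomm a b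
      rw [h]; exact Subgroup.one_mem _
    · have hcne : commutator R ≠ ⊥ := by
        intro hbot
        apply hcomm
        intro a b
        have h1 : ⁅a, b⁆ ∈ commutator R := by
          rw [commutator_def]
          exact Subgroup.commutator_mem_commutator (Subgroup.mem_top a) (Subgroup.mem_top b)
        rw [hbot, Subgroup.mem_bot, commutatorElement_eq_one_iff_commute] at h1
        exact h1
      have hnil : Group.IsNilpotent R := hR.isNilpotent
      have hne := Cfsg.Agent.S0637.nil_inf_center (commutator R) hcne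
      have hNp : IsPGroup p ↥(commutator R ⊓ Subgroup.center R) := hR.to_subgroup _
      have hdvd : p ∣ Nat.card ↥(commutator R ⊓ Subgroup.center R) := by
        rcases hNp.card_eq_or_dvd with h | h
        · exact absurd (Subgroup.eq_bot_of_card_eq _ h) hne
        · exact h
      obtain ⟨z, hz⟩ := exists_prime_orderOf_dvd_card' p hdvd
      have hzo : orderOf (z : R) = p := by rw [Subgroup.orderOf_coe]; exact hz
      have hzk : (z : R) ∈ commutator R := z.2.1
      have hzc : (z : R) ∈ Subgroup.center R := z.2.2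
      have hZc : Subgroup.zpowers (z : R) ≤ Subgroup.center R := by
        rw [Subgroup.zpowers_le]; exact hzc
      have hZk : Subgroup.zpowers (z : R) ≤ commutator R := by
        rw [Subgroup.zpowers_le]; exact hzk
      have hZn : (Subgroup.zpowers (z : R)).Normal := by
        refine ⟨fun x hx g => ?_⟩
        have h1 := Subgroup.mem_center_iff.mp (hZc hx) g
        rw [h1, mul_inv_cancel_right]
        exact hx
      have hZcard : Nat.card (Subgroup.zpowers (z : R)) = p := by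
        rw [Nat.card_zpowers, hzo]
      have hcard1 : Nat.card (R ⧸ Subgroup.zpowers (z : R)) ≤ n := by
        have e := Subgroup.card_eq_card_quotient_mul_card_subgroup (Subgroup.zpowers (z : R))
        rw [hZcard] at e
        have h2 : 2 ≤ p := hpp.two_le
        have hpos : 0 < Nat.card (R ⧸ Subgroup.zpowers (z : R)) := Nat.card_pos
        nlinarith
      have hΩ1 := Cfsg.Agent.S0637.central_step hp hR (Subgroup.zpowers (z : R)) hZc
        (by rw [hZcard]) hΩ
      obtain ⟨Nb, hNbn, hc1, hc2⟩ := ih (R ⧸ Subgroup.zpowers (z : R)) hcard1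
        (hR.to_quotient _) hΩ1
      have := hNbn
      by_cases hNcyc : IsCyclic (Nb.comap (QuotientGroup.mk' (Subgroup.zpowers (z : R))))
      · exact ⟨Nb.comap (QuotientGroup.mk' (Subgroup.zpowers (z : R))), inferInstance, hNcyc,
          quot_comap_cyclic (Subgroup.zpowers (z : R)) Nb hc2⟩
      · obtain ⟨d, hdT, hd⟩ := class_two_of_noncyclic hR (Subgroup.zpowers (z : R)) hZc
          hZcard hZk Nb hc1 hc2 hNcyc
        have hdc : d ∈ Subgroup.center R := hZc hdT
        have hzp : (z : R) ^ p = 1 := by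
          have h := pow_orderOf_eq_one (z : R)
          rw [hzo] at h
          exact h
        have hdp : d ^ p = 1 := by
          obtain ⟨k, hk⟩ := Subgroup.mem_zpowers_iff.mp hdT
          rw [← hk, ← zpow_natCast, ← zpow_mul, mul_comm, zpow_mul, zpow_natCast, hzp,
            one_zpow]
        have hcc : ∀ a b : R, ⁅a, b⁆ ∈ Subgroup.center R := fun a b =>
          (Subgroup.zpowers_le.mpr hdc) (hd a b)
        have hcp : ∀ a b : R, ⁅a, b⁆ ^ p = 1 := by
          intro a b
          obtain ⟨k, hk⟩ := Subgroup.mem_zpowers_iff.mp (hd a b)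
          rw [← hk, ← zpow_natCast, ← zpow_mul, mul_comm, zpow_mul, zpow_natCast, hdp,
            one_zpow]
        have hmul : ∀ x y : R, (x * y) ^ p = x ^ p * y ^ p := by
          intro x y
          rw [Cfsg.Agent.S0096.mul_pow_class_two x y hcc p]
          have h2 : p ∣ p.choose 2 := hpp.dvd_choose_self (by norm_num) (by omega)
          obtain ⟨q, hq⟩ := h2
          rw [hq, pow_mul, hcp, one_pow, one_mul]
        exact meta_of_pow_hom hR hΩ hcyc hmul d hd

/-- Huppert's criterion: for p greater than 3, a p-group whose elements of order dividing p generate a subgroup of order at most p² is metacyclic. -/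
theorem result {R : Type*} [Group R] [Finite R] {p : ℕ} [Fact p.Prime] (hp : 3 < p) (hR : IsPGroup p R) (hO : Nat.card ↥(Cfsg.omegaOne p (⊤ : Subgroup R)) ≤ p ^ 2) : Cfsg.IsMetacyclic R := by

    rw [Cfsg.Agent.S0637.omega_eq] at hO
    exact meta_main p hp (Nat.card R) R le_rfl hR hO

end Cfsg.Agent.S0639
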