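import Cfsg.Statements.S2904
-- import your own Cfsg.Agent.* helpers here
import Mathlib

set_option autoImplicit false
open Cfsg

namespace Cfsg.Agent.S2904

open Polynomial in
/-- Φ_n(a) as an integer -/
noncomputable def Ph (n a : ℕ) : ℤ := (Polynomial.cyclotomic n ℤ).eval (a : ℤ)

open Polynomial in
lemma Ph_pos (n a : ℕ) (ha : 1 < a) : 0 < Ph n a :=
  cyclotomic_pos' n (by exact_mod_cast ha)

open Polynomial in
lemma zmod_eval (n a r : ℕ) :
    eval ((a : ZMod r)) (cyclotomic n (ZMod r)) = ((Ph n a : ℤ) : ZMod r) := by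
  have := cyclotomic.eval_apply (a : ℤ) n (Int.castRingHom (ZMod r))
  simpa [Ph] using this

open Polynomial in
lemma good_prime (n a r : ℕ) (ha : 1 < a) (hr : r.Prime)
    (hdvd : (r : ℤ) ∣ Ph n a) (hrn : ¬ r ∣ n) :
    r ∣ a ^ n - 1 ∧ ∀ k : ℕ, 0 < k → k < n → ¬ r ∣ a ^ k - 1 := by
  have : Fact r.Prime := ⟨hr⟩
  have hne : NeZero ((n : ℕ) : ZMod r) := ⟨by rwa [Ne, ZMod.natCast_eq_zero_iff]⟩
  have hroot : IsRoot (cyclotomic n (ZMod r)) (a : ZMod r) := by
    rw [IsRoot.def, zmod_eval, ZMod.intCast_zmod_eq_zero_iff_dvd]; exact hdvd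
  have hprim : IsPrimitiveRoot (a : ZMod r) n := isRoot_cyclotomic_iff.mp hroot
  have key : ∀ k : ℕ, r ∣ a ^ k - 1 ↔ (a : ZMod r) ^ k = 1 := by
    intro k
    have h1 : 1 ≤ a ^ k := Nat.one_le_pow _ _ (by omega)
    rw [← ZMod.natCast_eq_zero_iff, Nat.cast_sub h1, Nat.cast_pow, Nat.cast_one, sub_eq_zero]
  refine ⟨(key n).mpr hprim.pow_eq_one, fun k hk hkn h => ?_⟩
  have := hprim.dvd_of_pow_eq_one k ((key k).mp h)
  exact absurd (Nat.le_of_dvd hk this) (by omega)

open Polynomial in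
lemma bad_prime (n a r : ℕ) (hn : 0 < n) (hr : r.Prime)
    (hdvd : (r : ℤ) ∣ Ph n a) (hrn : r ∣ n) :
    ∃ k m : ℕ, n = r ^ k * m ∧ 0 < k ∧ ¬ r ∣ m ∧ m ∣ r - 1 ∧ (a : ZMod r) ^ m = 1 := by
  have : Fact r.Prime := ⟨hr⟩
  obtain ⟨k, m, hm, hnk⟩ := Nat.exists_eq_pow_mul_and_not_dvd hn.ne' r hr.ne_one
  have hk : 0 < k := by
    rcases Nat.eq_zero_or_pos k with h | h
    · subst h; rw [pow_zero, one_mul] at hnk; subst hnk; exact absurd hrn hm
    · exact h
  have hne : NeZero ((m : ℕ) : ZMod r) := ⟨by rwa [Ne, ZMod.natCast_eq_zero_iff]⟩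
  have hroot : IsRoot (cyclotomic (r ^ k * m) (ZMod r)) (a : ZMod r) := by
    rw [← hnk, IsRoot.def, zmod_eval, ZMod.intCast_zmod_eq_zero_iff_dvd]; exact hdvd
  have hprim : IsPrimitiveRoot (a : ZMod r) m :=
    isRoot_cyclotomic_prime_pow_mul_iff_of_charP.mp hroot
  have hm0 : m ≠ 0 := by rintro rfl; exact hm (dvd_zero _)
  have ha0 : (a : ZMod r) ≠ 0 := hprim.ne_zero hm0
  have hfer := ZMod.pow_card_sub_one_eq_one ha0
  exact ⟨k, m, hnk, hk, hm, hprim.dvd_of_pow_eq_one _ hfer, hprim.pow_eq_one⟩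

lemma bad_unique (n a r s : ℕ) (hn : 0 < n) (hr : r.Prime) (hs : s.Prime)
    (hdr : (r : ℤ) ∣ Ph n a) (hrn : r ∣ n) (hds : (s : ℤ) ∣ Ph n a) (hsn : s ∣ n) : r = s := by
  by_contra hne
  have aux : ∀ r s : ℕ, r.Prime → s.Prime → (r : ℤ) ∣ Ph n a → r ∣ n → s ∣ n → r ≠ s → s < r := by
    intro r s hr hs hdr hrn hsn hne
    obtain ⟨k, m, hnk, hk, hm, hmr, -⟩ := bad_prime n a r hn hr hdr hrn
    have hcop : Nat.Coprime s (r ^ k) :=
      Nat.Coprime.pow_right k ((Nat.coprime_primes hs hr).mpr (Ne.symm hne))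
    have hsm : s ∣ m := hcop.dvd_of_dvd_mul_left (hnk ▸ hsn)
    have hm0 : 0 < r - 1 := by have := hr.two_le; omega
    have h1 := Nat.le_of_dvd hm0 hmr
    have hm1 : 0 < m := Nat.pos_of_ne_zero (by rintro rfl; exact hm (dvd_zero _))
    have h2 := Nat.le_of_dvd hm1 hsm
    omega
  have h1 := aux r s hr hs hdr hrn hsn hne
  have h2 := aux s r hs hr hds hsn hrn (Ne.symm hne)
  omega

open Polynomial in
lemma bad_sq (n a r : ℕ) (ha : 1 < a) (hn : 3 ≤ n) (hr : r.Prime)
    (hdvd : (r : ℤ) ∣ Ph n a) (hrn : r ∣ n) : ¬ ((r : ℤ) ^ 2 ∣ Ph n a) := by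
  have : Fact r.Prime := ⟨hr⟩
  obtain ⟨k, m, hnk, hk, hm, hmr, ham⟩ := bad_prime n a r (by omega) hr hdvd hrn
  obtain ⟨d, hd⟩ := hrn
  have hd0 : 0 < d := by
    rcases Nat.eq_zero_or_pos d with h | h
    · subst h; omega
    · exact h
  have hdn : d ∈ n.properDivisors := by
    rw [Nat.mem_properDivisors]
    refine ⟨⟨r, by rw [hd]; ring⟩, ?_⟩
    have := hr.two_le
    nlinarith
  have h1 := Polynomial.eval_dvd (x := (a : ℤ))
    (X_pow_sub_one_mul_cyclotomic_dvd_X_pow_sub_one_of_dvd ℤ hdn)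
  simp only [eval_mul, eval_sub, eval_pow, eval_X, eval_one] at h1
  set b : ℤ := (a : ℤ) ^ d with hb
  have hb1 : b - 1 ≠ 0 := by
    have : (1 : ℤ) < b := one_lt_pow₀ (by exact_mod_cast ha) hd0.ne'
    omega
  have hgeom : (a : ℤ) ^ n - 1 = (b - 1) * ∑ i ∈ Finset.range r, b ^ i := by
    rw [mul_comm, geom_sum_mul, hb, ← pow_mul, hd, mul_comm]
  rw [hgeom] at h1
  have h2 : Ph n a ∣ ∑ i ∈ Finset.range r, b ^ i := (mul_dvd_mul_iff_left hb1).mp h1
  have hmd : m ∣ d := by
    have hcop : Nat.Coprime m r := Nat.Coprime.symm ((Nat.Prime.coprime_iff_not_dvd hr).mpr hm)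
    have : m ∣ r * d := by rw [← hd, hnk]; exact dvd_mul_left _ _
    exact hcop.dvd_of_dvd_mul_left this
  have hrb : (r : ℤ) ∣ b - 1 := by
    rw [← ZMod.intCast_zmod_eq_zero_iff_dvd]
    obtain ⟨e, he⟩ := hmd
    push_cast [hb]
    rw [he, pow_mul, ham, one_pow, sub_self]
  intro hsq
  have hsq2 : (r : ℤ) ^ 2 ∣ ∑ i ∈ Finset.range r, b ^ i := hsq.trans h2
  rcases hr.eq_two_or_odd' with h2' | hodd
  · subst h2'
    have hm1 : m = 1 := by simpa using hmr
    subst hm1
    have hk2 : 2 ≤ k := by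
      by_contra hlt
      have : k = 1 := by omega
      subst this
      simp at hnk
      omega
    obtain ⟨j, rfl⟩ : ∃ j, k = j + 2 := ⟨k - 2, by omega⟩
    have hd' : d = 2 * 2 ^ j := by
      have : 2 * d = 2 * (2 * 2 ^ j) := by rw [← hd, hnk]; ring
      omega
    push_cast at hrb
    have hna : ¬ (2 : ℤ) ∣ (a : ℤ) := by
      intro h
      have h3 : (2 : ℤ) ∣ b := dvd_pow h hd0.ne'
      omega
    have haodd : Odd (a : ℤ) := Int.odd_iff.mpr (by omega)
    have hbsq : b = ((a : ℤ) ^ (2 ^ j)) ^ 2 := by rw [hb, hd', ← pow_mul, mul_comm]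
    have hmod : b % 4 = 1 := by rw [hbsq]; exact Int.sq_mod_four_eq_one_of_odd haodd.pow
    have h4 : (4 : ℤ) ∣ 1 + b := by
      have := hsq2
      simp only [Finset.sum_range_succ, Finset.sum_range_zero, pow_zero, pow_one, zero_add] at this
      norm_num at this
      exact this
    omega
  · have hrprime : Prime (r : ℤ) := Nat.prime_iff_prime_int.mp hr
    have hxb : ¬ (r : ℤ) ∣ b := by
      intro h
      have : (r : ℤ) ∣ 1 := by simpa using dvd_sub h hrb
      exact hrprime.not_dvd_one this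
    have hem := emultiplicity_geom_sum₂_eq_one hrprime hodd (x := b) (y := 1) (by simpa using hrb) hxb
    simp only [one_pow, mul_one] at hem
    have h3 := (pow_dvd_iff_le_emultiplicity).mp hsq2
    rw [hem] at h3
    norm_num at h3

lemma three_mul_lt (r : ℕ) (h : 4 ≤ r) : 3 * r + 1 < 2 ^ r := by
  induction r, h using Nat.le_induction with
  | base => norm_num
  | succ r hr ih => rw [pow_succ]; omega

open Polynomial in
theorem aux (a n : ℕ) (ha : 1 < a) (hn : 1 < n) (h6 : ¬ (a = 2 ∧ n = 6))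
    (h2 : ¬ (n = 2 ∧ ∃ m : ℕ, a + 1 = 2 ^ m)) :
    ∃ r : ℕ, r.Prime ∧ r ∣ a ^ n - 1 ∧ ∀ k : ℕ, 0 < k → k < n → ¬ r ∣ a ^ k - 1 := by
  by_contra hcon
  push Not at hcon
  have hpos := Ph_pos n a ha
  obtain ⟨N, hNeq⟩ : ∃ N : ℕ, (N : ℤ) = Ph n a := ⟨(Ph n a).natAbs, Int.natAbs_of_nonneg hpos.le⟩
  have hNgt : a - 1 < N := by
    have h := sub_one_lt_natAbs_cyclotomic_eval (n := n) (q := a) hn (by omega)
    have h' : (Ph n a).natAbs = N := by rw [← hNeq]; simp
    rw [← h']; exact h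
  have hint : ∀ r : ℕ, r ∣ N → (r : ℤ) ∣ Ph n a := fun r h => by rw [← hNeq]; exact_mod_cast h
  have hbad : ∀ r : ℕ, r.Prime → r ∣ N → r ∣ n := by
    intro r hr hrN
    by_contra hrn
    obtain ⟨h1, h2'⟩ := good_prime n a r ha hr (hint r hrN) hrn
    obtain ⟨k, hk0, hkn, hk⟩ := hcon r hr h1
    exact h2' k hk0 hkn hk
  rcases Nat.lt_or_ge n 3 with hn3 | hn3
  · have hn2 : n = 2 := by omega
    subst hn2
    have hN2 : N = a + 1 := by
      have : Ph 2 a = (a : ℤ) + 1 := by simp [Ph, cyclotomic_two]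
      omega
    apply h2
    refine ⟨rfl, ?_⟩
    rw [← hN2]
    exact ⟨_, Nat.eq_prime_pow_of_unique_prime_dvd (by omega) (fun {d} hd hdN =>
      (Nat.prime_dvd_prime_iff_eq hd Nat.prime_two).mp (hbad d hd hdN))⟩
  · have hrp : (N.minFac).Prime := Nat.minFac_prime (by omega)
    have hrN : N.minFac ∣ N := Nat.minFac_dvd N
    obtain ⟨r, hr⟩ : ∃ r, r = N.minFac := ⟨_, rfl⟩
    rw [← hr] at hrp hrN
    have hrn : r ∣ n := hbad r hrp hrN
    have huniq : ∀ {d : ℕ}, d.Prime → d ∣ N → d = r := fun {d} hd hdN =>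
      bad_unique n a d r (by omega) hd hrp (hint d hdN) (hbad d hd hdN) (hint r hrN) hrn
    obtain ⟨j, hj⟩ : ∃ j, N = r ^ j :=
      ⟨_, Nat.eq_prime_pow_of_unique_prime_dvd (by omega : N ≠ 0) huniq⟩
    have hsq : ¬ r ^ 2 ∣ N := by
      intro h
      apply bad_sq n a r ha hn3 hrp (hint r hrN) hrn
      rw [← hNeq]; exact_mod_cast h
    have hNr : N = r := by
      have hj2 : j < 2 := by
        by_contra hj2
        apply hsq; rw [hj]
        exact pow_dvd_pow r (by omega)
      interval_cases j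
      · simp at hj; omega
      · simpa using hj
    have hPh : Ph n a = (r : ℤ) := by rw [← hNeq, hNr]
    have htot : r - 1 ≤ n.totient := by
      have h1 : r.totient ∣ n.totient := Nat.totient_dvd_of_dvd hrn
      rw [Nat.totient_prime hrp] at h1
      exact Nat.le_of_dvd (Nat.totient_pos.mpr (by omega)) h1
    have hlt : (a - 1) ^ n.totient < N := by
      have h := sub_one_pow_totient_lt_natAbs_cyclotomic_eval (n := n) (q := a) hn (by omega)
      have h' : (Ph n a).natAbs = N := by rw [← hNeq]; simp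
      rw [← h']; exact h
    rcases Nat.lt_or_ge a 3 with ha3 | ha3
    swap
    · have h1 : 2 ^ (r - 1) ≤ (a - 1) ^ n.totient :=
        calc 2 ^ (r - 1) ≤ 2 ^ n.totient := Nat.pow_le_pow_right (by norm_num) htot
          _ ≤ (a - 1) ^ n.totient := Nat.pow_le_pow_left (by omega) _
      have h2 : r - 1 < 2 ^ (r - 1) := Nat.lt_two_pow_self
      omega
    · have ha2 : a = 2 := by omega
      subst ha2
      obtain ⟨k, m, hnk, hk, hm, hmr, ham⟩ := bad_prime n 2 r (by omega) hrp (hint r hrN) hrn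
      have hm0 : 0 < m := Nat.pos_of_ne_zero (by rintro rfl; exact hm (dvd_zero _))
      have hr2 : r ≠ 2 := by
        rintro rfl
        have h0 : ((2 : ℕ) : ZMod 2) = 0 := by decide
        rw [h0, zero_pow hm0.ne'] at ham
        exact zero_ne_one ham
      have hPh' : eval (2 : ℤ) (cyclotomic n ℤ) = (r : ℤ) := by
        have := hPh
        simpa [Ph] using this
      rcases Nat.lt_or_ge k 2 with hk1 | hk2
      · have hk1' : k = 1 := by omega
        subst hk1'
        rw [pow_one] at hnk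
        have hexp := cyclotomic_expand_eq_cyclotomic_mul hrp hm ℝ
        have hev := congrArg (eval (2 : ℝ)) hexp
        rw [expand_eval, eval_mul] at hev
        have hR : eval (2 : ℝ) (cyclotomic (m * r) ℝ) = (r : ℝ) := by
          have h := cyclotomic.eval_apply (2 : ℤ) n (Int.castRingHom ℝ)
          rw [hPh'] at h
          rw [mul_comm m r, ← hnk]
          simpa using h
        have hlow := sub_one_pow_totient_le_cyclotomic_eval (q := (2 : ℝ) ^ r)
          (one_lt_pow₀ (by norm_num) hrp.ne_zero) m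
        have hup := cyclotomic_eval_le_add_one_pow_totient (q := (2 : ℝ)) (by norm_num) m
        have hφ : 0 < m.totient := Nat.totient_pos.mpr hm0
        have hr3 : r ≤ 3 := by
          by_contra hr4
          push Not at hr4
          have h2r : (3 : ℝ) * r + 1 < 2 ^ r := by
            have := three_mul_lt r (by omega)
            exact_mod_cast this
          have hA : (3 * (r : ℝ)) ^ m.totient < ((2 : ℝ) ^ r - 1) ^ m.totient :=
            pow_lt_pow_left₀ (by linarith) (by positivity) hφ.ne'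
          have hB : (3 : ℝ) ^ m.totient * r ≤ (3 * (r : ℝ)) ^ m.totient := by
            rw [mul_pow]
            have h1 : (r : ℝ) ≤ (r : ℝ) ^ m.totient :=
              le_self_pow₀ (by exact_mod_cast hrp.one_le) hφ.ne'
            have h3pos : (0 : ℝ) < 3 ^ m.totient := by positivity
            nlinarith
          have hC : ((2 : ℝ) ^ r - 1) ^ m.totient ≤ r * 3 ^ m.totient := by
            calc ((2 : ℝ) ^ r - 1) ^ m.totient ≤ eval ((2 : ℝ) ^ r) (cyclotomic m ℝ) := hlow
              _ = r * eval 2 (cyclotomic m ℝ) := by rw [hev, hR]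
              _ ≤ r * 3 ^ m.totient := by
                  have : (2 : ℝ) + 1 = 3 := by norm_num
                  rw [this] at hup
                  exact mul_le_mul_of_nonneg_left hup (by positivity)
          linarith
        have hr3' : r = 3 := by
          have := hrp.two_le
          omega
        subst hr3'
        have hm2 : m ≤ 2 := Nat.le_of_dvd (by norm_num) hmr
        interval_cases m
        · -- n = 3
          subst hnk
          have : Ph 3 2 = 7 := by simp [Ph, cyclotomic_three]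
          rw [this] at hPh
          norm_num at hPh
        · exact h6 ⟨rfl, by omega⟩
      · -- k ≥ 2
        obtain ⟨j, rfl⟩ : ∃ j, k = j + 1 := ⟨k - 1, by omega⟩
        have hj1 : 1 ≤ j := by omega
        have hdiv : r ∣ r ^ j * m := Dvd.dvd.mul_right (dvd_pow_self r (by omega)) m
        have hexp := cyclotomic_expand_eq_cyclotomic hrp hdiv ℤ
        have hnn : r ^ j * m * r = n := by rw [hnk]; ring
        rw [hnn] at hexp
        have hev := congrArg (eval (2 : ℤ)) hexp
        rw [expand_eval, hPh'] at hev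
        have hn1 : 1 < r ^ j * m := by
          have h1 : r ≤ r ^ j := Nat.le_self_pow (by omega) r
          have h2 := hrp.two_le
          nlinarith
        have hq : (2 : ℕ) ^ r ≠ 1 := by
          have := Nat.lt_two_pow_self (n := r)
          have h2 := hrp.two_le
          omega
        have hlt2 := sub_one_lt_natAbs_cyclotomic_eval (n := r ^ j * m) (q := 2 ^ r) hn1 hq
        push_cast at hlt2
        rw [hev] at hlt2
        simp at hlt2
        have := Nat.lt_two_pow_self (n := r)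
        omega


/-- Zsigmondy's Theorem: for natural numbers a > 1 and n > 1 there is a prime dividing aⁿ − 1 that divides aᵏ − 1 for no natural number 0 < k < n, unless a = 2 and n = 6, or n = 2 and a + 1 is a power of two. -/
theorem result (a n : ℕ) (ha : 1 < a) (hn : 1 < n) (h6 : ¬ (a = 2 ∧ n = 6)) (h2 : ¬ (n = 2 ∧ ∃ m : ℕ, a + 1 = 2 ^ m)) : ∃ r : ℕ, r.Prime ∧ r ∣ a ^ n - 1 ∧ ∀ k : ℕ, 0 < k → k < n → ¬ r ∣ a ^ k - 1 := by
  exact aux a n ha hn h6 h2

end Cfsg.Agent.S2904
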