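import Cfsg.Statements.S0612
import Mathlib
import Cfsg.Agent.Lib.helper3.FFDecomp

set_option linter.style.haveILetI false

set_option autoImplicit false
open Cfsg

namespace Cfsg.Agent.S0612

/-- In such a faithful group every nontrivial best offender decomposes as a direct product of minimal nontrivially-acting best offenders. -/
theorem result {G : Type*} [Group G] [Finite G] {p : ℕ} [Fact p.Prime] (V H : Subgroup G) (hV : Cfsg.IsElementaryAbelian p V) (hHV : H ≤ Subgroup.normalizer (V : Set G)) (hf : H ⊓ Subgroup.centralizer (V : Set G) = ⊥) (hS1 : Subgroup.centralizer (Cfsg.pPrimeCore p ↥H : Set ↥H) ≤ Cfsg.pPrimeCore p ↥H) (hS3 : H = ⨆ A : {A : Subgroup G // A ≤ H ∧ Cfsg.IsBestOffenderOn p V A}, (A : Subgroup G)) (hH1 : H ≠ ⊥) (A : Subgroup G) (hAH : A ≤ H) (hA : Cfsg.IsBestOffenderOn p V A) (hA1 : A ≠ ⊥) : ∃ (k : ℕ) (B : Fin k → Subgroup G), (∀ i, B i ≤ A ∧ Cfsg.IsBestOffenderOn p V (B i) ∧ ⁅V, B i⁆ ≠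 ⊥ ∧ ∀ C : Subgroup G, C ≤ B i → Cfsg.IsBestOffenderOn p V C → ⁅V, C⁆ ≠ ⊥ → C = B i) ∧ iSupIndep B ∧ ⨆ i, B i = A := by
  have hp : p.Prime := Fact.out
  obtain ⟨k, B, hB, hsup, hcard⟩ :=
    Cfsg.Agent.Lib.helper3.ff_decomp_aux V H hV hHV hf hS1 _ A rfl hAH hA
  obtain ⟨hab, -⟩ := Cfsg.Agent.Lib.helper3.ff_offender_ea V H hf A hAH hA
  refine ⟨k, B, ?_, Cfsg.Agent.Lib.helper3.iSupIndep_of_card hp A hab B (fun i => (hB i).1)
    (fun i => (hB i).2.2) hsup hcard, hsup⟩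
  intro i
  have hne : B i ≠ ⊥ := by
    intro h
    have := (hB i).2.2
    rw [h, Subgroup.card_bot] at this
    exact hp.one_lt.ne this
  refine ⟨(hB i).1, (hB i).2.1,
    Cfsg.Agent.Lib.helper3.ff_commutator_ne_bot V H hf (B i) ((hB i).1.trans hAH) hne, ?_⟩
  intro C hC _ hCV
  have hC1 : C ≠ ⊥ := by
    rintro rfl
    exact hCV (Subgroup.commutator_bot_right V)
  have hd : Nat.card C ∣ p := by rw [← (hB i).2.2]; exact Subgroup.card_dvd_of_le hC
  rcases (Nat.dvd_prime hp).mp hd with h1 | h1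
  · exact absurd (Subgroup.card_eq_one.mp h1) hC1
  · exact Subgroup.eq_of_le_of_card_ge hC (by rw [h1, (hB i).2.2])

end Cfsg.Agent.S0612
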