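import Cfsg.Statements.S4024
import Mathlib
import Cfsg.Agent.S0016
import Cfsg.Agent.Lib.helper16.PSolv
import Cfsg.Agent.Lib.helper16.PConstr
import Cfsg.Agent.Lib.helper16.Syl
import Cfsg.Agent.Lib.helper20.Wielandt

set_option autoImplicit false
open Cfsg

namespace Cfsg.Agent.S4024

open Cfsg.Agent.Lib.helper16 Cfsg.Agent.Lib.helper9 Cfsg.Agent.Lib.helper15

/-- A finite `p`-group, `p` odd, with a subgroup `U ≠ 1, Γ` which is the only subgroup of its order
is cyclic. -/
theorem cyclic_of_unique {Γ : Type*} [Group Γ] [Finite Γ] {p : ℕ} [Fact p.Prime] (hp2 : p ≠ 2)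
    (hΓ : IsPGroup p Γ) (U : Subgroup Γ) (hU1 : U ≠ ⊥) (hUt : U ≠ ⊤)
    (huniq : ∀ V : Subgroup Γ, Nat.card V = Nat.card U → V = U) : IsCyclic Γ := by
  classical
  have hp : p.Prime := Fact.out
  obtain ⟨n, hn⟩ := IsPGroup.iff_card.mp hΓ
  obtain ⟨z, hz⟩ := IsPGroup.iff_card.mp (hΓ.to_subgroup U)
  have hz1 : 1 ≤ z := by
    by_contra h
    have h0 : z = 0 := by omega
    rw [h0, pow_zero] at hz
    exact hU1 (Subgroup.card_eq_one.mp hz)
  have hzn' : z ≤ n := by
    have hle : p ^ z ∣ p ^ n := by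
      rw [← hz, ← hn]; exact Subgroup.card_subgroup_dvd_card U
    exact (Nat.pow_dvd_pow_iff_le_right hp.one_lt).mp hle
  have hzn : z < n := by
    rcases hzn'.lt_or_eq with h | h
    · exact h
    · exfalso; apply hUt
      apply (Subgroup.card_eq_iff_eq_top U).mp
      rw [hz, hn, h]
  have hd1 : p ^ z ∣ Nat.card Γ := by rw [hn]; exact pow_dvd_pow p hzn'
  have hd2 : p ^ (z + 1) ∣ Nat.card Γ := by rw [hn]; exact pow_dvd_pow p hzn
  have step1 : ∀ W : Subgroup Γ, ∀ j, j ≤ z → Nat.card W = p ^ j → W ≤ U := by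
    intro W j hj hW
    obtain ⟨V, hV, hWV⟩ := Sylow.exists_subgroup_card_pow_prime_le p hd1 W hW hj
    rw [huniq V (hV.trans hz.symm)] at hWV
    exact hWV
  obtain ⟨V, hV, hUV⟩ := Sylow.exists_subgroup_card_pow_prime_le p hd2 U hz (Nat.le_succ z)
  have hVU : ¬ V ≤ U := by
    intro h
    have h1 := Subgroup.card_le_of_le h
    rw [hV, hz] at h1
    exact absurd h1 (not_le.mpr (Nat.pow_lt_pow_right hp.one_lt (Nat.lt_succ_self z)))
  obtain ⟨x, hxV, hxU⟩ := SetLike.not_le_iff_exists.mp hVU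
  have hxgen : Subgroup.zpowers x = V := by
    by_contra hne
    have hle : Subgroup.zpowers x ≤ V := (Subgroup.zpowers_le).mpr hxV
    obtain ⟨j, hj⟩ := IsPGroup.iff_card.mp (hΓ.to_subgroup (Subgroup.zpowers x))
    have hjz : j ≤ z := by
      have h1 : p ^ j ∣ p ^ (z + 1) := by
        rw [← hj, ← hV]; exact Subgroup.card_dvd_of_le hle
      have h2 : j ≤ z + 1 := (Nat.pow_dvd_pow_iff_le_right hp.one_lt).mp h1
      rcases h2.lt_or_eq with h | h
      · omega
      · exfalso; apply hne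
        exact Subgroup.eq_of_le_of_card_ge hle (by rw [hj, hV, h])
    exact hxU (step1 _ j hjz hj (Subgroup.mem_zpowers x))
  have hVc : IsCyclic ↥V := by
    rw [← hxgen]; infer_instance
  have hu : ∀ H K : Subgroup Γ, Nat.card H = p → Nat.card K = p → H = K := by
    intro H K hH hK
    have hHV : H ≤ V := (step1 H 1 hz1 (by rw [hH, pow_one])).trans hUV
    have hKV : K ≤ V := (step1 K 1 hz1 (by rw [hK, pow_one])).trans hUV
    have h1 : H.subgroupOf V = K.subgroupOf V := by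
      apply Cfsg.Agent.Lib.helper20.eq_of_card_eq_of_isCyclic
      rw [Nat.card_congr (Subgroup.subgroupOfEquivOfLe hHV).toEquiv,
        Nat.card_congr (Subgroup.subgroupOfEquivOfLe hKV).toEquiv, hH, hK]
    ext y
    constructor
    · intro hy
      have : (⟨y, hHV hy⟩ : V) ∈ H.subgroupOf V := Subgroup.mem_subgroupOf.mpr hy
      rw [h1] at this
      exact Subgroup.mem_subgroupOf.mp this
    · intro hy
      have : (⟨y, hKV hy⟩ : V) ∈ K.subgroupOf V := Subgroup.mem_subgroupOf.mpr hy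
      rw [← h1] at this
      exact Subgroup.mem_subgroupOf.mp this
  rcases Cfsg.Agent.S0016.result p hΓ hu with h | ⟨h2, _⟩
  · exact h
  · exact absurd h2 hp2

theorem comm_of_cyclic {Γ : Type*} [Group Γ] (h : IsCyclic Γ) : IsMulCommutative Γ := by
  obtain ⟨g, hg⟩ := h.exists_generator
  refine ⟨⟨fun a b => ?_⟩⟩
  obtain ⟨i, rfl⟩ := Subgroup.mem_zpowers_iff.mp (hg a)
  obtain ⟨j, rfl⟩ := Subgroup.mem_zpowers_iff.mp (hg b)
  rw [← zpow_add, ← zpow_add, add_comm]

section main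

variable {G : Type*} [Group G] [Finite G] {p : ℕ} [Fact p.Prime]

theorem inter_unique
    (hC : ∀ H K : Subgroup G, IsPGroup p H → IsPGroup p K → Nat.card H = Nat.card K →
      ∃ g : G, K = H.map (MulAut.conj g).toMonoidHom) (P : Sylow p G)
    (N : Subgroup G) [hN : N.Normal] (V : Subgroup G) (hVP : V ≤ (P : Subgroup G))
    (hcard : Nat.card V = Nat.card ↥((P : Subgroup G) ⊓ N)) : V = (P : Subgroup G) ⊓ N := by
  have h1 : IsPGroup p ↥((P : Subgroup G) ⊓ N) := P.isPGroup'.to_le inf_le_left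
  have h2 : IsPGroup p ↥V := P.isPGroup'.to_le hVP
  obtain ⟨g, hg⟩ := hC _ _ h1 h2 hcard.symm
  have hVN : V ≤ N := by
    rw [hg]
    rintro _ ⟨y, hy, rfl⟩
    exact hN.conj_mem y hy.2 g
  exact Subgroup.eq_of_le_of_card_ge (le_inf hVP hVN) (le_of_eq hcard.symm)

theorem dichotomy (hp2 : p ≠ 2)
    (hC : ∀ H K : Subgroup G, IsPGroup p H → IsPGroup p K → Nat.card H = Nat.card K →
      ∃ g : G, K = H.map (MulAut.conj g).toMonoidHom) (P : Sylow p G)
    (N : Subgroup G) [hN : N.Normal] (hne : (P : Subgroup G) ⊓ N ≠ ⊥) :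
    (P : Subgroup G) ≤ N ∨ IsCyclic ↥(P : Subgroup G) := by
  by_cases hUt : ((P : Subgroup G) ⊓ N).subgroupOf (P : Subgroup G) = ⊤
  · left
    intro x hx
    have h1 : (⟨x, hx⟩ : ↥(P : Subgroup G)) ∈ ((P : Subgroup G) ⊓ N).subgroupOf (P : Subgroup G) := by
      rw [hUt]; exact Subgroup.mem_top _
    exact (Subgroup.mem_subgroupOf.mp h1).2
  · right
    have hcardU : Nat.card ↥(((P : Subgroup G) ⊓ N).subgroupOf (P : Subgroup G)) =
        Nat.card ↥((P : Subgroup G) ⊓ N) :=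
      Nat.card_congr (Subgroup.subgroupOfEquivOfLe inf_le_left).toEquiv
    refine cyclic_of_unique hp2 P.isPGroup' (((P : Subgroup G) ⊓ N).subgroupOf (P : Subgroup G))
      ?_ hUt ?_
    · intro hbot
      apply hne
      rw [eq_bot_iff]
      intro x hx
      have h1 : (⟨x, hx.1⟩ : ↥(P : Subgroup G)) ∈
          ((P : Subgroup G) ⊓ N).subgroupOf (P : Subgroup G) := Subgroup.mem_subgroupOf.mpr hx
      rw [hbot, Subgroup.mem_bot] at h1
      have := congrArg Subtype.val h1
      exact Subgroup.mem_bot.mpr this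
    · intro V hV
      have h1 : V.map (P : Subgroup G).subtype = (P : Subgroup G) ⊓ N := by
        apply inter_unique hC P N
        · exact Subgroup.map_subtype_le V
        · rw [Subgroup.card_map_of_injective Subtype.coe_injective, hV, hcardU]
      ext y
      rw [Subgroup.mem_subgroupOf, ← h1]
      constructor
      · intro hy; exact ⟨y, hy, rfl⟩
      · rintro ⟨y', hy', hyy'⟩
        have : y' = y := Subtype.ext hyy'
        rw [← this]; exact hy'

end main

/-- Let p be an odd prime and G a finite group in which any two p-subgroups of the same order are conjugate, with Sylow p-subgroup P. If H is a normal p-solvable subgroup of G whose order is divisible by p, then P is abelian, and either P ≤ H or P is cyclic. -/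
theorem result {G : Type*} [Group G] [Finite G]
    {p : ℕ} [Fact p.Prime] (hp : p ≠ 2) (hC : ∀ H K : Subgroup G, IsPGroup p H → IsPGroup p K → Nat.card H = Nat.card K →
      ∃ g : G, K = H.map (MulAut.conj g).toMonoidHom) (P : Sylow p G)
    (H : Subgroup G) [H.Normal] (hsolv : Cfsg.IsPSolvable p H) (hdiv : p ∣ Nat.card H) :
    IsMulCommutative P ∧ ((P : Subgroup G) ≤ H ∨ IsCyclic P) := by
  classical
  have hpp : p.Prime := Fact.out
  have hHn : H.Normal := inferInstance
  -- a nontrivial element of P ⊓ H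
  obtain ⟨y, hyP, hyH, hy1⟩ : ∃ y : G, y ∈ (P : Subgroup G) ∧ y ∈ H ∧ y ≠ 1 := by
    obtain ⟨x, hx⟩ := exists_prime_orderOf_dvd_card' (G := ↥H) p hdiv
    have hxo : orderOf (x : G) = p := by rw [Subgroup.orderOf_coe]; exact hx
    have hA : IsPGroup p ↥(Subgroup.zpowers (x : G)) := by
      apply IsPGroup.of_card (n := 1)
      rw [Nat.card_zpowers, hxo, pow_one]
    obtain ⟨h, hh⟩ := exists_conj_mem_sylow' P (Subgroup.zpowers (x : G)) hA
    refine ⟨h * (x : G) * h⁻¹, hh _ (Subgroup.mem_zpowers _), hHn.conj_mem _ x.2 h, ?_⟩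
    intro h1
    have h2 : (x : G) = 1 := by
      have : (x : G) = h⁻¹ * (h * (x : G) * h⁻¹) * h := by group
      rw [this, h1]; group
    rw [h2, orderOf_one] at hxo
    exact hpp.one_lt.ne hxo
  have hPH : (P : Subgroup G) ⊓ H ≠ ⊥ := by
    intro h
    have : y ∈ (P : Subgroup G) ⊓ H := ⟨hyP, hyH⟩
    rw [h, Subgroup.mem_bot] at this
    exact hy1 this
  rcases dichotomy hp hC P H hPH with hPle | hcyc
  swap
  · exact ⟨comm_of_cyclic hcyc, Or.inr hcyc⟩
  refine ⟨?_, Or.inl hPle⟩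
  -- the quotient by O_{p'}(G)
  haveI hWn : (pPrimeCore p G).Normal := ppc_normal p G
  have hWcop : (Nat.card ↥(pPrimeCore p G)).Coprime p := pPrimeCore_coprime p G
  have hsurj : Function.Surjective (QuotientGroup.mk' (pPrimeCore p G)) :=
    QuotientGroup.mk'_surjective _
  have hbot : pPrimeCore p (G ⧸ pPrimeCore p G) = ⊥ := pPrimeCore_quotient_eq_bot p G
  haveI hKn : (H.map (QuotientGroup.mk' (pPrimeCore p G))).Normal :=
    Subgroup.Normal.map hHn _ hsurj
  have hsolK : IsPSolvable p ↥(H.map (QuotientGroup.mk' (pPrimeCore p G))) :=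
    isPSolvable_of_surjective ((QuotientGroup.mk' (pPrimeCore p G)).subgroupMap H)
      ((QuotientGroup.mk' (pPrimeCore p G)).subgroupMap_surjective H) hsolv
  have hK0 : pPrimeCore p ↥(H.map (QuotientGroup.mk' (pPrimeCore p G))) = ⊥ := by
    have h1 := map_pPrimeCore_le_of_normal (p := p) (H.map (QuotientGroup.mk' (pPrimeCore p G)))
    rw [hbot, le_bot_iff] at h1
    exact (Subgroup.map_eq_bot_iff_of_injective _ Subtype.coe_injective).mp h1
  have hCK := centralizer_pCore_le_of_pSolvable hsolK hK0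
  have hRP : pCore p (G ⧸ pPrimeCore p G) ≤
      (P : Subgroup G).map (QuotientGroup.mk' (pPrimeCore p G)) := by
    have := pCore_le_sylow (P.mapSurjective hsurj)
    rwa [Sylow.coe_mapSurjective] at this
  -- P ⊓ O_{p',p}(G) ≠ ⊥
  have hyW : (QuotientGroup.mk' (pPrimeCore p G)) y ≠ 1 := by
    intro h
    exact hy1 (inter_eq_one (pPrimeCore p G) (P : Subgroup G) hWcop P.isPGroup'
      ((QuotientGroup.eq_one_iff y).mp h) hyP)
  have hR1 : pCore p ↥(H.map (QuotientGroup.mk' (pPrimeCore p G))) ≠ ⊥ := by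
    intro h
    rw [h] at hCK
    have h1 : (⟨(QuotientGroup.mk' (pPrimeCore p G)) y, ⟨y, hyH, rfl⟩⟩ :
        ↥(H.map (QuotientGroup.mk' (pPrimeCore p G)))) ∈
        (⊥ : Subgroup ↥(H.map (QuotientGroup.mk' (pPrimeCore p G)))) := by
      apply hCK
      rw [Subgroup.mem_centralizer_iff]
      intro k hk
      have hk1 : k = 1 := Subgroup.mem_bot.mp hk
      rw [hk1, one_mul, mul_one]
    rw [Subgroup.mem_bot] at h1
    exact hyW (congrArg Subtype.val h1)
  obtain ⟨r, hr, hr1⟩ : ∃ r : ↥(H.map (QuotientGroup.mk' (pPrimeCore p G))),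
      r ∈ pCore p ↥(H.map (QuotientGroup.mk' (pPrimeCore p G))) ∧ r ≠ 1 := by
    by_contra hcon
    push Not at hcon
    apply hR1
    rw [eq_bot_iff]
    intro r hr
    exact Subgroup.mem_bot.mpr (hcon r hr)
  have hrQ : (r : G ⧸ pPrimeCore p G) ∈ pCore p (G ⧸ pPrimeCore p G) :=
    map_pCore_le_of_normal (p := p) (H.map (QuotientGroup.mk' (pPrimeCore p G))) ⟨r, hr, rfl⟩
  obtain ⟨x₀, hx₀P, hx₀⟩ := hRP hrQ
  have hx₀N : x₀ ∈ pPrimePCore p G := by
    rw [mem_pPrimePCore_iff, hx₀]; exact hrQ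
  have hx₀1 : x₀ ≠ 1 := by
    intro h
    rw [h, map_one] at hx₀
    exact hr1 (Subtype.ext hx₀.symm)
  haveI hNn : (pPrimePCore p G).Normal := pPrimePCore_normal p G
  have hPN : (P : Subgroup G) ⊓ pPrimePCore p G ≠ ⊥ := by
    intro h
    have : x₀ ∈ (P : Subgroup G) ⊓ pPrimePCore p G := ⟨hx₀P, hx₀N⟩
    rw [h, Subgroup.mem_bot] at this
    exact hx₀1 this
  rcases dichotomy hp hC P (pPrimePCore p G) hPN with hPleN | hcyc
  swap
  · exact comm_of_cyclic hcyc
  -- Frattini
  have hfr : Subgroup.normalizer ((P : Subgroup G) : Set G) ⊔ pPrimePCore p G = ⊤ :=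
    Sylow.normalizer_sup_eq_top' P hPleN
  -- the centre of P is the unique subgroup of its order
  have huniqZ : ∀ V : Subgroup ↥(P : Subgroup G),
      Nat.card V = Nat.card ↥(Subgroup.center ↥(P : Subgroup G)) →
      V = Subgroup.center ↥(P : Subgroup G) := by
    intro V hV
    have hpV : IsPGroup p ↥(V.map (P : Subgroup G).subtype) :=
      P.isPGroup'.to_le (Subgroup.map_subtype_le V)
    have hpZ : IsPGroup p ↥((Subgroup.center ↥(P : Subgroup G)).map (P : Subgroup G).subtype) :=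
      P.isPGroup'.to_le (Subgroup.map_subtype_le _)
    have hcard : Nat.card ↥((Subgroup.center ↥(P : Subgroup G)).map (P : Subgroup G).subtype) =
        Nat.card ↥(V.map (P : Subgroup G).subtype) := by
      rw [Subgroup.card_map_of_injective Subtype.coe_injective,
        Subgroup.card_map_of_injective Subtype.coe_injective, hV]
    obtain ⟨g, hg⟩ := hC _ _ hpZ hpV hcard
    have hle : V ≤ Subgroup.center ↥(P : Subgroup G) := by
      intro v hv
      have hvG : (v : G) ∈ V.map (P : Subgroup G).subtype := ⟨v, hv, rfl⟩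
      rw [hg] at hvG
      obtain ⟨_, ⟨z₀, hz₀, rfl⟩, hzv⟩ := hvG
      have hzv' : g * (z₀ : G) * g⁻¹ = (v : G) := hzv
      -- decompose g
      have hgtop : g ∈ pPrimePCore p G ⊔ Subgroup.normalizer ((P : Subgroup G) : Set G) := by
        rw [sup_comm, hfr]; exact Subgroup.mem_top g
      obtain ⟨r', hr', n, hn, hrn⟩ := Subgroup.mem_sup_of_normal_left.mp hgtop
      obtain ⟨x, hxP, hx⟩ := hRP ((mem_pPrimePCore_iff).mp hr')
      have hw : r' * x⁻¹ ∈ pPrimeCore p G := by
        apply (QuotientGroup.eq_one_iff _).mp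
        show (QuotientGroup.mk' (pPrimeCore p G)) (r' * x⁻¹) = 1
        rw [map_mul, map_inv, hx, mul_inv_cancel]
      -- z' = n z₀ n⁻¹ is central in P
      have hz'P : n * (z₀ : G) * n⁻¹ ∈ (P : Subgroup G) :=
        (Subgroup.mem_normalizer_iff.mp hn _).mp z₀.2
      have hz'c : ∀ q ∈ (P : Subgroup G), q * (n * (z₀ : G) * n⁻¹) = (n * (z₀ : G) * n⁻¹) * q := by
        intro q hq
        have hq' : n⁻¹ * q * n⁻¹⁻¹ ∈ (P : Subgroup G) :=
          (Subgroup.mem_normalizer_iff.mp (inv_mem hn) _).mp hq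
        have h1 := Subgroup.mem_center_iff.mp hz₀ ⟨n⁻¹ * q * n⁻¹⁻¹, hq'⟩
        have h2 : (n⁻¹ * q * n⁻¹⁻¹) * (z₀ : G) = (z₀ : G) * (n⁻¹ * q * n⁻¹⁻¹) := by
          have := congrArg Subtype.val h1
          simpa using this
        calc q * (n * (z₀ : G) * n⁻¹) = n * ((n⁻¹ * q * n⁻¹⁻¹) * (z₀ : G)) * n⁻¹ := by group
          _ = n * ((z₀ : G) * (n⁻¹ * q * n⁻¹⁻¹)) * n⁻¹ := by rw [h2]
          _ = (n * (z₀ : G) * n⁻¹) * q := by group
      -- v = w z' w⁻¹
      have hv1 : (v : G) = (r' * x⁻¹) * (n * (z₀ : G) * n⁻¹) * (r' * x⁻¹)⁻¹ := by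
        rw [← hzv', ← hrn]
        have h3 := hz'c x hxP
        calc r' * n * (z₀ : G) * (r' * n)⁻¹ = r' * x⁻¹ * (x * (n * (z₀ : G) * n⁻¹)) * r'⁻¹ := by group
          _ = r' * x⁻¹ * ((n * (z₀ : G) * n⁻¹) * x) * r'⁻¹ := by rw [h3]
          _ = (r' * x⁻¹) * (n * (z₀ : G) * n⁻¹) * (r' * x⁻¹)⁻¹ := by group
      have hc1 : (v : G) * (n * (z₀ : G) * n⁻¹)⁻¹ ∈ pPrimeCore p G := by
        rw [hv1]
        have h4 : (r' * x⁻¹) * (n * (z₀ : G) * n⁻¹) * (r' * x⁻¹)⁻¹ * (n * (z₀ : G) * n⁻¹)⁻¹ =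
            (r' * x⁻¹) * ((n * (z₀ : G) * n⁻¹) * (r' * x⁻¹)⁻¹ * (n * (z₀ : G) * n⁻¹)⁻¹) := by group
        rw [h4]
        exact mul_mem hw (hWn.conj_mem _ (inv_mem hw) _)
      have hc2 : (v : G) * (n * (z₀ : G) * n⁻¹)⁻¹ ∈ (P : Subgroup G) :=
        mul_mem v.2 (inv_mem hz'P)
      have hc3 := inter_eq_one (pPrimeCore p G) (P : Subgroup G) hWcop P.isPGroup' hc1 hc2
      have hv2 : (v : G) = n * (z₀ : G) * n⁻¹ := by
        have := mul_inv_eq_one.mp hc3
        exact this
      rw [Subgroup.mem_center_iff]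
      intro q
      apply Subtype.ext
      have := hz'c q q.2
      simp only [Subgroup.coe_mul]
      rw [hv2]; exact this
    exact Subgroup.eq_of_le_of_card_ge hle (le_of_eq hV.symm)
  by_cases hZt : Subgroup.center ↥(P : Subgroup G) = ⊤
  · refine ⟨⟨fun a b => ?_⟩⟩
    have hb : b ∈ Subgroup.center ↥(P : Subgroup G) := by rw [hZt]; exact Subgroup.mem_top b
    exact Subgroup.mem_center_iff.mp hb a
  · haveI hnt : Nontrivial ↥(P : Subgroup G) := ⟨⟨⟨y, hyP⟩, 1, fun h => hy1 (congrArg Subtype.val h)⟩⟩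
    have hZ1 : Subgroup.center ↥(P : Subgroup G) ≠ ⊥ := by
      have := P.isPGroup'.center_nontrivial
      intro h
      rw [h] at this
      exact not_nontrivial _ this
    exact comm_of_cyclic (cyclic_of_unique hp P.isPGroup' _ hZ1 hZt huniqZ)

end Cfsg.Agent.S4024
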