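import Cfsg.Statements.S1969
import Cfsg.Agent.Lib.helper10.SFCore

set_option autoImplicit false
universe u
open Cfsg

namespace Cfsg.Agent.S1969

open Cfsg.Agent.Lib.helper10

theorem fchain_mem_subgroup {X : Type*} [Group X] {Ns T A : Set X} {c : X} (H : Subgroup X)
    (hNs : Ns ⊆ (H : Set X)) (h : FChain Ns T A c) : c ∈ H := by
  induction h with
  | one hA => exact H.one_mem
  | step c y hy h hA ih => exact H.mul_mem (hNs hy) ih

/-- Let p be a prime, G a finite group and W an isomorphism-invariant p-group functor (W assigns to every group Q a subgroup W(Q), nontrivial whenever Q is a nontrivial finite p-group, and every isomorphism from a finite p-group Q onto a group R carries W(Q) onto W(R)). Suppose that W(S*) is normal in G* whenever G* = K/R is a section of G with C_{G*}(O_p(G*)) ≤ O_p(G*) and S* is a Sylow p-subgroup of G*. Then W controls strong fusion in every section of G: for every section K/R and every Sylow p-subgroup T of K/R, the subgroup W(T)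 controls strong fusion in K/R. -/
theorem result {G : Type u} [Group G] [Finite G] {p : ℕ} [Fact p.Prime] (W : ∀ (Q : Type u) [Group Q], Subgroup Q) (hW : Cfsg.IsCharPFunctor.{u} p W) (hloc : ∀ (K R : Subgroup G) [hR : (R.subgroupOf K).Normal], Subgroup.centralizer ((Cfsg.pCore p (↥K ⧸ R.subgroupOf K) : Subgroup (↥K ⧸ R.subgroupOf K)) : Set (↥K ⧸ R.subgroupOf K)) ≤ Cfsg.pCore p (↥K ⧸ R.subgroupOf K) → ∀ T : Sylow p (↥K ⧸ R.subgroupOf K), (Cfsg.inducedFunctor (G := (↥K ⧸ R.subgroupOf K)) W ((T : Subgroup (↥K ⧸ R.subgroupOf K)))).Normal) : ∀ (K R : Subgroup G) [hR : (R.subgroupOf K).Normal], ∀ T : Sylow p (↥K ⧸ R.subgroupOf K), Cfsg.ControlsStrongFusion p (Cfsg.inducedFunctor (G := (↥K ⧸ R.subgroupOf K)) W ((T : Subgroup (↥K ⧸ R.subgroupOf K)))) := by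
  intro K R hR T
  have h𝓦 : ∀ W' ∈ ({W} : Set (∀ (Q : Type u) [Group Q], Subgroup Q)),
      Cfsg.IsCharPFunctor.{u} p W' := by
    intro W' hW'
    rw [Set.mem_singleton_iff] at hW'
    rw [hW']; exact hW
  have hcon : ∀ (K R : Subgroup G) [hR : (R.subgroupOf K).Normal],
      Subgroup.centralizer ((pCore p (↥K ⧸ R.subgroupOf K) : Subgroup (↥K ⧸ R.subgroupOf K)) :
        Set (↥K ⧸ R.subgroupOf K)) ≤ pCore p (↥K ⧸ R.subgroupOf K) →
      FamilyControlsStrongFusionIn p
        ((fun W => inducedFunctor (G := ↥K ⧸ R.subgroupOf K) W) ''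
          ({W} : Set (∀ (Q : Type u) [Group Q], Subgroup Q))) ⊤ := by
    intro K₁ R₁ hR₁ hC
    obtain ⟨S⟩ : Nonempty (Sylow p (↥K₁ ⧸ R₁.subgroupOf K₁)) := inferInstance
    apply control_of_chainGood _ S
    intro A g hA hgA
    refine ChainGood.single ⟨W, rfl, ?_⟩ hA hgA
    have hn := hloc K₁ R₁ hC S
    rw [Subgroup.normalizer_eq_top_iff.mpr hn]
    exact Subgroup.mem_top _
  have hc := strong_fusion_sections ({W} : Set (∀ (Q : Type u) [Group Q], Subgroup Q)) h𝓦 hcon _
    K R rfl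
  refine ⟨T, (isConjugacyFunctor_induced W hW _ T.2).1, fun A hA => ⟨hA, fun g hg => ?_⟩⟩
  obtain ⟨c, hch, hca⟩ := chainGood_of_control _ h𝓦 T ⊤ le_top hc A g (Subgroup.mem_top _) hA
    (fun a ha => hg ⟨a, ha, rfl⟩)
  refine ⟨c, fchain_mem_subgroup _ ?_ hch, fun a ha => (hca a ha).symm⟩
  rintro z ⟨W', hW', hz⟩
  rw [Set.mem_singleton_iff] at hW'
  rw [hW'] at hz
  exact hz

end Cfsg.Agent.S1969
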