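import Cfsg.Statements.S0656
-- import your own Cfsg.Agent.* helpers here
import Cfsg.Agent.Lib.helper15.DkMain
import Cfsg.Agent.Lib.helper15.PCore
import Cfsg.Agent.Lib.helper3.QuadPairGroup
import Cfsg.Agent.S0199

set_option autoImplicit false
open Cfsg

namespace Cfsg.Agent.S0656

open scoped commutatorElement

theorem section_of_surj {G : Type*} [Group G] {T : Type*} [Group T] (K : Subgroup G)
    (f : ↥K →* T) (hf : Function.Surjective f) :
    ∃ (L : Subgroup G) (hL : (L.subgroupOf K).Normal), Nonempty ((K ⧸ L.subgroupOf K) ≃* T) := by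
  have h1 : (f.ker.map K.subtype).subgroupOf K = f.ker :=
    Subgroup.comap_map_eq_self_of_injective K.subtype_injective _
  have hN : ((f.ker.map K.subtype).subgroupOf K).Normal := by rw [h1]; infer_instance
  refine ⟨f.ker.map K.subtype, hN, ⟨?_⟩⟩
  exact (QuotientGroup.quotientMulEquivOfEq h1).trans
    (QuotientGroup.quotientKerEquivOfSurjective f hf)

/-- An abelian group generated by two elements of order dividing `p` has exponent `p`. -/
theorem pow_eq_one_of_gen {T S : Type*} [Group T] [Group S] (φ : T →* S) (a b : T)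
    (hgen : Subgroup.closure ({a, b} : Set T) = ⊤) (p : ℕ) (ha : φ a ^ p = 1) (hb : φ b ^ p = 1)
    (hc : φ a * φ b = φ b * φ a) : ∀ t : T, φ t ^ p = 1 := by
  have h1 : ∀ t : T, φ t * φ a = φ a * φ t ∧ φ t * φ b = φ b * φ t := by
    intro t
    have ht : t ∈ Subgroup.closure ({a, b} : Set T) := by rw [hgen]; exact Subgroup.mem_top t
    induction ht using Subgroup.closure_induction with
    | mem x hx =>
      rcases hx with rfl | hx
      · exact ⟨rfl, hc⟩
      · rw [Set.mem_singleton_iff] at hx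
        subst hx
        exact ⟨hc.symm, rfl⟩
    | one => simp
    | mul x y _ _ hx hy =>
      rw [map_mul]
      constructor
      · rw [mul_assoc, hy.1, ← mul_assoc, hx.1, mul_assoc]
      · rw [mul_assoc, hy.2, ← mul_assoc, hx.2, mul_assoc]
    | inv x _ hx =>
      rw [map_inv]
      exact ⟨(show Commute (φ x) (φ a) from hx.1).inv_left.eq,
        (show Commute (φ x) (φ b) from hx.2).inv_left.eq⟩
  have h2 : ∀ s t : T, φ s * φ t = φ t * φ s := by
    intro s t
    have ht : t ∈ Subgroup.closure ({a, b} : Set T) := by rw [hgen]; exact Subgroup.mem_top t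
    induction ht using Subgroup.closure_induction with
    | mem x hx =>
      rcases hx with rfl | hx
      · exact (h1 s).1
      · rw [Set.mem_singleton_iff] at hx
        subst hx
        exact (h1 s).2
    | one => simp
    | mul x y _ _ hx hy =>
      rw [map_mul, ← mul_assoc, hx, mul_assoc, hy, mul_assoc]
    | inv x _ hx =>
      rw [map_inv]
      exact (show Commute (φ s) (φ x) from hx).inv_right.eq
  intro t
  have ht : t ∈ Subgroup.closure ({a, b} : Set T) := by rw [hgen]; exact Subgroup.mem_top t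
  induction ht using Subgroup.closure_induction with
  | mem x hx =>
    rcases hx with rfl | hx
    · exact ha
    · rw [Set.mem_singleton_iff] at hx
      subst hx
      exact hb
  | one => simp
  | mul x y _ _ hx hy =>
    rw [map_mul, (show Commute (φ x) (φ y) from h2 x y).mul_pow, hx, hy, one_mul]
  | inv x _ hx =>
    rw [map_inv, inv_pow, hx, inv_one]

/-- For odd p, a faithful group on an elementary abelian p-group with no nontrivial normal p-subgroup in which some nontrivial p-element acts quadratically has a section isomorphic to SL(2, p). -/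
theorem result {G : Type*} [Group G] [Finite G] {p : ℕ} [Fact p.Prime] (hp : p ≠ 2) (V H : Subgroup G) (hV : Cfsg.IsElementaryAbelian p V) (hHV : H ≤ Subgroup.normalizer (V : Set G)) (hf : H ⊓ Subgroup.centralizer (V : Set G) = ⊥) (hO : Cfsg.pCore p ↥H = ⊥) (x : G) (hxH : x ∈ H) (hx1 : x ≠ 1) (hxp : ∃ k : ℕ, orderOf x = p ^ k) (hq : ⁅⁅V, Subgroup.zpowers x⁆, Subgroup.zpowers x⁆ = ⊥) : ∃ (K L : Subgroup G) (hL : (L.subgroupOf K).Normal), K ≤ H ∧ Nonempty ((K ⧸ L.subgroupOf K) ≃* Matrix.SpecialLinearGroup (Fin 2) (ZMod p)) := by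
  classical
  have hp' : p.Prime := Fact.out
  obtain ⟨xH, hxH'⟩ : ∃ xH : ↥H, (xH : G) = x := ⟨⟨x, hxH⟩, rfl⟩
  obtain ⟨k, hk⟩ := hxp
  have hxpow : xH ^ (p ^ k) = 1 := by
    apply Subtype.ext
    rw [Subgroup.coe_pow, hxH', ← hk, Subgroup.coe_one]
    exact pow_orderOf_eq_one x
  have hxH1 : xH ≠ 1 := by
    intro h
    apply hx1
    rw [← hxH', h]
    rfl
  have hXp : IsPGroup p (Subgroup.zpowers xH) := by
    rintro ⟨g, hg⟩
    obtain ⟨m, rfl⟩ := Subgroup.mem_zpowers_iff.mp hg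
    refine ⟨k, Subtype.ext ?_⟩
    rw [Subgroup.coe_pow, Subgroup.coe_one]
    show (xH ^ m) ^ (p ^ k) = 1
    rw [← zpow_natCast, ← zpow_mul, mul_comm, zpow_mul, zpow_natCast, hxpow, one_zpow]
  -- Baer–Suzuki
  have hBS : ∃ g : ↥H, ¬ IsPGroup p
      ↥(Subgroup.zpowers xH ⊔ (Subgroup.zpowers xH).map (MulAut.conj g).toMonoidHom) := by
    by_contra hno
    push Not at hno
    obtain ⟨N, hN, hNp, hXN⟩ := Cfsg.Agent.S0199.result (Subgroup.zpowers xH) hXp hno
    have hle : N ≤ Cfsg.pCore p ↥H := Cfsg.Agent.Lib.helper15.le_pCore hN hNp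
    rw [hO] at hle
    have hmem : xH ∈ (⊥ : Subgroup ↥H) := hle (hXN (Subgroup.mem_zpowers xH))
    exact hxH1 (Subgroup.mem_bot.mp hmem)
  obtain ⟨g, hg⟩ := hBS
  obtain ⟨b, hb⟩ : ∃ b : ↥H, b = g * xH * g⁻¹ := ⟨_, rfl⟩
  obtain ⟨T, hT⟩ : ∃ T : Subgroup ↥H, T = Subgroup.closure {xH, b} := ⟨_, rfl⟩
  have hTeq : Subgroup.zpowers xH ⊔ (Subgroup.zpowers xH).map (MulAut.conj g).toMonoidHom = T := by
    rw [hT, MonoidHom.map_zpowers, Subgroup.zpowers_eq_closure, Subgroup.zpowers_eq_closure,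
      ← Subgroup.closure_union]
    have hbe : (MulAut.conj g).toMonoidHom xH = b := by rw [hb]; rfl
    rw [hbe, Set.singleton_union]
  rw [hTeq] at hg
  have hnp : ∃ t : ↥T, ∀ j : ℕ, t ^ (p ^ j) ≠ 1 := by
    by_contra hno
    push Not at hno
    exact hg (fun t => hno t)
  -- the action on V
  letI : CommGroup ↥V :=
    { (inferInstance : Group ↥V) with
      mul_comm := fun u v => hV.1.is_comm.comm u v }
  obtain ⟨αH, hαH⟩ : ∃ αH : ↥H →* MulAut ↥V,
      ∀ (h : ↥H) (v : ↥V), ((αH h v : ↥V) : G) = (h : G) * v * (h : G)⁻¹ :=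
    ⟨(Subgroup.normalizerMonoidHom V).comp (Subgroup.inclusion hHV), fun h v => rfl⟩
  have hαinj : ∀ h : ↥H, αH h = 1 → h = 1 := by
    intro h hh
    have hmem : (h : G) ∈ H ⊓ Subgroup.centralizer (V : Set G) := by
      refine ⟨h.2, ?_⟩
      show (h : G) ∈ Subgroup.centralizer (V : Set G)
      rw [Subgroup.mem_centralizer_iff]
      intro v hv
      have h3 := hαH h ⟨v, hv⟩
      rw [hh] at h3
      have h4 : v = (h : G) * v * (h : G)⁻¹ := h3
      calc v * (h : G) = ((h : G) * v * (h : G)⁻¹) * (h : G) := by rw [← h4]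
        _ = (h : G) * v := by group
    rw [hf, Subgroup.mem_bot] at hmem
    exact Subtype.ext hmem
  have hqx : ∀ v : ↥V, αH xH (αH xH v / v) = αH xH v / v := by
    intro v
    apply Subtype.ext
    rw [hαH, Subgroup.coe_div, hαH, hxH', div_eq_mul_inv]
    have hc1 : x * (v : G) * x⁻¹ * (v : G)⁻¹ ∈ ⁅V, Subgroup.zpowers x⁆ := by
      have h5 := Subgroup.commutator_mem_commutator v.2 (Subgroup.mem_zpowers x)
      have h6 := Subgroup.inv_mem _ h5
      rw [commutatorElement_inv, commutatorElement_def] at h6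
      exact h6
    have hc2 := Subgroup.commutator_mem_commutator hc1 (Subgroup.mem_zpowers x)
    rw [hq, Subgroup.mem_bot, commutatorElement_def] at hc2
    have hc3 : x * (v : G) * x⁻¹ * (v : G)⁻¹ * x = x * (x * (v : G) * x⁻¹ * (v : G)⁻¹) := by
      have h7 := congrArg (fun t => t * x * (x * (v : G) * x⁻¹ * (v : G)⁻¹)) hc2
      simp only [one_mul] at h7
      rw [← h7]
      group
    rw [← hc3]
    group
  have hqb : ∀ v : ↥V, αH b (αH b v / v) = αH b v / v := by
    intro v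
    have hbα : αH b = αH g * αH xH * (αH g)⁻¹ := by rw [hb, map_mul, map_mul, map_inv]
    obtain ⟨u, hu⟩ : ∃ u : ↥V, u = (αH g)⁻¹ v := ⟨_, rfl⟩
    have hv : v = αH g u := by rw [hu]; simp
    have e1 : αH b v = αH g (αH xH u) := by
      rw [hbα, hv]; simp
    have e2 : αH b v / v = αH g (αH xH u / u) := by
      rw [e1, map_div, ← hv]
    have e3 : αH b (αH g (αH xH u / u)) = αH g (αH xH (αH xH u / u)) := by
      rw [hbα]; simp
    rw [e2, e3, hqx u]
  obtain ⟨α, hα⟩ : ∃ α : ↥T →* MulAut ↥V, α = αH.comp T.subtype := ⟨_, rfl⟩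
  obtain ⟨a', ha'⟩ : ∃ a' : ↥T, (a' : ↥H) = xH :=
    ⟨⟨xH, by rw [hT]; exact Subgroup.subset_closure (by simp)⟩, rfl⟩
  obtain ⟨b', hb'⟩ : ∃ b' : ↥T, (b' : ↥H) = b :=
    ⟨⟨b, by rw [hT]; exact Subgroup.subset_closure (by simp)⟩, rfl⟩
  have hgen : Subgroup.closure ({a', b'} : Set ↥T) = ⊤ := by
    subst hT
    have h1 := Subgroup.closure_closure_coe_preimage (k := ({xH, b} : Set ↥H))
    have h2 : (Subtype.val ⁻¹' ({xH, b} : Set ↥H) :
        Set ↥(Subgroup.closure ({xH, b} : Set ↥H))) = {a', b'} := by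
      ext t
      constructor
      · intro ht
        have ht' : (t : ↥H) = xH ∨ (t : ↥H) = b := ht
        rcases ht' with h | h
        · left; exact Subtype.ext (by rw [ha']; exact h)
        · right; exact Subtype.ext (by rw [hb']; exact h)
      · intro ht
        have ht' : t = a' ∨ t = b' := ht
        show (t : ↥H) = xH ∨ (t : ↥H) = b
        rcases ht' with h | h
        · left; rw [h]; exact ha'
        · right; rw [h]; exact hb'
    rw [← h2]; exact h1
  have ha : ∀ v : ↥V, α a' (α a' v / v) = α a' v / v := by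
    intro v
    rw [hα]
    simp only [MonoidHom.comp_apply, Subgroup.coe_subtype, ha']
    exact hqx v
  have hb2 : ∀ v : ↥V, α b' (α b' v / v) = α b' v / v := by
    intro v
    rw [hα]
    simp only [MonoidHom.comp_apply, Subgroup.coe_subtype, hb']
    exact hqb v
  have hexp : ∀ v : ↥V, v ^ p = 1 := fun v =>
    Subtype.ext (by rw [Subgroup.coe_pow]; exact hV.2 v v.2)
  have hnp' : ∃ t : ↥T, ∀ j : ℕ, α t ^ (p ^ j) ≠ 1 := by
    obtain ⟨t, ht⟩ := hnp
    refine ⟨t, fun j hj => ht j ?_⟩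
    rw [← map_pow, hα] at hj
    have h3 := hαinj _ hj
    exact Subtype.ext h3
  obtain ⟨n, φ, -, t₀, ht₀⟩ :=
    Cfsg.Agent.Lib.helper3.quad_pair_abstract hexp α a' b' hgen ha hb2 hnp'
  -- unipotent images
  have hapow : a' ^ (p ^ k) = 1 := by
    apply Subtype.ext
    rw [Subgroup.coe_pow, ha', hxpow]
    rfl
  have hbpow : b' ^ (p ^ k) = 1 := by
    apply Subtype.ext
    rw [Subgroup.coe_pow, hb', hb, conj_pow, hxpow]
    simp
  have hta : Cfsg.Agent.Lib.helper15.Dk.tr (φ a') = 2 := by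
    apply Cfsg.Agent.Lib.helper15.Dk.tr_of_pow_char p _ k
    rw [← map_pow, hapow, map_one]
  have htb : Cfsg.Agent.Lib.helper15.Dk.tr (φ b') = 2 := by
    apply Cfsg.Agent.Lib.helper15.Dk.tr_of_pow_char p _ k
    rw [← map_pow, hbpow, map_one]
  have hnc : φ a' * φ b' ≠ φ b' * φ a' := by
    intro hc
    have h1 := pow_eq_one_of_gen φ a' b' hgen p
      (Cfsg.Agent.Lib.helper15.Dk.unip_pow_char p _ hta)
      (Cfsg.Agent.Lib.helper15.Dk.unip_pow_char p _ htb) hc t₀
    exact ht₀ 1 (by rw [pow_one, ← map_pow]; rw [map_pow]; exact h1)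
  obtain ⟨Ψ, hΨinj, hΨmem⟩ := Cfsg.Agent.Lib.helper15.Dk.W_hom p hp φ.range (φ a') (φ b')
    ⟨a', rfl⟩ ⟨b', rfl⟩ hta htb hnc
  -- the section
  obtain ⟨K₁, hK₁⟩ : ∃ K₁ : Subgroup ↥T, K₁ = Ψ.range.comap φ := ⟨_, rfl⟩
  have hmemK : ∀ t : ↥K₁, (φ.comp K₁.subtype) t ∈ Ψ.range := by
    intro t
    have h1 : (t : ↥T) ∈ Ψ.range.comap φ := by rw [← hK₁]; exact t.2
    exact h1
  obtain ⟨f₁, hf₁⟩ : ∃ f₁ : ↥K₁ →* Matrix.SpecialLinearGroup (Fin 2) (ZMod p),
      ∀ t : ↥K₁, Ψ (f₁ t) = φ (t : ↥T) := by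
    refine ⟨(MonoidHom.ofInjective hΨinj).symm.toMonoidHom.comp
      ((φ.comp K₁.subtype).codRestrict Ψ.range hmemK), ?_⟩
    intro t
    have h1 := (MonoidHom.ofInjective hΨinj).apply_symm_apply
      (((φ.comp K₁.subtype).codRestrict Ψ.range hmemK) t)
    exact congrArg Subtype.val h1
  have hf₁surj : Function.Surjective f₁ := by
    intro M
    obtain ⟨t, ht⟩ := hΨmem M
    have htK : t ∈ K₁ := by
      rw [hK₁]
      exact ⟨M, ht.symm⟩
    refine ⟨⟨t, htK⟩, hΨinj ?_⟩
    rw [hf₁]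
    exact ht
  obtain ⟨f, hfsurj⟩ : ∃ f : ↥((K₁.map T.subtype).map H.subtype) →*
      Matrix.SpecialLinearGroup (Fin 2) (ZMod p), Function.Surjective f := by
    refine ⟨f₁.comp ((K₁.equivMapOfInjective T.subtype T.subtype_injective).symm.toMonoidHom.comp
      ((K₁.map T.subtype).equivMapOfInjective H.subtype H.subtype_injective).symm.toMonoidHom), ?_⟩
    exact hf₁surj.comp
      ((K₁.equivMapOfInjective T.subtype T.subtype_injective).symm.surjective.comp
        ((K₁.map T.subtype).equivMapOfInjective H.subtype H.subtype_injective).symm.surjective)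
  obtain ⟨L, hL, ⟨e⟩⟩ := section_of_surj _ f hfsurj
  exact ⟨(K₁.map T.subtype).map H.subtype, L, hL, Subgroup.map_subtype_le _, ⟨e⟩⟩


end Cfsg.Agent.S0656
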