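import Mathlib
import Cfsg.Statements.S0542
import Cfsg.Agent.Lib.helper3.Basic

set_option autoImplicit false
set_option linter.style.haveILetI false
open Cfsg

namespace Cfsg.Agent.S0542

open Cfsg.Agent.Lib.helper3

universe u

theorem relIndex_dvd_index_of_normal_right {G : Type u} [Group G] [Finite G] (S N : Subgroup G)
    [N.Normal] : S.relIndex N ∣ S.index := by
  have h1 : Nat.card (S ⊓ N : Subgroup G) * S.relIndex N = Nat.card N := by
    rw [← Subgroup.inf_relIndex_right]; exact card_mul_relIndex_of_le inf_le_right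
  have h2 : Nat.card S * S.relIndex (S ⊔ N) = Nat.card (S ⊔ N : Subgroup G) :=
    card_mul_relIndex_of_le le_sup_left
  have h3 := card_sup_mul_card_inf_of_normal S N
  have h4 : S.relIndex (S ⊔ N) = S.relIndex N := by
    have hS := Nat.card_pos (α := S)
    have hI := Nat.card_pos (α := (S ⊓ N : Subgroup G))
    rw [← h2, ← h1] at h3
    have : Nat.card S * Nat.card (S ⊓ N : Subgroup G) * S.relIndex (S ⊔ N) =
        Nat.card S * Nat.card (S ⊓ N : Subgroup G) * S.relIndex N := by linarith
    exact Nat.eq_of_mul_eq_mul_left (Nat.mul_pos hS hI) this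
  rw [← h4]; exact Subgroup.relIndex_dvd_index_of_le le_sup_left

theorem not_dvd_relIndex {G : Type u} [Group G] [Finite G] (p : ℕ) [Fact p.Prime]
    (S : Sylow p G) (H : Subgroup G) (hH : H.IsSubnormal) :
    ¬ p ∣ (S : Subgroup G).relIndex H := by
  induction hH with
  | top => rw [Subgroup.relIndex_top_right]; exact S.not_dvd_index
  | step H K hle hK hN ih =>
    intro hdvd
    apply ih
    haveI := hN
    have h1 := relIndex_dvd_index_of_normal_right ((S : Subgroup G).subgroupOf K)
      (H.subgroupOf K)
    rw [Subgroup.relIndex_subgroupOf hle] at h1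
    exact hdvd.trans h1

/-- A Sylow p-subgroup of a finite group meets every subnormal subgroup H in a Sylow p-subgroup of H. -/
theorem result {G : Type*} [Group G] [Finite G] (p : ℕ) [Fact p.Prime] (H : Subgroup G) (hH : H.IsSubnormal) (S : Sylow p G) : ∃ Q : Sylow p H, (Q : Subgroup H) = (S : Subgroup G).subgroupOf H := by
  have h1 : IsPGroup p ((S : Subgroup G).subgroupOf H) := S.isPGroup'.comap_subtype
  have h2 : ¬ p ∣ ((S : Subgroup G).subgroupOf H).index := not_dvd_relIndex p S H hH
  exact ⟨h1.toSylow h2, rfl⟩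

end Cfsg.Agent.S0542
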