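import Cfsg.Statements.S0339
import Cfsg.Agent.Lib.helper2.ZassNormal

set_option autoImplicit false
open Cfsg

open Cfsg.Agent.Lib.helper2.ZassCount

namespace Cfsg.Agent.S0339

/-- A non-trivial normal subgroup of a Zassenhaus group is itself a Zassenhaus group on the same set. -/
theorem result {G Ω : Type*} [Group G] [MulAction G Ω] [Finite Ω]
    (hZ : Cfsg.IsZassenhausGroup G Ω) (N : Subgroup G) [N.Normal] (hN : N ≠ ⊥) :
    Cfsg.IsZassenhausGroup N Ω := by
  classical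
  haveI : Fintype Ω := Fintype.ofFinite Ω
  haveI := hZ.1
  haveI : Finite G := Finite.of_injective (MulAction.toPermHom G Ω) MulAction.toPerm_injective
  by_cases hA : ∃ y ∈ N, y ≠ 1 ∧ ∃ c d : Ω, c ≠ d ∧ y • c = c ∧ y • d = d
  · obtain ⟨y, hyN, hy1, c, d, hcd, hyc, hyd⟩ := hA
    have h2N := normal_two_trans hZ N y hyN hy1 hcd hyc hyd
    refine ⟨⟨fun {m₁ m₂} h => Subtype.ext (FaithfulSMul.eq_of_smul_eq_smul (α := Ω) h)⟩, ?_, ?_, ?_, ?_⟩
    · rw [MulAction.is_two_pretransitive_iff]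
      intro a b c d hab hcd
      obtain ⟨y, hy, h1, h2⟩ := h2N a b c d hab hcd
      exact ⟨⟨y, hy⟩, h1, h2⟩
    · intro g a b c hab hbc hac ha hb hc
      exact Subtype.ext (hZ.2.2.1 (g : G) a b c hab hbc hac ha hb hc)
    · exact ⟨⟨y, hyN⟩, fun h => hy1 (congrArg Subtype.val h), c, d, hcd, hyc, hyd⟩
    · intro L hLn hLt
      by_contra hcon
      push Not at hcon
      apply no_regular_normal hZ N h2N (L.map N.subtype)
      · intro x hx
        obtain ⟨x₀, _, rfl⟩ := Subgroup.mem_map.mp hx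
        exact x₀.2
      · intro l hl y hy
        obtain ⟨l₀, hl₀, rfl⟩ := Subgroup.mem_map.mp hl
        exact Subgroup.mem_map.mpr ⟨⟨y, hy⟩ * l₀ * ⟨y, hy⟩⁻¹, hLn.conj_mem l₀ hl₀ ⟨y, hy⟩, rfl⟩
      · intro p q
        obtain ⟨l, hl⟩ := hLt.exists_smul_eq p q
        exact ⟨((l : ↥N) : G), Subgroup.mem_map.mpr ⟨l.1, l.2, rfl⟩, hl⟩
      · intro l hl hl1 c hc
        obtain ⟨l₀, hl₀, rfl⟩ := Subgroup.mem_map.mp hl
        have h1 : (⟨l₀, hl₀⟩ : ↥L) ∈ MulAction.stabilizer ↥L c := hc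
        rw [hcon c, Subgroup.mem_bot] at h1
        apply hl1
        have h2 : l₀ = 1 := congrArg Subtype.val h1
        rw [h2]
        rfl
  · exfalso
    push Not at hA
    exact frob_case hZ N hN (fun y hy hy1 c d hcd hc hd => hA y hy hy1 c d hcd hc hd)

end Cfsg.Agent.S0339
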