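import Cfsg.Statements.S0338
import Cfsg.Agent.Lib.helper2.ZassInv2
import Cfsg.Agent.S0339

set_option autoImplicit false
open Cfsg

open Cfsg.Agent.Lib.helper2.ZassCount

namespace Cfsg.Agent.S0338

/-- A Zassenhaus group of odd degree is a simple group. -/
theorem result {G Ω : Type*} [Group G] [MulAction G Ω] [Fintype Ω]
    (hZ : Cfsg.IsZassenhausGroup G Ω) (hodd : Odd (Fintype.card Ω)) : IsSimpleGroup G := by
  classical
  haveI := hZ.1
  haveI : Finite G := Finite.of_injective (MulAction.toPermHom G Ω) MulAction.toPerm_injective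
  haveI : Fintype G := Fintype.ofFinite G
  obtain ⟨g₀, hg₀, a, b, hab, -, -⟩ := hZ.2.2.2.1
  have hoddE := odd_deg_e_odd hZ hab hodd
  obtain ⟨hJcard, hJorb⟩ := invol_fix_struct hZ hab hoddE hodd
  refine { exists_pair_ne := ⟨g₀, 1, hg₀⟩, eq_bot_or_eq_top_of_normal := fun N hNn => ?_ }
  haveI := hNn
  by_cases hN : N = ⊥
  · left
    exact hN
  · right
    have hNZ := Cfsg.Agent.S0339.result hZ N hN
    haveI : Fintype ↥N := Fintype.ofFinite _
    have hoddE₀ := odd_deg_e_odd hNZ hab hodd
    obtain ⟨hJcard₀, -⟩ := invol_fix_struct hNZ hab hoddE₀ hodd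
    have hle : Nat.card ↥(MulAction.stabilizer G a ⊓ MulAction.stabilizer G b : Subgroup G)
        ≤ Nat.card ↥(MulAction.stabilizer ↥N a ⊓ MulAction.stabilizer ↥N b : Subgroup ↥N) := by
      rw [← hJcard, ← hJcard₀]
      have hpos : 0 < (Finset.univ.filter (fun z : ↥N => orderOf z = 2 ∧ z • a = a)).card := by
        rw [hJcard₀]
        exact Nat.card_pos
      obtain ⟨z₀, hz₀⟩ := Finset.card_pos.mp hpos
      rw [Finset.mem_filter] at hz₀
      have hz₀G : (z₀ : G) ∈ Finset.univ.filter (fun z : G => orderOf z = 2 ∧ z • a = a) := by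
        rw [Finset.mem_filter]
        refine ⟨Finset.mem_univ _, ?_, hz₀.2.2⟩
        rw [Subgroup.orderOf_coe]
        exact hz₀.2.1
      have hsub : Finset.univ.filter (fun z : G => orderOf z = 2 ∧ z • a = a)
          ⊆ (Finset.univ.filter (fun z : ↥N => orderOf z = 2 ∧ z • a = a)).image
            (fun z : ↥N => (z : G)) := by
        intro w hw
        obtain ⟨g, _, hg⟩ := hJorb _ hz₀G w hw
        have hwN : w ∈ N := by
          rw [← hg]
          exact hNn.conj_mem _ z₀.2 g
        rw [Finset.mem_filter] at hw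
        refine Finset.mem_image.mpr ⟨⟨w, hwN⟩, ?_, rfl⟩
        rw [Finset.mem_filter]
        refine ⟨Finset.mem_univ _, ?_, hw.2.2⟩
        rw [← Subgroup.orderOf_coe]
        exact hw.2.1
      exact (Finset.card_le_card hsub).trans Finset.card_image_le
    have hG := card_G (G := G) (Ω := Ω) hZ.2.1 hab
    have hNc := card_G (G := ↥N) (Ω := Ω) hNZ.2.1 hab
    apply Subgroup.eq_top_of_le_card
    rw [Nat.card_eq_fintype_card, Nat.card_eq_fintype_card, hG, hNc]
    exact Nat.mul_le_mul_left _ hle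

end Cfsg.Agent.S0338
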