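import Cfsg.Statements.S0738
import Cfsg.Agent.Lib.helper2.FreeAut

set_option autoImplicit false
open Cfsg

open Cfsg.Agent.Lib.helper2.FreeAut

namespace Cfsg.Agent.S0738

/-- Let a finite Zassenhaus group of degree `n + 1` have two-point stabilisers of order `d` with `2d ≥ n - 1`. Then a normal subgroup of a point stabiliser acting regularly on the remaining points is elementary abelian, and the degree is a prime power plus one. -/
theorem result {G Ω : Type*} [Group G] [Finite G] [MulAction G Ω] [Fintype Ω] (hZ : Cfsg.IsZassenhausGroup G Ω) {a b : Ω} (hab : a ≠ b) (hd : Fintype.card Ω - 2 ≤ 2 * Nat.card ↥(MulAction.stabilizer G a ⊓ MulAction.stabilizer G b)) (F : Subgroup G) (hFle : F ≤ MulAction.stabilizer G a) (hFn : (F.subgroupOf (MulAction.stabilizer G a)).Normal) (hreg : ∀ y z : Ω, y ≠ a → z ≠ a → ∃! u : F, (u : G) • y = z) : IsMulCommutative F ∧ ∃ p f : ℕ, p.Prime ∧ (∀ u ∈ F, u ^ p = 1) ∧ Fintype.card Ω = p ^ f + 1 := by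
  classical
  obtain ⟨hfaith, h2, h3, hex, hnn⟩ := hZ
  have hba : b ≠ a := fun h => hab h.symm
  haveI := hFn
  let φ : ↥(MulAction.stabilizer G a ⊓ MulAction.stabilizer G b : Subgroup G) →*
      MulAut ↥(F.subgroupOf (MulAction.stabilizer G a)) :=
    (MulAut.conjNormal).comp (Subgroup.inclusion inf_le_left)
  have hφ : ∀ (g : ↥(MulAction.stabilizer G a ⊓ MulAction.stabilizer G b : Subgroup G))
      (x : ↥(F.subgroupOf (MulAction.stabilizer G a))),
      (((φ g x : ↥(F.subgroupOf (MulAction.stabilizer G a))) : ↥(MulAction.stabilizer G a)) : G)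
        = (g : G) * ((x : ↥(MulAction.stabilizer G a)) : G) * (g : G)⁻¹ := by
    intro g x
    rfl
  have hfix_b : ∀ u ∈ F, u • b = b → u = 1 := by
    intro u hu hub
    obtain ⟨w, -, hw⟩ := hreg b b hba hba
    have h1 := hw ⟨u, hu⟩ hub
    have h2' := hw 1 (by show ((1 : F) : G) • b = b; rw [Subgroup.coe_one, one_smul])
    have h3' : (⟨u, hu⟩ : F) = 1 := h1.trans h2'.symm
    exact congrArg Subtype.val h3'
  have hfree : ∀ g : ↥(MulAction.stabilizer G a ⊓ MulAction.stabilizer G b : Subgroup G), g ≠ 1 →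
      ∀ x : ↥(F.subgroupOf (MulAction.stabilizer G a)), x ≠ 1 → φ g x ≠ x := by
    intro g hg x hx hfix
    apply hg
    have hgab := Subgroup.mem_inf.mp g.2
    have hga : (g : G) • a = a := hgab.1
    have hgb : (g : G) • b = b := hgab.2
    have huF : ((x : ↥(MulAction.stabilizer G a)) : G) ∈ F := Subgroup.mem_subgroupOf.mp x.2
    have hua : ((x : ↥(MulAction.stabilizer G a)) : G) • a = a := (x : ↥(MulAction.stabilizer G a)).2
    have hu1 : ((x : ↥(MulAction.stabilizer G a)) : G) ≠ 1 := by
      intro h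
      apply hx
      apply Subtype.ext
      apply Subtype.ext
      rw [h]
      rfl
    have hconj : (g : G) * ((x : ↥(MulAction.stabilizer G a)) : G) * (g : G)⁻¹
        = ((x : ↥(MulAction.stabilizer G a)) : G) := by
      rw [← hφ g x, hfix]
    obtain ⟨u, hu⟩ : ∃ u : G, u = ((x : ↥(MulAction.stabilizer G a)) : G) := ⟨_, rfl⟩
    rw [← hu] at huF hua hu1 hconj
    have hgu : (g : G) • (u • b) = u • b := by
      have h5 : (g : G) * u = u * (g : G) := by
        calc (g : G) * u = ((g : G) * u * (g : G)⁻¹) * (g : G) := by group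
          _ = u * (g : G) := by rw [hconj]
      rw [← mul_smul, h5, mul_smul, hgb]
    have hub : u • b ≠ b := fun h => hu1 (hfix_b u huF h)
    have hua' : u • b ≠ a := by
      intro h
      have h6 : u • b = u • a := h.trans hua.symm
      exact hba (MulAction.injective u h6)
    have hg1 := h3 (g : G) a b (u • b) hab (fun h => hub h.symm) (fun h => hua' h.symm) hga hgb hgu
    exact Subtype.ext hg1
  have hcardF : Nat.card F = Fintype.card Ω - 1 := by
    have hbij : Function.Bijective (fun w : F => (⟨(w : G) • b, by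
        intro h
        have hwa : (w : G) • a = a := hFle w.2
        have h6 : (w : G) • b = (w : G) • a := h.trans hwa.symm
        exact hba (MulAction.injective (w : G) h6)⟩ : {z : Ω // z ≠ a})) := by
      constructor
      · intro w w' hww
        have h7 : (w : G) • b = (w' : G) • b := congrArg Subtype.val hww
        obtain ⟨w₀, -, hw₀⟩ := hreg b ((w' : G) • b) hba (by
          intro h
          have hwa : (w' : G) • a = a := hFle w'.2
          have h6 : (w' : G) • b = (w' : G) • a := h.trans hwa.symm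
          exact hba (MulAction.injective (w' : G) h6))
        exact (hw₀ w h7).trans (hw₀ w' rfl).symm
      · intro z
        obtain ⟨w₀, hw₀, -⟩ := hreg b z.1 hba z.2
        exact ⟨w₀, Subtype.ext hw₀⟩
    rw [Nat.card_eq_of_bijective _ hbij, Nat.card_eq_fintype_card, Fintype.card_subtype_compl,
      Fintype.card_subtype_eq]
  have hcardH : Nat.card ↥(F.subgroupOf (MulAction.stabilizer G a)) = Fintype.card Ω - 1 := by
    rw [← hcardF]
    exact Nat.card_congr (Subgroup.subgroupOfEquivOfLe hFle).toEquiv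
  have hle : Nat.card ↥(F.subgroupOf (MulAction.stabilizer G a)) - 1
      ≤ 2 * Nat.card ↥(MulAction.stabilizer G a ⊓ MulAction.stabilizer G b : Subgroup G) := by
    rw [hcardH]
    omega
  obtain ⟨hcomm, p, f, hp, hexp, hcard⟩ := elem_abelian_of_free φ hfree hle
  have hn2 : 2 ≤ Fintype.card Ω := Fintype.one_lt_card_iff.mpr ⟨a, b, hab⟩
  refine ⟨⟨⟨fun x y => ?_⟩⟩, p, f, hp, ?_, ?_⟩
  · have h8 := hcomm ⟨⟨x.1, hFle x.2⟩, Subgroup.mem_subgroupOf.mpr x.2⟩
      ⟨⟨y.1, hFle y.2⟩, Subgroup.mem_subgroupOf.mpr y.2⟩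
    have h9 := congrArg (fun w : ↥(F.subgroupOf (MulAction.stabilizer G a)) =>
      ((w : ↥(MulAction.stabilizer G a)) : G)) h8
    exact Subtype.ext h9
  · intro u hu
    have h8 := hexp ⟨⟨u, hFle hu⟩, Subgroup.mem_subgroupOf.mpr hu⟩
    have h9 := congrArg (fun w : ↥(F.subgroupOf (MulAction.stabilizer G a)) =>
      ((w : ↥(MulAction.stabilizer G a)) : G)) h8
    exact h9
  · rw [hcardH] at hcard
    omega

end Cfsg.Agent.S0738
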