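import Mathlib
import Cfsg.Statements.S0932

set_option autoImplicit false
open Cfsg

namespace Cfsg.Agent.S0932

/-- `G` is in bijection with `class(x) × C(x)` compatibly with `g ↦ g⁻¹ x g` -/
theorem exists_conj_equiv {G : Type*} [Group G] (x : G) :
    ∃ e : {y : G // IsConj x y} × (Subgroup.centralizer ({x} : Set G)) ≃ G,
      ∀ yc, (e yc)⁻¹ * x * (e yc) = yc.1.1 := by
  classical
  have hex : ∀ y : {y : G // IsConj x y}, ∃ r : G, r⁻¹ * x * r = y.1 := by
    intro y
    obtain ⟨c, hc⟩ := isConj_iff.mp y.2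
    exact ⟨c⁻¹, by rw [← hc]; group⟩
  choose r hr using hex
  have hcent : ∀ c : Subgroup.centralizer ({x} : Set G), (c : G) * x = x * (c : G) := by
    intro c
    exact (Subgroup.mem_centralizer_iff.mp c.2 x rfl).symm
  have hval : ∀ yc : {y : G // IsConj x y} × (Subgroup.centralizer ({x} : Set G)),
      ((yc.2 : G) * r yc.1)⁻¹ * x * ((yc.2 : G) * r yc.1) = (yc.1 : G) := by
    intro yc
    calc ((yc.2 : G) * r yc.1)⁻¹ * x * ((yc.2 : G) * r yc.1)
        = (r yc.1)⁻¹ * ((yc.2 : G)⁻¹ * (x * (yc.2 : G))) * r yc.1 := by group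
      _ = (r yc.1)⁻¹ * ((yc.2 : G)⁻¹ * ((yc.2 : G) * x)) * r yc.1 := by rw [hcent yc.2]
      _ = (r yc.1)⁻¹ * x * r yc.1 := by group
      _ = yc.1 := hr yc.1
  refine ⟨
    { toFun := fun yc => (yc.2 : G) * r yc.1
      invFun := fun g => (⟨g⁻¹ * x * g, isConj_iff.mpr ⟨g⁻¹, by group⟩⟩,
        ⟨g * (r ⟨g⁻¹ * x * g, isConj_iff.mpr ⟨g⁻¹, by group⟩⟩)⁻¹, ?_⟩)
      left_inv := ?_
      right_inv := ?_ }, ?_⟩
  · rw [Subgroup.mem_centralizer_iff]
    intro w hw
    rw [Set.mem_singleton_iff] at hw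
    subst hw
    have h := hr ⟨g⁻¹ * w * g, isConj_iff.mpr ⟨g⁻¹, by group⟩⟩
    simp only at h
    set rr := r ⟨g⁻¹ * w * g, isConj_iff.mpr ⟨g⁻¹, by group⟩⟩ with hrr
    have h2 : w * rr = rr * (g⁻¹ * w * g) := by rw [← h]; group
    have h3 : g * (g⁻¹ * w * g) = w * g := by group
    calc w * (g * rr⁻¹) = w * g * rr⁻¹ := by group
      _ = g * (g⁻¹ * w * g) * rr⁻¹ := by rw [h3]
      _ = g * (rr⁻¹ * (rr * (g⁻¹ * w * g))) * rr⁻¹ := by group
      _ = g * (rr⁻¹ * (w * rr)) * rr⁻¹ := by rw [h2]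
      _ = g * rr⁻¹ * w := by group
  · rintro ⟨y, c⟩
    have e1 := hval (y, c)
    simp only at e1
    have e2 : (⟨((c : G) * r y)⁻¹ * x * ((c : G) * r y), isConj_iff.mpr ⟨((c : G) * r y)⁻¹, by group⟩⟩ :
        {y : G // IsConj x y}) = y := Subtype.ext e1
    apply Prod.ext
    · exact e2
    · apply Subtype.ext
      simp only
      rw [e2]
      group
  · intro g
    simp
  · intro yc
    exact hval yc

theorem sum_conj {G : Type*} [Group G] [Fintype G] (g : G) (F : G → ℂ) :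
    ∑ x : G, F (x⁻¹ * g * x)
      = (Nat.card (Subgroup.centralizer ({g} : Set G)) : ℂ) * ∑ᶠ y ∈ {y : G | IsConj g y}, F y := by
  classical
  obtain ⟨e, he⟩ := exists_conj_equiv g
  rw [← Equiv.sum_comp e (fun x => F (x⁻¹ * g * x))]
  simp only [he]
  rw [Fintype.sum_prod_type]
  simp only [Finset.sum_const, Finset.card_univ, nsmul_eq_mul]
  rw [← Finset.mul_sum, Nat.card_eq_fintype_card]
  congr 1
  rw [← finsum_set_coe_eq_finsum_mem, finsum_eq_sum_of_fintype]
  exact Fintype.sum_equiv (Equiv.refl _) _ _ (fun _ => rfl)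

/-- Let H be a subgroup of the finite group G and ξ a character of H. For every g ∈ G, the sum of ξ h / ξ 1 over the elements h ∈ H that are conjugate in G to g equals the central character at g of the character of G induced from ξ (class size times value divided by degree). -/
theorem result {G : Type*} [Group G] [Fintype G] (H : Subgroup G) (ξ : H → ℂ) (hξ : Cfsg.IsCharacter H ξ) (g : G) : Cfsg.inducedCentralChar H ξ g = Cfsg.centralChar (Cfsg.indFun H ξ) g := by
  classical
  have hext : ∀ h : H, Cfsg.extendByZero H ξ (h : G) = ξ h := by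
    intro h
    unfold Cfsg.extendByZero
    exact Subtype.val_injective.extend_apply ξ 0 h
  have hext0 : ∀ g : G, g ∉ H → Cfsg.extendByZero H ξ g = 0 := by
    intro g hg
    unfold Cfsg.extendByZero
    rw [Function.extend_apply']
    · rfl
    · rintro ⟨a, rfl⟩
      exact hg a.2
  -- the sum over the class, restricted to H
  have hA : ∑ᶠ y ∈ {y : G | IsConj g y}, Cfsg.extendByZero H ξ y
      = ∑ᶠ h ∈ {h : H | IsConj g (h : G)}, ξ h := by
    have hL : ∑ᶠ y ∈ {y : G | IsConj g y}, Cfsg.extendByZero H ξ y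
        = ∑ᶠ y ∈ {y : G | IsConj g y ∧ y ∈ H}, Cfsg.extendByZero H ξ y := by
      apply finsum_mem_inter_support_eq
      ext y
      constructor
      · rintro ⟨h1, hp⟩
        refine ⟨⟨h1, ?_⟩, hp⟩
        by_contra hcon
        exact hp (hext0 _ hcon)
      · rintro ⟨⟨h1, _⟩, hp⟩
        exact ⟨h1, hp⟩
    rw [hL]
    symm
    apply finsum_mem_eq_of_bijOn (fun q : H => (q : G))
    · refine ⟨?_, ?_, ?_⟩
      · intro q hq
        exact ⟨hq, q.2⟩
      · intro q _ q' _ hqq'
        exact Subtype.ext hqq'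
      · rintro y ⟨hy, hyH⟩
        exact ⟨⟨y, hyH⟩, hy, rfl⟩
    · intro q _
      exact (hext q).symm
  unfold Cfsg.inducedCentralChar Cfsg.centralChar Cfsg.indFun
  have h1 : ∑ x : G, Cfsg.extendByZero H ξ (x⁻¹ * 1 * x) = (Fintype.card G : ℂ) * ξ 1 := by
    simp only [mul_one, inv_mul_cancel]
    rw [Finset.sum_const, Finset.card_univ, nsmul_eq_mul]
    congr 1
    exact hext 1
  rw [h1, sum_conj g, hA]
  have hfin : ({h : H | IsConj g (h : G)}).Finite := Set.toFinite _
  rw [finsum_mem_eq_finite_toFinset_sum _ hfin, finsum_mem_eq_finite_toFinset_sum _ hfin,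
    ← Finset.sum_div]
  set A := ∑ i ∈ hfin.toFinset, ξ i with hAdef
  have hHne : (Nat.card H : ℂ) ≠ 0 := by exact_mod_cast Nat.card_pos.ne'
  have hGne : (Fintype.card G : ℂ) ≠ 0 := by exact_mod_cast Fintype.card_ne_zero
  have hidx : ((Subgroup.centralizer ({g} : Set G)).index : ℂ)
      * (Nat.card (Subgroup.centralizer ({g} : Set G)) : ℂ) = (Fintype.card G : ℂ) := by
    rw [← Nat.cast_mul, mul_comm, (Subgroup.centralizer ({g} : Set G)).card_mul_index,
      Nat.card_eq_fintype_card]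
  by_cases h0 : ξ 1 = 0
  · simp [h0]
  · have e : ((Subgroup.centralizer ({g} : Set G)).index : ℂ)
        * ((Nat.card H : ℂ)⁻¹ * ((Nat.card (Subgroup.centralizer ({g} : Set G)) : ℂ) * A))
        = (Nat.card H : ℂ)⁻¹ * ((Fintype.card G : ℂ) * A) := by
      rw [← hidx]; ring
    rw [e]
    field_simp

end Cfsg.Agent.S0932
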