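import Mathlib
import Cfsg.Agent.Lib.helper24.CharReg
import Cfsg.Agent.S0932
import Cfsg.Statements.S0840

set_option autoImplicit false
open scoped ComplexConjugate

namespace Cfsg.Agent.S0840

open Cfsg.Agent.Lib.helper24

/-- `Σ_s F(s a s⁻¹) = |C(a)| Σ_x [a ~ x] F x` -/
theorem sum_conj_ite {G : Type*} [Group G] [Fintype G] (a : G) (F : G → ℂ)
    [DecidablePred (IsConj a)] :
    ∑ s : G, F (s * a * s⁻¹) = (Nat.card (Subgroup.centralizer ({a} : Set G)) : ℂ) *
      ∑ x : G, if IsConj a x then F x else 0 := by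
  classical
  have h := Cfsg.Agent.S0932.sum_conj a F
  have h2 : ∑ᶠ y ∈ {y : G | IsConj a y}, F y = ∑ x : G, if IsConj a x then F x else 0 := by
    rw [finsum_mem_def, finsum_eq_sum_of_fintype]
    apply Finset.sum_congr rfl
    intro x _
    simp [Set.indicator_apply]
  rw [← h2, ← h, ← Equiv.sum_comp (Equiv.inv G)]
  apply Finset.sum_congr rfl
  intro s _
  simp

theorem card_class_mul {G : Type*} [Group G] [Finite G] (a : G) :
    Nat.card {x : G // IsConj a x} * Nat.card (Subgroup.centralizer ({a} : Set G)) = Nat.card G := by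
  obtain ⟨e, -⟩ := Cfsg.Agent.S0932.exists_conj_equiv a
  rw [← Nat.card_prod]
  exact Nat.card_congr e

theorem alg (n ka kb ca cb N S : ℂ) (hn : n ≠ 0) (ha : ka * ca = n) (hb : kb * cb = n)
    (h : ca * cb * N = n * S) : N = ka * kb / n * S := by
  rw [eq_comm, div_mul_eq_mul_div, div_eq_iff hn]
  apply mul_left_cancel₀ hn
  linear_combination (-ka*kb) * h + N*kb*cb*ha + N*n*hb

/-- Class multiplication coefficients from the character table: for elements a, b, c of a finite group G, the number of ordered pairs (x, y) with x conjugate to a, y conjugate to b and x * y = c equals the product of the sizes of the conjugacy classes of a and b, divided by the order of G, times the sum over the irreducible characters χ of χ a * χ b * conj (χ c) / χ 1. -/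
theorem result {G : Type*} [Group G] [Finite G] (a b c : G) : (Nat.card {p : G × G // IsConj a p.1 ∧ IsConj b p.2 ∧ p.1 * p.2 = c} : ℂ) = (Nat.card {x : G // IsConj a x} : ℂ) * (Nat.card {x : G // IsConj b x} : ℂ) / (Nat.card G : ℂ) * ∑ᶠ χ : Cfsg.IrrCharacter G, (χ : G → ℂ) a * (χ : G → ℂ) b * conj ((χ : G → ℂ) c) / (χ : G → ℂ) 1 := by
  classical
  have := Fintype.ofFinite G
  have := Fintype.ofFinite (Cfsg.IrrCharacter G)
  rw [finsum_eq_sum_of_fintype]
  have hN1 : (Nat.card {p : G × G // IsConj a p.1 ∧ IsConj b p.2 ∧ p.1 * p.2 = c} : ℂ)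
      = ∑ x : G, if IsConj a x then
          (∑ y : G, if IsConj b y then (if x * y = c then (1:ℂ) else 0) else 0) else 0 := by
    rw [Nat.card_eq_fintype_card, Fintype.card_subtype, Finset.card_filter]
    push_cast
    rw [Fintype.sum_prod_type]
    apply Finset.sum_congr rfl
    intro x _
    by_cases hx : IsConj a x
    · rw [if_pos hx]
      apply Finset.sum_congr rfl
      intro y _
      by_cases hy : IsConj b y
      · rw [if_pos hy]
        by_cases hxy : x * y = c
        · rw [if_pos hxy, if_pos ⟨hx, hy, hxy⟩]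
        · rw [if_neg hxy, if_neg (fun h => hxy h.2.2)]
      · rw [if_neg hy, if_neg (fun h => hy h.2.1)]
    · rw [if_neg hx]
      apply Finset.sum_eq_zero
      intro y _
      rw [if_neg (fun h => hx h.1)]
  have hT1 : ∑ s : G, ∑ t : G, (if (s * a * s⁻¹) * (t * b * t⁻¹) = c then (1:ℂ) else 0)
      = (Nat.card (Subgroup.centralizer ({a} : Set G)) : ℂ)
        * (Nat.card (Subgroup.centralizer ({b} : Set G)) : ℂ)
        * (Nat.card {p : G × G // IsConj a p.1 ∧ IsConj b p.2 ∧ p.1 * p.2 = c} : ℂ) := by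
    have h1 : ∀ s : G, ∑ t : G, (if (s * a * s⁻¹) * (t * b * t⁻¹) = c then (1:ℂ) else 0)
        = (Nat.card (Subgroup.centralizer ({b} : Set G)) : ℂ) *
          ∑ y, if IsConj b y then (if (s*a*s⁻¹) * y = c then (1:ℂ) else 0) else 0 :=
      fun s => sum_conj_ite b (fun y => if (s*a*s⁻¹) * y = c then (1:ℂ) else 0)
    simp only [h1]
    rw [← Finset.mul_sum,
      sum_conj_ite a (fun x => ∑ y, if IsConj b y then (if x * y = c then (1:ℂ) else 0) else 0),
      ← hN1]
    ring
  have hT2 : ∑ s : G, ∑ t : G, (if (s * a * s⁻¹) * (t * b * t⁻¹) = c then (1:ℂ) else 0)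
      = (Nat.card G : ℂ) * ∑ χ : Cfsg.IrrCharacter G,
          conj (χ.1 a) * conj (χ.1 b) * χ.1 c / χ.1 1 := by
    have h1 : ∀ s : G, ∑ t : G, (if (s * a * s⁻¹) * (t * b * t⁻¹) = c then (1:ℂ) else 0)
        = ∑ χ : Cfsg.IrrCharacter G, χ.1 (s * a⁻¹ * s⁻¹ * c) * conj (χ.1 b) := by
      intro s
      rw [second_orth_count b (s * a⁻¹ * s⁻¹ * c), Nat.card_eq_fintype_card,
        Fintype.card_subtype, Finset.card_filter]
      push_cast
      apply Finset.sum_congr rfl
      intro t _
      have : (s * a * s⁻¹) * (t * b * t⁻¹) = c ↔ t * b * t⁻¹ = s * a⁻¹ * s⁻¹ * c := by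
        constructor
        · intro h; rw [← h]; group
        · intro h; rw [h]; group
      simp only [this]
    simp only [h1]
    rw [Finset.sum_comm, Finset.mul_sum]
    apply Finset.sum_congr rfl
    intro χ _
    have h1' : χ.1 1 ≠ 0 := irr_one_ne_zero χ
    rw [← Finset.sum_mul, irr_sum_conj_mul, irr_inv]
    field_simp
  have hconj : conj (∑ χ : Cfsg.IrrCharacter G, conj (χ.1 a) * conj (χ.1 b) * χ.1 c / χ.1 1)
      = ∑ χ : Cfsg.IrrCharacter G, χ.1 a * χ.1 b * conj (χ.1 c) / χ.1 1 := by
    rw [map_sum]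
    apply Finset.sum_congr rfl
    intro χ _
    rw [map_div₀, map_mul, map_mul, irr_one_conj, Complex.conj_conj, Complex.conj_conj]
  have hkey := hT1.symm.trans hT2
  have hkey2 := congrArg conj hkey
  simp only [map_mul, Complex.conj_natCast] at hkey2
  rw [hconj] at hkey2
  have ha := card_class_mul a
  have hb := card_class_mul b
  have ha' : ((Nat.card {x : G // IsConj a x} : ℂ)) * (Nat.card (Subgroup.centralizer ({a} : Set G)) : ℂ) = (Nat.card G : ℂ) := by
    exact_mod_cast ha
  have hb' : ((Nat.card {x : G // IsConj b x} : ℂ)) * (Nat.card (Subgroup.centralizer ({b} : Set G)) : ℂ) = (Nat.card G : ℂ) := by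
    exact_mod_cast hb
  have hne : (Nat.card G : ℂ) ≠ 0 := NeZero.ne _
  exact alg _ _ _ _ _ _ _ hne ha' hb' hkey2
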