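import Mathlib
import Cfsg.Agent.Lib.helper5.BlockFong
import Cfsg.Statements.S0970

set_option autoImplicit false
open scoped ComplexConjugate

namespace Cfsg.Agent.S0970

open Cfsg.Agent.Lib.helper5 Cfsg.Agent.Lib.helper23 Cfsg.Agent.Lib.helper24

/-- Let N be a normal subgroup of the finite group G and fix a maximal ideal M of the algebraic integers containing the prime p. Let b be a block of N that is invariant under conjugation by G, and B a block of G covering b (some χ ∈ B has a constituent in b) whose defect is at least that of every block covering b. If P is a defect group of B, then p does not divide the index of P ⊔ N, the subgroup P ∩ N of N is a defect group of b, and the defect of B equals the defect of b plus the exponent of p in the index of N. -/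
theorem result {G : Type*} [Group G] [Fintype G] (p : ℕ) [Fact p.Prime] (M : Ideal Cfsg.AlgInt) (hM : Cfsg.IsPModular p M) (N : Subgroup G) [hN : N.Normal] [Fintype N] (b : Set (Cfsg.IrrCharacter N)) (hb : Cfsg.IsPBlock M b) (hinv : ∀ g : G, ∀ θ ∈ b, ∀ θ' : Cfsg.IrrCharacter N, (∀ n : N, (θ' : N → ℂ) n = (θ : N → ℂ) ⟨g * n * g⁻¹, hN.conj_mem n n.2 g⟩) → θ' ∈ b) (B : Set (Cfsg.IrrCharacter G)) (hB : Cfsg.IsPBlock M B) (hcov : ∃ χ ∈ B, ∃ θ ∈ b, Cfsg.classInner (fun n : N => (χ : G → ℂ) n) (θ : N → ℂ) ≠ 0) (hmax : ∀ B' : Set (Cfsg.IrrCharacter G), Cfsg.IsPBlock M B' → (∃ χ ∈ B', ∃ θ ∈ b, Cfsg.classInner (fun n : N => (χ : G → ℂ) n) (θ : N → ℂ) ≠ 0) → Cfsg.blockDefect p B' ≤ Cfsg.blockDefect p B) (P : Subgroup G) (hP : Cfsg.IsDefectGroup p M B P) : ¬ p ∣ (P ⊔ N).index ∧ Cfsg.IsDefectGroup p M b ((P ⊓ N).subgroupOf N) ∧ Cfsg.blockDefect p B = Cfsg.blockDefect p b + N.index.factorization p := by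
  classical
  haveI := Fintype.ofFinite (Cfsg.IrrCharacter G)
  haveI := Fintype.ofFinite (Cfsg.IrrCharacter N)
  have hMp := isPModular_isPrime hM
  have hp : p.Prime := Fact.out
  obtain ⟨χ, hχB, θ, hθb, hθ⟩ := hcov
  -- normalise the blocks
  have hBeq : B = Cfsg.blockOf M χ.1 := by
    obtain ⟨χ₁, rfl⟩ := hB
    exact (blockOf_eq_of_mem hMp hχB).symm
  have hbeq : b = Cfsg.blockOf M θ.1 := by
    obtain ⟨θ₁, rfl⟩ := hb
    exact (blockOf_eq_of_mem hMp hθb).symm
  subst hBeq
  subst hbeq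
  -- invariance of b
  have hinv' : ∀ (g : G) (ψ : Cfsg.IrrCharacter N),
      conjIrr N g ψ ∈ Cfsg.blockOf M θ.1 ↔ ψ ∈ Cfsg.blockOf M θ.1 := by
    intro g ψ
    constructor
    · intro h
      refine hinv g⁻¹ (conjIrr N g ψ) h ψ (fun n => ?_)
      show ψ.1 n = ψ.1 ⟨g * ((⟨g⁻¹ * n * g⁻¹⁻¹, _⟩ : N) : G) * g⁻¹, _⟩
      exact congrArg ψ.1 (Subtype.ext (by simp [mul_assoc]))
    · intro h
      exact hinv g ψ h (conjIrr N g ψ) (fun n => rfl)
  have hw : ∀ (g : G) (ψ : Cfsg.IrrCharacter N),
      (Cfsg.blockOf M θ.1).indicator (fun _ => (1 : ℂ)) (conjIrr N g ψ)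
        = (Cfsg.blockOf M θ.1).indicator (fun _ => (1 : ℂ)) ψ := by
    intro g ψ
    by_cases hψ : ψ ∈ Cfsg.blockOf M θ.1
    · rw [Set.indicator_of_mem hψ, Set.indicator_of_mem ((hinv' g ψ).mpr hψ)]
    · rw [Set.indicator_of_notMem hψ, Set.indicator_of_notMem (fun h => hψ ((hinv' g ψ).mp h))]
  have hθself : θ ∈ Cfsg.blockOf M θ.1 := mem_blockOf_self hMp.ne_top θ
  have hinvθ : ∀ g : G, Cfsg.SameBlock M θ.1 (conjIrr N g θ).1 := fun g => (hinv' g θ).mpr hθself
  have hosima := indicator_mem_osimaRing (G := N) hMp θ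
  -- a class of N where the idempotent of b and the central character of χ do not vanish
  have hE1 := coord_eq_sum_induced N _ hw θ
  rw [Set.indicator_of_mem hθself] at hE1
  have hex : ∃ c : ConjClasses G, ¬ Cfsg.MemLocalIdeal M
      (Cfsg.extendByZero N (coef ((Cfsg.blockOf M θ.1).indicator (fun _ => (1 : ℂ))))
          (Quotient.out c) * Cfsg.inducedCentralChar N θ.1 (Quotient.out c)) := by
    by_contra hcon
    have hall : ∀ c : ConjClasses G, Cfsg.MemLocalIdeal M
        (Cfsg.extendByZero N (coef ((Cfsg.blockOf M θ.1).indicator (fun _ => (1 : ℂ))))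
            (Quotient.out c) * Cfsg.inducedCentralChar N θ.1 (Quotient.out c)) := by
      intro c
      by_contra hc
      exact hcon ⟨c, hc⟩
    have := memLocalIdeal_sum hMp Finset.univ _ (fun c _ => hall c)
    rw [← hE1] at this
    exact not_memLocalIdeal_one hMp this
  obtain ⟨c, hc⟩ := hex
  have hx₁ : Quotient.out c ∈ N := by
    by_contra hnot
    apply hc
    rw [extendByZero_apply_not_mem N _ hnot, zero_mul]
    exact memLocalIdeal_zero hMp.ne_top
  obtain ⟨x₁, hx₁def⟩ : ∃ x₁ : N, (x₁ : G) = Quotient.out c := ⟨⟨_, hx₁⟩, rfl⟩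
  rw [← hx₁def, extendByZero_apply_coe,
    ← centralChar_eq_induced_of_constituent N χ θ hθ x₁] at hc
  have hcoef₁ : ¬ Cfsg.MemLocalIdeal M
      (coef ((Cfsg.blockOf M θ.1).indicator (fun _ => (1 : ℂ))) x₁) := fun h =>
    hc (memLocalIdeal_mul_right hMp h (memLocalRing_centralChar hMp χ _))
  have hcc₁ : ¬ Cfsg.MemLocalIdeal M (Cfsg.centralChar χ.1 (x₁ : G)) := fun h =>
    hc (memLocalIdeal_mul_left hMp (hosima _) h)
  -- the defect group
  obtain ⟨g₀, hg₀, D₀, rfl⟩ := hP
  obtain ⟨Du⟩ : Nonempty (Sylow p (Subgroup.centralizer ({(x₁ : G)} : Set G))) := inferInstance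
  obtain ⟨y, hy⟩ := key_sylow hM χ (x₁ : G) g₀ hcc₁ hg₀.2.1 Du D₀
  -- move to the conjugate x₀ = y x₁ y⁻¹
  obtain ⟨x₀, hx₀def⟩ : ∃ x₀ : N, x₀ = (⟨y * x₁ * y⁻¹, hN.conj_mem x₁ x₁.2 y⟩ : N) := ⟨_, rfl⟩
  have hx₀val : (x₀ : G) = y * x₁ * y⁻¹ := by rw [hx₀def]
  have hPle : (D₀ : Subgroup (Subgroup.centralizer ({g₀} : Set G))).map
      (Subgroup.centralizer ({g₀} : Set G)).subtype ≤ Subgroup.centralizer ({(x₀ : G)} : Set G) := by
    rw [hx₀val, centralizer_conj]
    exact hy.trans (Subgroup.map_mono (sylow_map_le _ Du))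
  have hcoef₀ : ¬ Cfsg.MemLocalIdeal M (Cfsg.blockCoeff (Cfsg.blockOf M θ.1) x₀) := by
    rw [← coef_indicator, hx₀def, coef_conjNormal N _ hw y x₁]
    exact hcoef₁
  have hcc₀ : ¬ Cfsg.MemLocalIdeal M (Cfsg.inducedCentralChar N θ.1 (x₀ : G)) := by
    rw [← centralChar_eq_induced_of_constituent N χ θ hθ x₀, hx₀val, centralChar_conj]
    exact hcc₁
  obtain ⟨hKidx, hccθ⟩ := of_inducedCentralChar_not_mem N hM θ x₀ hinvθ hcc₀
  -- the p-part of |C_N(x₀)| is the defect of b
  have hνN1 := fac_le_defect_of_coeff hM θ x₀ hcoef₀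
  have hνN2 := defect_le_fac_of_centralChar hM θ x₀ hccθ
  have hνN : (Nat.card (Subgroup.centralizer ({x₀} : Set N))).factorization p
      = Cfsg.blockDefect p (Cfsg.blockOf M θ.1) := le_antisymm hνN1 hνN2
  -- a covering block with a nonvanishing idempotent coefficient at x₀
  have hcovcoef : ¬ Cfsg.MemLocalIdeal M
      (Cfsg.blockCoeff (cov N (Cfsg.blockOf M θ.1)) (x₀ : G)) := by
    rw [blockCoeff_cov N _ hinv' x₀]
    exact hcoef₀
  obtain ⟨χ', hχ'cov, hχ'coef⟩ := exists_block_coeff_not_mem hMp (cov N (Cfsg.blockOf M θ.1))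
    (fun ψ hψ ψ' hsb => cov_closed N hMp θ hinv' hψ hsb) (x₀ : G) hcovcoef
  have hνG1 := fac_le_defect_of_coeff hM χ' (x₀ : G) hχ'coef
  have hmax' := hmax (Cfsg.blockOf M χ'.1) ⟨χ', rfl⟩
    ⟨χ', mem_blockOf_self hMp.ne_top χ', hχ'cov⟩
  -- index computation
  have hidx : (Nat.card (Subgroup.centralizer ({(x₀ : G)} : Set G))).factorization p
      = (Nat.card (Subgroup.centralizer ({x₀} : Set N))).factorization p
        + N.index.factorization p := by
    have h1 := card_sup_centralizer N x₀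
    have h2 := Subgroup.card_mul_index (Subgroup.centralizer ({x₀} : Set N))
    have h3 := Subgroup.card_mul_index
      (N ⊔ Subgroup.centralizer ({(x₀ : G)} : Set G) : Subgroup G)
    have h4 := Subgroup.card_mul_index N
    have hidxpos : 0 < (Subgroup.centralizer ({x₀} : Set N)).index :=
      Nat.pos_of_ne_zero (Subgroup.index_ne_zero_of_finite)
    have h5 : Nat.card (Subgroup.centralizer ({(x₀ : G)} : Set G))
          * (N ⊔ Subgroup.centralizer ({(x₀ : G)} : Set G) : Subgroup G).index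
        = Nat.card (Subgroup.centralizer ({x₀} : Set N)) * N.index := by
      apply Nat.eq_of_mul_eq_mul_left hidxpos
      calc (Subgroup.centralizer ({x₀} : Set N)).index
            * (Nat.card (Subgroup.centralizer ({(x₀ : G)} : Set G))
              * (N ⊔ Subgroup.centralizer ({(x₀ : G)} : Set G) : Subgroup G).index)
          = Nat.card (N ⊔ Subgroup.centralizer ({(x₀ : G)} : Set G) : Subgroup G)
              * (N ⊔ Subgroup.centralizer ({(x₀ : G)} : Set G) : Subgroup G).index := by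
            rw [h1]; ring
        _ = Nat.card N * N.index := by rw [h3, h4]
        _ = (Subgroup.centralizer ({x₀} : Set N)).index
              * (Nat.card (Subgroup.centralizer ({x₀} : Set N)) * N.index) := by
            rw [← h2]; ring
    have h6 : (Nat.card (Subgroup.centralizer ({(x₀ : G)} : Set G))
          * (N ⊔ Subgroup.centralizer ({(x₀ : G)} : Set G) : Subgroup G).index).factorization p
        = (Nat.card (Subgroup.centralizer ({x₀} : Set N)) * N.index).factorization p := by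
      rw [h5]
    rw [Nat.factorization_mul Nat.card_pos.ne' Subgroup.index_ne_zero_of_finite,
      Nat.factorization_mul Nat.card_pos.ne' Subgroup.index_ne_zero_of_finite] at h6
    simp only [Finsupp.coe_add, Pi.add_apply] at h6
    rw [Nat.factorization_eq_zero_of_not_dvd hKidx, add_zero] at h6
    exact h6
  have hlower : Cfsg.blockDefect p (Cfsg.blockOf M θ.1) + N.index.factorization p
      ≤ Cfsg.blockDefect p (Cfsg.blockOf M χ.1) := by
    rw [← hνN, ← hidx]
    exact hνG1.trans hmax'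
  -- the upper bound from the defect group
  obtain ⟨P, hPdef⟩ : ∃ P : Subgroup G, P = (D₀ : Subgroup (Subgroup.centralizer ({g₀} : Set G))).map
      (Subgroup.centralizer ({g₀} : Set G)).subtype := ⟨_, rfl⟩
  rw [← hPdef] at hPle ⊢
  have hPpg : IsPGroup p P := by rw [hPdef]; exact sylow_map_isPGroup _ D₀
  have hPcard : Nat.card P = p ^ Cfsg.blockDefect p (Cfsg.blockOf M χ.1) := by
    rw [hPdef, card_sylow_map, defect_class_factorization hM χ g₀ hg₀]
  obtain ⟨A, hAdef⟩ : ∃ A : Subgroup N, A = (P ⊓ N).subgroupOf N := ⟨_, rfl⟩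
  have hAle : A ≤ Subgroup.centralizer ({x₀} : Set N) := by
    intro a ha
    rw [centralizer_subgroup_eq, Subgroup.mem_subgroupOf]
    rw [hAdef, Subgroup.mem_subgroupOf] at ha
    exact hPle ha.1
  have hApg : IsPGroup p A := by
    rw [hAdef]
    exact (hPpg.to_le inf_le_left).comap_subtype
  have hAcard : Nat.card A = Nat.card (P ⊓ N : Subgroup G) := by
    rw [hAdef]
    exact Nat.card_congr (Subgroup.subgroupOfEquivOfLe inf_le_right).toEquiv
  obtain ⟨R, hR⟩ := exists_sylow_ge (Subgroup.centralizer ({x₀} : Set N)) A hAle hApg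
  have hAdvd : Nat.card A ∣ p ^ (Nat.card (Subgroup.centralizer ({x₀} : Set N))).factorization p := by
    have := Subgroup.card_dvd_of_le hR
    rwa [card_sylow_map] at this
  obtain ⟨j, hj, hAj⟩ := (Nat.dvd_prime_pow hp).mp hAdvd
  -- |P| = |P : P ∩ N| |P ∩ N|
  have hrel : N.relIndex P * Nat.card (P ⊓ N : Subgroup G) = Nat.card P := by
    have h1 := Subgroup.card_mul_index (N.subgroupOf P)
    have h2 : Nat.card (N.subgroupOf P) = Nat.card (P ⊓ N : Subgroup G) := by
      rw [inf_comm, ← Subgroup.subgroupOf_map_subtype,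
        Subgroup.card_map_of_injective P.subtype_injective]
    rw [h2] at h1
    rw [mul_comm]
    exact h1
  have hreldvd : N.relIndex P ∣ p ^ Cfsg.blockDefect p (Cfsg.blockOf M χ.1) := by
    rw [← hPcard, ← hrel]
    exact Dvd.intro _ rfl
  obtain ⟨ν', -, hν'⟩ := (Nat.dvd_prime_pow hp).mp hreldvd
  have hν'le : ν' ≤ N.index.factorization p := by
    have h1 : p ^ ν' ∣ N.index := by
      rw [← hν']
      exact Subgroup.relIndex_dvd_index_of_normal N P
    exact (hp.pow_dvd_iff_le_factorization Subgroup.index_ne_zero_of_finite).mp h1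
  have hpow : p ^ Cfsg.blockDefect p (Cfsg.blockOf M χ.1) = p ^ (ν' + j) := by
    rw [← hPcard, ← hrel, hν', ← hAcard, hAj, pow_add]
  have hsum : Cfsg.blockDefect p (Cfsg.blockOf M χ.1) = ν' + j :=
    Nat.pow_right_injective hp.two_le hpow
  have hdef : Cfsg.blockDefect p (Cfsg.blockOf M χ.1)
      = Cfsg.blockDefect p (Cfsg.blockOf M θ.1) + N.index.factorization p := by
    rw [hνN] at hj
    omega
  have hν'eq : ν' = N.index.factorization p := by
    rw [hνN] at hj
    omega
  have hjeq : j = (Nat.card (Subgroup.centralizer ({x₀} : Set N))).factorization p := by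
    rw [hνN]
    rw [hνN] at hj
    omega
  refine ⟨?_, ?_, hdef⟩
  · -- p does not divide the index of P N
    intro hdvd
    have h1 := Subgroup.relIndex_mul_index (le_sup_right : N ≤ P ⊔ N)
    rw [Subgroup.relIndex_sup_right, hν', hν'eq] at h1
    have h2 : p ^ (N.index.factorization p + 1) ∣ N.index := by
      obtain ⟨k, hk⟩ := hdvd
      refine ⟨k, ?_⟩
      rw [pow_succ, mul_assoc, ← hk]
      exact h1.symm
    exact Nat.pow_succ_factorization_not_dvd Subgroup.index_ne_zero_of_finite hp h2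
  · -- P ∩ N is a defect group of b
    rw [← hAdef]
    have hcardA : Nat.card (A.subgroupOf (Subgroup.centralizer ({x₀} : Set N)))
        = p ^ (Nat.card (Subgroup.centralizer ({x₀} : Set N))).factorization p := by
      rw [Nat.card_congr (Subgroup.subgroupOfEquivOfLe hAle).toEquiv, hAj, hjeq]
    refine ⟨x₀, ⟨?_, hcoef₀, ?_⟩, Sylow.ofCard _ hcardA, ?_⟩
    · rw [← coef_indicator]
      exact hosima _
    · intro θ' hθ' hmem
      apply hccθ
      have := memLocalIdeal_add hMp (hθ' x₀) hmem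
      rwa [sub_add_cancel] at this
    · rw [Sylow.coe_ofCard, Subgroup.map_subgroupOf_eq_of_le hAle]

end Cfsg.Agent.S0970
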