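import Cfsg.Statements.S4341
-- import your own Cfsg.Agent.* helpers here
import Mathlib

set_option autoImplicit false
open Cfsg

namespace Cfsg.Agent.S4341

open scoped Pointwise

theorem mem_conj_smul {G : Type*} [Group G] (g y : G) (M : Subgroup G) :
    y ∈ MulAut.conj g • M ↔ g⁻¹ * y * g ∈ M := by
  rw [Subgroup.mem_pointwise_smul_iff_inv_smul_mem]
  have e : (MulAut.conj g)⁻¹ • y = g⁻¹ * y * g := by simp [MulAut.smul_def]
  rw [e]

theorem card_sylow_decomp {G : Type*} [Group G] [Finite G] (p : ℕ) [Fact p.Prime] (N : Subgroup G)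
    [N.Normal] (P : Sylow p G) (Pbar : Sylow p (G ⧸ N)) :
    Nat.card (P : Subgroup G)
      = Nat.card (Pbar : Subgroup (G ⧸ N)) * Nat.card (N.subgroupOf (P : Subgroup G)) := by
  have hπs : Function.Surjective (QuotientGroup.mk' N) := QuotientGroup.mk'_surjective N
  have h1 : Nat.card (Pbar : Subgroup (G ⧸ N))
      = Nat.card ((P : Subgroup G).map (QuotientGroup.mk' N)) := by
    rw [Sylow.card_eq_multiplicity Pbar]
    exact (Sylow.card_eq_multiplicity (P.mapSurjective hπs)).symm
  obtain ⟨f, hf⟩ : ∃ f : (P : Subgroup G) →* G ⧸ N,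
      f = (QuotientGroup.mk' N).comp (P : Subgroup G).subtype := ⟨_, rfl⟩
  have hrange : f.range = (P : Subgroup G).map (QuotientGroup.mk' N) := by
    rw [hf, MonoidHom.range_comp, Subgroup.range_subtype]
  have hker : f.ker = N.subgroupOf (P : Subgroup G) := by
    rw [hf]
    ext y
    rw [MonoidHom.mem_ker, Subgroup.mem_subgroupOf]
    simp
  rw [h1, ← hrange, ← hker, Subgroup.card_eq_card_quotient_mul_card_subgroup f.ker]
  congr 1
  exact Nat.card_congr (QuotientGroup.quotientKerEquivRange f).toEquiv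

theorem card_eq_of_le {G : Type*} [Group G] [Finite G] {H K : Subgroup G} (h : H ≤ K) :
    Nat.card K = H.relIndex K * Nat.card H := by
  have h1 := Subgroup.card_mul_index (H.subgroupOf K)
  rw [Nat.card_congr (Subgroup.subgroupOfEquivOfLe h).toEquiv] at h1
  rw [Subgroup.relIndex, ← h1, mul_comm]

theorem relIndex_sup_of_normal {G : Type*} [Group G] [Finite G] (H Q : Subgroup G) [Q.Normal] :
    H.relIndex (H ⊔ Q) = H.relIndex Q := by
  have h1 := card_eq_of_le (le_sup_left : H ≤ H ⊔ Q)
  have h2 := card_eq_of_le (le_sup_right : Q ≤ H ⊔ Q)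
  have h3 := card_eq_of_le (inf_le_left : H ⊓ Q ≤ H)
  have h4 := card_eq_of_le (inf_le_right : H ⊓ Q ≤ Q)
  rw [Subgroup.relIndex_sup_right] at h2
  rw [Subgroup.inf_relIndex_left] at h3
  rw [Subgroup.inf_relIndex_right] at h4
  have hc : 0 < Nat.card (H ⊓ Q : Subgroup G) := Nat.card_pos
  have ha : 0 < Q.relIndex H := by
    rcases Nat.eq_zero_or_pos (Q.relIndex H) with h0 | h0
    · rw [h0, zero_mul] at h3
      exact absurd h3 (Nat.card_pos).ne'
    · exact h0
  have e : H.relIndex (H ⊔ Q) * (Q.relIndex H * Nat.card (H ⊓ Q : Subgroup G)) =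
      H.relIndex Q * (Q.relIndex H * Nat.card (H ⊓ Q : Subgroup G)) := by
    calc H.relIndex (H ⊔ Q) * (Q.relIndex H * Nat.card (H ⊓ Q : Subgroup G))
        = H.relIndex (H ⊔ Q) * Nat.card H := by rw [h3]
      _ = Nat.card (H ⊔ Q : Subgroup G) := h1.symm
      _ = Q.relIndex H * Nat.card Q := h2
      _ = Q.relIndex H * (H.relIndex Q * Nat.card (H ⊓ Q : Subgroup G)) := by rw [← h4]
      _ = H.relIndex Q * (Q.relIndex H * Nat.card (H ⊓ Q : Subgroup G)) := by ring
  exact Nat.eq_of_mul_eq_mul_right (Nat.mul_pos ha hc) e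


theorem mem_normalizer_iff_conj_smul {G : Type*} [Group G] (x : G) (H : Subgroup G) :
    x ∈ Subgroup.normalizer (H : Set G) ↔ MulAut.conj x • H = H := by
  rw [Subgroup.mem_normalizer_iff]
  constructor
  · intro h
    ext y
    rw [mem_conj_smul, h (x⁻¹ * y * x)]
    have : x * (x⁻¹ * y * x) * x⁻¹ = y := by group
    rw [this]
  · intro h y
    conv_rhs => rw [← h]
    rw [mem_conj_smul]
    have : x⁻¹ * (x * y * x⁻¹) * x = y := by group
    rw [this]

theorem card_subgroupOf' {G : Type*} [Group G] (H K : Subgroup G) :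
    Nat.card (H.subgroupOf K) = Nat.card (H ⊓ K : Subgroup G) := by
  rw [← Subgroup.inf_subgroupOf_right]
  exact Nat.card_congr (Subgroup.subgroupOfEquivOfLe inf_le_right).toEquiv

theorem idx_of_sup {G : Type*} [Group G] [Finite G] (L M : Subgroup G) [M.Normal]
    (h : L ⊔ M = ⊤) : L.index = L.relIndex M := by
  rw [← relIndex_sup_of_normal, h, Subgroup.relIndex_top_right]

theorem relIndex_eq_index_of_sup {G : Type*} [Group G] [Finite G] (A B K : Subgroup G) [K.Normal]
    (hKA : K ≤ A) (hBK : B ⊔ K = ⊤) : A.relIndex B = A.index := by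
  have hπs : Function.Surjective (QuotientGroup.mk' K) := QuotientGroup.mk'_surjective K
  have hker : (QuotientGroup.mk' K).ker = K := QuotientGroup.ker_mk' K
  have hA : (A.map (QuotientGroup.mk' K)).comap (QuotientGroup.mk' K) = A := by
    rw [Subgroup.comap_map_eq, hker]; exact sup_eq_left.mpr hKA
  have hB : B.map (QuotientGroup.mk' K) = ⊤ := by
    have h1 : (B ⊔ K).map (QuotientGroup.mk' K) = ⊤ := by
      rw [hBK, ← MonoidHom.range_eq_map]; exact MonoidHom.range_eq_top.mpr hπs
    rw [Subgroup.map_sup] at h1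
    have h2 : K.map (QuotientGroup.mk' K) = ⊥ := by
      rw [Subgroup.map_eq_bot_iff, hker]
    rwa [h2, sup_bot_eq] at h1
  conv_lhs => rw [← hA]
  rw [Subgroup.relIndex_comap, hB, Subgroup.relIndex_top_right]
  exact Subgroup.index_map_eq A hπs (by rw [hker]; exact hKA)

theorem card_sylow_of_le {G : Type*} [Group G] [Finite G] {p : ℕ} [Fact p.Prime] (P : Sylow p G)
    (H : Subgroup G) (hPH : (P : Subgroup G) ≤ H) :
    Nat.card (Sylow p H) = (Subgroup.normalizer ((P : Subgroup G) : Set G)).relIndex H := by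
  rw [Sylow.card_eq_index_normalizer (P.subtype hPH), Subgroup.relIndex,
    Subgroup.subgroupOf_normalizer_eq hPH]
  rfl

theorem card_sylow_inf {G : Type*} [Group G] [Finite G] (p : ℕ) [Fact p.Prime] (K : Subgroup G)
    [K.Normal] (P : Sylow p G) :
    Nat.card ((P : Subgroup G) ⊓ K : Subgroup G) = p ^ (Nat.card K).factorization p := by
  have hπs : Function.Surjective (QuotientGroup.mk' K) := QuotientGroup.mk'_surjective K
  have h1 := card_sylow_decomp p K P (P.mapSurjective hπs)
  rw [Sylow.card_eq_multiplicity P, Sylow.card_eq_multiplicity (P.mapSurjective hπs),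
    card_subgroupOf', inf_comm] at h1
  have h2 : Nat.card G = Nat.card (G ⧸ K) * Nat.card K :=
    Subgroup.card_eq_card_quotient_mul_card_subgroup K
  have h3 : (Nat.card G).factorization p
      = (Nat.card (G ⧸ K)).factorization p + (Nat.card K).factorization p := by
    rw [h2, Nat.factorization_mul Nat.card_pos.ne' Nat.card_pos.ne']
    rfl
  rw [h3, pow_add] at h1
  have hp : 0 < p ^ (Nat.card (G ⧸ K)).factorization p :=
    pow_pos (Fact.out : p.Prime).pos _
  exact (Nat.eq_of_mul_eq_mul_left hp h1).symm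

theorem card_sylow_quot_pgroup {X : Type*} [Group X] [Finite X] (p : ℕ) [Fact p.Prime]
    (Z : Subgroup X) [Z.Normal] (hZ : IsPGroup p Z) :
    Nat.card (Sylow p (X ⧸ Z)) = Nat.card (Sylow p X) := by
  have hπs : Function.Surjective (QuotientGroup.mk' Z) := QuotientGroup.mk'_surjective Z
  have hker : (QuotientGroup.mk' Z).ker = Z := QuotientGroup.ker_mk' Z
  have hinj : Function.Injective (Sylow.mapSurjective hπs : Sylow p X → Sylow p (X ⧸ Z)) := by
    intro Q Q' h
    have h1 : (Q : Subgroup X).map (QuotientGroup.mk' Z) = (Q' : Subgroup X).map (QuotientGroup.mk' Z) := by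
      have := congrArg (fun S : Sylow p (X ⧸ Z) => (S : Subgroup (X ⧸ Z))) h
      simpa using this
    have h2 := congrArg (Subgroup.comap (QuotientGroup.mk' Z)) h1
    rw [Subgroup.comap_map_eq, Subgroup.comap_map_eq, hker,
      sup_eq_left.mpr (hZ.le_sylow_of_normal Q), sup_eq_left.mpr (hZ.le_sylow_of_normal Q')] at h2
    exact Sylow.ext h2
  exact (Nat.card_congr (Equiv.ofBijective _ ⟨hinj, Sylow.mapSurjective_surjective hπs p⟩)).symm

/-- Let K be a normal subgroup of a finite group G, p a prime and P a Sylow p-subgroup of G; let N be the normalizer of P ∩ K inside the subgroup PK. Then the number of Sylow p-subgroups of G equals the product of the numbers of Sylow p-subgroups of G/K, of K, and of N/(P ∩ K). (The normality of P ∩ K in N, which always holds, is assumed as a hypothesis so that the quotient can be formed.) -/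
theorem result {G : Type*} [Group G] [Finite G]
    (p : ℕ) [Fact p.Prime] (K : Subgroup G) [K.Normal] (P : Sylow p G) (N : Subgroup G)
    (hN : N = ((P : Subgroup G) ⊔ K) ⊓ Subgroup.normalizer (((P : Subgroup G) ⊓ K : Subgroup G) : Set G))
    [hn : (((P : Subgroup G) ⊓ K).subgroupOf N).Normal] :
    Nat.card (Sylow p G) =
      Nat.card (Sylow p (G ⧸ K)) * Nat.card (Sylow p K) * Nat.card (Sylow p (N ⧸ ((P : Subgroup G) ⊓ K).subgroupOf N)) := by
  classical
  obtain ⟨D, hD⟩ : ∃ D : Subgroup G, D = (P : Subgroup G) ⊓ K := ⟨_, rfl⟩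
  obtain ⟨A, hA⟩ : ∃ A : Subgroup G,
      A = Subgroup.normalizer (((P : Subgroup G) ⊔ K : Subgroup G) : Set G) := ⟨_, rfl⟩
  obtain ⟨B, hB⟩ : ∃ B : Subgroup G, B = Subgroup.normalizer (D : Set G) := ⟨_, rfl⟩
  obtain ⟨NP, hNP⟩ : ∃ NP : Subgroup G,
      NP = Subgroup.normalizer ((P : Subgroup G) : Set G) := ⟨_, rfl⟩
  have hπs : Function.Surjective (QuotientGroup.mk' K) := QuotientGroup.mk'_surjective K
  have hker : (QuotientGroup.mk' K).ker = K := QuotientGroup.ker_mk' K
  have hNPA : NP ≤ A := by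
    intro x hx
    rw [hNP, mem_normalizer_iff_conj_smul] at hx
    rw [hA, mem_normalizer_iff_conj_smul, Subgroup.smul_sup, hx, Subgroup.Normal.conj_smul_eq_self]
  have hNPB : NP ≤ B := by
    intro x hx
    rw [hNP, mem_normalizer_iff_conj_smul] at hx
    rw [hB, hD, mem_normalizer_iff_conj_smul, Subgroup.smul_inf, hx, Subgroup.Normal.conj_smul_eq_self]
  have hPNP : (P : Subgroup G) ≤ NP := by rw [hNP]; exact Subgroup.le_normalizer
  have hN' : N = ((P : Subgroup G) ⊔ K) ⊓ B := by rw [hN, hB, hD]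
  have hPN : (P : Subgroup G) ≤ N := by
    rw [hN']; exact le_inf le_sup_left (hPNP.trans hNPB)
  have hNA : N ≤ A := by
    rw [hN', hA]; exact inf_le_left.trans Subgroup.le_normalizer
  have hNB : N ≤ B := by rw [hN']; exact inf_le_right
  have hNR : N ≤ A ⊓ B := le_inf hNA hNB
  have hPR : (P : Subgroup G) ≤ A ⊓ B := hPN.trans hNR
  have hKA : K ≤ A := by rw [hA]; exact le_sup_right.trans Subgroup.le_normalizer
  have hnorm : (N.subgroupOf (A ⊓ B)).Normal := by
    constructor
    intro n hn g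
    rw [Subgroup.mem_subgroupOf] at hn ⊢
    rw [hN'] at hn ⊢
    have hgA : (g : G) ∈ Subgroup.normalizer (((P : Subgroup G) ⊔ K : Subgroup G) : Set G) := by
      rw [← hA]; exact g.2.1
    refine ⟨?_, ?_⟩
    · exact (Subgroup.mem_normalizer_iff.mp hgA _).mp hn.1
    · exact B.mul_mem (B.mul_mem g.2.2 hn.2) (B.inv_mem g.2.2)
  obtain ⟨D', hD'⟩ : ∃ D' : Sylow p K, (D' : Subgroup K) = D.subgroupOf K := by
    have hc : Nat.card (D.subgroupOf K) = p ^ (Nat.card K).factorization p := by
      rw [card_subgroupOf', hD, inf_assoc, inf_idem]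
      exact card_sylow_inf p K P
    exact ⟨Sylow.ofCard (D.subgroupOf K) hc, Sylow.coe_ofCard _ hc⟩
  have hBK : B ⊔ K = ⊤ := by
    have := Sylow.normalizer_sup_eq_top D'
    rw [hD', Subgroup.subgroupOf_map_subtype, hD, inf_assoc, inf_idem] at this
    rw [hB, hD]; exact this
  have e1 : Nat.card (Sylow p G) = NP.index := by
    rw [hNP]; exact Sylow.card_eq_index_normalizer P
  have e2 : NP.index = NP.relIndex (A ⊓ B) * (A ⊓ B).index :=
    (Subgroup.relIndex_mul_index (le_inf hNPA hNPB)).symm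
  have e3 : (A ⊓ B).index = A.relIndex B * B.index := by
    rw [← Subgroup.relIndex_mul_index (inf_le_right : A ⊓ B ≤ B), Subgroup.inf_relIndex_right]
  have e4 : A.relIndex B = A.index := relIndex_eq_index_of_sup A B K hKA hBK
  have e5 : A.index = Nat.card (Sylow p (G ⧸ K)) := by
    rw [Sylow.card_eq_index_normalizer (P.mapSurjective hπs)]
    show A.index = (Subgroup.normalizer
      (((P : Subgroup G).map (QuotientGroup.mk' K) : Subgroup (G ⧸ K)) : Set (G ⧸ K))).index
    rw [← Subgroup.index_comap_of_surjective _ hπs,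
      Subgroup.comap_normalizer_eq_of_surjective _ hπs,
      Subgroup.comap_map_eq, hker, hA]
  have e6 : B.index = Nat.card (Sylow p K) := by
    rw [idx_of_sup B K hBK, Sylow.card_eq_index_normalizer D']
    show B.relIndex K = (Subgroup.normalizer ((D' : Subgroup K) : Set K)).index
    rw [hD', Subgroup.relIndex, hB,
      Subgroup.subgroupOf_normalizer_eq (by rw [hD]; exact inf_le_right)]
  have e7 : NP.relIndex (A ⊓ B) = NP.relIndex N := by
    have := hnorm
    have hle : ((P.subtype hPR : Sylow p (A ⊓ B : Subgroup G)) : Subgroup (A ⊓ B : Subgroup G))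
        ≤ N.subgroupOf (A ⊓ B) := by
      intro x hx
      rw [Subgroup.mem_subgroupOf]
      exact hPN hx
    have h1 := Sylow.normalizer_sup_eq_top' (P.subtype hPR) hle
    have h2 := idx_of_sup _ _ h1
    change (Subgroup.normalizer (((P.subtype hPR : Sylow p (A ⊓ B : Subgroup G)) :
        Subgroup (A ⊓ B : Subgroup G)) : Set (A ⊓ B : Subgroup G))).index
      = (Subgroup.normalizer (((P.subtype hPR : Sylow p (A ⊓ B : Subgroup G)) :
        Subgroup (A ⊓ B : Subgroup G)) : Set (A ⊓ B : Subgroup G))).relIndex _ at h2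
    have h3 : Subgroup.normalizer (((P.subtype hPR : Sylow p (A ⊓ B : Subgroup G)) :
        Subgroup (A ⊓ B : Subgroup G)) : Set (A ⊓ B : Subgroup G)) = NP.subgroupOf (A ⊓ B) := by
      rw [hNP, Subgroup.subgroupOf_normalizer_eq hPR]; rfl
    rw [h3, Subgroup.relIndex_subgroupOf hNR] at h2
    exact h2
  have e8 : NP.relIndex N = Nat.card (Sylow p N) := by
    rw [hNP]; exact (card_sylow_of_le P N hPN).symm
  have e9 : Nat.card (Sylow p (N ⧸ ((P : Subgroup G) ⊓ K).subgroupOf N)) = Nat.card (Sylow p N) := by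
    apply card_sylow_quot_pgroup
    exact (P.isPGroup'.to_le inf_le_left).comap_subtype
  rw [e1, e2, e3, e4, e5, e6, e7, e8, e9]
  ring

end Cfsg.Agent.S4341
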