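import Cfsg.Statements.S4303
-- import your own Cfsg.Agent.* helpers here
import Mathlib
import Cfsg.Agent.S4341
import Cfsg.Agent.Lib.helper8.CoprimeAction

set_option autoImplicit false
universe u
open Cfsg

namespace Cfsg.Agent.S4303

def Good (p m : ℕ) : Prop :=
  (IsPrimePow m ∧ m % p = 1) ∨
    ∃ (S : Type u) (_ : Group S) (_ : Finite S), IsSimpleGroup S ∧ m = Nat.card (Sylow p S)

def HP (p n : ℕ) : Prop := ∃ l : List ℕ, l.prod = n ∧ ∀ m ∈ l, Good.{u} p m

theorem HP.mul {p a b : ℕ} (ha : HP.{u} p a) (hb : HP.{u} p b) : HP.{u} p (a * b) := by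
  obtain ⟨l1, h1, h1'⟩ := ha
  obtain ⟨l2, h2, h2'⟩ := hb
  refine ⟨l1 ++ l2, by rw [List.prod_append, h1, h2], ?_⟩
  intro m hm
  rcases List.mem_append.mp hm with h | h
  · exact h1' m h
  · exact h2' m h

theorem HP.one (p : ℕ) : HP.{u} p 1 := ⟨[], rfl, by simp⟩

theorem HP.of_parts (p n : ℕ) (hp : 2 ≤ p) (hn : n ≠ 0)
    (h : ∀ q : ℕ, q.Prime → q ^ n.factorization q ≡ 1 [MOD p]) : HP.{u} p n := by
  refine ⟨n.primeFactors.toList.map (fun q => q ^ n.factorization q), ?_, ?_⟩
  · have h1 := Nat.prod_factorization_pow_eq_self hn
    rw [Finsupp.prod, Nat.support_factorization] at h1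
    rw [Finset.prod_map_toList]
    exact h1
  · intro m hm
    obtain ⟨q, hq, rfl⟩ := List.mem_map.mp hm
    rw [Finset.mem_toList] at hq
    have hqp := Nat.prime_of_mem_primeFactors hq
    left
    refine ⟨?_, ?_⟩
    · have hk : 0 < n.factorization q :=
        hqp.factorization_pos_of_dvd hn (Nat.dvd_of_mem_primeFactors hq)
      exact (Nat.Prime.isPrimePow hqp).pow hk.ne'
    · have h2 := h q hqp
      rw [Nat.ModEq] at h2
      rw [h2]; exact Nat.mod_eq_of_lt hp

theorem card_modEq_card_inf_centralizer {G : Type*} [Group G] [Finite G] (p : ℕ) [Fact p.Prime]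
    (P Q : Subgroup G) (hP : IsPGroup p P) (hPQ : P ≤ Subgroup.normalizer (Q : Set G)) :
    Nat.card Q ≡ Nat.card (Q ⊓ Subgroup.centralizer (P : Set G) : Subgroup G) [MOD p] := by
  classical
  let act : MulAction P Q :=
    { smul := fun a x => ⟨a * x * a⁻¹, (Subgroup.mem_normalizer_iff.mp (hPQ a.2) x).mp x.2⟩
      one_smul := fun x => Subtype.ext (by
        show ((1 : P) : G) * x * ((1 : P) : G)⁻¹ = x
        rw [Subgroup.coe_one]; group)
      mul_smul := fun a b x => Subtype.ext (by
        show ((a * b : P) : G) * x * ((a * b : P) : G)⁻¹ = a * (b * x * (b : G)⁻¹) * (a : G)⁻¹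
        rw [Subgroup.coe_mul]; group) }
  have h1 := hP.card_modEq_card_fixedPoints Q
  have h2 : Nat.card (MulAction.fixedPoints P Q) =
      Nat.card (Q ⊓ Subgroup.centralizer (P : Set G) : Subgroup G) := by
    apply Nat.card_congr
    refine ⟨fun x => ⟨x.1.1, x.1.2, ?_⟩, fun y => ⟨⟨y.1, y.2.1⟩, ?_⟩, fun x => rfl, fun y => rfl⟩
    · show x.1.1 ∈ Subgroup.centralizer (P : Set G)
      rw [Subgroup.mem_centralizer_iff]
      intro a ha
      have hx := x.2 ⟨a, ha⟩
      have hx' : a * x.1.1 * a⁻¹ = x.1.1 := congrArg Subtype.val hx
      calc a * x.1.1 = (a * x.1.1 * a⁻¹) * a := by group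
        _ = x.1.1 * a := by rw [hx']
    · intro a
      apply Subtype.ext
      show (a : G) * y.1 * (a : G)⁻¹ = y.1
      have h3 := Subgroup.mem_centralizer_iff.mp y.2.2 a a.2
      rw [h3]; group
  rw [← h2]; exact h1

theorem aux (p : ℕ) [Fact p.Prime] : ∀ (n : ℕ) (G : Type u) [Group G] [Finite G],
    Nat.card G ≤ n → HP.{u} p (Nat.card (Sylow p G)) := by
  intro n
  induction n with
  | zero =>
    intro G _ _ hc
    have := Nat.card_pos (α := G)
    omega
  | succ n ih =>
    intro G _ _ hc
    by_cases htriv : Subsingleton G
    · have h1 : Nat.card (Sylow p G) = 1 := by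
        obtain ⟨Q⟩ : Nonempty (Sylow p G) := inferInstance
        rw [Sylow.card_eq_index_normalizer Q]
        have : Subgroup.normalizer ((Q : Subgroup G) : Set G) = ⊤ := Subsingleton.elim _ _
        exact this ▸ Subgroup.index_top
      rw [h1]; exact HP.one p
    · have hnt : Nontrivial G := not_subsingleton_iff_nontrivial.mp htriv
      by_cases hs : IsSimpleGroup G
      · refine ⟨[Nat.card (Sylow p G)], by simp, ?_⟩
        intro m hm
        rw [List.mem_singleton] at hm
        exact Or.inr ⟨G, inferInstance, inferInstance, hs, hm⟩
      · obtain ⟨K, hKn, hKbot, hKtop⟩ : ∃ K : Subgroup G, K.Normal ∧ K ≠ ⊥ ∧ K ≠ ⊤ := by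
          by_contra hno
          push Not at hno
          have hall : ∀ H : Subgroup G, H.Normal → H = ⊥ ∨ H = ⊤ := by
            intro H hH
            by_cases hb : H = ⊥
            · exact Or.inl hb
            · exact Or.inr (hno H hH hb)
          exact hs { toNontrivial := hnt, eq_bot_or_eq_top_of_normal := hall }
        have := hKn
        obtain ⟨P⟩ : Nonempty (Sylow p G) := inferInstance
        obtain ⟨N, hN⟩ : ∃ N : Subgroup G, N = ((P : Subgroup G) ⊔ K) ⊓
            Subgroup.normalizer (((P : Subgroup G) ⊓ K : Subgroup G) : Set G) := ⟨_, rfl⟩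
        have hle : (P : Subgroup G) ⊓ K ≤ N := by
          rw [hN]; exact le_inf (inf_le_left.trans le_sup_left) Subgroup.le_normalizer
        have hn : (((P : Subgroup G) ⊓ K).subgroupOf N).Normal := by
          rw [Subgroup.normal_subgroupOf_iff_le_normalizer hle]
          rw [hN]; exact inf_le_right
        have hformula := Cfsg.Agent.S4341.result p K P N hN
        have hcK2 : 2 ≤ Nat.card K := by
          have := (Subgroup.one_lt_card_iff_ne_bot K).mpr hKbot
          omega
        have hcq : Nat.card (G ⧸ K) ≤ n := by
          have h2 : Nat.card G = Nat.card (G ⧸ K) * Nat.card K :=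
            Subgroup.card_eq_card_quotient_mul_card_subgroup K
          have h3 : 0 < Nat.card (G ⧸ K) := Nat.card_pos
          nlinarith
        have hcK : Nat.card K ≤ n := by
          have h6 : Nat.card K < Nat.card G := by
            by_contra h7
            exact hKtop (Subgroup.eq_top_of_card_eq _
              (le_antisymm (Subgroup.card_le_card_group _) (not_lt.mp h7)))
          omega
        have hq := ih (G ⧸ K) hcq
        have hk := ih K hcK
        by_cases hcase : (P : Subgroup G) ⊓ K = ⊥ ∧ (P : Subgroup G) ⊔ K = ⊤
        · obtain ⟨hinf, hsup⟩ := hcase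
          apply HP.of_parts p _ (Fact.out : p.Prime).two_le Nat.card_pos.ne'
          intro q hq
          have hidx : (P : Subgroup G).index = Nat.card K := by
            rw [Cfsg.Agent.S4341.idx_of_sup (P : Subgroup G) K hsup,
              ← Subgroup.inf_relIndex_right, hinf, Subgroup.relIndex_bot_left]
          have hpK : ¬ p ∣ Nat.card K := by rw [← hidx]; exact P.not_dvd_index
          obtain ⟨C, hC⟩ : ∃ C : Subgroup G,
              C = Subgroup.normalizer ((P : Subgroup G) : Set G) ⊓ K := ⟨_, rfl⟩
          have hnC : Nat.card K = Nat.card (Sylow p G) * Nat.card C := by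
            have h1 := Cfsg.Agent.S4341.card_eq_of_le
              (inf_le_right : Subgroup.normalizer ((P : Subgroup G) : Set G) ⊓ K ≤ K)
            rw [Subgroup.inf_relIndex_right] at h1
            have h2 : (Subgroup.normalizer ((P : Subgroup G) : Set G)).index =
                (Subgroup.normalizer ((P : Subgroup G) : Set G)).relIndex K :=
              Cfsg.Agent.S4341.idx_of_sup _ K (by
                rw [eq_top_iff, ← hsup]; exact sup_le_sup_right Subgroup.le_normalizer K)
            have h3 : Nat.card (Sylow p G) =
                (Subgroup.normalizer ((P : Subgroup G) : Set G)).index :=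
              Sylow.card_eq_index_normalizer P
            rw [h3, hC, h2]
            exact h1
          have hCcent : C ≤ Subgroup.centralizer ((P : Subgroup G) : Set G) := by
            intro c hc
            rw [hC] at hc
            rw [Subgroup.mem_centralizer_iff]
            intro x hx0
            have hx : x ∈ (P : Subgroup G) := hx0
            have h1 : c * x * c⁻¹ ∈ (P : Subgroup G) :=
              (Subgroup.mem_normalizer_iff.mp hc.1 x).mp hx
            have h2 : c * x * c⁻¹ * x⁻¹ ∈ (P : Subgroup G) ⊓ K := by
              have hcK' : c ∈ K := hc.2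
              refine Subgroup.mem_inf.mpr ⟨mul_mem h1 (inv_mem hx), ?_⟩
              have h3 : x * c⁻¹ * x⁻¹ ∈ K := hKn.conj_mem _ (inv_mem hcK') x
              have h4 := mul_mem hcK' h3
              have e : c * (x * c⁻¹ * x⁻¹) = c * x * c⁻¹ * x⁻¹ := by group
              rwa [e] at h4
            rw [hinf, Subgroup.mem_bot] at h2
            calc x * c = (c * x * c⁻¹ * x⁻¹)⁻¹ * (c * x) := by group
              _ = c * x := by rw [h2]; group
          by_cases hqp : q = p
          · have h0 : (Nat.card (Sylow p G)).factorization q = 0 := by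
              apply Nat.factorization_eq_zero_of_not_dvd
              intro hd
              rw [hqp] at hd
              exact hpK (hd.trans ⟨_, hnC⟩)
            rw [h0]; rfl
          · have : Fact q.Prime := ⟨hq⟩
            obtain ⟨R₀⟩ : Nonempty (Sylow q C) := inferInstance
            obtain ⟨R, hR⟩ : ∃ R : Subgroup G, R = (R₀ : Subgroup C).map C.subtype := ⟨_, rfl⟩
            have hRcard : Nat.card R = q ^ (Nat.card C).factorization q := by
              rw [hR]; exact Cfsg.Agent.Lib.helper8.card_sylow_map C R₀
            have hRC : R ≤ C := by rw [hR]; exact Subgroup.map_subtype_le _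
            have hCK : C ≤ K := by rw [hC]; exact inf_le_right
            have hRq : IsPGroup q R := by rw [hR]; exact R₀.isPGroup'.map _
            have hPR : (P : Subgroup G) ≤ Subgroup.normalizer (R : Set G) :=
              Cfsg.Agent.Lib.helper8.le_normalizer_of_conj_mem (by
                intro a ha x hx
                have h1 := Subgroup.mem_centralizer_iff.mp (hCcent (hRC hx)) a ha
                have e : a * x * a⁻¹ = x := by rw [h1]; group
                rw [e]; exact hx)
            have hPK : (P : Subgroup G) ≤ Subgroup.normalizer (K : Set G) := by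
              rw [Subgroup.normalizer_eq_top K]; exact le_top
            have hcop : (Nat.card (P : Subgroup G)).Coprime (Nat.card K) := by
              obtain ⟨k, hk⟩ := IsPGroup.iff_card.mp P.isPGroup'
              rw [hk]
              exact Nat.Coprime.pow_left _ ((Nat.Prime.coprime_iff_not_dvd Fact.out).mpr hpK)
            have hnilP : Group.IsNilpotent (P : Subgroup G) := P.isPGroup'.isNilpotent
            have hsolvP : Group.IsSolvable (P : Subgroup G) := inferInstance
            obtain ⟨Q₀, hRQ, hPQ⟩ := Cfsg.Agent.Lib.helper8.exists_invariant_sylow_ge (p := q)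
              (P : Subgroup G) K hPK hcop (Or.inl hsolvP) R (hRC.trans hCK) hRq hPR
            obtain ⟨Q, hQ⟩ : ∃ Q : Subgroup G, Q = (Q₀ : Subgroup K).map K.subtype := ⟨_, rfl⟩
            rw [← hQ] at hRQ hPQ
            have hQcard : Nat.card Q = q ^ (Nat.card K).factorization q := by
              rw [hQ]; exact Cfsg.Agent.Lib.helper8.card_sylow_map K Q₀
            have hQK : Q ≤ K := by rw [hQ]; exact Subgroup.map_subtype_le _
            have hQq : IsPGroup q Q := by rw [hQ]; exact Q₀.isPGroup'.map _
            have hF1 : R ≤ Q ⊓ Subgroup.centralizer ((P : Subgroup G) : Set G) :=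
              le_inf hRQ (hRC.trans hCcent)
            have hF2 : Q ⊓ Subgroup.centralizer ((P : Subgroup G) : Set G) ≤ C := by
              rw [hC]
              exact le_inf (inf_le_right.trans (Subgroup.centralizer_le_normalizer _))
                (inf_le_left.trans hQK)
            have hFcard : Nat.card (Q ⊓ Subgroup.centralizer ((P : Subgroup G) : Set G) :
                Subgroup G) = q ^ (Nat.card C).factorization q := by
              have hFq : IsPGroup q (Q ⊓ Subgroup.centralizer ((P : Subgroup G) : Set G) :
                  Subgroup G) := hQq.to_le inf_le_left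
              obtain ⟨k, hk⟩ := IsPGroup.iff_card.mp hFq
              have h1 : q ^ k ∣ Nat.card C := hk ▸ Subgroup.card_dvd_of_le hF2
              have h2 : k ≤ (Nat.card C).factorization q :=
                (hq.pow_dvd_iff_le_factorization Nat.card_pos.ne').mp h1
              have h3 : q ^ (Nat.card C).factorization q ≤ q ^ k := by
                rw [← hRcard, ← hk]; exact Subgroup.card_le_of_le hF1
              have h4 : (Nat.card C).factorization q ≤ k :=
                (Nat.pow_le_pow_iff_right hq.one_lt).mp h3
              rw [hk, le_antisymm h2 h4]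
            have hmod := card_modEq_card_inf_centralizer p (P : Subgroup G) Q P.isPGroup' hPQ
            rw [hQcard, hFcard] at hmod
            have hv : (Nat.card K).factorization q =
                (Nat.card (Sylow p G)).factorization q + (Nat.card C).factorization q := by
              rw [hnC, Nat.factorization_mul Nat.card_pos.ne' Nat.card_pos.ne']; rfl
            rw [hv, pow_add, mul_comm] at hmod
            have hcop2 : Nat.gcd p (q ^ (Nat.card C).factorization q) = 1 :=
              Nat.Coprime.pow_right _ ((Nat.coprime_primes Fact.out hq).mpr (Ne.symm hqp))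
            have hmod' : q ^ (Nat.card C).factorization q *
                q ^ (Nat.card (Sylow p G)).factorization q ≡
                q ^ (Nat.card C).factorization q * 1 [MOD p] := by rw [mul_one]; exact hmod
            exact Nat.ModEq.cancel_left_of_coprime hcop2 hmod'
        · have hcX : Nat.card (N ⧸ ((P : Subgroup G) ⊓ K).subgroupOf N) ≤ n := by
            have h1 : Nat.card N = Nat.card (N ⧸ ((P : Subgroup G) ⊓ K).subgroupOf N) *
                Nat.card (((P : Subgroup G) ⊓ K).subgroupOf N) :=
              Subgroup.card_eq_card_quotient_mul_card_subgroup _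
            have h2 : Nat.card (((P : Subgroup G) ⊓ K).subgroupOf N) =
                Nat.card ((P : Subgroup G) ⊓ K : Subgroup G) := by
              rw [Cfsg.Agent.S4341.card_subgroupOf', inf_eq_left.mpr hle]
            have h3 : Nat.card N ≤ Nat.card G := Subgroup.card_le_card_group N
            have h4 : 0 < Nat.card (N ⧸ ((P : Subgroup G) ⊓ K).subgroupOf N) := Nat.card_pos
            by_cases hinf : (P : Subgroup G) ⊓ K = ⊥
            · have hsup : (P : Subgroup G) ⊔ K ≠ ⊤ := fun h => hcase ⟨hinf, h⟩
              have h5 : Nat.card N ≤ Nat.card ((P : Subgroup G) ⊔ K : Subgroup G) :=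
                Subgroup.card_le_of_le (by rw [hN]; exact inf_le_left)
              have h6 : Nat.card ((P : Subgroup G) ⊔ K : Subgroup G) < Nat.card G := by
                by_contra h7
                exact hsup (Subgroup.eq_top_of_card_eq _
                  (le_antisymm (Subgroup.card_le_card_group _) (not_lt.mp h7)))
              have h8 : 0 < Nat.card (((P : Subgroup G) ⊓ K).subgroupOf N) := Nat.card_pos
              nlinarith
            · have h5 : 2 ≤ Nat.card ((P : Subgroup G) ⊓ K : Subgroup G) := by
                have := (Subgroup.one_lt_card_iff_ne_bot _).mpr hinf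
                omega
              rw [h2] at h1
              nlinarith
          have hX := ih (N ⧸ ((P : Subgroup G) ⊓ K).subgroupOf N) hcX
          rw [hformula]
          exact (hq.mul hk).mul hX

/-- For a finite group `G` and a prime `p`, the number of Sylow `p`-subgroups of `G` is a product of natural numbers each of which is either a prime power congruent to 1 modulo `p` or the number of Sylow `p`-subgroups of some finite simple group. -/
theorem result {G : Type u} [Group G] [Finite G]
    (p : ℕ) [Fact p.Prime] :
    ∃ l : List ℕ, l.prod = Nat.card (Sylow p G) ∧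
      ∀ m ∈ l, (IsPrimePow m ∧ m % p = 1) ∨
        ∃ (S : Type u) (_ : Group S) (_ : Finite S), IsSimpleGroup S ∧ m = Nat.card (Sylow p S) := by
  exact aux p (Nat.card G) G le_rfl

end Cfsg.Agent.S4303
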