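import Cfsg.Statements.S0121
import Mathlib

set_option autoImplicit false
open Pointwise
open Cfsg

namespace Cfsg.Agent.S0121

theorem result {G : Type*} [Group G] [Finite G] {p : ℕ} [Fact p.Prime] (hG : IsPGroup p G) (H : Subgroup G) (hH : H.Characteristic) (h1 : (frattini H).map H.subtype ≤ Subgroup.centralizer (H : Set G)) (h2 : ⁅H, (⊤ : Subgroup G)⁆ ≤ H ⊓ Subgroup.centralizer (H : Set G)) (h3 : Subgroup.centralizer (H : Set G) ≤ H) (a : MulAut G) (ha : Nat.Coprime (orderOf a) p) (h : ∀ x ∈ H, a x = x) : a = 1 := by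
  have hp : p.Prime := Fact.out
  haveI : H.Normal := Subgroup.normal_of_characteristic H
  ext g
  show a g = g
  set c := g⁻¹ * a g with hc
  have hcC : c ∈ Subgroup.centralizer (H : Set G) := by
    rw [Subgroup.mem_centralizer_iff]
    intro x hx
    have hconj : g * x * g⁻¹ ∈ H := ‹H.Normal›.conj_mem x hx g
    have e1 : a (g * x * g⁻¹) = g * x * g⁻¹ := h _ hconj
    rw [map_mul, map_mul, h x hx, map_inv] at e1
    have e2 : a g * x = g * x * g⁻¹ * a g := by
      rw [← e1]; group
    calc x * c = x * (g⁻¹ * a g) := rfl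
      _ = g⁻¹ * (g * x * g⁻¹ * a g) := by group
      _ = g⁻¹ * (a g * x) := by rw [e2]
      _ = c * x := by rw [hc]; group
  have hcH : c ∈ H := h3 hcC
  have hac : a c = c := h c hcH
  have hag : a g = g * c := by rw [hc]; group
  have hpow : ∀ k : ℕ, (a ^ k) g = g * c ^ k := by
    intro k
    induction k with
    | zero => simp
    | succ k ih =>
      rw [pow_succ', MulAut.mul_apply, ih, map_mul, map_pow, hac, hag, mul_assoc, ← pow_succ']
  have hck : c ^ orderOf a = 1 := by
    have := hpow (orderOf a)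
    rw [pow_orderOf_eq_one, MulAut.one_apply] at this
    exact mul_left_cancel (a := g) (by rw [← this, mul_one])
  obtain ⟨j, hj⟩ := hG c
  have hdvd : orderOf c ∣ Nat.gcd (orderOf a) (p ^ j) :=
    Nat.dvd_gcd (orderOf_dvd_of_pow_eq_one hck) (orderOf_dvd_of_pow_eq_one hj)
  rw [Nat.Coprime.pow_right j ha] at hdvd
  have hc1 : c = 1 := orderOf_eq_one_iff.mp (Nat.eq_one_of_dvd_one hdvd)
  rw [hag, hc1, mul_one]

end Cfsg.Agent.S0121
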