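import Cfsg.Statements.S0671
import Cfsg.Agent.Lib.helper29.PermMod

set_option autoImplicit false
open Cfsg

namespace Cfsg.Agent.S0671

open MulAction Cfsg.Agent.Lib.helper29

theorem not_two_trans {G Ω : Type*} [Group G] [MulAction G Ω] [MulAction.IsPretransitive G Ω]
    (hnot : ¬ MulAction.IsMultiplyPretransitive G Ω 2) :
    ∃ α β γ : Ω, β ≠ α ∧ γ ≠ α ∧ ∀ g : G, g • α = α → g • β ≠ γ := by
  rw [isMultiplyPretransitive_iff] at hnot
  push Not at hnot
  obtain ⟨x, y, hxy⟩ := hnot
  obtain ⟨h0, hh0⟩ := exists_smul_eq G (x 0) (y 0)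
  refine ⟨y 0, h0 • x 1, y 1, ?_, ?_, ?_⟩
  · intro h
    rw [← hh0] at h
    have h1 := x.injective (MulAction.injective h0 h)
    exact absurd h1 (by decide)
  · intro h
    have h1 := y.injective h
    exact absurd h1 (by decide)
  · intro g hg1 hg2
    apply hxy (g * h0)
    ext i
    fin_cases i
    · change (g * h0) • x 0 = y 0
      rw [mul_smul, hh0, hg1]
    · change (g * h0) • x 1 = y 1
      rw [mul_smul, hg2]

theorem exists_op {G : Type*} [Group G] {K : Type*} [Field K] {Ω : Type*} [Fintype Ω]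
    [MulAction G Ω] [MulAction.IsPretransitive G Ω]
    (hnot : ¬ MulAction.IsMultiplyPretransitive G Ω 2) :
    ∃ B : (Ω → K) →ₗ[K] (Ω → K), B (fun _ => 1) = 0 ∧
      (∀ (g : G) (v : Ω → K), B (Cfsg.permRep K G Ω g v) = Cfsg.permRep K G Ω g (B v)) ∧
      ∃ u : Ω → K, ∑ x, u x = 0 ∧ B u ≠ 0 := by
  classical
  obtain ⟨α, β, γ, hβα, hγα, hR⟩ := not_two_trans hnot
  have hRg : ∀ (g : G) (ω ω' : Ω), (∃ h : G, h • α = g • ω ∧ h • β = g • ω') ↔
      (∃ h : G, h • α = ω ∧ h • β = ω') := by
    intro g ω ω'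
    constructor
    · rintro ⟨h, h1, h2⟩
      refine ⟨g⁻¹ * h, ?_, ?_⟩
      · rw [mul_smul, h1, inv_smul_smul]
      · rw [mul_smul, h2, inv_smul_smul]
    · rintro ⟨h, h1, h2⟩
      refine ⟨g * h, ?_, ?_⟩
      · rw [mul_smul, h1]
      · rw [mul_smul, h2]
  let B : (Ω → K) →ₗ[K] (Ω → K) :=
    { toFun := fun f ω => ∑ ω', if (∃ h : G, h • α = ω ∧ h • β = ω') then f ω' - f ω else 0
      map_add' := by
        intro f₁ f₂
        funext ω
        simp only [Pi.add_apply]
        rw [← Finset.sum_add_distrib]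
        apply Finset.sum_congr rfl
        intro ω' _
        split_ifs
        · ring
        · rw [add_zero]
      map_smul' := by
        intro c f
        funext ω
        simp only [Pi.smul_apply, smul_eq_mul, RingHom.id_apply]
        rw [Finset.mul_sum]
        apply Finset.sum_congr rfl
        intro ω' _
        split_ifs
        · ring
        · rw [mul_zero] }
  have hBapp : ∀ (f : Ω → K) (ω : Ω), B f ω =
      ∑ ω', if (∃ h : G, h • α = ω ∧ h • β = ω') then f ω' - f ω else 0 := fun f ω => rfl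
  refine ⟨B, ?_, ?_, ?_⟩
  · funext ω
    rw [hBapp]
    apply Finset.sum_eq_zero
    intro ω' _
    split_ifs
    · rw [sub_self]
    · rfl
  · intro g v
    funext ω
    change B (fun x => v (g⁻¹ • x)) ω = B v (g⁻¹ • ω)
    rw [hBapp, hBapp]
    apply Fintype.sum_equiv (MulAction.toPerm g⁻¹)
    intro ω'
    have h1 := hRg g⁻¹ ω ω'
    simp only [MulAction.toPerm_apply]
    by_cases h2 : ∃ h : G, h • α = ω ∧ h • β = ω'
    · rw [if_pos h2, if_pos (h1.mpr h2)]
    · rw [if_neg h2, if_neg (fun h3 => h2 (h1.mp h3))]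
  · refine ⟨Pi.single γ 1 - Pi.single β 1, ?_, ?_⟩
    · simp only [Pi.sub_apply, Finset.sum_sub_distrib]
      rw [Finset.sum_pi_single', Finset.sum_pi_single']
      simp
    · intro h0
      have h1 := congrFun h0 α
      have hsingle : ∀ c : Ω, c ≠ α → B (Pi.single c 1) α =
          if (∃ h : G, h • α = α ∧ h • β = c) then 1 else 0 := by
        intro c hc
        rw [hBapp, Finset.sum_eq_single c]
        · rw [Pi.single_eq_same, Pi.single_eq_of_ne hc.symm, sub_zero]
        · intro ω' _ hω'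
          rw [Pi.single_eq_of_ne hω', Pi.single_eq_of_ne hc.symm, sub_zero]
          split_ifs <;> rfl
        · intro h
          exact absurd (Finset.mem_univ c) h
      rw [map_sub, Pi.sub_apply, hsingle γ hγα, hsingle β hβα, Pi.zero_apply] at h1
      rw [if_neg, if_pos ⟨1, one_smul G α, one_smul G β⟩] at h1
      · simp at h1
      · rintro ⟨h, h2, h3⟩
        exact hR h h2 h3


/-- If the heart of the permutation module in characteristic `p` of a transitive action of degree `p ^ f` has no trivial composition factor, the action is doubly transitive. The hypothesis is phrased without composition series: no invariant subspaces `W < W'` between the constants and the sum-zero functions with trivial action on the quotient. -/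
theorem result {G : Type*} [Group G] [Finite G] {K : Type*} [Field K] {p f : ℕ} [Fact p.Prime] [CharP K p] {Ω : Type*} [Fintype Ω] [MulAction G Ω] [MulAction.IsPretransitive G Ω] (hf : 1 ≤ f) (hcard : Fintype.card Ω = p ^ f) (h : ∀ W W' : Subrepresentation (Cfsg.permRep K G Ω), (Cfsg.permConstants K G Ω).toSubmodule ≤ W.toSubmodule → W.toSubmodule < W'.toSubmodule → W'.toSubmodule ≤ (Cfsg.permSumZero K G Ω).toSubmodule → ∃ g : G, ∃ v ∈ W'.toSubmodule, Cfsg.permRep K G Ω g v - v ∉ W.toSubmodule) : MulAction.IsMultiplyPretransitive G Ω 2 := by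
  classical
  by_contra hnot
  obtain ⟨B, hB1, hBcomm, u, hu, hBu⟩ := exists_op (K := K) hnot
  have hp : p.Prime := Fact.out
  have hρ1 : ∀ g : G, Cfsg.permRep K G Ω g (fun _ => 1) = (fun _ => 1) := fun g => rfl
  have hSmem : ∀ v : Ω → K, v ∈ (Cfsg.permSumZero K G Ω).toSubmodule ↔ ∑ x, v x = 0 :=
    fun v => Iff.rfl
  have hCmem : ∀ v : Ω → K, v ∈ (Cfsg.permConstants K G Ω).toSubmodule ↔
      ∃ c : K, c • (fun _ => 1 : Ω → K) = v := fun v => Submodule.mem_span_singleton
  have h1S : (fun _ => 1 : Ω → K) ∈ (Cfsg.permSumZero K G Ω).toSubmodule := by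
    rw [hSmem]
    simp only [Finset.sum_const, Finset.card_univ, hcard, nsmul_eq_mul, mul_one]
    rw [Nat.cast_pow, CharP.cast_eq_zero K p, zero_pow (by omega)]
  have hmap : (fun _ => 1 : Ω → K) ∈ (Cfsg.permSumZero K G Ω).toSubmodule.map B := by
    apply constants_le (G := G) hcard
    · rintro g _ ⟨v, hv, rfl⟩
      exact ⟨Cfsg.permRep K G Ω g v, (Cfsg.permSumZero K G Ω).apply_mem_toSubmodule g hv,
        hBcomm g v⟩
    · intro hbot
      apply hBu
      have h2 : B u ∈ (Cfsg.permSumZero K G Ω).toSubmodule.map B := ⟨u, hu, rfl⟩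
      rw [hbot] at h2
      exact (Submodule.mem_bot K).mp h2
  obtain ⟨f₁, hf₁S, hf₁⟩ := hmap
  let W : Subrepresentation (Cfsg.permRep K G Ω) :=
    { toSubmodule := (Cfsg.permSumZero K G Ω).toSubmodule ⊓ LinearMap.ker B
      apply_mem_toSubmodule := by
        rintro g v ⟨hv1, hv2⟩
        refine ⟨(Cfsg.permSumZero K G Ω).apply_mem_toSubmodule g hv1, ?_⟩
        have hv2' : B v = 0 := hv2
        change B (Cfsg.permRep K G Ω g v) = 0
        rw [hBcomm, hv2', map_zero] }
  let W' : Subrepresentation (Cfsg.permRep K G Ω) :=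
    { toSubmodule := (Cfsg.permSumZero K G Ω).toSubmodule ⊓
        (Cfsg.permConstants K G Ω).toSubmodule.comap B
      apply_mem_toSubmodule := by
        rintro g v ⟨hv1, hv2⟩
        refine ⟨(Cfsg.permSumZero K G Ω).apply_mem_toSubmodule g hv1, ?_⟩
        have hv2' : B v ∈ (Cfsg.permConstants K G Ω).toSubmodule := hv2
        change B (Cfsg.permRep K G Ω g v) ∈ (Cfsg.permConstants K G Ω).toSubmodule
        rw [hBcomm]
        exact (Cfsg.permConstants K G Ω).apply_mem_toSubmodule g hv2' }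
  have hCW : (Cfsg.permConstants K G Ω).toSubmodule ≤ W.toSubmodule := by
    change Submodule.span K {fun _ => 1} ≤ _
    rw [Submodule.span_singleton_le_iff_mem]
    exact ⟨h1S, LinearMap.mem_ker.mpr hB1⟩
  have hne1 : (fun _ => 1 : Ω → K) ≠ 0 := by
    intro h0
    have hne : Nonempty Ω := Fintype.card_pos_iff.mp (by rw [hcard]; exact pow_pos hp.pos f)
    obtain ⟨x⟩ := hne
    have := congrFun h0 x
    simp at this
  have hWW' : W.toSubmodule < W'.toSubmodule := by
    rw [SetLike.lt_iff_le_and_exists]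
    refine ⟨?_, f₁, ?_, ?_⟩
    · rintro v ⟨hv1, hv2⟩
      refine ⟨hv1, ?_⟩
      have hv2' : B v = 0 := hv2
      change B v ∈ (Cfsg.permConstants K G Ω).toSubmodule
      rw [hv2']
      exact Submodule.zero_mem _
    · refine ⟨hf₁S, ?_⟩
      change B f₁ ∈ (Cfsg.permConstants K G Ω).toSubmodule
      rw [hf₁, hCmem]
      exact ⟨1, one_smul _ _⟩
    · rintro ⟨-, hv2⟩
      have hv2' : B f₁ = 0 := hv2
      rw [hf₁] at hv2'
      exact hne1 hv2'
  obtain ⟨g, v, hv, hgv⟩ := h W W' hCW hWW' inf_le_left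
  apply hgv
  obtain ⟨hv1, hv2⟩ := hv
  refine ⟨Submodule.sub_mem _ ((Cfsg.permSumZero K G Ω).apply_mem_toSubmodule g hv1) hv1, ?_⟩
  have hv2' : B v ∈ (Cfsg.permConstants K G Ω).toSubmodule := hv2
  rw [hCmem] at hv2'
  obtain ⟨c, hc⟩ := hv2'
  change B (Cfsg.permRep K G Ω g v - v) = 0
  rw [map_sub, hBcomm, ← hc, map_smul, hρ1, sub_self]

end Cfsg.Agent.S0671
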