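import Cfsg.Statements.S0674
import Mathlib
import Cfsg.Agent.Lib.helper29.PolyAffine

set_option autoImplicit false
open Cfsg

namespace Cfsg.Agent.S0674

open Cfsg.Agent.Lib.helper29

theorem exists_equiv {α : Type*} [Fintype α] [DecidableEq α] {p : ℕ} [Fact p.Prime]
    (hα : Fintype.card α = p) (G : Subgroup (Equiv.Perm α)) [MulAction.IsPretransitive G α] :
    ∃ t ∈ G, ∃ e : ZMod p ≃ α, ∀ j, t (e j) = e (j + 1) := by
  have hp : p.Prime := Fact.out
  haveI : Nonempty α := by
    rw [← Fintype.card_pos_iff, hα]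
    exact hp.pos
  obtain ⟨a₀⟩ := ‹Nonempty α›
  have hdvd : p ∣ Nat.card G := by
    have h1 := MulAction.index_stabilizer_of_transitive G a₀
    have h2 := Subgroup.index_dvd_card (MulAction.stabilizer G a₀)
    rw [h1, Nat.card_eq_fintype_card, hα] at h2
    exact h2
  obtain ⟨t, ht⟩ := exists_prime_orderOf_dvd_card' p hdvd
  have ht' : orderOf (t : Equiv.Perm α) = p := by
    rw [Subgroup.orderOf_coe]
    exact ht
  have hcyc : (t : Equiv.Perm α).IsCycle :=
    Equiv.Perm.isCycle_of_prime_order'' (by rw [hα]; exact hp) (by rw [ht', hα])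
  have hsupp : (t : Equiv.Perm α).support = Finset.univ := by
    apply Finset.eq_univ_of_card
    rw [← hcyc.orderOf, ht', hα]
  have hmoved : ∀ a : α, (t : Equiv.Perm α) a ≠ a := by
    intro a
    rw [← Equiv.Perm.mem_support, hsupp]
    exact Finset.mem_univ a
  obtain ⟨e₀, he₀⟩ : ∃ e₀ : ZMod p → α, ∀ j, e₀ j = ((t : Equiv.Perm α) ^ j.val) a₀ :=
    ⟨_, fun _ => rfl⟩
  have hnat : ∀ n : ℕ, ((t : Equiv.Perm α) ^ n) a₀ = e₀ (n : ZMod p) := by
    intro n
    rw [he₀, ZMod.val_natCast]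
    conv_rhs => rw [← ht', pow_mod_orderOf]
  have hsurj : Function.Surjective e₀ := by
    intro a
    obtain ⟨i, hi⟩ := hcyc.exists_pow_eq (hmoved a₀) (hmoved a)
    exact ⟨(i : ZMod p), by rw [← hnat, hi]⟩
  have hbij : Function.Bijective e₀ :=
    (Fintype.bijective_iff_surjective_and_card e₀).mpr ⟨hsurj, by rw [ZMod.card, hα]⟩
  refine ⟨t, t.2, Equiv.ofBijective e₀ hbij, ?_⟩
  intro j
  rw [Equiv.ofBijective_apply, Equiv.ofBijective_apply, he₀, ← Equiv.Perm.mul_apply, ← pow_succ',
    hnat, Nat.cast_succ, ZMod.natCast_zmod_val]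

theorem solvable_of_affine {α : Type*} {p : ℕ} [Fact p.Prime]
    (G : Subgroup (Equiv.Perm α)) {K : Type*} [Field K] [CharP K p] (e : ZMod p ≃ α)
    (h : ∀ g : G, ∃ A B : K, ∀ j,
      (ZMod.cast (e.symm ((g : Equiv.Perm α) (e j))) : K) = A * ZMod.cast j + B) :
    Group.IsSolvable G := by
  have hc0 : (ZMod.cast (0 : ZMod p) : K) = 0 := ZMod.cast_zero
  have hc1 : (ZMod.cast (1 : ZMod p) : K) = 1 := map_one (ZMod.castHom (dvd_refl p) K)
  obtain ⟨sl, hsl_def⟩ : ∃ sl : G → K, ∀ g : G, sl g =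
      ZMod.cast (e.symm ((g : Equiv.Perm α) (e 1))) -
        ZMod.cast (e.symm ((g : Equiv.Perm α) (e 0))) := ⟨_, fun _ => rfl⟩
  have hsl : ∀ (g : G) (j : ZMod p), (ZMod.cast (e.symm ((g : Equiv.Perm α) (e j))) : K) =
      sl g * ZMod.cast j + ZMod.cast (e.symm ((g : Equiv.Perm α) (e 0))) := by
    intro g j
    obtain ⟨A, B, hAB⟩ := h g
    have h0 := hAB 0
    have h1 := hAB 1
    rw [hc0] at h0
    rw [hc1] at h1
    have hA : sl g = A := by
      rw [hsl_def, h0, h1]
      ring
    rw [hA, hAB j, h0]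
    ring
  obtain ⟨s, hs⟩ : ∃ s : G →* K, ∀ g : G, s g = sl g := ⟨
    { toFun := sl
      map_one' := by
        rw [hsl_def, Subgroup.coe_one, Equiv.Perm.one_apply, Equiv.Perm.one_apply,
          Equiv.symm_apply_apply, Equiv.symm_apply_apply, hc0, hc1, sub_zero]
      map_mul' := by
        intro g k
        rw [hsl_def (g * k), Subgroup.coe_mul, Equiv.Perm.mul_apply, Equiv.Perm.mul_apply]
        have h1 := hsl g (e.symm ((k : Equiv.Perm α) (e 1)))
        have h0 := hsl g (e.symm ((k : Equiv.Perm α) (e 0)))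
        rw [Equiv.apply_symm_apply] at h1 h0
        rw [h1, h0, hsl_def k]
        ring }, fun _ => rfl⟩
  have hkerval : ∀ a : s.toHomUnits.ker, sl a.1 = 1 := by
    intro a
    have h1 := a.2
    rw [MonoidHom.mem_ker] at h1
    have h2 := congrArg Units.val h1
    rw [MonoidHom.coe_toHomUnits, hs] at h2
    exact h2
  have hker : ∀ a b : s.toHomUnits.ker, a * b = b * a := by
    intro a b
    have ha := hkerval a
    have hb := hkerval b
    apply Subtype.ext
    apply Subtype.ext
    apply Equiv.ext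
    intro x
    obtain ⟨j, rfl⟩ := e.surjective x
    apply e.symm.injective
    apply cast_injective (p := p) (K := K)
    change ZMod.cast (e.symm (((a.1 * b.1 : G) : Equiv.Perm α) (e j))) =
      ZMod.cast (e.symm (((b.1 * a.1 : G) : Equiv.Perm α) (e j)))
    rw [Subgroup.coe_mul, Subgroup.coe_mul, Equiv.Perm.mul_apply, Equiv.Perm.mul_apply]
    have h1 := hsl a.1 (e.symm ((b.1 : Equiv.Perm α) (e j)))
    have h2 := hsl b.1 (e.symm ((a.1 : Equiv.Perm α) (e j)))
    rw [Equiv.apply_symm_apply] at h1 h2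
    rw [h1, h2, hsl b.1 j, hsl a.1 j, ha, hb]
    ring
  haveI : Group.IsSolvable s.toHomUnits.ker := Group.isSolvable_of_comm hker
  exact solvable_of_ker_le_range s.toHomUnits.ker.subtype s.toHomUnits
    (by rw [Subgroup.range_subtype])


/-- Let `G` be a non-solvable transitive permutation group of prime degree `p` and `K` a field of characteristic `p`. Then the heart of the permutation module is irreducible: an invariant subspace containing the constants and contained in the sum-zero functions is one or the other. -/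
theorem result {α : Type*} [Fintype α] [DecidableEq α] {p : ℕ} [Fact p.Prime] (hα : Fintype.card α = p) (G : Subgroup (Equiv.Perm α)) [MulAction.IsPretransitive G α] (hG : ¬ Group.IsSolvable G) {K : Type*} [Field K] [CharP K p] (W : Subrepresentation (Cfsg.permRep K G α)) (h₁ : (Cfsg.permConstants K G α).toSubmodule ≤ W.toSubmodule) (h₂ : W.toSubmodule ≤ (Cfsg.permSumZero K G α).toSubmodule) : W = Cfsg.permConstants K G α ∨ W = Cfsg.permSumZero K G α := by
  have hp : p.Prime := Fact.out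
  obtain ⟨t, htG, e, het⟩ := exists_equiv hα G
  have het' : ∀ j, e (j - 1) = t⁻¹ (e j) := by
    intro j
    rw [Equiv.Perm.eq_inv_iff_eq, het, sub_add_cancel]
  obtain ⟨E, hE⟩ : ∃ E : (α → K) ≃ₗ[K] (ZMod p → K), ∀ f : α → K, E f = f ∘ e :=
    ⟨LinearEquiv.funCongrLeft K K e, fun f => rfl⟩
  obtain ⟨U, hU⟩ : ∃ U : Submodule K (ZMod p → K),
      U = W.toSubmodule.map (E : (α → K) →ₗ[K] (ZMod p → K)) := ⟨_, rfl⟩
  have hmemU : ∀ f : ZMod p → K, f ∈ U ↔ ∃ h ∈ W.toSubmodule, h ∘ e = f := by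
    intro f
    rw [hU, Submodule.mem_map]
    constructor
    · rintro ⟨h, hh, rfl⟩
      exact ⟨h, hh, (hE h).symm⟩
    · rintro ⟨h, hh, rfl⟩
      exact ⟨h, hh, hE h⟩
  have hfinU : Module.finrank K U = Module.finrank K W.toSubmodule := by
    rw [hU]
    exact LinearEquiv.finrank_map_eq E W.toSubmodule
  have hshift : ∀ f ∈ U, (fun j => f (j - 1)) ∈ U := by
    intro f hf
    obtain ⟨h, hh, rfl⟩ := (hmemU f).mp hf
    refine (hmemU _).mpr ⟨Cfsg.permRep K G α ⟨t, htG⟩ h, W.apply_mem_toSubmodule _ hh, ?_⟩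
    funext j
    change h ((⟨t, htG⟩ : G)⁻¹ • e j) = h (e (j - 1))
    rw [het']
    rfl
  obtain ⟨Γ, hΓdef⟩ : ∃ Γ : Subgroup (Equiv.Perm (ZMod p)),
      Γ = G.map (e.symm.permCongrHom.toMonoidHom) := ⟨_, rfl⟩
  have hΓ : ∀ γ ∈ Γ, ∀ f ∈ U, f ∘ γ ∈ U := by
    intro γ hγ f hf
    rw [hΓdef, Subgroup.mem_map] at hγ
    obtain ⟨g, hg, rfl⟩ := hγ
    obtain ⟨h, hh, rfl⟩ := (hmemU f).mp hf
    refine (hmemU _).mpr ⟨Cfsg.permRep K G α (⟨g, hg⟩ : G)⁻¹ h, W.apply_mem_toSubmodule _ hh, ?_⟩
    funext j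
    change h (((⟨g, hg⟩ : G)⁻¹)⁻¹ • e j) = h (e (e.symm (g (e j))))
    rw [inv_inv, Equiv.apply_symm_apply]
    rfl
  have hone_mem : (fun _ : α => (1 : K)) ∈ W.toSubmodule := h₁ (Submodule.subset_span rfl)
  have hone_ne : (fun _ : α => (1 : K)) ≠ 0 := by
    intro h0
    have := congrFun h0 (e 0)
    simp at this
  have h1 : 1 ≤ Module.finrank K W.toSubmodule := by
    rw [Nat.succ_le_iff, Module.finrank_pos_iff_exists_ne_zero]
    refine ⟨⟨fun _ => 1, hone_mem⟩, ?_⟩
    intro h0
    exact hone_ne (congrArg Subtype.val h0)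
  have hSlt : (Cfsg.permSumZero K G α).toSubmodule < ⊤ := by
    rw [lt_top_iff_ne_top]
    intro htop
    have hmem : (Pi.single (e 0) (1 : K) : α → K) ∈ (Cfsg.permSumZero K G α).toSubmodule := by
      rw [htop]
      exact Submodule.mem_top
    have hsum : ∑ x, (Pi.single (e 0) (1 : K) : α → K) x = 0 := hmem
    rw [Finset.sum_pi_single'] at hsum
    simp at hsum
  have hfull : Module.finrank K (α → K) = p := by
    rw [Module.finrank_fintype_fun_eq_card, hα]
  have hSfin : Module.finrank K (Cfsg.permSumZero K G α).toSubmodule < p := by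
    have := Submodule.finrank_lt hSlt.ne
    rw [hfull] at this
    exact this
  have hWle : Module.finrank K W.toSubmodule ≤ Module.finrank K (Cfsg.permSumZero K G α).toSubmodule :=
    Submodule.finrank_mono h₂
  by_cases hr1 : Module.finrank K W.toSubmodule = 1
  · left
    apply Subrepresentation.toSubmodule_injective
    symm
    apply Submodule.eq_of_le_of_finrank_eq h₁
    rw [hr1]
    exact finrank_span_singleton hone_ne
  by_cases hr2 : Module.finrank K W.toSubmodule = p - 1
  · right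
    apply Subrepresentation.toSubmodule_injective
    apply Submodule.eq_of_le_of_finrank_le h₂
    omega
  exfalso
  apply hG
  have hAff := affine_core Γ U hshift hΓ (by rw [hfinU]; omega) (by rw [hfinU]; omega)
  apply solvable_of_affine G (K := K) e
  intro g
  have hmem : e.symm.permCongrHom.toMonoidHom (g : Equiv.Perm α) ∈ Γ := by
    rw [hΓdef]
    exact Subgroup.mem_map_of_mem _ g.2
  exact hAff _ hmem

end Cfsg.Agent.S0674
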