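import Cfsg.Statements.S4355
-- import your own Cfsg.Agent.* helpers here

set_option autoImplicit false
open Cfsg

namespace Cfsg.Agent.S4355

open scoped Pointwise

section
variable {G : Type*} [Group G]

theorem mem_smul_sylow {p : ℕ} (g : G) (Q : Sylow p G) (z : G) :
    z ∈ ((g • Q : Sylow p G) : Subgroup G) ↔ g⁻¹ * z * g ∈ (Q : Subgroup G) := by
  rw [Sylow.smul_def, Sylow.pointwise_smul_def]
  show z ∈ MulAut.conj g • (Q : Subgroup G) ↔ _
  rw [Subgroup.mem_pointwise_smul_iff_inv_smul_mem, MulAut.smul_def, MulAut.conj_inv_apply]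

/-- the (C') hypothesis: every 2-element centralizes a Sylow 2-subgroup -/
def CC (G : Type*) [Group G] : Prop :=
  ∀ x : G, (∃ k : ℕ, orderOf x = 2 ^ k) →
    ∃ Q : Sylow 2 G, (Q : Subgroup G) ≤ Subgroup.centralizer ({x} : Set G)

set_option linter.unusedSectionVars false
variable [Finite G]

theorem conj_normalizer (X : Subgroup G) (g : G) (h : ∀ x ∈ X, g * x * g⁻¹ ∈ X) :
    g ∈ Subgroup.normalizer (X : Set G) := by
  have hinj : Function.Injective (fun x : X => (⟨g * x * g⁻¹, h x x.2⟩ : X)) := by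
    intro a b hab
    have h1 : g * (a : G) * g⁻¹ = g * (b : G) * g⁻¹ := congrArg Subtype.val hab
    apply Subtype.ext
    have h2 : (a : G) = g⁻¹ * (g * (a : G) * g⁻¹) * g := by group
    rw [h2, h1]; group
  have hsurj := Finite.surjective_of_injective hinj
  rw [Subgroup.mem_normalizer_iff]
  intro x
  constructor
  · intro hx; exact h x hx
  · intro hx
    obtain ⟨y, hy⟩ := hsurj ⟨g * x * g⁻¹, hx⟩
    have h1 : g * (y : G) * g⁻¹ = g * x * g⁻¹ := congrArg Subtype.val hy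
    have h2 : x = (y : G) := by
      have h3 : x = g⁻¹ * (g * x * g⁻¹) * g := by group
      rw [h3, ← h1]; group
    rw [h2]; exact y.2

theorem conj_inv_mem (X : Subgroup G) (g : G) (h : ∀ x ∈ X, g * x * g⁻¹ ∈ X) :
    ∀ x ∈ X, g⁻¹ * x * g ∈ X := by
  intro x hx
  have hn := conj_normalizer X g h
  have := (Subgroup.mem_normalizer_iff.mp hn (g⁻¹ * x * g)).mpr
  apply this
  have h3 : g * (g⁻¹ * x * g) * g⁻¹ = x := by group
  rw [h3]; exact hx

variable (p : ℕ) [Fact p.Prime]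

theorem mkSylow (X A : Subgroup G) (hAX : A ≤ X) (hA : IsPGroup p A)
    (hmax : ∀ B' : Subgroup G, IsPGroup p B' → A ≤ B' → B' ≤ X → B' = A) :
    ∃ Q : Sylow p ↥X, (Q : Subgroup ↥X) = A.subgroupOf X := by
  have hA' : IsPGroup p (A.subgroupOf X) := by
    apply hA.comap_of_injective
    exact Subgroup.subtype_injective X
  refine ⟨⟨A.subgroupOf X, hA', ?_⟩, rfl⟩
  intro Q hQ hle
  have h1 : IsPGroup p (Q.map X.subtype) := hQ.map _
  have h2 : A ≤ Q.map X.subtype := by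
    intro a ha
    exact ⟨⟨a, hAX ha⟩, hle (Subgroup.mem_subgroupOf.mpr ha), rfl⟩
  have h3 : Q.map X.subtype ≤ X := by
    rintro _ ⟨y, _, rfl⟩; exact y.2
  have h4 := hmax _ h1 h2 h3
  ext y
  constructor
  · intro hy
    rw [Subgroup.mem_subgroupOf, ← h4]
    exact ⟨y, hy, rfl⟩
  · intro hy; exact hle hy

theorem sylRel (X A B : Subgroup G) (hAX : A ≤ X) (hA : IsPGroup p A)
    (hmax : ∀ B' : Subgroup G, IsPGroup p B' → A ≤ B' → B' ≤ X → B' = A)
    (hBX : B ≤ X) (hB : IsPGroup p B) :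
    ∃ c ∈ X, ∀ b ∈ B, c * b * c⁻¹ ∈ A := by
  obtain ⟨SA, hSA⟩ := mkSylow p X A hAX hA hmax
  have hB' : IsPGroup p (B.subgroupOf X) := by
    apply hB.comap_of_injective
    exact Subgroup.subtype_injective X
  obtain ⟨Q, hQ⟩ := hB'.exists_le_sylow
  obtain ⟨g, hg⟩ := MulAction.exists_smul_eq (↥X) Q SA
  refine ⟨g, g.2, ?_⟩
  intro b hb
  have h1 : (⟨b, hBX hb⟩ : ↥X) ∈ (Q : Subgroup ↥X) := hQ (Subgroup.mem_subgroupOf.mpr hb)
  have h2 : g * (⟨b, hBX hb⟩ : ↥X) * g⁻¹ ∈ ((g • Q : Sylow p ↥X) : Subgroup ↥X) := by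
    rw [mem_smul_sylow]
    have : g⁻¹ * (g * (⟨b, hBX hb⟩ : ↥X) * g⁻¹) * g = ⟨b, hBX hb⟩ := by group
    rw [this]; exact h1
  rw [hg, hSA, Subgroup.mem_subgroupOf] at h2
  exact h2

theorem sylow_max (P : Sylow p G) (X : Subgroup G) :
    ∀ B' : Subgroup G, IsPGroup p B' → (P : Subgroup G) ≤ B' → B' ≤ X → B' = (P : Subgroup G) :=
  fun _ hB' hle _ => P.is_maximal' hB' hle

theorem L1 (P : Sylow p G) (K : Subgroup G) (hPK : (P : Subgroup G) ≤ Subgroup.normalizer (K : Set G)) :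
    ∀ B : Subgroup G, IsPGroup p B → (P : Subgroup G) ⊓ K ≤ B → B ≤ K →
      B = (P : Subgroup G) ⊓ K := by
  intro B hB hle hBK
  obtain ⟨c, hc, hcB⟩ := sylRel p (Subgroup.normalizer (K : Set G)) (P : Subgroup G) B hPK P.isPGroup'
    (sylow_max p P _) (hBK.trans Subgroup.le_normalizer) hB
  have hinj : Function.Injective (fun b : B => (⟨c * b * c⁻¹,
      Subgroup.mem_inf.mpr ⟨hcB b b.2, (Subgroup.mem_normalizer_iff.mp hc b).mp (hBK b.2)⟩⟩ :
        ↥((P : Subgroup G) ⊓ K))) := by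
    intro a b hab
    have h1 : c * (a : G) * c⁻¹ = c * (b : G) * c⁻¹ := congrArg Subtype.val hab
    apply Subtype.ext
    have h2 : (a : G) = c⁻¹ * (c * (a : G) * c⁻¹) * c := by group
    rw [h2, h1]; group
  have hcard := Nat.card_le_card_of_injective _ hinj
  exact (Subgroup.eq_of_le_of_card_ge hle hcard).symm

end

section two
variable {G : Type*} [Group G] [Finite G]
set_option linter.unusedSectionVars false

theorem twoEl_of_mem (S : Subgroup G) (hS : IsPGroup 2 S) {x : G} (hx : x ∈ S) :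
    ∃ k : ℕ, orderOf x = 2 ^ k := by
  obtain ⟨k, hk⟩ := (IsPGroup.iff_orderOf.mp hS) ⟨x, hx⟩
  exact ⟨k, by rw [← hk, Subgroup.orderOf_mk]⟩

theorem isPGroup_zpowers {x : G} (hx : ∃ k : ℕ, orderOf x = 2 ^ k) :
    IsPGroup 2 (Subgroup.zpowers x) := by
  obtain ⟨k, hk⟩ := hx
  exact IsPGroup.of_card (n := k) (by rw [Nat.card_zpowers, hk])

theorem mem_cent_singleton {w x : G} :
    x ∈ Subgroup.centralizer ({w} : Set G) ↔ w * x = x * w := by
  rw [Subgroup.mem_centralizer_iff]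
  constructor
  · intro h; exact h w rfl
  · intro h y hy; rw [Set.mem_singleton_iff.mp hy]; exact h

theorem comm_of_conj_comm {a b : G} (c : G)
    (h : (c * a * c⁻¹) * (c * b * c⁻¹) = (c * b * c⁻¹) * (c * a * c⁻¹)) : a * b = b * a := by
  have e1 : a * b = c⁻¹ * (c * a * c⁻¹ * (c * b * c⁻¹)) * c := by group
  have e2 : b * a = c⁻¹ * (c * b * c⁻¹ * (c * a * c⁻¹)) * c := by group
  rw [e1, e2, h]

/-- (R_D) -/
theorem RD (hC : CC G) (D : Subgroup G) (hD : D ≤ Subgroup.center G) (u g : G)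
    (hu : ∃ k : ℕ, orderOf u = 2 ^ k) (hg : ∃ k : ℕ, orderOf g = 2 ^ k)
    (h : g * u * g⁻¹ ∈ Subgroup.zpowers u ⊔ D) : g * u * g⁻¹ = u := by
  obtain ⟨P, hP⟩ := hC u hu
  obtain ⟨X, hX⟩ : ∃ X : Subgroup G, X = Subgroup.zpowers u ⊔ D := ⟨_, rfl⟩
  have huX : u ∈ X := by
    rw [hX]; exact (le_sup_left : Subgroup.zpowers u ≤ _) (Subgroup.mem_zpowers u)
  -- every element of P commutes with every element of X
  have hPX : ∀ y ∈ (P : Subgroup G), ∀ x ∈ X, y * x = x * y := by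
    intro y hy
    have h1 : X ≤ Subgroup.centralizer ({y} : Set G) := by
      rw [hX]
      apply sup_le
      · rw [Subgroup.zpowers_le]
        rw [mem_cent_singleton]
        exact (mem_cent_singleton.mp (hP hy)).symm
      · intro d hd
        rw [mem_cent_singleton]
        exact ((Subgroup.mem_center_iff.mp (hD hd)) y)
    intro x hx
    exact mem_cent_singleton.mp (h1 hx)
  -- g normalizes X
  have hgX : ∀ x ∈ X, g * x * g⁻¹ ∈ X := by
    intro x hx
    have h1 : X ≤ Subgroup.comap (MulAut.conj g).toMonoidHom X := by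
      conv_lhs => rw [hX]
      apply sup_le
      · rw [Subgroup.zpowers_le]
        show g * u * g⁻¹ ∈ X
        rw [hX]; exact h
      · intro d hd
        show g * d * g⁻¹ ∈ X
        have h2 : g * d * g⁻¹ = d := by
          rw [(Subgroup.mem_center_iff.mp (hD hd)) g]; group
        rw [h2, hX]; exact (le_sup_right : D ≤ _) hd
    exact h1 hx
  have hgN := conj_normalizer X g hgX
  have hPN : (P : Subgroup G) ≤ Subgroup.normalizer (X : Set G) := by
    intro y hy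
    apply conj_normalizer
    intro x hx
    have h2 : y * x * y⁻¹ = x := by rw [hPX y hy x hx]; group
    rw [h2]; exact hx
  obtain ⟨c, hc, hcB⟩ := sylRel 2 (Subgroup.normalizer (X : Set G)) (P : Subgroup G)
    (Subgroup.zpowers g) hPN P.isPGroup' (sylow_max 2 P _)
    (by rw [Subgroup.zpowers_le]; exact hgN) (isPGroup_zpowers hg)
  have h1 := hcB g (Subgroup.mem_zpowers g)
  -- c g c⁻¹ ∈ P commutes with c u c⁻¹ ∈ X
  have h2 : c * u * c⁻¹ ∈ X := (Subgroup.mem_normalizer_iff.mp hc u).mp huX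
  have h3 := hPX _ h1 _ h2
  have h4 : g * u = u * g := by
    have e1 : g * u = c⁻¹ * (c * g * c⁻¹ * (c * u * c⁻¹)) * c := by group
    have e2 : u * g = c⁻¹ * (c * u * c⁻¹ * (c * g * c⁻¹)) * c := by group
    rw [e1, e2, h3]
  rw [h4]; group

theorem comm_of_sq (hC : CC G) (D : Subgroup G) (hD : D ≤ Subgroup.center G)
    (S : Subgroup G) (hS : IsPGroup 2 S) {x y : G} (hx : x ∈ S) (hy : y ∈ S)
    (hx2 : x * x ∈ D) (hy2 : y * y ∈ D) : x * y = y * x := by
  have hu := twoEl_of_mem S hS (mul_mem hx hy)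
  have hg := twoEl_of_mem S hS (inv_mem hx)
  have key : x⁻¹ * (x * y) * x⁻¹⁻¹ ∈ Subgroup.zpowers (x * y) ⊔ D := by
    have e : x⁻¹ * (x * y) * x⁻¹⁻¹ = (x * y)⁻¹ * (y * y * (x * x)) := by
      have hc : (y * y) * x = x * (y * y) := ((Subgroup.mem_center_iff.mp (hD hy2)) x).symm
      have e1 : (x * y)⁻¹ * (y * y * (x * x)) = y⁻¹ * x⁻¹ * ((y * y) * x) * x := by group
      rw [e1, hc]; group
    rw [e]
    exact mul_mem ((le_sup_left : Subgroup.zpowers (x * y) ≤ _)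
      (inv_mem (Subgroup.mem_zpowers _))) ((le_sup_right : D ≤ _) (mul_mem hy2 hx2))
  have h := RD hC D hD (x * y) x⁻¹ hu hg key
  have e : x⁻¹ * (x * y) * x⁻¹⁻¹ = y * x := by group
  rw [e] at h
  exact h.symm

theorem exists_Esub (hC : CC G) (D : Subgroup G) (hD : D ≤ Subgroup.center G)
    (S : Subgroup G) (hS : IsPGroup 2 S) :
    ∃ E : Subgroup G, ∀ x, x ∈ E ↔ x ∈ S ∧ x * x ∈ D := by
  refine ⟨{ carrier := {x | x ∈ S ∧ x * x ∈ D}
            mul_mem' := ?_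
            one_mem' := ?_
            inv_mem' := ?_ }, fun x => Iff.rfl⟩
  · rintro a b ⟨ha, ha2⟩ ⟨hb, hb2⟩
    refine ⟨mul_mem ha hb, ?_⟩
    have hc := comm_of_sq hC D hD S hS ha hb ha2 hb2
    have e : a * b * (a * b) = a * a * (b * b) := by
      calc a * b * (a * b) = a * (b * a) * b := by group
        _ = a * (a * b) * b := by rw [hc]
        _ = a * a * (b * b) := by group
    rw [e]; exact mul_mem ha2 hb2
  · exact ⟨one_mem _, by rw [one_mul]; exact one_mem _⟩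
  · rintro a ⟨ha, ha2⟩
    refine ⟨inv_mem ha, ?_⟩
    have e : a⁻¹ * a⁻¹ = (a * a)⁻¹ := by group
    rw [e]; exact inv_mem ha2

theorem weak_closure (hC : CC G) (D : Subgroup G) (hD : D ≤ Subgroup.center G)
    (S Q : Sylow 2 G) (E : Subgroup G) (hE : ∀ x, x ∈ E ↔ x ∈ (S : Subgroup G) ∧ x * x ∈ D)
    (hEQ : E ≤ Q) : ∀ x, x ∈ (Q : Subgroup G) → x * x ∈ D → x ∈ E := by
  obtain ⟨EQ, hEQ'⟩ := exists_Esub hC D hD (Q : Subgroup G) Q.isPGroup'
  have hle : E ≤ EQ := by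
    intro x hx
    rw [hEQ']
    exact ⟨hEQ hx, ((hE x).mp hx).2⟩
  obtain ⟨g, hg⟩ := MulAction.exists_smul_eq G S Q
  have hmem : ∀ x : EQ, g⁻¹ * (x : G) * g ∈ E := by
    intro x
    have hx := (hEQ' x).mp x.2
    rw [hE]
    constructor
    · have := hx.1
      rw [← hg] at this
      exact (mem_smul_sylow g S x).mp this
    · have e : g⁻¹ * (x : G) * g * (g⁻¹ * (x : G) * g) = g⁻¹ * ((x : G) * (x : G)) * g := by group
      have hc : ((x : G) * (x : G)) * g = g * ((x : G) * (x : G)) :=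
        ((Subgroup.mem_center_iff.mp (hD hx.2)) g).symm
      have e2 : g⁻¹ * ((x : G) * (x : G)) * g = (x : G) * (x : G) := by
        rw [mul_assoc, hc]; group
      rw [e, e2]; exact hx.2
  have hinj : Function.Injective (fun x : EQ => (⟨g⁻¹ * (x : G) * g, hmem x⟩ : E)) := by
    intro a b hab
    have h1 : g⁻¹ * (a : G) * g = g⁻¹ * (b : G) * g := congrArg Subtype.val hab
    apply Subtype.ext
    have h2 : (a : G) = g * (g⁻¹ * (a : G) * g) * g⁻¹ := by group
    rw [h2, h1]; group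
  have hcard := Nat.card_le_card_of_injective _ hinj
  have heq := Subgroup.eq_of_le_of_card_ge hle hcard
  intro x hx hx2
  rw [heq, hEQ']
  exact ⟨hx, hx2⟩

theorem sylow_in_cent (hC : CC G) (w : G) (hw : ∃ k : ℕ, orderOf w = 2 ^ k)
    (E : Subgroup G) (hE2 : IsPGroup 2 E) (hEw : ∀ x ∈ E, x * w = w * x) :
    ∃ Q : Sylow 2 G, E ≤ (Q : Subgroup G) ∧
      (Q : Subgroup G) ≤ Subgroup.centralizer ({w} : Set G) := by
  obtain ⟨P, hP⟩ := hC w hw
  obtain ⟨c, hc, hcB⟩ := sylRel 2 (Subgroup.centralizer ({w} : Set G)) (P : Subgroup G)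
    E hP P.isPGroup' (sylow_max 2 P _)
    (fun x hx => mem_cent_singleton.mpr (hEw x hx).symm) hE2
  refine ⟨c⁻¹ • P, ?_, ?_⟩
  · intro x hx
    rw [mem_smul_sylow, inv_inv]
    exact hcB x hx
  · intro x hx
    rw [mem_smul_sylow, inv_inv] at hx
    have h1 := mem_cent_singleton.mp (hP hx)
    have h2 := mem_cent_singleton.mp hc
    rw [mem_cent_singleton]
    have h3 : c * w * c⁻¹ = w := by rw [← h2]; group
    apply comm_of_conj_comm c
    rw [h3]; exact h1

theorem normalizes_cent (E : Subgroup G) (q : G) (hq : ∀ x ∈ E, q * x * q⁻¹ ∈ E) :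
    q ∈ Subgroup.normalizer ((Subgroup.centralizer (E : Set G) : Subgroup G) : Set G) := by
  apply conj_normalizer
  intro h hh
  rw [Subgroup.mem_centralizer_iff] at hh ⊢
  intro x hx
  have hx' := conj_inv_mem E q hq x hx
  have h1 := hh _ hx'
  calc x * (q * h * q⁻¹) = q * ((q⁻¹ * x * q) * h) * q⁻¹ := by group
    _ = q * (h * (q⁻¹ * x * q)) * q⁻¹ := by rw [h1]
    _ = q * h * q⁻¹ * x := by group

theorem conj_sq_mem (D : Subgroup G) (hD : D ≤ Subgroup.center G) (q x : G) (hx2 : x * x ∈ D) :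
    q * x * q⁻¹ * (q * x * q⁻¹) ∈ D := by
  have e : q * x * q⁻¹ * (q * x * q⁻¹) = x * x := by
    have hc := (Subgroup.mem_center_iff.mp (hD hx2)) q
    calc q * x * q⁻¹ * (q * x * q⁻¹) = q * (x * x) * q⁻¹ := by group
      _ = x * x * q * q⁻¹ := by rw [hc]
      _ = x * x := by group
  rw [e]; exact hx2

theorem CC_H (hC : CC G) (D : Subgroup G) (hD : D ≤ Subgroup.center G) (S : Sylow 2 G)
    (E : Subgroup G) (hE : ∀ x, x ∈ E ↔ x ∈ (S : Subgroup G) ∧ x * x ∈ D) :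
    CC ↥(Subgroup.centralizer (E : Set G)) := by
  intro w hw
  obtain ⟨k, hk⟩ := hw
  have hw' : ∃ k : ℕ, orderOf (w : G) = 2 ^ k := ⟨k, by rw [Subgroup.orderOf_coe]; exact hk⟩
  have hES : E ≤ S := fun x hx => ((hE x).mp hx).1
  have hE2 : IsPGroup 2 E := S.isPGroup'.to_le hES
  have hEw : ∀ x ∈ E, x * (w : G) = (w : G) * x :=
    fun x hx => (Subgroup.mem_centralizer_iff.mp w.2) x hx
  obtain ⟨Q, hEQ, hQw⟩ := sylow_in_cent hC (w : G) hw' E hE2 hEw
  have hwc := weak_closure hC D hD S Q E hE hEQ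
  have hQE : ∀ q ∈ (Q : Subgroup G), ∀ x ∈ E, q * x * q⁻¹ ∈ E := by
    intro q hq x hx
    apply hwc
    · exact mul_mem (mul_mem hq (hEQ hx)) (inv_mem hq)
    · exact conj_sq_mem D hD q x ((hE x).mp hx).2
  have hQN : (Q : Subgroup G) ≤
      Subgroup.normalizer ((Subgroup.centralizer (E : Set G) : Subgroup G) : Set G) :=
    fun q hq => normalizes_cent E q (hQE q hq)
  have hmax := L1 2 Q (Subgroup.centralizer (E : Set G)) hQN
  obtain ⟨Q', hQ'⟩ := mkSylow 2 (Subgroup.centralizer (E : Set G))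
    ((Q : Subgroup G) ⊓ Subgroup.centralizer (E : Set G)) inf_le_right
    (Q.isPGroup'.to_le inf_le_left) hmax
  refine ⟨Q', ?_⟩
  intro z hz
  rw [hQ', Subgroup.mem_subgroupOf] at hz
  have h1 := mem_cent_singleton.mp (hQw (Subgroup.mem_inf.mp hz).1)
  rw [mem_cent_singleton]
  exact Subtype.ext h1

theorem exists_sq_mem (A : Subgroup G) (s : G) (hs : ∃ k : ℕ, orderOf s = 2 ^ k) (hsA : s ∉ A) :
    ∃ i : ℕ, s ^ (2 ^ i) ∉ A ∧ s ^ (2 ^ i) * s ^ (2 ^ i) ∈ A := by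
  obtain ⟨k, hk⟩ := hs
  have hex : ∃ i : ℕ, s ^ (2 ^ i) ∈ A := ⟨k, by rw [← hk, pow_orderOf_eq_one]; exact one_mem _⟩
  classical
  have hmin := @Nat.find_min _ _ hex
  have hspec := Nat.find_spec hex
  have hpos : Nat.find hex ≠ 0 := by
    intro h0
    rw [h0] at hspec
    simp at hspec
    exact hsA hspec
  obtain ⟨i, hi⟩ := Nat.exists_eq_succ_of_ne_zero hpos
  refine ⟨i, hmin (by omega), ?_⟩
  rw [← pow_add, ← two_mul, ← pow_succ']
  rw [hi] at hspec
  exact hspec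

theorem step_b (hC : CC G) (D : Subgroup G) (hD : D ≤ Subgroup.center G) (S : Sylow 2 G)
    (E : Subgroup G) (hE : ∀ x, x ∈ E ↔ x ∈ (S : Subgroup G) ∧ x * x ∈ D)
    (A₁ : Subgroup G) (hA1S : A₁ ≤ S) (hab : ∀ a ∈ A₁, ∀ b ∈ A₁, a * b = b * a)
    (hconj : ∀ s ∈ (S : Subgroup G), ∀ a ∈ A₁, s * a * s⁻¹ ∈ A₁) (hEA : E ≤ A₁)
    (s : G) (hsS : s ∈ (S : Subgroup G)) (hsA : s ∉ A₁) (hs2 : s * s ∈ A₁)
    (a : G) (ha : a ∈ A₁) : s * s * (a * a) ∉ D := by
  intro hd
  have hS2 := S.isPGroup'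
  have hb : s⁻¹ * a * s ∈ A₁ := by
    have := hconj s⁻¹ (inv_mem hsS) a ha
    rwa [inv_inv] at this
  obtain ⟨φ, hφ⟩ : ∃ φ : G, φ = a⁻¹ * (s⁻¹ * a * s) := ⟨_, rfl⟩
  have hφA : φ ∈ A₁ := by rw [hφ]; exact mul_mem (inv_mem ha) hb
  have h1 : s⁻¹ * φ * s⁻¹⁻¹ = φ⁻¹ := by
    have hc : (s * s) * a = a * (s * s) := hab _ hs2 _ ha
    rw [hφ]
    calc s⁻¹ * (a⁻¹ * (s⁻¹ * a * s)) * s⁻¹⁻¹
        = (s⁻¹ * a * s)⁻¹ * (s⁻¹ * s⁻¹ * (a * (s * s))) := by group
      _ = (s⁻¹ * a * s)⁻¹ * (s⁻¹ * s⁻¹ * ((s * s) * a)) := by rw [hc]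
      _ = (a⁻¹ * (s⁻¹ * a * s))⁻¹ := by group
  have hφ2 : ∃ k : ℕ, orderOf φ = 2 ^ k := twoEl_of_mem _ hS2 (hA1S hφA)
  have hsinv2 : ∃ k : ℕ, orderOf s⁻¹ = 2 ^ k := twoEl_of_mem _ hS2 (inv_mem hsS)
  have h2 := RD hC D hD φ s⁻¹ hφ2 hsinv2 (by
    rw [h1]
    exact (le_sup_left : Subgroup.zpowers φ ≤ _) (inv_mem (Subgroup.mem_zpowers φ)))
  have hφinv : φ⁻¹ = φ := by rw [← h1]; exact h2
  have hφa : φ * a = a * φ := hab _ hφA _ ha
  have e1 : a⁻¹ * (s * a) * a⁻¹⁻¹ = s * a * φ := by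
    have e0 : a⁻¹ * s * a = s * φ⁻¹ := by rw [hφ]; group
    calc a⁻¹ * (s * a) * a⁻¹⁻¹ = (a⁻¹ * s * a) * a := by group
      _ = s * φ⁻¹ * a := by rw [e0]
      _ = s * (φ * a) := by rw [hφinv]; group
      _ = s * a * φ := by rw [hφa]; group
  have e2 : (s * a) * (s * a) = (s * s * (a * a)) * φ := by
    have e3 : a * s = s * a * φ := by
      have : a * s = s * (a * (a⁻¹ * (s⁻¹ * a * s))) := by group
      rw [this, ← hφ]; group
    calc (s * a) * (s * a) = s * (a * s) * a := by group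
      _ = s * (s * a * φ) * a := by rw [e3]
      _ = s * s * a * (φ * a) := by group
      _ = s * s * a * (a * φ) := by rw [hφa]
      _ = (s * s * (a * a)) * φ := by group
  obtain ⟨d, hd'⟩ : ∃ d : G, d = s * s * (a * a) := ⟨_, rfl⟩
  rw [← hd'] at hd e2
  obtain ⟨u, hu⟩ : ∃ u : G, u = s * a := ⟨_, rfl⟩
  rw [← hu] at e1 e2
  have hdc' : ∀ g : G, g * d⁻¹ = d⁻¹ * g := Subgroup.mem_center_iff.mp (hD (inv_mem hd))
  have e4 : u * φ = u * u * u * d⁻¹ := by
    have : φ = d⁻¹ * (u * u) := by rw [e2]; group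
    calc u * φ = u * (d⁻¹ * (u * u)) := by rw [← this]
      _ = (u * d⁻¹) * (u * u) := by group
      _ = (d⁻¹ * u) * (u * u) := by rw [hdc' u]
      _ = d⁻¹ * (u * u * u) := by group
      _ = u * u * u * d⁻¹ := (hdc' (u * u * u)).symm
  have huS : u ∈ (S : Subgroup G) := by rw [hu]; exact mul_mem hsS (hA1S ha)
  have hu2 : ∃ k : ℕ, orderOf u = 2 ^ k := twoEl_of_mem _ hS2 huS
  have ha2 : ∃ k : ℕ, orderOf a⁻¹ = 2 ^ k := twoEl_of_mem _ hS2 (inv_mem (hA1S ha))
  have h3 := RD hC D hD u a⁻¹ hu2 ha2 (by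
    rw [e1, e4]
    exact mul_mem ((le_sup_left : Subgroup.zpowers u ≤ _)
      (mul_mem (mul_mem (Subgroup.mem_zpowers u) (Subgroup.mem_zpowers u))
        (Subgroup.mem_zpowers u))) ((le_sup_right : D ≤ _) (inv_mem hd)))
  rw [e1] at h3
  have hφ1 : φ = 1 := by simpa using h3
  rw [hφ1, mul_one] at e2
  have huE : u ∈ E := by rw [hE]; exact ⟨huS, by rw [e2]; exact hd⟩
  apply hsA
  have : s = u * a⁻¹ := by rw [hu]; group
  rw [this]; exact mul_mem (hEA huE) (inv_mem ha)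

theorem step_c (hC : CC G) (D : Subgroup G) (hD : D ≤ Subgroup.center G) (S : Sylow 2 G)
    (E : Subgroup G) (hE : ∀ x, x ∈ E ↔ x ∈ (S : Subgroup G) ∧ x * x ∈ D)
    (hab : ∀ a ∈ (S : Subgroup G) ⊓ Subgroup.centralizer (E : Set G),
      ∀ b ∈ (S : Subgroup G) ⊓ Subgroup.centralizer (E : Set G), a * b = b * a)
    (hmax : ∀ B : Subgroup G, IsPGroup 2 B →
      (S : Subgroup G) ⊓ Subgroup.centralizer (E : Set G) ≤ B →
      B ≤ Subgroup.centralizer (E : Set G) →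
      B = (S : Subgroup G) ⊓ Subgroup.centralizer (E : Set G))
    (s : G) (hsS : s ∈ (S : Subgroup G))
    (hs2 : s * s ∈ (S : Subgroup G) ⊓ Subgroup.centralizer (E : Set G)) :
    ∃ a ∈ (S : Subgroup G) ⊓ Subgroup.centralizer (E : Set G), a * a = s * s := by
  have hS2 := S.isPGroup'
  have hES : E ≤ S := fun x hx => ((hE x).mp hx).1
  have hE2 : IsPGroup 2 E := hS2.to_le hES
  have hs : ∃ k : ℕ, orderOf s = 2 ^ k := twoEl_of_mem _ hS2 hsS
  obtain ⟨Ps, hPs⟩ := hC s hs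
  have hsPs : s ∈ (Ps : Subgroup G) := by
    obtain ⟨c, hc, hcB⟩ := sylRel 2 (Subgroup.centralizer ({s} : Set G)) (Ps : Subgroup G)
      (Subgroup.zpowers s) hPs Ps.isPGroup' (sylow_max 2 Ps _)
      (by rw [Subgroup.zpowers_le, mem_cent_singleton]) (isPGroup_zpowers hs)
    have h1 := hcB s (Subgroup.mem_zpowers s)
    have h2 := mem_cent_singleton.mp hc
    have h3 : c * s * c⁻¹ = s := by rw [← h2]; group
    rw [h3] at h1; exact h1
  obtain ⟨g, hg⟩ := MulAction.exists_smul_eq G Ps S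
  obtain ⟨z, hz⟩ : ∃ z : G, z = g * s * g⁻¹ := ⟨_, rfl⟩
  have hzS : z ∈ (S : Subgroup G) := by
    rw [← hg, mem_smul_sylow, hz]
    have : g⁻¹ * (g * s * g⁻¹) * g = s := by group
    rw [this]; exact hsPs
  have hSz : ∀ y ∈ (S : Subgroup G), z * y = y * z := by
    intro y hy
    rw [← hg, mem_smul_sylow] at hy
    have h1 := mem_cent_singleton.mp (hPs hy)
    rw [hz]
    calc g * s * g⁻¹ * y = g * (s * (g⁻¹ * y * g)) * g⁻¹ := by group
      _ = g * ((g⁻¹ * y * g) * s) * g⁻¹ := by rw [h1]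
      _ = y * (g * s * g⁻¹) := by group
  have hzH : z ∈ Subgroup.centralizer (E : Set G) := by
    rw [Subgroup.mem_centralizer_iff]
    intro x hx
    exact (hSz x (hES hx)).symm
  have hs2E : ∀ x ∈ E, x * (s * s) = (s * s) * x :=
    fun x hx => (Subgroup.mem_centralizer_iff.mp (Subgroup.mem_inf.mp hs2).2) x hx
  have hz2E : ∀ x ∈ E, x * (z * z) = (z * z) * x :=
    fun x hx => (Subgroup.mem_centralizer_iff.mp (mul_mem hzH hzH)) x hx
  have hss : ∃ k : ℕ, orderOf (s * s) = 2 ^ k := twoEl_of_mem _ hS2 (mul_mem hsS hsS)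
  have hzz : ∃ k : ℕ, orderOf (z * z) = 2 ^ k := twoEl_of_mem _ hS2 (mul_mem hzS hzS)
  obtain ⟨Q₁, hEQ₁, hQ₁⟩ := sylow_in_cent hC (s * s) hss E hE2 hs2E
  obtain ⟨Q₂, hEQ₂, hQ₂⟩ := sylow_in_cent hC (z * z) hzz E hE2 hz2E
  have hzz' : z * z = g * (s * s) * g⁻¹ := by rw [hz]; group
  have hQ₂' : ((g⁻¹ • Q₂ : Sylow 2 G) : Subgroup G) ≤
      Subgroup.centralizer ({s * s} : Set G) := by
    intro y hy
    rw [mem_smul_sylow, inv_inv] at hy
    have h1 := mem_cent_singleton.mp (hQ₂ hy)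
    rw [hzz'] at h1
    rw [mem_cent_singleton]
    exact comm_of_conj_comm g h1
  obtain ⟨c, hc, hcB⟩ := sylRel 2 (Subgroup.centralizer ({s * s} : Set G)) (Q₁ : Subgroup G)
    ((g⁻¹ • Q₂ : Sylow 2 G) : Subgroup G) hQ₁ Q₁.isPGroup' (sylow_max 2 Q₁ _) hQ₂'
    (g⁻¹ • Q₂ : Sylow 2 G).isPGroup'
  obtain ⟨n, hn⟩ : ∃ n : G, n = c * g⁻¹ := ⟨_, rfl⟩
  have hnQ : ∀ y ∈ (Q₂ : Subgroup G), n * y * n⁻¹ ∈ (Q₁ : Subgroup G) := by
    intro y hy
    have h1 : g⁻¹ * y * g ∈ ((g⁻¹ • Q₂ : Sylow 2 G) : Subgroup G) := by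
      rw [mem_smul_sylow, inv_inv]
      have : g * (g⁻¹ * y * g) * g⁻¹ = y := by group
      rw [this]; exact hy
    have h2 := hcB _ h1
    have : n * y * n⁻¹ = c * (g⁻¹ * y * g) * c⁻¹ := by rw [hn]; group
    rw [this]; exact h2
  have hwc := weak_closure hC D hD S Q₁ E hE hEQ₁
  have hnE : ∀ x ∈ E, n * x * n⁻¹ ∈ E := by
    intro x hx
    apply hwc
    · exact hnQ x (hEQ₂ hx)
    · exact conj_sq_mem D hD n x ((hE x).mp hx).2
  obtain ⟨a', ha'⟩ : ∃ a' : G, a' = n * z * n⁻¹ := ⟨_, rfl⟩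
  have ha'H : a' ∈ Subgroup.centralizer (E : Set G) := by
    have hnN := normalizes_cent E n hnE
    rw [ha']
    exact (Subgroup.mem_normalizer_iff.mp hnN z).mp hzH
  have ha'2 : a' * a' = s * s := by
    have h2 := mem_cent_singleton.mp hc
    calc a' * a' = n * (z * z) * n⁻¹ := by rw [ha']; group
      _ = c * (s * s) * c⁻¹ := by rw [hzz', hn]; group
      _ = s * s := by rw [← h2]; group
  have ha'tw : ∃ k : ℕ, orderOf a' = 2 ^ k := by
    obtain ⟨k, hk⟩ := twoEl_of_mem _ hS2 hzS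
    refine ⟨k, ?_⟩
    rw [ha', ← hk]
    exact (MulAut.conj n).orderOf_eq z
  have hA1X : (S : Subgroup G) ⊓ Subgroup.centralizer (E : Set G) ≤
      Subgroup.centralizer (E : Set G) ⊓ Subgroup.centralizer ({s * s} : Set G) := by
    intro y hy
    refine Subgroup.mem_inf.mpr ⟨(Subgroup.mem_inf.mp hy).2, ?_⟩
    rw [mem_cent_singleton]
    exact hab _ hs2 _ hy
  have hmax' : ∀ B' : Subgroup G, IsPGroup 2 B' →
      (S : Subgroup G) ⊓ Subgroup.centralizer (E : Set G) ≤ B' →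
      B' ≤ Subgroup.centralizer (E : Set G) ⊓ Subgroup.centralizer ({s * s} : Set G) →
      B' = (S : Subgroup G) ⊓ Subgroup.centralizer (E : Set G) :=
    fun B' hB' hle hB'X => hmax B' hB' hle (hB'X.trans inf_le_left)
  obtain ⟨c', hc', hc'B⟩ := sylRel 2
    (Subgroup.centralizer (E : Set G) ⊓ Subgroup.centralizer ({s * s} : Set G))
    ((S : Subgroup G) ⊓ Subgroup.centralizer (E : Set G)) (Subgroup.zpowers a') hA1X
    (hS2.to_le inf_le_left) hmax'
    (by
      rw [Subgroup.zpowers_le]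
      refine Subgroup.mem_inf.mpr ⟨ha'H, ?_⟩
      rw [mem_cent_singleton, ← ha'2]; group)
    (isPGroup_zpowers ha'tw)
  refine ⟨c' * a' * c'⁻¹, hc'B a' (Subgroup.mem_zpowers a'), ?_⟩
  have h2 := mem_cent_singleton.mp (Subgroup.mem_inf.mp hc').2
  calc c' * a' * c'⁻¹ * (c' * a' * c'⁻¹) = c' * (a' * a') * c'⁻¹ := by group
    _ = c' * (s * s) * c'⁻¹ := by rw [ha'2]
    _ = s * s := by rw [← h2]; group

theorem inner (hC : CC G)
    (IH : ∀ H : Subgroup G, H ≠ ⊤ → CC ↥H → ∀ Q : Sylow 2 ↥H,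
      ∀ a ∈ (Q : Subgroup ↥H), ∀ b ∈ (Q : Subgroup ↥H), a * b = b * a)
    (S : Sylow 2 G) : ∀ (m : ℕ) (D : Subgroup G), D ≤ Subgroup.center G →
      D ≤ (S : Subgroup G) → Nat.card (S : Subgroup G) - Nat.card D = m →
      ∀ a ∈ (S : Subgroup G), ∀ b ∈ (S : Subgroup G), a * b = b * a := by
  intro m
  induction m using Nat.strong_induction_on with
  | _ m ih =>
  intro D hD hDS hm
  have hS2 := S.isPGroup'
  obtain ⟨E, hE⟩ := exists_Esub hC D hD (S : Subgroup G) hS2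
  have hES : E ≤ S := fun x hx => ((hE x).mp hx).1
  have hDE : D ≤ E := fun x hx => (hE x).mpr ⟨hDS hx, mul_mem hx hx⟩
  have hEab : ∀ x ∈ E, ∀ y ∈ E, x * y = y * x := fun x hx y hy =>
    comm_of_sq hC D hD (S : Subgroup G) hS2 ((hE x).mp hx).1 ((hE y).mp hy).1
      ((hE x).mp hx).2 ((hE y).mp hy).2
  by_cases hH : Subgroup.centralizer (E : Set G) = ⊤
  · have hEc : E ≤ Subgroup.center G := by
      intro x hx
      rw [Subgroup.mem_center_iff]
      intro g
      have : g ∈ Subgroup.centralizer (E : Set G) := by rw [hH]; trivial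
      exact ((Subgroup.mem_centralizer_iff.mp this) x hx).symm
    by_cases hED : E ≤ D
    · have hSD : (S : Subgroup G) ≤ D := by
        intro s hs
        by_contra hsD
        obtain ⟨i, hi1, hi2⟩ := exists_sq_mem D s (twoEl_of_mem _ hS2 hs) hsD
        apply hi1
        apply hED
        rw [hE]
        exact ⟨pow_mem hs _, hi2⟩
      intro a ha b hb
      exact ((Subgroup.mem_center_iff.mp (hD (hSD ha))) b).symm
    · have hlt : Nat.card D < Nat.card E := by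
        by_contra hcon
        have := Subgroup.eq_of_le_of_card_ge hDE (not_lt.mp hcon)
        exact hED (this ▸ le_refl _)
      have hle : Nat.card E ≤ Nat.card (S : Subgroup G) := Subgroup.card_le_of_le hES
      exact ih (Nat.card (S : Subgroup G) - Nat.card E) (by omega) E hEc hES rfl
  · have hCH := CC_H hC D hD S E hE
    have hIH := IH _ hH hCH
    have hSE : ∀ q ∈ (S : Subgroup G), ∀ x ∈ E, q * x * q⁻¹ ∈ E := by
      intro q hq x hx
      rw [hE]
      exact ⟨mul_mem (mul_mem hq (hES hx)) (inv_mem hq),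
        conj_sq_mem D hD q x ((hE x).mp hx).2⟩
    have hSN : (S : Subgroup G) ≤
        Subgroup.normalizer ((Subgroup.centralizer (E : Set G) : Subgroup G) : Set G) :=
      fun q hq => normalizes_cent E q (hSE q hq)
    have hmax := L1 2 S (Subgroup.centralizer (E : Set G)) hSN
    obtain ⟨Q', hQ'⟩ := mkSylow 2 (Subgroup.centralizer (E : Set G))
      ((S : Subgroup G) ⊓ Subgroup.centralizer (E : Set G)) inf_le_right
      (hS2.to_le inf_le_left) hmax
    have hab : ∀ a ∈ (S : Subgroup G) ⊓ Subgroup.centralizer (E : Set G),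
        ∀ b ∈ (S : Subgroup G) ⊓ Subgroup.centralizer (E : Set G), a * b = b * a := by
      intro a ha b hb
      have h1 : (⟨a, (Subgroup.mem_inf.mp ha).2⟩ : ↥(Subgroup.centralizer (E : Set G))) ∈
          (Q' : Subgroup _) := by rw [hQ', Subgroup.mem_subgroupOf]; exact ha
      have h2 : (⟨b, (Subgroup.mem_inf.mp hb).2⟩ : ↥(Subgroup.centralizer (E : Set G))) ∈
          (Q' : Subgroup _) := by rw [hQ', Subgroup.mem_subgroupOf]; exact hb
      have h3 := hIH Q' _ h1 _ h2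
      exact congrArg Subtype.val h3
    have hEA : E ≤ (S : Subgroup G) ⊓ Subgroup.centralizer (E : Set G) := by
      intro x hx
      refine Subgroup.mem_inf.mpr ⟨hES hx, ?_⟩
      rw [Subgroup.mem_centralizer_iff]
      intro y hy
      exact hEab y hy x hx
    have hconj : ∀ s ∈ (S : Subgroup G),
        ∀ a ∈ (S : Subgroup G) ⊓ Subgroup.centralizer (E : Set G),
        s * a * s⁻¹ ∈ (S : Subgroup G) ⊓ Subgroup.centralizer (E : Set G) := by
      intro s hs a ha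
      refine Subgroup.mem_inf.mpr
        ⟨mul_mem (mul_mem hs (Subgroup.mem_inf.mp ha).1) (inv_mem hs), ?_⟩
      exact (Subgroup.mem_normalizer_iff.mp (hSN hs) a).mp (Subgroup.mem_inf.mp ha).2
    have hSA : (S : Subgroup G) ≤ (S : Subgroup G) ⊓ Subgroup.centralizer (E : Set G) := by
      intro s hs
      by_contra hsA
      obtain ⟨i, hi1, hi2⟩ := exists_sq_mem _ s (twoEl_of_mem _ hS2 hs) hsA
      have hsi : s ^ (2 ^ i) ∈ (S : Subgroup G) := pow_mem hs _
      obtain ⟨a, ha, haa⟩ := step_c hC D hD S E hE hab hmax _ hsi hi2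
      apply step_b hC D hD S E hE _ inf_le_left hab hconj hEA _ hsi hi1 hi2 a⁻¹ (inv_mem ha)
      have e : s ^ (2 ^ i) * s ^ (2 ^ i) * (a⁻¹ * a⁻¹) = 1 := by rw [← haa]; group
      rw [e]; exact one_mem _
    intro a ha b hb
    exact hab a (hSA ha) b (hSA hb)

end two

universe u

theorem main : ∀ (n : ℕ) (G : Type u) [Group G] [Finite G], Nat.card G = n → CC G →
    ∀ P : Sylow 2 G, ∀ a ∈ (P : Subgroup G), ∀ b ∈ (P : Subgroup G), a * b = b * a := by
  intro n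
  induction n using Nat.strong_induction_on with
  | _ n ih =>
  intro G _ _ hn hC P
  apply inner hC ?_ P (Nat.card (P : Subgroup G) - Nat.card (⊥ : Subgroup G)) ⊥ bot_le bot_le rfl
  intro H hH hCH
  have hlt : Nat.card H < n := by
    rw [← hn]
    have h1 := Subgroup.card_le_card_group H
    have h2 : Nat.card H ≠ Nat.card G := fun h => hH (Subgroup.eq_top_of_card_eq H h)
    omega
  exact ih (Nat.card H) hlt ↥H rfl hCH

theorem CC_of_odd_index {G : Type*} [Group G] [Finite G]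
    (h : ∀ x : G, (∃ k : ℕ, orderOf x = 2 ^ k) →
      ¬ 2 ∣ (Subgroup.centralizer ({x} : Set G)).index) : CC G := by
  intro x hx
  have hx' := h x hx
  obtain ⟨C, hCdef⟩ : ∃ C : Subgroup G, C = Subgroup.centralizer ({x} : Set G) := ⟨_, rfl⟩
  rw [← hCdef] at hx' ⊢
  obtain ⟨R⟩ : Nonempty (Sylow 2 ↥C) := Sylow.nonempty
  have hcard : Nat.card ((R : Subgroup ↥C).map C.subtype) = 2 ^ (Nat.card G).factorization 2 := by
    rw [Subgroup.card_map_of_injective (Subgroup.subtype_injective C)]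
    rw [Sylow.card_eq_multiplicity]
    congr 1
    have h1 : Nat.card C * C.index = Nat.card G := Subgroup.card_mul_index C
    rw [← h1, Nat.factorization_mul (Nat.card_pos.ne') (Subgroup.index_ne_zero_of_finite)]
    simp [Nat.factorization_eq_zero_of_not_dvd hx']
  refine ⟨Sylow.ofCard _ hcard, ?_⟩
  rw [Sylow.coe_ofCard]
  rintro _ ⟨y, _, rfl⟩
  exact y.2

/-- If every element of 2-power order of a finite group has a conjugacy class of odd size, then the Sylow 2-subgroups of the group are abelian. -/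
theorem result {G : Type*} [Group G] [Finite G]
    (h : ∀ x : G, (∃ k : ℕ, orderOf x = 2 ^ k) → ¬ 2 ∣ (Subgroup.centralizer ({x} : Set G)).index) (P : Sylow 2 G) :
    IsMulCommutative P := by
  have hC := CC_of_odd_index h
  have hm := main (Nat.card G) G rfl hC P
  exact ⟨⟨fun a b => Subtype.ext (hm a a.2 b b.2)⟩⟩

end Cfsg.Agent.S4355
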