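import Cfsg.Statements.S0989
import Mathlib
import Cfsg.Agent.Lib.helper29.AffNorm

set_option autoImplicit false
open Cfsg

namespace Cfsg.Agent.S0989

/-- In the symmetric group on p or p + 1 letters, p a prime, the normalizer of a Sylow p-subgroup has order p * (p - 1). -/
theorem result {α : Type*} [Fintype α] [DecidableEq α] (p : ℕ) [Fact p.Prime] (hα : Fintype.card α = p ∨ Fintype.card α = p + 1) (P : Sylow p (Equiv.Perm α)) : Nat.card ↥(Subgroup.normalizer ((P : Subgroup (Equiv.Perm α)) : Set (Equiv.Perm α))) = p * (p - 1) := by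
  classical
  have hp : p.Prime := Fact.out
  have hle : Fintype.card α ≤ p + 1 := by rcases hα with h | h <;> omega
  have hge : p ≤ Fintype.card α := by rcases hα with h | h <;> omega
  have hfac : ((Fintype.card α).factorial).factorization p = 1 := by
    obtain ⟨m, hm⟩ : ∃ m, p = m + 1 := ⟨p - 1, by have := hp.pos; omega⟩
    have h1 : (p.factorial).factorization p = 1 := by
      conv_lhs => rw [hm, Nat.factorial_succ, ← hm]
      rw [Nat.factorization_mul hp.pos.ne' (Nat.factorial_ne_zero m), Finsupp.add_apply,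
        hp.factorization_self,
        Nat.factorization_factorial_eq_zero_of_lt (by omega : m < p)]
    rcases hα with h | h
    · rw [h, h1]
    · rw [h, Nat.factorial_succ,
        Nat.factorization_mul (by omega) (Nat.factorial_ne_zero p), Finsupp.add_apply, h1,
        Nat.factorization_eq_zero_of_not_dvd, zero_add]
      intro hdvd
      have h2 : p ∣ 1 := (Nat.dvd_add_right (dvd_refl p)).mp hdvd
      exact hp.one_lt.ne' (Nat.dvd_one.mp h2)
  have hPcard : Nat.card (P : Subgroup (Equiv.Perm α)) = p := by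
    rw [Sylow.card_eq_multiplicity, Nat.card_eq_fintype_card, Fintype.card_perm, hfac, pow_one]
  obtain ⟨t, ht⟩ := exists_prime_orderOf_dvd_card' (G := (P : Subgroup (Equiv.Perm α))) p
    (by rw [hPcard])
  have ht' : orderOf (t : Equiv.Perm α) = p := by
    rw [Subgroup.orderOf_coe]
    exact ht
  have hz : Subgroup.zpowers (t : Equiv.Perm α) = (P : Subgroup (Equiv.Perm α)) := by
    apply Subgroup.eq_of_le_of_card_ge
    · rw [Subgroup.zpowers_le]
      exact t.2
    · rw [Nat.card_zpowers, ht']
      exact hPcard.le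
  obtain ⟨τ, hτ⟩ : ∃ τ : Equiv.Perm α, τ = (t : Equiv.Perm α) := ⟨_, rfl⟩
  rw [← hτ] at ht' hz
  have hcyc : τ.IsCycle :=
    Equiv.Perm.isCycle_of_prime_order' (by rw [ht']; exact hp)
      (by rw [ht']; have := hp.two_le; omega)
  have hsuppcard : τ.support.card = p := by rw [← hcyc.orderOf, ht']
  obtain ⟨a₀, ha₀⟩ : τ.support.Nonempty := by
    rw [← Finset.card_pos, hsuppcard]; exact hp.pos
  have ha₀' : τ a₀ ≠ a₀ := Equiv.Perm.mem_support.mp ha₀
  obtain ⟨ι, hι⟩ : ∃ ι : ZMod p → α, ∀ j, ι j = (τ ^ j.val) a₀ := ⟨_, fun _ => rfl⟩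
  have hnat : ∀ n : ℕ, (τ ^ n) a₀ = ι (n : ZMod p) := by
    intro n
    rw [hι, ZMod.val_natCast]
    conv_rhs => rw [← ht', pow_mod_orderOf]
  have het : ∀ j, τ (ι j) = ι (j + 1) := by
    intro j
    rw [hι, ← Equiv.Perm.mul_apply, ← pow_succ', hnat, Nat.cast_succ, ZMod.natCast_zmod_val]
  have hrange : ∀ x, x ∈ Set.range ι ↔ x ∈ τ.support := by
    intro x
    constructor
    · rintro ⟨j, rfl⟩
      rw [hι, Equiv.Perm.pow_apply_mem_support]
      exact ha₀
    · intro hx
      obtain ⟨i, hi⟩ := hcyc.exists_pow_eq ha₀' (Equiv.Perm.mem_support.mp hx)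
      exact ⟨(i : ZMod p), by rw [← hnat, hi]⟩
  have himage : Finset.univ.image ι = τ.support := by
    ext x
    rw [← hrange]
    simp
  have hinj : Function.Injective ι := by
    have h1 : (Finset.univ.image ι).card = (Finset.univ : Finset (ZMod p)).card := by
      rw [himage, hsuppcard, Finset.card_univ, ZMod.card]
    have h2 := Finset.card_image_iff.mp h1
    intro x y hxy
    exact h2 (Finset.mem_coe.mpr (Finset.mem_univ x)) (Finset.mem_coe.mpr (Finset.mem_univ y)) hxy
  have hfix : ∀ x, x ∉ Set.range ι → τ x = x := by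
    intro x hx
    rw [hrange] at hx
    exact Equiv.Perm.notMem_support.mp hx
  have hone : ∀ x y, x ∉ Set.range ι → y ∉ Set.range ι → x = y := by
    intro x y hx hy
    rw [hrange] at hx hy
    have h1 : (τ.supportᶜ).card ≤ 1 := by
      rw [Finset.card_compl, hsuppcard]; omega
    exact Finset.card_le_one.mp h1 x (Finset.mem_compl.mpr hx) y (Finset.mem_compl.mpr hy)
  rw [← hz]
  exact Cfsg.Agent.Lib.helper29.card_normalizer_of_coords p τ ι hinj het hfix hone

end Cfsg.Agent.S0989
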