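import Cfsg.Statements.S0990
import Mathlib

set_option autoImplicit false
open Cfsg

namespace Cfsg.Agent.S0990

/-- Let p be an odd prime and P a Sylow p-subgroup of the symmetric group on a finite set with at least two elements. Then P is contained in the alternating group, and twice the order of the normalizer of P inside the alternating group equals the order of the normalizer of P in the symmetric group. -/
theorem result {α : Type*} [Fintype α] [DecidableEq α] (hα : 2 ≤ Fintype.card α) (p : ℕ) [Fact p.Prime] (hp : p ≠ 2) (P : Sylow p (Equiv.Perm α)) : (P : Subgroup (Equiv.Perm α)) ≤ alternatingGroup α ∧ 2 * Nat.card ↥(Subgroup.normalizer ((((P : Subgroup (Equiv.Perm α)).subgroupOf (alternatingGroup α) : Subgroup ↥(alternatingGroup α)) : Set ↥(alternatingGroup α)))) = Nat.card ↥(Subgroup.normalizer ((P : Subgroup (Equiv.Perm α)) : Set (Equiv.Perm α))) := by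
  classical
  have hp' : p.Prime := Fact.out
  haveI : Nontrivial α := Fintype.one_lt_card_iff_nontrivial.mp (by omega)
  have hodd : Odd p := hp'.odd_of_ne_two hp
  have hall : ∀ Q : Sylow p (Equiv.Perm α), (Q : Subgroup (Equiv.Perm α)) ≤ alternatingGroup α := by
    intro Q g hg
    rw [Equiv.Perm.mem_alternatingGroup]
    obtain ⟨k, hk⟩ := (Q.isPGroup' ⟨g, hg⟩)
    have hk' : g ^ (p ^ k) = 1 := congrArg Subtype.val hk
    have h1 : (Equiv.Perm.sign g) ^ (p ^ k) = 1 := by rw [← map_pow, hk', map_one]
    rcases Int.units_eq_one_or (Equiv.Perm.sign g) with h | h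
    · exact h
    · exfalso
      rw [h, (hodd.pow).neg_one_pow] at h1
      exact absurd h1 (by decide)
  refine ⟨hall P, ?_⟩
  obtain ⟨Φ, hΦ⟩ : ∃ Φ : Sylow p (Equiv.Perm α) → Sylow p (alternatingGroup α),
      ∀ Q, Φ Q = Q.subtype (hall Q) := ⟨_, fun _ => rfl⟩
  have hbij : Function.Bijective Φ := by
    constructor
    · intro Q Q' h
      rw [hΦ, hΦ] at h
      exact Sylow.subtype_injective h
    · intro R
      obtain ⟨Q, hQ⟩ := Sylow.exists_comap_subtype_eq R
      refine ⟨Q, ?_⟩
      rw [hΦ]
      apply Sylow.ext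
      rw [← hQ]
      rfl
  have hcard : (Subgroup.normalizer ((P : Subgroup (Equiv.Perm α)) : Set (Equiv.Perm α))).index =
      (Subgroup.normalizer ((((P : Subgroup (Equiv.Perm α)).subgroupOf (alternatingGroup α) :
        Subgroup ↥(alternatingGroup α)) : Set ↥(alternatingGroup α)))).index := by
    have h0 := Nat.card_eq_of_bijective Φ hbij
    rw [Sylow.card_eq_index_normalizer P, Sylow.card_eq_index_normalizer (Φ P), hΦ] at h0
    exact h0
  have h1 := Subgroup.card_mul_index
    (Subgroup.normalizer ((P : Subgroup (Equiv.Perm α)) : Set (Equiv.Perm α)))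
  have h2 := Subgroup.card_mul_index
    (Subgroup.normalizer ((((P : Subgroup (Equiv.Perm α)).subgroupOf (alternatingGroup α) :
        Subgroup ↥(alternatingGroup α)) : Set ↥(alternatingGroup α))))
  have h3 : 2 * Nat.card (alternatingGroup α) = Nat.card (Equiv.Perm α) := by
    rw [Nat.card_eq_fintype_card, Nat.card_eq_fintype_card]
    exact two_mul_card_alternatingGroup
  have hpos : 0 < (Subgroup.normalizer ((P : Subgroup (Equiv.Perm α)) :
      Set (Equiv.Perm α))).index := by
    have h4 := Sylow.card_eq_index_normalizer P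
    have h5 : 0 < Nat.card (Sylow p (Equiv.Perm α)) := Nat.card_pos
    rw [h4] at h5
    exact h5
  rw [hcard] at h1 hpos
  rw [← h1, ← h2, ← mul_assoc] at h3
  exact Nat.eq_of_mul_eq_mul_right hpos h3

end Cfsg.Agent.S0990
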