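import Cfsg.Statements.S3669
import Mathlib
import Cfsg.Agent.Lib.helper24.CharTwoTrans
import Cfsg.Agent.Lib.helper23.Ito
import Cfsg.Agent.Lib.helper2.A5

set_option autoImplicit false
open Cfsg

namespace Cfsg.Agent.S3669

section
open MulAction
open scoped Pointwise

universe u

theorem sylow_card_le_of_normal {G : Type u} [Group G] [Finite G] (N : Subgroup G) [N.Normal]
    (p : ℕ) [Fact p.Prime] (h : Nat.Coprime N.index p) :
    Nat.card (Sylow p G) ≤ Nat.card (Sylow p N) := by
  have hle : ∀ P : Sylow p G, (P : Subgroup G) ≤ N := by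
    intro P x hx
    have h1 : (QuotientGroup.mk x : G ⧸ N) ^ N.index = 1 := by
      have := pow_card_eq_one' (G := G ⧸ N) (x := (QuotientGroup.mk x : G ⧸ N))
      rwa [← Subgroup.index_eq_card] at this
    obtain ⟨k, hk⟩ := (P.2 ⟨x, hx⟩)
    have h2 : (QuotientGroup.mk x : G ⧸ N) ^ (p ^ k) = 1 := by
      have : x ^ p ^ k = 1 := by simpa using congrArg Subtype.val hk
      rw [← QuotientGroup.mk_pow, this]; rfl
    have h3 : (QuotientGroup.mk x : G ⧸ N) = 1 := by
      have hc : Nat.gcd N.index (p ^ k) = 1 := Nat.Coprime.pow_right k h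
      have := (pow_gcd_eq_one (a := (QuotientGroup.mk x : G ⧸ N))).mpr ⟨h1, h2⟩
      rwa [hc, pow_one] at this
    exact (QuotientGroup.eq_one_iff x).mp h3
  exact Nat.card_le_card_of_injective (fun P : Sylow p G => P.subtype (hle P))
    (fun P Q hPQ => Sylow.subtype_injective hPQ)

theorem sylow_card_index {K : Type u} [Group K] [Finite K] (p : ℕ) [Fact p.Prime] (P : Sylow p K)
    (m : ℕ) (hm : Nat.card K = p * m) (hpm : ¬ p ∣ m) :
    Nat.card (P : Subgroup K) = p ∧ (P : Subgroup K).index = m := by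
  have h3 : Nat.card (P : Subgroup K) = p ^ (Nat.card K).factorization p :=
    Sylow.card_eq_multiplicity P
  have hp : p.Prime := Fact.out
  have hm0 : m ≠ 0 := by rintro rfl; exact hpm (dvd_zero p)
  have hf : (Nat.card K).factorization p = 1 := by
    rw [hm, Nat.factorization_mul hp.ne_zero hm0]
    simp [hp.factorization_self, Nat.factorization_eq_zero_of_not_dvd hpm]
  rw [hf, pow_one] at h3
  refine ⟨h3, ?_⟩
  have h4 := Subgroup.card_mul_index (P : Subgroup K)
  rw [h3, hm] at h4
  exact Nat.eq_of_mul_eq_mul_left hp.pos h4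

theorem sylow5_small {K : Type u} [Group K] [Finite K] (m : ℕ) (hm : Nat.card K = 5 * m)
    (hm4 : 1 ≤ m ∧ m ≤ 4) : Nat.card (Sylow 5 K) = 1 := by
  have : Fact (Nat.Prime 5) := ⟨by norm_num⟩
  obtain ⟨P⟩ : Nonempty (Sylow 5 K) := inferInstance
  have h1 : Nat.card (Sylow 5 K) ≡ 1 [MOD 5] := card_sylow_modEq_one 5 K
  have h2 : Nat.card (Sylow 5 K) ∣ (P : Subgroup K).index := Sylow.card_dvd_index P
  rw [(sylow_card_index 5 P m hm (by omega)).2] at h2
  have h3 := Nat.le_of_dvd (by omega) h2
  unfold Nat.ModEq at h1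
  omega

theorem sylow5_thirty {K : Type u} [Group K] [Finite K] (hK : Nat.card K = 30) :
    Nat.card (Sylow 5 K) = 1 := by
  have : Fact (Nat.Prime 5) := ⟨by norm_num⟩
  have hex : ∃ H : Subgroup K, H.index = 2 := by
    by_contra hno
    push Not at hno
    have := Cfsg.Agent.Lib.helper2.BF.four_dvd (G := K) (by rw [hK]; decide) hno
    rw [hK] at this
    omega
  obtain ⟨H, hH⟩ := hex
  have hHn : H.Normal := Subgroup.normal_of_index_eq_two hH
  have h1 := sylow_card_le_of_normal H 5 (by rw [hH]; decide)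
  have hHc : Nat.card H = 5 * 3 := by
    have := Subgroup.card_mul_index H
    rw [hH, hK] at this
    omega
  have h2 := sylow5_small (K := H) 3 hHc (by omega)
  have h3 : 0 < Nat.card (Sylow 5 K) := Nat.card_pos
  omega

theorem arith5 (n m : ℕ) (h1 : n % 5 = 1) (h2 : n ∣ m) (hm : m = 12) : n = 1 ∨ n = 6 := by
  subst hm
  have := Nat.le_of_dvd (by omega) h2
  interval_cases n <;> omega

theorem arith3 (n : ℕ) (h1 : n % 3 = 1) (h2 : n ∣ 20) : n = 1 ∨ n = 4 ∨ n = 10 := by
  have := Nat.le_of_dvd (by omega) h2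
  interval_cases n <;> omega

theorem arithK (k : ℕ) (h1 : k ∣ 24) (h2 : k ∣ 60) (h3 : 4 ∣ k) : k = 4 ∨ k = 12 := by
  have h4 : k ∣ 12 := Nat.dvd_gcd h1 h2
  have := Nat.le_of_dvd (by omega) h4
  interval_cases k <;> omega

theorem simple_of_sixty {G : Type u} [Group G] [Finite G] (hG : Nat.card G = 60)
    (hP : ∀ P : Sylow 5 G, ¬ (P : Subgroup G).Normal) : IsSimpleGroup G := by
  have : Fact (Nat.Prime 5) := ⟨by norm_num⟩
  have : Fact (Nat.Prime 3) := ⟨by norm_num⟩
  obtain ⟨P⟩ : Nonempty (Sylow 5 G) := inferInstance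
  have hn5 : Nat.card (Sylow 5 G) = 6 := by
    have h1 : Nat.card (Sylow 5 G) ≡ 1 [MOD 5] := card_sylow_modEq_one 5 G
    have h2 : Nat.card (Sylow 5 G) ∣ (P : Subgroup G).index := Sylow.card_dvd_index P
    have h4 : Nat.card (Sylow 5 G) ≠ 1 := by
      intro h
      have : Subsingleton (Sylow 5 G) := (Nat.card_eq_one_iff_unique.mp h).1
      exact hP P (Sylow.normal_of_subsingleton P)
    unfold Nat.ModEq at h1
    rcases arith5 _ _ (by omega) h2 (sylow_card_index 5 P 12 hG (by omega)).2 with h | h
    · exact absurd h h4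
    · exact h
  have claim1 : ∀ N : Subgroup G, N.Normal →
      (N.index = 2 ∨ N.index = 3 ∨ N.index = 4 ∨ N.index = 6 ∨ N.index = 12) → False := by
    intro N hN hidx
    have hc := Subgroup.card_mul_index N
    rw [hG] at hc
    have h1 := sylow_card_le_of_normal N 5
      (by rcases hidx with h | h | h | h | h <;> rw [h] <;> decide)
    have h2 : Nat.card (Sylow 5 N) = 1 := by
      rcases hidx with h | h | h | h | h
      · exact sylow5_thirty (by rw [h] at hc; omega)
      · exact sylow5_small 4 (by rw [h] at hc; omega) (by omega)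
      · exact sylow5_small 3 (by rw [h] at hc; omega) (by omega)
      · exact sylow5_small 2 (by rw [h] at hc; omega) (by omega)
      · exact sylow5_small 1 (by rw [h] at hc; omega) (by omega)
    omega
  have claim2 : ∀ N : Subgroup G, N.Normal →
      (Nat.card N = 2 ∨ Nat.card N = 3 ∨ Nat.card N = 4 ∨ Nat.card N = 6) → False := by
    intro N hN hcard
    have hc := Subgroup.card_mul_index N
    rw [hG] at hc
    have hq : Nat.card (G ⧸ N) = N.index := (Subgroup.index_eq_card N).symm
    obtain ⟨m, hm, hm'⟩ : ∃ m, N.index = 5 * m ∧ (m = 2 ∨ m = 3 ∨ m = 4 ∨ m = 6) := by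
      rcases hcard with h | h | h | h <;> rw [h] at hc
      · exact ⟨6, by omega, by omega⟩
      · exact ⟨4, by omega, by omega⟩
      · exact ⟨3, by omega, by omega⟩
      · exact ⟨2, by omega, by omega⟩
    have h2 : Nat.card (Sylow 5 (G ⧸ N)) = 1 := by
      rcases hm' with rfl | rfl | rfl | rfl
      · exact sylow5_small 2 (by rw [hq, hm]) (by omega)
      · exact sylow5_small 3 (by rw [hq, hm]) (by omega)
      · exact sylow5_small 4 (by rw [hq, hm]) (by omega)
      · exact sylow5_thirty (by rw [hq, hm])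
    have : Subsingleton (Sylow 5 (G ⧸ N)) := (Nat.card_eq_one_iff_unique.mp h2).1
    obtain ⟨Q⟩ : Nonempty (Sylow 5 (G ⧸ N)) := inferInstance
    have hQn : (Q : Subgroup (G ⧸ N)).Normal := Sylow.normal_of_subsingleton Q
    have hQi := (sylow_card_index 5 Q m (by rw [hq, hm]) (by omega)).2
    set M : Subgroup G := (Q : Subgroup (G ⧸ N)).comap (QuotientGroup.mk' N) with hM
    have hMn : M.Normal := Subgroup.Normal.comap hQn _
    have hMi : M.index = (Q : Subgroup (G ⧸ N)).index :=
      Subgroup.index_comap_of_surjective _ (QuotientGroup.mk'_surjective N)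
    apply claim1 M hMn
    rw [hMi, hQi]
    omega
  obtain ⟨Q⟩ : Nonempty (Sylow 3 G) := inferInstance
  have hQ := sylow_card_index 3 Q 20 (by rw [hG]) (by omega)
  have hn3 : Nat.card (Sylow 3 G) = 10 := by
    have h1 : Nat.card (Sylow 3 G) ≡ 1 [MOD 3] := card_sylow_modEq_one 3 G
    have h2 : Nat.card (Sylow 3 G) ∣ (Q : Subgroup G).index := Sylow.card_dvd_index Q
    rw [hQ.2] at h2
    unfold Nat.ModEq at h1
    rcases arith3 _ (by omega) h2 with h | h | h
    · exfalso
      have : Subsingleton (Sylow 3 G) := (Nat.card_eq_one_iff_unique.mp h).1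
      exact claim2 Q (Sylow.normal_of_subsingleton Q) (Or.inr (Or.inl hQ.1))
    · exfalso
      set K : Subgroup G := (MulAction.toPermHom G (Sylow 3 G)).ker with hK
      have hKn : K.Normal := MonoidHom.normal_ker _
      have hK1 : K.index ∣ 24 := by
        rw [hK, Subgroup.index_ker]
        have := Subgroup.card_subgroup_dvd_card (MulAction.toPermHom G (Sylow 3 G)).range
        rw [Nat.card_perm, h] at this
        exact this
      have hK2 : 4 ∣ K.index := by
        have hle : K ≤ MulAction.stabilizer G Q := by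
          intro g hg
          rw [hK, MonoidHom.mem_ker] at hg
          rw [MulAction.mem_stabilizer_iff]
          have := congrArg (fun σ => σ Q) hg
          simpa using this
        have := Subgroup.index_dvd_of_le hle
        rw [Sylow.stabilizer_eq_normalizer, ← Sylow.card_eq_index_normalizer, h] at this
        exact this
      have hK3 : K.index ∣ 60 := by rw [← hG]; exact Subgroup.index_dvd_card K
      apply claim1 K hKn
      rcases arithK _ hK1 hK3 hK2 with h' | h' <;> rw [h'] <;> simp
    · exact h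
  have : Nontrivial G := Finite.one_lt_card_iff_nontrivial.mp (by rw [hG]; norm_num)
  refine ⟨fun N hN => ?_⟩
  have hc := Subgroup.card_mul_index N
  rw [hG] at hc
  have hd : Nat.card N ∣ 60 := ⟨_, hc.symm⟩
  have hle := Nat.le_of_dvd (by norm_num) hd
  obtain ⟨c, hcc⟩ : ∃ c, c = Nat.card N := ⟨_, rfl⟩
  obtain ⟨i, hii⟩ : ∃ i, i = N.index := ⟨_, rfl⟩
  rw [← hcc, ← hii] at hc
  rw [← hcc] at hd hle
  have hcases : c = 1 ∨ c = 60 ∨ (c = 2 ∨ c = 3 ∨ c = 4 ∨ c = 6) ∨
      (i = 2 ∨ i = 3 ∨ i = 4 ∨ i = 6 ∨ i = 12) ∨ c = 12 := by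
    interval_cases c <;> omega
  rcases hcases with h | h | h | h | h
  · left; exact Subgroup.eq_bot_of_card_eq N (by rw [← hcc, h])
  · right; exact Subgroup.eq_top_of_card_eq N (by rw [← hcc, h, hG])
  · exact (claim2 N hN (by rw [← hcc]; exact h)).elim
  · exact (claim1 N hN (by rw [← hii]; exact h)).elim
  · exfalso
    have hi : N.index = 5 := by rw [← hii]; rw [h] at hc; omega
    have h1 := sylow_card_le_of_normal N 3 (by rw [hi]; decide)
    obtain ⟨R⟩ : Nonempty (Sylow 3 N) := inferInstance
    have hR := sylow_card_index 3 R 4 (by rw [← hcc, h]) (by omega)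
    have h2 : Nat.card (Sylow 3 N) ∣ (R : Subgroup N).index := Sylow.card_dvd_index R
    rw [hR.2] at h2
    have := Nat.le_of_dvd (by omega) h2
    omega

theorem no_deg5 {G : Type u} [Group G] [Finite G] (hG : Nat.card G = 60)
    (P : Sylow 5 G) (hP : (P : Subgroup G).Normal) (χ : IrrCharacter G) :
    ¬ 5 ∣ charDegree (χ : G → ℂ) := by
  have : Fact (Nat.Prime 5) := ⟨by norm_num⟩
  obtain ⟨n, ρ, hρ, hχ⟩ := χ.2
  have hP5 := sylow_card_index 5 P 12 hG (by omega)
  have hcyc : IsCyclic (P : Subgroup G) := isCyclic_of_prime_card hP5.1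
  have hcomm : ∀ a ∈ (P : Subgroup G), ∀ b ∈ (P : Subgroup G), a * b = b * a := by
    intro a ha b hb
    obtain ⟨g, hg⟩ := hcyc.exists_generator
    obtain ⟨i, hi⟩ := Subgroup.mem_zpowers_iff.mp (hg ⟨a, ha⟩)
    obtain ⟨j, hj⟩ := Subgroup.mem_zpowers_iff.mp (hg ⟨b, hb⟩)
    have ha' : a = (g : G) ^ i := by rw [← Subgroup.coe_zpow, hi]
    have hb' : b = (g : G) ^ j := by rw [← Subgroup.coe_zpow, hj]
    rw [ha', hb', ← zpow_add, ← zpow_add, add_comm]
  have := hρ
  have := hP
  have hdvd := Cfsg.Agent.Lib.helper23.ito_degree_dvd_index ρ (P : Subgroup G) hcomm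
  rw [hP5.2] at hdvd
  have hdeg : charDegree (χ : G → ℂ) = n := by
    unfold charDegree
    rw [← hχ, Representation.char_one]
    simp
  rw [hdeg]
  have hfr : Module.finrank ℂ (Fin n → ℂ) = n := by simp
  rw [hfr] at hdvd
  intro h5
  have := h5.trans hdvd
  omega

theorem two_trans_sylow {G : Type u} [Group G] [Finite G] (p : ℕ) [Fact p.Prime]
    (hn : Nat.card (Sylow p G) = p + 1) (hP : ∀ P : Sylow p G, Nat.card (P : Subgroup G) = p) :
    MulAction.IsMultiplyPretransitive G (Sylow p G) 2 := by
  have hp : p.Prime := Fact.out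
  have key : ∀ P Q Q' : Sylow p G, Q ≠ P → Q' ≠ P → ∃ x ∈ (P : Subgroup G), x • Q = Q' := by
    intro P Q Q' hQ hQ'
    set O : Set (Sylow p G) := MulAction.orbit (P : Subgroup G) Q with hO
    have hdvd : O.ncard ∣ p := by
      have h1 := MulAction.index_stabilizer (P : Subgroup G) Q
      have h2 := Subgroup.index_dvd_card (MulAction.stabilizer (P : Subgroup G) Q)
      rw [h1, hP P] at h2
      exact h2
    have hne1 : O.ncard ≠ 1 := by
      intro h1
      obtain ⟨R, hR⟩ := Set.ncard_eq_one.mp h1
      have hQO : Q ∈ O := MulAction.mem_orbit_self Q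
      have hRQ : R = Q := by rw [hR] at hQO; exact hQO.symm
      have hfix : Q ∈ MulAction.fixedPoints (P : Subgroup G) (Sylow p G) := by
        intro x
        have : x • Q ∈ O := MulAction.mem_orbit Q x
        rw [hR, hRQ] at this
        exact this
      have hle := (P.2.sylow_mem_fixedPoints_iff).mp hfix
      exact hQ (Sylow.ext (P.3 Q.2 hle))
    have hcard : O.ncard = p := ((Nat.dvd_prime hp).mp hdvd).resolve_left hne1
    have hsub : O ⊆ ({P} : Set (Sylow p G))ᶜ := by
      rintro R ⟨x, rfl⟩ hR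
      have h1 : (x : G) • Q = P := hR
      have h2 : (x : G) • P = P :=
        Sylow.smul_eq_iff_mem_normalizer.mpr (Subgroup.le_normalizer x.2)
      have h3 : (x : G) • Q = (x : G) • P := h1.trans h2.symm
      exact hQ (smul_left_cancel _ h3)
    have hcompl : (({P} : Set (Sylow p G))ᶜ).ncard = p := by
      rw [Set.ncard_compl, Set.ncard_singleton, hn]; omega
    have heq : O = ({P} : Set (Sylow p G))ᶜ :=
      Set.eq_of_subset_of_ncard_le hsub (by rw [hcompl, hcard]) (Set.toFinite _)
    have : Q' ∈ O := by rw [heq]; exact hQ'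
    obtain ⟨x, hx⟩ := this
    exact ⟨x, x.2, hx⟩
  rw [MulAction.is_two_pretransitive_iff]
  intro a b c d hab hcd
  obtain ⟨g, hg⟩ := MulAction.exists_smul_eq G a c
  have h1 : g • b ≠ c := by
    intro h; rw [← hg] at h; exact hab (smul_left_cancel g h).symm
  obtain ⟨x, hx, hxd⟩ := key c (g • b) d h1 (Ne.symm hcd)
  refine ⟨x * g, ?_, ?_⟩
  · rw [mul_smul, hg]
    exact Sylow.smul_eq_iff_mem_normalizer.mpr (Subgroup.le_normalizer hx)
  · rw [mul_smul, hxd]

theorem a5_deg5 : ∃ χ : IrrCharacter (alternatingGroup (Fin 5)),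
    5 ∣ charDegree (χ : alternatingGroup (Fin 5) → ℂ) := by
  have : Fact (Nat.Prime 5) := ⟨by norm_num⟩
  have hA : Nat.card (alternatingGroup (Fin 5)) = 60 := by
    rw [nat_card_alternatingGroup]; simp; decide
  obtain ⟨P⟩ : Nonempty (Sylow 5 (alternatingGroup (Fin 5))) := inferInstance
  have hP5 := fun P : Sylow 5 (alternatingGroup (Fin 5)) => sylow_card_index 5 P 12 hA (by omega)
  have hn5 : Nat.card (Sylow 5 (alternatingGroup (Fin 5))) = 6 := by
    have h1 : Nat.card (Sylow 5 (alternatingGroup (Fin 5))) ≡ 1 [MOD 5] := card_sylow_modEq_one 5 _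
    have h2 := Sylow.card_dvd_index P
    have h4 : Nat.card (Sylow 5 (alternatingGroup (Fin 5))) ≠ 1 := by
      intro h
      have : Subsingleton (Sylow 5 (alternatingGroup (Fin 5))) := (Nat.card_eq_one_iff_unique.mp h).1
      have hn := Sylow.normal_of_subsingleton P
      have : IsSimpleGroup (alternatingGroup (Fin 5)) :=
        alternatingGroup.isSimpleGroup (by simp)
      rcases hn.eq_bot_or_eq_top with h' | h'
      · have := (hP5 P).1
        rw [h', Subgroup.card_bot] at this
        omega
      · have := (hP5 P).2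
        rw [h', Subgroup.index_top] at this
        omega
    unfold Nat.ModEq at h1
    rcases arith5 _ _ (by omega) h2 (hP5 P).2 with h | h
    · exact absurd h h4
    · exact h
  have h2t := two_trans_sylow (G := alternatingGroup (Fin 5)) 5 (by rw [hn5]) (fun P => (hP5 P).1)
  have hirr := (Cfsg.Agent.Lib.helper24.perm_sub_one_irr_iff (G := alternatingGroup (Fin 5))
    (Sylow 5 (alternatingGroup (Fin 5))) (by rw [hn5]; norm_num)).mpr h2t
  refine ⟨⟨_, hirr⟩, ?_⟩
  have hfix1 : MulAction.fixedBy (Sylow 5 (alternatingGroup (Fin 5)))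
      (1 : alternatingGroup (Fin 5)) = Set.univ := by
    ext x
    simp
  have : charDegree (fun g : alternatingGroup (Fin 5) =>
      (Nat.card (MulAction.fixedBy (Sylow 5 (alternatingGroup (Fin 5))) g) : ℂ) - 1) = 5 := by
    unfold charDegree
    beta_reduce
    rw [hfix1, Nat.card_coe_set_eq, Set.ncard_univ, hn5]
    norm_num
  rw [this]

theorem aux {G : Type u} [Group G] [Finite G] (hcard : Nat.card G = 60)
    (hΓ : Cfsg.degreePrimes G = Cfsg.degreePrimes (alternatingGroup (Fin 5))) :
    Nonempty (G ≃* alternatingGroup (Fin 5)) := by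
  have : Fact (Nat.Prime 5) := ⟨by norm_num⟩
  obtain ⟨χ, hχ⟩ := a5_deg5
  have h5 : (5 : ℕ) ∈ Cfsg.degreePrimes G := by
    rw [hΓ]
    exact ⟨by norm_num, _, ⟨χ, rfl⟩, hχ⟩
  obtain ⟨_, d, ⟨ψ, rfl⟩, hψ⟩ := h5
  have : IsSimpleGroup G := by
    apply simple_of_sixty hcard
    intro P hP
    exact no_deg5 hcard P hP ψ hψ
  exact Cfsg.Agent.Lib.helper2.A5.iso_A5_of_card hcard
end


/-- The character degree graph of a finite group has as vertices the primes dividing some irreducible complex character degree, two distinct primes being joined when their product divides some irreducible character degree; two groups have the same character degree graph when they have the same vertices and the same joined pairs. A finite group of order 60 with the same character degree graph as the alternating group A₅ (whose character degrees are 1, 3, 4, 5, so the graph has vertices 2, 3, 5 and no edges) is isomorphic to A₅. -/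
theorem result {G : Type*} [Group G] [Finite G] (hcard : Nat.card G = 60)
    (hΓ : Cfsg.degreePrimes G = Cfsg.degreePrimes (alternatingGroup (Fin 5)) ∧ Cfsg.degreeGraph G = Cfsg.degreeGraph (alternatingGroup (Fin 5))) : Nonempty (G ≃* alternatingGroup (Fin 5)) := by
  exact aux hcard hΓ.1

end Cfsg.Agent.S3669
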