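import Cfsg.Statements.S0988
-- import your own Cfsg.Agent.* helpers here
import Mathlib
import Cfsg.Agent.S3669

set_option autoImplicit false
open Cfsg

namespace Cfsg.Agent.S0988

section
open Cfsg.Agent.S3669 Cfsg.Agent.Lib.helper2.BF

universe u

theorem sylow_card_pow {K : Type u} [Group K] [Finite K] (p : ℕ) [hp : Fact p.Prime]
    (P : Sylow p K) (k m : ℕ) (hm : Nat.card K = p ^ k * m) (hpm : ¬ p ∣ m) :
    Nat.card (P : Subgroup K) = p ^ k ∧ (P : Subgroup K).index = m := by
  have h3 : Nat.card (P : Subgroup K) = p ^ (Nat.card K).factorization p :=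
    Sylow.card_eq_multiplicity P
  have hm0 : m ≠ 0 := by rintro rfl; exact hpm (dvd_zero p)
  have h4 : (Nat.card K).factorization p = k := by
    rw [hm, Nat.factorization_mul (pow_ne_zero k hp.out.pos.ne') hm0,
      Nat.Prime.factorization_pow hp.out]
    simp [Nat.factorization_eq_zero_of_not_dvd hpm]
  rw [h4] at h3
  refine ⟨h3, ?_⟩
  have h5 := Subgroup.card_mul_index (P : Subgroup K)
  rw [h3, hm] at h5
  exact Nat.eq_of_mul_eq_mul_left (pow_pos hp.out.pos k) h5

theorem sylow_data {K : Type u} [Group K] [Finite K] [IsSimpleGroup K] (p : ℕ)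
    [hp : Fact p.Prime] (k m : ℕ) (hk : 0 < k) (hm1 : 1 < m) (hm : Nat.card K = p ^ k * m)
    (hpm : ¬ p ∣ m) :
    Nat.card (Sylow p K) ∣ m ∧ Nat.card (Sylow p K) ≡ 1 [MOD p] ∧ Nat.card (Sylow p K) ≠ 1 ∧
      Nat.card K ≤ (Nat.card (Sylow p K)).factorial := by
  obtain ⟨P⟩ : Nonempty (Sylow p K) := inferInstance
  obtain ⟨h1, h2⟩ := sylow_card_pow p P k m hm hpm
  have hpk : 1 < p ^ k := Nat.one_lt_pow hk.ne' hp.out.one_lt
  have h3 := sylow_simple P (by rw [h1]; exact hpk.ne') (by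
    rw [h1, hm]
    intro h
    have : p ^ k * 1 = p ^ k * m := by rw [mul_one]; exact h
    have := Nat.eq_of_mul_eq_mul_left (pow_pos hp.out.pos k) this
    omega)
  exact ⟨h2 ▸ Sylow.card_dvd_index P, card_sylow_modEq_one p K, h3.1, h3.2⟩

theorem transfer_simple {K : Type u} [Group K] [Finite K] [IsSimpleGroup K] {p : ℕ}
    [Fact p.Prime] (P : Sylow p K)
    (hP : Subgroup.normalizer ((P : Subgroup K) : Set K) ≤
      Subgroup.centralizer ((P : Subgroup K) : Set K))
    (h1 : Nat.card (P : Subgroup K) ≠ 1) (h2 : Nat.card (P : Subgroup K) ≠ Nat.card K) :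
    False := by
  have hc := MonoidHom.ker_transferSylow_isComplement' P hP
  have hcard := hc.card_mul_card
  rcases (MonoidHom.normal_ker (MonoidHom.transferSylow P hP)).eq_bot_or_eq_top with h | h
  · rw [h, Subgroup.card_bot, one_mul] at hcard; exact h2 hcard
  · rw [h, Subgroup.card_top] at hcard
    have : Nat.card K * Nat.card (P : Subgroup K) = Nat.card K * 1 := by rw [hcard, mul_one]
    exact h1 (Nat.eq_of_mul_eq_mul_left Nat.card_pos this)

theorem minFac_simple {K : Type u} [Group K] [Finite K] [IsSimpleGroup K] (s m : ℕ)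
    [hs : Fact s.Prime] (hm1 : 1 < m) (hK : Nat.card K = s * m) (hsm : ¬ s ∣ m)
    (hmin : (Nat.card K).minFac = s) : False := by
  obtain ⟨P⟩ : Nonempty (Sylow s K) := inferInstance
  obtain ⟨h1, h2⟩ := sylow_card_index s P m hK hsm
  have hcyc : IsCyclic (P : Subgroup K) := isCyclic_of_prime_card h1
  refine transfer_simple P (hcyc.normalizer_le_centralizer hmin) ?_ ?_
  · rw [h1]; exact hs.out.one_lt.ne'
  · rw [h1, hK]
    intro h
    have : s * 1 = s * m := by rw [mul_one]; exact h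
    have := Nat.eq_of_mul_eq_mul_left hs.out.pos this
    omega

theorem nt_lin (a b : ℕ) (ha : 1 < a) (hab : a < b) : ¬ a ≡ 1 [MOD b] := by
  intro h
  unfold Nat.ModEq at h
  rw [Nat.mod_eq_of_lt hab, Nat.mod_eq_of_lt (by omega)] at h
  omega

theorem nt_sq (a b : ℕ) (ha : 1 < a) (hb : b.Prime) (hab : a < b) (h : a ^ 2 ≡ 1 [MOD b]) :
    b = a + 1 := by
  have h1 : b ∣ a ^ 2 - 1 := (Nat.modEq_iff_dvd' (Nat.one_le_pow _ _ (by omega))).mp h.symm
  obtain ⟨a', rfl⟩ : ∃ a', a = a' + 1 := ⟨a - 1, by omega⟩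
  have h2 : (a' + 1) ^ 2 - 1 = a' * (a' + 2) := by
    have : (a' + 1) ^ 2 = a' * (a' + 2) + 1 := by ring
    omega
  rw [h2] at h1
  rcases (Nat.Prime.dvd_mul hb).mp h1 with h3 | h3
  · have := Nat.le_of_dvd (by omega) h3; omega
  · have := Nat.le_of_dvd (by omega) h3; omega

theorem nt_consec (a b : ℕ) (ha : a.Prime) (hb : b.Prime) (h : b = a + 1) : a = 2 ∧ b = 3 := by
  rcases Nat.Prime.eq_two_or_odd ha with h2 | h2
  · omega
  · rcases Nat.Prime.eq_two_or_odd hb with h3 | h3
    · have := ha.two_le; omega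
    · omega

theorem nc_prime {G : Type u} [Group G] [Finite G] (p t : ℕ) (hp : p.Prime) [ht : Fact t.Prime]
    (hpt : p < t) (P : Subgroup G) (hP : Nat.card P = p ^ 2) (y : G) (hy : orderOf y = t)
    (hyN : ∀ h : G, h ∈ P → y * h * y⁻¹ ∈ P) (hyC : ∃ h ∈ P, y * h * y⁻¹ ≠ h) : t = p + 1 := by
  classical
  haveI : Fintype P := Fintype.ofFinite _
  let f : Function.End P := fun h => ⟨y * h * y⁻¹, hyN h h.2⟩
  have key : ∀ (k : ℕ) (h : P), ((f ^ k) h : G) = y ^ k * h * (y ^ k)⁻¹ := by
    intro k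
    induction k with
    | zero =>
      intro h
      simp only [pow_zero, one_mul, inv_one, mul_one]
      rfl
    | succ k ih =>
      intro h
      rw [pow_succ]
      show ((f ^ k) (f h) : G) = _
      rw [ih]
      show y ^ k * (y * h * y⁻¹) * (y ^ k)⁻¹ = _
      rw [pow_succ]; group
  have hf : f ^ t ^ 1 = 1 := by
    funext h
    apply Subtype.ext
    rw [pow_one, key, ← hy, pow_orderOf_eq_one, one_mul, inv_one, mul_one]
    rfl
  have hmod := Equiv.Perm.card_fixedPoints_modEq (p := t) (n := 1) hf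
  let C : Subgroup P := (Subgroup.centralizer ({y} : Set G)).subgroupOf P
  have hset : Function.fixedPoints f = (C : Set P) := by
    ext h
    rw [Function.mem_fixedPoints_iff, SetLike.mem_coe, Subgroup.mem_subgroupOf,
      Subgroup.mem_centralizer_singleton_iff]
    constructor
    · intro hh
      have h1 : y * (h : G) * y⁻¹ = h := congrArg Subtype.val hh
      calc (h : G) * y = y * (h : G) * y⁻¹ * y := by rw [h1]
        _ = y * h := by group
    · intro hh
      apply Subtype.ext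
      show y * (h : G) * y⁻¹ = h
      rw [← hh]; group
  have hFC : Fintype.card (Function.fixedPoints f) = Nat.card C := by
    rw [← Nat.card_eq_fintype_card]
    show Nat.card ↥(Function.fixedPoints f) = Nat.card ↥(C : Set P)
    rw [hset]
  rw [hFC, ← Nat.card_eq_fintype_card, hP] at hmod
  have hFdvd : Nat.card C ∣ p ^ 2 := hP ▸ Subgroup.card_subgroup_dvd_card C
  have hFne : Nat.card C ≠ p ^ 2 := by
    intro hF
    have hCtop : C = ⊤ := Subgroup.eq_top_of_card_eq C (hF.trans hP.symm)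
    obtain ⟨h, hh, hne⟩ := hyC
    apply hne
    have : (⟨h, hh⟩ : P) ∈ C := by rw [hCtop]; trivial
    rw [Subgroup.mem_subgroupOf, Subgroup.mem_centralizer_singleton_iff] at this
    have this' : h * y = y * h := this
    rw [← this']; group
  obtain ⟨i, hi, hFi⟩ := (Nat.dvd_prime_pow hp).mp hFdvd
  rw [hFi] at hmod hFne
  have hp2 := hp.two_le
  interval_cases i
  · rw [pow_zero] at hmod
    exact nt_sq p t hp.one_lt ht.out hpt hmod
  · exfalso
    rw [pow_one] at hmod
    have h1 : t ∣ p ^ 2 - p := (Nat.modEq_iff_dvd' (by nlinarith)).mp hmod.symm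
    obtain ⟨p', rfl⟩ : ∃ p', p = p' + 1 := ⟨p - 1, by omega⟩
    have h2 : (p' + 1) ^ 2 - (p' + 1) = (p' + 1) * p' := by
      have : (p' + 1) ^ 2 = (p' + 1) * p' + (p' + 1) := by ring
      omega
    rw [h2] at h1
    rcases (Nat.Prime.dvd_mul ht.out).mp h1 with h3 | h3
    · have := Nat.le_of_dvd (by omega) h3; omega
    · have := Nat.le_of_dvd (by omega) h3; omega
  · exact absurd rfl hFne

theorem exists_prime_nc {G : Type u} [Group G] [Finite G] (p q r : ℕ) [hp : Fact p.Prime]
    (hq : q.Prime) (hr : r.Prime) (hpq : p ≠ q) (hpr : p ≠ r) (hqr : q ≠ r)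
    (hG : Nat.card G = p ^ 2 * q * r) (P : Sylow p G)
    (hP : Nat.card (P : Subgroup G) = p ^ 2)
    (hN : ¬ Subgroup.normalizer ((P : Subgroup G) : Set G) ≤
      Subgroup.centralizer ((P : Subgroup G) : Set G)) :
    ∃ t : ℕ, (t = q ∨ t = r) ∧ ∃ y : G, orderOf y = t ∧
      (∀ h ∈ (P : Subgroup G), y * h * y⁻¹ ∈ (P : Subgroup G)) ∧
      ∃ h ∈ (P : Subgroup G), y * h * y⁻¹ ≠ h := by
  obtain ⟨g, hgN, hgC⟩ := SetLike.not_le_iff_exists.mp hN
  set N := Subgroup.normalizer ((P : Subgroup G) : Set G) with hNdef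
  set C := Subgroup.centralizer ((P : Subgroup G) : Set G) with hCdef
  have hcomm : ∀ a b : G, a ∈ (P : Subgroup G) → b ∈ (P : Subgroup G) → a * b = b * a := by
    intro a b ha hb
    have := (IsPGroup.isMulCommutative_of_card_eq_prime_sq hP).is_comm.comm
      (⟨a, ha⟩ : (P : Subgroup G)) ⟨b, hb⟩
    exact congrArg Subtype.val this
  have h1 : g ^ (q * r) ∈ C := by
    have hmemN : g ^ (q * r) ∈ N := Subgroup.pow_mem _ hgN _
    have hpow : (g ^ (q * r)) ^ (p ^ 2) = 1 := by
      rw [← pow_mul, show q * r * p ^ 2 = p ^ 2 * q * r by ring, ← hG, pow_card_eq_one']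
    have hpg : IsPGroup p (Subgroup.zpowers (g ^ (q * r))) := by
      obtain ⟨i, -, hi⟩ := (Nat.dvd_prime_pow hp.out).mp (orderOf_dvd_of_pow_eq_one hpow)
      exact IsPGroup.of_card (n := i) (by rw [Nat.card_zpowers, hi])
    have e := hpg.inf_normalizer_sylow P
    have h2 : g ^ (q * r) ∈ Subgroup.zpowers (g ^ (q * r)) ⊓ (P : Subgroup G) := by
      rw [← e]; exact ⟨Subgroup.mem_zpowers _, hmemN⟩
    rw [hCdef, Subgroup.mem_centralizer_iff]
    intro h hh
    exact hcomm _ _ hh h2.2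
  have hcop1 : IsCoprime (q : ℤ) ((p : ℤ) ^ 2) := by
    have : Nat.Coprime q (p ^ 2) :=
      Nat.Coprime.pow_right 2 ((Nat.coprime_primes hq hp.out).mpr (Ne.symm hpq))
    exact_mod_cast Nat.isCoprime_iff_coprime.mpr this
  have hcop2 : IsCoprime (r : ℤ) ((p : ℤ) ^ 2 * q) := by
    have : Nat.Coprime r (p ^ 2 * q) :=
      Nat.Coprime.mul_right
        (Nat.Coprime.pow_right 2 ((Nat.coprime_primes hr hp.out).mpr (Ne.symm hpr)))
        ((Nat.coprime_primes hr hq).mpr (Ne.symm hqr))
    exact_mod_cast Nat.isCoprime_iff_coprime.mpr this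
  obtain ⟨a, b, hab⟩ := hcop1
  obtain ⟨c, d, hcd⟩ := hcop2
  have hbez : (c * a) * ((q : ℤ) * r) + (c * b) * ((p : ℤ) ^ 2 * r) + d * ((p : ℤ) ^ 2 * q) = 1 := by
    linear_combination (c * r) * hab + hcd
  have hg : g = (g ^ (q * r)) ^ (c * a) * (g ^ (p ^ 2 * r)) ^ (c * b) * (g ^ (p ^ 2 * q)) ^ d := by
    rw [← zpow_natCast g (q * r), ← zpow_natCast g (p ^ 2 * r), ← zpow_natCast g (p ^ 2 * q),
      ← zpow_mul, ← zpow_mul, ← zpow_mul, ← zpow_add, ← zpow_add]
    have : ((q * r : ℕ) : ℤ) * (c * a) + ((p ^ 2 * r : ℕ) : ℤ) * (c * b) +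
        ((p ^ 2 * q : ℕ) : ℤ) * d = 1 := by
      push_cast; linear_combination hbez
    rw [this, zpow_one]
  have h23 : g ^ (p ^ 2 * r) ∉ C ∨ g ^ (p ^ 2 * q) ∉ C := by
    by_contra hcon
    push Not at hcon
    apply hgC
    rw [hg]
    exact C.mul_mem (C.mul_mem (C.zpow_mem h1 _) (C.zpow_mem hcon.1 _)) (C.zpow_mem hcon.2 _)
  have fin : ∀ (t : ℕ) (y : G), t.Prime → y ^ t = 1 → y ∈ N → y ∉ C →
      ∃ y : G, orderOf y = t ∧ (∀ h ∈ (P : Subgroup G), y * h * y⁻¹ ∈ (P : Subgroup G)) ∧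
        ∃ h ∈ (P : Subgroup G), y * h * y⁻¹ ≠ h := by
    intro t y ht hyt hyN hyC
    refine ⟨y, ?_, ?_, ?_⟩
    · haveI : Fact t.Prime := ⟨ht⟩
      apply orderOf_eq_prime hyt
      rintro rfl
      exact hyC (Subgroup.one_mem _)
    · intro h hh
      exact (Subgroup.mem_normalizer_iff.mp hyN h).mp hh
    · by_contra hcon
      push Not at hcon
      apply hyC
      rw [hCdef, Subgroup.mem_centralizer_iff]
      intro h hh
      have := hcon h hh
      calc h * y = y * h * y⁻¹ * y := by rw [this]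
        _ = y * h := by group
  rcases h23 with h2 | h3
  · refine ⟨q, Or.inl rfl, fin q _ hq ?_ (Subgroup.pow_mem _ hgN _) h2⟩
    rw [← pow_mul, show p ^ 2 * r * q = p ^ 2 * q * r by ring, ← hG, pow_card_eq_one']
  · refine ⟨r, Or.inr rfl, fin r _ hr ?_ (Subgroup.pow_mem _ hgN _) h3⟩
    rw [← pow_mul, ← hG, pow_card_eq_one']

theorem no_132 {G : Type u} [Group G] [Finite G] [IsSimpleGroup G] [Fact (Nat.Prime 11)]
    (hG : Nat.card G = 132) (h11 : Nat.card (Sylow 11 G) = 12) : False := by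
  haveI : Fact (Nat.Prime 3) := ⟨Nat.prime_three⟩
  obtain ⟨h1, h2, h3, h4⟩ := sylow_data (K := G) 3 1 44 one_pos (by norm_num)
    (by rw [hG]; norm_num) (by norm_num)
  obtain ⟨n, hn⟩ : ∃ n, Nat.card (Sylow 3 G) = n := ⟨_, rfl⟩
  rw [hn] at h1 h2 h3 h4
  have hle : n ≤ 44 := Nat.le_of_dvd (by norm_num) h1
  unfold Nat.ModEq at h2
  have h422 : n = 4 ∨ n = 22 := by
    interval_cases n <;> omega
  rcases h422 with rfl | rfl
  · rw [hG] at h4; norm_num [Nat.factorial] at h4
  · have hS3 : ∀ P : Sylow 3 G, Nat.card (P : Subgroup G) = 3 := fun P =>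
      (sylow_card_index 3 P 44 (by rw [hG]) (by norm_num)).1
    have hS11 : ∀ P : Sylow 11 G, Nat.card (P : Subgroup G) = 11 := fun P =>
      (sylow_card_index 11 P 12 (by rw [hG]) (by norm_num)).1
    have c1 := card_orderOf_ge (G := G) (p := 3) hS3
    have c2 := card_orderOf_ge (G := G) (p := 11) hS11
    have c3 := card_orders_le (G := G) 3 11 2 (by norm_num) (by norm_num) (by norm_num)
      (by norm_num) (by norm_num) (by norm_num)
    rw [hn] at c1; rw [h11] at c2; rw [hG] at c3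
    omega

theorem twelve {G : Type u} [Group G] [Finite G] [IsSimpleGroup G] (r : ℕ) (hr : r.Prime)
    (hr5 : 5 ≤ r) (hG : Nat.card G = 12 * r) : r = 5 := by
  haveI : Fact r.Prime := ⟨hr⟩
  have hnd : ¬ r ∣ 12 := by
    intro h
    rcases (Nat.Prime.dvd_mul hr).mp (show r ∣ 2 ^ 2 * 3 from h) with h' | h'
    · have := Nat.le_of_dvd (by norm_num) (hr.dvd_of_dvd_pow h'); omega
    · have := Nat.le_of_dvd (by norm_num) h'; omega
  obtain ⟨h1, h2, h3, h4⟩ := sylow_data (K := G) r 1 12 one_pos (by norm_num)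
    (by rw [hG, pow_one]; ring) hnd
  obtain ⟨n, hn⟩ : ∃ n, Nat.card (Sylow r G) = n := ⟨_, rfl⟩
  rw [hn] at h1 h2 h3 h4
  have hle : n ≤ 12 := Nat.le_of_dvd (by norm_num) h1
  have hpos : 0 < n := Nat.pos_of_dvd_of_pos h1 (by norm_num)
  have hdiv : r ∣ n - 1 := (Nat.modEq_iff_dvd' (by omega : 1 ≤ n)).mp h2.symm
  have hr' : r ≤ n - 1 := Nat.le_of_dvd (by omega) hdiv
  have h6 : n = 6 ∨ n = 12 := by
    interval_cases n <;> omega
  rcases h6 with rfl | rfl
  · omega
  · exfalso
    have h11 : r = 11 := by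
      rcases (Nat.dvd_prime (by norm_num : Nat.Prime 11)).mp hdiv with h | h <;> omega
    subst h11
    exact no_132 (by rw [hG]) hn

theorem no_sq_sq {G : Type u} [Group G] [Finite G] [IsSimpleGroup G] (a b : ℕ) (ha : a.Prime)
    (hb : b.Prime) (hab : a < b) (hG : Nat.card G = a ^ 2 * b ^ 2) : False := by
  haveI : Fact b.Prime := ⟨hb⟩
  have hnd : ¬ b ∣ a ^ 2 := fun h => by
    have := (Nat.prime_dvd_prime_iff_eq hb ha).mp (hb.dvd_of_dvd_pow h); omega
  obtain ⟨h1, h2, h3, h4⟩ := sylow_data (K := G) b 2 (a ^ 2) (by norm_num)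
    (Nat.one_lt_pow (by norm_num) ha.one_lt) (by rw [hG]; ring) hnd
  obtain ⟨i, hi, hn⟩ := (Nat.dvd_prime_pow ha).mp h1
  rw [hn] at h2 h3 h4
  interval_cases i
  · exact h3 (pow_zero a)
  · rw [pow_one] at h2; exact nt_lin a b ha.one_lt hab h2
  · obtain ⟨rfl, rfl⟩ := nt_consec a b ha hb (nt_sq a b ha.one_lt hb hab h2)
    rw [hG] at h4; norm_num [Nat.factorial] at h4

theorem no_cube {G : Type u} [Group G] [Finite G] [IsSimpleGroup G] (a b : ℕ) (ha : a.Prime)
    (hb : b.Prime) (hab : a ≠ b) (hG : Nat.card G = a ^ 3 * b) : False := by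
  haveI : Fact b.Prime := ⟨hb⟩
  haveI : Fact a.Prime := ⟨ha⟩
  have hnd : ¬ b ∣ a ^ 3 := fun h => by
    have := (Nat.prime_dvd_prime_iff_eq hb ha).mp (hb.dvd_of_dvd_pow h); exact hab this.symm
  have ha3 : 1 < a ^ 3 := Nat.one_lt_pow (by norm_num) ha.one_lt
  rcases lt_or_gt_of_ne hab with hlt | hgt
  · obtain ⟨h1, h2, h3, h4⟩ := sylow_data (K := G) b 1 (a ^ 3) one_pos ha3
      (by rw [hG, pow_one]; ring) hnd
    obtain ⟨i, hi, hn⟩ := (Nat.dvd_prime_pow ha).mp h1
    interval_cases i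
    · exact h3 (by rw [hn, pow_zero])
    · rw [hn, pow_one] at h2; exact nt_lin a b ha.one_lt hlt h2
    · rw [hn] at h2
      obtain ⟨rfl, rfl⟩ := nt_consec a b ha hb (nt_sq a b ha.one_lt hb hlt h2)
      obtain ⟨k1, k2, k3, k4⟩ := sylow_data (K := G) 2 3 3 (by norm_num) (by norm_num)
        (by rw [hG]) (by norm_num)
      have k5 : Nat.card (Sylow 2 G) ≤ 3 := Nat.le_of_dvd (by norm_num) k1
      have h24 : Nat.card G = 24 := by rw [hG]; norm_num
      rw [h24] at k4
      obtain ⟨n, hn'⟩ : ∃ n, Nat.card (Sylow 2 G) = n := ⟨_, rfl⟩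
      rw [hn'] at k1 k3 k4 k5
      interval_cases n <;> simp [Nat.factorial] at k4 <;> omega
    · obtain ⟨B⟩ : Nonempty (Sylow b G) := inferInstance
      obtain ⟨hB1, hB2⟩ := sylow_card_index b B (a ^ 3) (by rw [hG]; ring) hnd
      have hNi : (Subgroup.normalizer ((B : Subgroup G) : Set G)).index = a ^ 3 := by
        have := Sylow.card_eq_index_normalizer B
        rw [hn] at this
        exact this.symm
      have hNc : Nat.card (Subgroup.normalizer ((B : Subgroup G) : Set G)) = b := by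
        have := Subgroup.card_mul_index (Subgroup.normalizer ((B : Subgroup G) : Set G))
        rw [hNi, hG] at this
        have h' : Nat.card (Subgroup.normalizer ((B : Subgroup G) : Set G)) * a ^ 3
            = b * a ^ 3 := by rw [this]; ring
        exact Nat.eq_of_mul_eq_mul_right (by omega) h'
      have hNB : (B : Subgroup G) = Subgroup.normalizer ((B : Subgroup G) : Set G) :=
        Subgroup.eq_of_le_of_card_ge Subgroup.le_normalizer (by rw [hNc, hB1])
      have hcyc : IsCyclic (B : Subgroup G) := isCyclic_of_prime_card hB1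
      refine transfer_simple B ?_ ?_ ?_
      · intro g hg
        rw [← hNB] at hg
        rw [Subgroup.mem_centralizer_iff]
        intro h hh
        have := (IsCyclic.isMulCommutative (α := (B : Subgroup G))).is_comm.comm
          (⟨h, hh⟩ : (B : Subgroup G)) ⟨g, hg⟩
        exact congrArg Subtype.val this
      · rw [hB1]; exact hb.one_lt.ne'
      · rw [hB1, hG]
        intro h
        have : 1 * b = a ^ 3 * b := by rw [one_mul]; exact h
        have := Nat.eq_of_mul_eq_mul_right hb.pos this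
        omega
  · have hmin : (Nat.card G).minFac = b := by
      have hm := Nat.minFac_prime (n := Nat.card G) (by
        rw [hG]; have := hb.two_le; nlinarith)
      have hd : (Nat.card G).minFac ∣ a ^ 3 * b := hG ▸ Nat.minFac_dvd _
      rcases (Nat.Prime.dvd_mul hm).mp hd with h | h
      · have e := (Nat.prime_dvd_prime_iff_eq hm ha).mp (hm.dvd_of_dvd_pow h)
        have := Nat.minFac_le_of_dvd hb.two_le
          (show b ∣ Nat.card G by rw [hG]; exact dvd_mul_left _ _)
        omega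
      · exact (Nat.prime_dvd_prime_iff_eq hm hb).mp h
    exact minFac_simple b (a ^ 3) ha3 (by rw [hG]; ring) hnd hmin

theorem no_pgroup {G : Type u} [Group G] [Finite G] [IsSimpleGroup G] (p : ℕ) (hp : p.Prime)
    (k : ℕ) (hk : 2 ≤ k) (hG : Nat.card G = p ^ k) : False := by
  haveI : Fact p.Prime := ⟨hp⟩
  have hpg : IsPGroup p G := IsPGroup.of_card hG
  have hnt : Nontrivial (Subgroup.center G) := hpg.center_nontrivial
  have hctop : Subgroup.center G = ⊤ := by
    rcases (inferInstance : (Subgroup.center G).Normal).eq_bot_or_eq_top with h | h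
    · exact absurd h ((Subgroup.nontrivial_iff_ne_bot _).mp hnt)
    · exact h
  have hcomm : ∀ a b : G, a * b = b * a := by
    intro a b
    have : a ∈ Subgroup.center G := by rw [hctop]; trivial
    exact (Subgroup.mem_center_iff.mp this b).symm
  obtain ⟨x, hx⟩ := exists_prime_orderOf_dvd_card' (G := G) p
    (by rw [hG]; exact dvd_pow_self p (by omega))
  have hnorm : (Subgroup.zpowers x).Normal :=
    ⟨fun n hn g => by rw [hcomm g n, mul_inv_cancel_right]; exact hn⟩
  rcases hnorm.eq_bot_or_eq_top with h | h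
  · rw [Subgroup.zpowers_eq_bot] at h
    rw [h, orderOf_one] at hx
    exact hp.one_lt.ne hx
  · have h1 := Nat.card_zpowers x
    rw [h, Subgroup.card_top, hG, hx] at h1
    have h2 : p ^ 2 ≤ p ^ k := Nat.pow_le_pow_right hp.pos hk
    nlinarith [hp.two_le]

theorem distinct_case {G : Type u} [Group G] [Finite G] [IsSimpleGroup G] (p q r : ℕ)
    (hp : p.Prime) (hq : q.Prime) (hr : r.Prime) (hpq : p ≠ q) (hpr : p ≠ r) (hqr : q ≠ r)
    (hG : Nat.card G = p ^ 2 * q * r) : Nat.card G = 60 := by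
  haveI : Fact p.Prime := ⟨hp⟩
  haveI : Fact q.Prime := ⟨hq⟩
  haveI : Fact r.Prime := ⟨hr⟩
  have hp2 := hp.two_le
  have hq2 := hq.two_le
  have hr2 := hr.two_le
  have hndp : ¬ p ∣ q * r := by
    intro h
    rcases (Nat.Prime.dvd_mul hp).mp h with h' | h'
    · exact hpq ((Nat.prime_dvd_prime_iff_eq hp hq).mp h')
    · exact hpr ((Nat.prime_dvd_prime_iff_eq hp hr).mp h')
  have hndq : ¬ q ∣ p ^ 2 * r := by
    intro h
    rcases (Nat.Prime.dvd_mul hq).mp h with h' | h'
    · exact hpq ((Nat.prime_dvd_prime_iff_eq hq hp).mp (hq.dvd_of_dvd_pow h')).symm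
    · exact hqr ((Nat.prime_dvd_prime_iff_eq hq hr).mp h')
  have hndr : ¬ r ∣ p ^ 2 * q := by
    intro h
    rcases (Nat.Prime.dvd_mul hr).mp h with h' | h'
    · exact hpr ((Nat.prime_dvd_prime_iff_eq hr hp).mp (hr.dvd_of_dvd_pow h')).symm
    · exact hqr ((Nat.prime_dvd_prime_iff_eq hr hq).mp h').symm
  have hp4 : 4 ≤ p ^ 2 := by nlinarith
  have hcard1 : Nat.card G ≠ 1 := by
    rw [hG]
    have : 4 * 2 ≤ p ^ 2 * q := Nat.mul_le_mul hp4 hq2
    nlinarith
  have hm := Nat.minFac_prime hcard1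
  have hd : (Nat.card G).minFac ∣ p ^ 2 * q * r := hG ▸ Nat.minFac_dvd _
  have hmin : (Nat.card G).minFac = p := by
    rcases (Nat.Prime.dvd_mul hm).mp hd with h | h
    · rcases (Nat.Prime.dvd_mul hm).mp h with h' | h'
      · exact (Nat.prime_dvd_prime_iff_eq hm hp).mp (hm.dvd_of_dvd_pow h')
      · exfalso
        have e := (Nat.prime_dvd_prime_iff_eq hm hq).mp h'
        exact minFac_simple q (p ^ 2 * r) (by nlinarith) (by rw [hG]; ring) hndq e
    · exfalso
      have e := (Nat.prime_dvd_prime_iff_eq hm hr).mp h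
      exact minFac_simple r (p ^ 2 * q) (by nlinarith) (by rw [hG]; ring) hndr e
  have hpq' : p < q := by
    have := Nat.minFac_le_of_dvd hq.two_le
      (show q ∣ Nat.card G by rw [hG]; exact Dvd.dvd.mul_right (dvd_mul_left _ _) _)
    omega
  have hpr' : p < r := by
    have := Nat.minFac_le_of_dvd hr.two_le
      (show r ∣ Nat.card G by rw [hG]; exact dvd_mul_left _ _)
    omega
  obtain ⟨P⟩ : Nonempty (Sylow p G) := inferInstance
  obtain ⟨hP1, hP2⟩ := sylow_card_pow p P 2 (q * r) (by rw [hG]; ring) hndp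
  have hNC : ¬ Subgroup.normalizer ((P : Subgroup G) : Set G) ≤
      Subgroup.centralizer ((P : Subgroup G) : Set G) := by
    intro h
    refine transfer_simple P h ?_ ?_
    · rw [hP1]; omega
    · rw [hP1, hG]
      intro h'
      have : p ^ 2 * 1 = p ^ 2 * (q * r) := by rw [mul_one, ← mul_assoc]; exact h'
      have := Nat.eq_of_mul_eq_mul_left (by omega) this
      nlinarith
  obtain ⟨t, ht, y, hy, hyN, hyC⟩ := exists_prime_nc p q r hq hr hpq hpr hqr hG P hP1 hNC
  have htp : t.Prime := by rcases ht with rfl | rfl <;> assumption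
  have hpt : p < t := by rcases ht with rfl | rfl <;> assumption
  haveI : Fact t.Prime := ⟨htp⟩
  have ht1 := nc_prime p t hp hpt (P : Subgroup G) hP1 y hy hyN hyC
  obtain ⟨hp2', ht3⟩ := nt_consec p t hp htp ht1
  have r5 : ∀ s : ℕ, s.Prime → s ≠ 2 → s ≠ 3 → 5 ≤ s := by
    intro s hs h2 h3
    have := hs.two_le
    have h4 : s ≠ 4 := by rintro rfl; norm_num at hs
    omega
  rcases ht with h | h
  · have hq3 : q = 3 := by omega
    have hr5 : 5 ≤ r := r5 r hr (by omega) (by omega)
    have hG' : Nat.card G = 12 * r := by rw [hG, hp2', hq3]; norm_num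
    have := twelve r hr hr5 hG'
    rw [hG', this]
  · have hr3 : r = 3 := by omega
    have hq5 : 5 ≤ q := r5 q hq (by omega) (by omega)
    have hG' : Nat.card G = 12 * q := by rw [hG, hp2', hr3]; ring
    have := twelve q hq hq5 hG'
    rw [hG', this]

theorem aux {G : Type u} [Group G] [Finite G] [IsSimpleGroup G] (p q r : ℕ) (hp : p.Prime)
    (hq : q.Prime) (hr : r.Prime) (hG : Nat.card G = p ^ 2 * q * r) : Nat.card G = 60 := by
  by_cases hpq : p = q
  · by_cases hpr : p = r
    · exfalso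
      subst hpq; subst hpr
      exact no_pgroup p hp 4 (by norm_num) (by rw [hG]; ring)
    · exfalso
      subst hpq
      exact no_cube p r hp hr hpr (by rw [hG]; ring)
  · by_cases hpr : p = r
    · exfalso
      subst hpr
      exact no_cube p q hp hq hpq (by rw [hG]; ring)
    · by_cases hqr : q = r
      · exfalso
        subst hqr
        rcases lt_or_gt_of_ne hpq with h | h
        · exact no_sq_sq p q hp hq h (by rw [hG]; ring)
        · exact no_sq_sq q p hq hp h (by rw [hG]; ring)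
      · exact distinct_case p q r hp hq hr hpq hpr hqr hG
end


/-- If a finite simple group has order p^2 * q * r with p, q and r prime, then its order is 60. -/
theorem result {G : Type*} [Group G] [Finite G] [IsSimpleGroup G] (p q r : ℕ) (hp : p.Prime) (hq : q.Prime) (hr : r.Prime) (hG : Nat.card G = p ^ 2 * q * r) : Nat.card G = 60 := by
  exact aux p q r hp hq hr hG

end Cfsg.Agent.S0988
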