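import Cfsg.Statements.S1003
-- import your own Cfsg.Agent.* helpers here
import Mathlib
import Cfsg.Agent.S0988
import Cfsg.Agent.S1018

set_option autoImplicit false
open Cfsg

namespace Cfsg.Agent.S1003

section
open Cfsg.Agent.S3669 Cfsg.Agent.Lib.helper2.BF Cfsg.Agent.Lib.helper2.Count Cfsg.Agent.S0988

universe u

variable {G : Type u} [Group G] [Finite G]

theorem card_orderOf_le {p : ℕ} [hp : Fact p.Prime]
    (hS : ∀ P : Sylow p G, Nat.card (P : Subgroup G) = p) :
    Nat.card {g : G // orderOf g = p} ≤ Nat.card (Sylow p G) * (p - 1) := by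
  classical
  let _ : Fintype (Sylow p G) := Fintype.ofFinite _
  have h1 : ∀ P : Sylow p G, Nat.card {x : G // x ∈ (P : Subgroup G) ∧ x ≠ 1} = p - 1 := by
    intro P
    have := card_subtype_ne_add_one (fun g : G => g ∈ (P : Subgroup G)) 1 (Subgroup.one_mem _)
    have h3 : Nat.card {g : G // g ∈ (P : Subgroup G)} = p := hS P
    omega
  have h2 : Nat.card (Σ P : Sylow p G, {x : G // x ∈ (P : Subgroup G) ∧ x ≠ 1})
      = Nat.card (Sylow p G) * (p - 1) := by
    rw [Nat.card_sigma, Finset.sum_congr rfl (fun P _ => h1 P), Finset.sum_const,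
      Finset.card_univ, smul_eq_mul, Nat.card_eq_fintype_card]
  rw [← h2]
  have hex : ∀ g : {g : G // orderOf g = p}, ∃ P : Sylow p G, (g : G) ∈ (P : Subgroup G) := by
    intro g
    obtain ⟨Q, hQ⟩ := (IsPGroup.of_card (p := p) (n := 1)
      (by rw [Nat.card_zpowers, g.2, pow_one]) :
        IsPGroup p (Subgroup.zpowers (g : G))).exists_le_sylow
    exact ⟨Q, hQ (Subgroup.mem_zpowers _)⟩
  choose F hF using hex
  have hne : ∀ g : {g : G // orderOf g = p}, (g : G) ≠ 1 := by
    intro g h
    have := g.2
    rw [h, orderOf_one] at this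
    exact hp.out.one_lt.ne this
  apply Nat.card_le_card_of_injective (fun g =>
    (⟨F g, ⟨g.1, hF g, hne g⟩⟩ : Σ P : Sylow p G, {x : G // x ∈ (P : Subgroup G) ∧ x ≠ 1}))
  apply Function.Injective.of_comp
    (f := fun q : (Σ P : Sylow p G, {x : G // x ∈ (P : Subgroup G) ∧ x ≠ 1}) => (q.2.1 : G))
  intro g g' h
  exact Subtype.ext h

theorem card_modEq_cent (t : ℕ) [ht : Fact t.Prime] (P : Subgroup G) (y : G) (hy : y ^ t = 1)
    (hyN : ∀ h : G, h ∈ P → y * h * y⁻¹ ∈ P) :
    Nat.card P ≡ Nat.card ((Subgroup.centralizer ({y} : Set G)).subgroupOf P) [MOD t] := by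
  classical
  haveI : Fintype P := Fintype.ofFinite _
  let f : Function.End P := fun h => ⟨y * h * y⁻¹, hyN h h.2⟩
  have key : ∀ (k : ℕ) (h : P), ((f ^ k) h : G) = y ^ k * h * (y ^ k)⁻¹ := by
    intro k
    induction k with
    | zero =>
      intro h
      simp only [pow_zero, one_mul, inv_one, mul_one]
      rfl
    | succ k ih =>
      intro h
      rw [pow_succ]
      show ((f ^ k) (f h) : G) = _
      rw [ih]
      show y ^ k * (y * h * y⁻¹) * (y ^ k)⁻¹ = _
      rw [pow_succ]; group
  have hf : f ^ t ^ 1 = 1 := by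
    funext h
    apply Subtype.ext
    rw [pow_one, key, hy, one_mul, inv_one, mul_one]
    rfl
  have hmod := Equiv.Perm.card_fixedPoints_modEq (p := t) (n := 1) hf
  set C : Subgroup P := (Subgroup.centralizer ({y} : Set G)).subgroupOf P with hC
  have hset : Function.fixedPoints f = (C : Set P) := by
    ext h
    rw [Function.mem_fixedPoints_iff, SetLike.mem_coe, Subgroup.mem_subgroupOf,
      Subgroup.mem_centralizer_singleton_iff]
    constructor
    · intro hh
      have h1 : y * (h : G) * y⁻¹ = h := congrArg Subtype.val hh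
      calc (h : G) * y = y * (h : G) * y⁻¹ * y := by rw [h1]
        _ = y * h := by group
    · intro hh
      apply Subtype.ext
      show y * (h : G) * y⁻¹ = h
      rw [← hh]; group
  have hFC : Fintype.card (Function.fixedPoints f) = Nat.card C := by
    rw [← Nat.card_eq_fintype_card]
    show Nat.card ↥(Function.fixedPoints f) = Nat.card ↥(C : Set P)
    rw [hset]
  rw [hFC, ← Nat.card_eq_fintype_card] at hmod
  exact hmod

theorem aux [IsSimpleGroup G] (h : Nat.card G = 168) :
    Nat.card (Sylow 2 G) = 21 ∧ Nat.card (Sylow 3 G) = 28 ∧ Nat.card (Sylow 7 G) = 8 := by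
  haveI : Fact (Nat.Prime 2) := ⟨Nat.prime_two⟩
  haveI : Fact (Nat.Prime 3) := ⟨Nat.prime_three⟩
  haveI : Fact (Nat.Prime 7) := ⟨by norm_num⟩
  have h7 : Nat.card (Sylow 7 G) = 8 := by
    obtain ⟨h1, h2, h3, h4⟩ := sylow_data (K := G) 7 1 24 one_pos (by norm_num)
      (by rw [h]; norm_num) (by norm_num)
    obtain ⟨n, hn⟩ : ∃ n, Nat.card (Sylow 7 G) = n := ⟨_, rfl⟩
    rw [hn] at h1 h2 h3 h4 ⊢
    have hle : n ≤ 24 := Nat.le_of_dvd (by norm_num) h1
    unfold Nat.ModEq at h2
    interval_cases n <;> omega
  have hS7 : ∀ P : Sylow 7 G, Nat.card (P : Subgroup G) = 7 := fun P =>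
    (sylow_card_index 7 P 24 (by rw [h]) (by norm_num)).1
  have hS3 : ∀ P : Sylow 3 G, Nat.card (P : Subgroup G) = 3 := fun P =>
    (sylow_card_index 3 P 56 (by rw [h]) (by norm_num)).1
  have h3a : Nat.card (Sylow 3 G) = 7 ∨ Nat.card (Sylow 3 G) = 28 := by
    obtain ⟨h1, h2, h3, h4⟩ := sylow_data (K := G) 3 1 56 one_pos (by norm_num)
      (by rw [h]; norm_num) (by norm_num)
    obtain ⟨n, hn⟩ : ∃ n, Nat.card (Sylow 3 G) = n := ⟨_, rfl⟩
    rw [hn] at h1 h2 h3 h4 ⊢
    have hle : n ≤ 56 := Nat.le_of_dvd (by norm_num) h1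
    unfold Nat.ModEq at h2
    rw [h] at h4
    have h44 : n ≠ 4 := by rintro rfl; norm_num [Nat.factorial] at h4
    interval_cases n <;> omega
  have h3 : Nat.card (Sylow 3 G) = 28 := by
    rcases h3a with h37 | h328
    · exfalso
      obtain ⟨P7⟩ : Nonempty (Sylow 7 G) := inferInstance
      set N := Subgroup.normalizer ((P7 : Subgroup G) : Set G) with hN
      have hNi : N.index = 8 := by
        have := Sylow.card_eq_index_normalizer P7
        rw [h7] at this; exact this.symm
      have hNc : Nat.card N = 21 := by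
        have := Subgroup.card_mul_index N
        rw [hNi, h] at this; omega
      have hPN : (P7 : Subgroup G) ≤ N := Subgroup.le_normalizer
      have hord : ∀ g : G, g ∈ N → g ∉ (P7 : Subgroup G) → orderOf g = 3 := by
        intro g hg hgP
        have hd : orderOf g ∣ 21 := hNc ▸ Subgroup.orderOf_dvd_natCard N hg
        have h7' : ¬ g ^ 7 = 1 := fun h7' =>
          hgP (Cfsg.Agent.S1018.mem_of_mem_normalizer 7 P7 g h7' hg)
        have hle : orderOf g ≤ 21 := Nat.le_of_dvd (by norm_num) hd
        have hcases : orderOf g = 3 ∨ orderOf g = 21 := by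
          have h17 : ¬ orderOf g ∣ 7 := fun hh => h7' (orderOf_dvd_iff_pow_eq_one.mp hh)
          obtain ⟨m, hm⟩ : ∃ m, orderOf g = m := ⟨_, rfl⟩
          rw [hm] at hd hle h17 ⊢
          interval_cases m <;> omega
        rcases hcases with h | h21
        · exact h
        · exfalso
          have hz : Subgroup.zpowers g = N :=
            Subgroup.eq_of_le_of_card_ge (Subgroup.zpowers_le.mpr hg)
              (by rw [Nat.card_zpowers, h21, hNc])
          refine transfer_simple P7 ?_ (by rw [hS7 P7]; norm_num) (by rw [hS7 P7, h]; norm_num)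
          intro a ha
          rw [Subgroup.mem_centralizer_iff]
          intro b hb
          have ha' : a ∈ Subgroup.zpowers g := by rw [hz]; exact ha
          have hb' : b ∈ Subgroup.zpowers g := by rw [hz]; exact hPN hb
          obtain ⟨i, rfl⟩ := Subgroup.mem_zpowers_iff.mp ha'
          obtain ⟨j, rfl⟩ := Subgroup.mem_zpowers_iff.mp hb'
          rw [← zpow_add, ← zpow_add, add_comm]
      have hsub : ((N : Set G) \ ((P7 : Subgroup G) : Set G)) ⊆ {g : G | orderOf g = 3} :=
        fun g hg => hord g hg.1 hg.2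
      have hc1 : ((N : Set G) \ ((P7 : Subgroup G) : Set G)).ncard = 14 := by
        have e := Set.ncard_sdiff_add_ncard_of_subset (s := ((P7 : Subgroup G) : Set G))
          (t := (N : Set G)) hPN
        have e1 : ((P7 : Subgroup G) : Set G).ncard = 7 := by
          rw [← Nat.card_coe_set_eq]; exact hS7 P7
        have e2 : (N : Set G).ncard = 21 := by
          rw [← Nat.card_coe_set_eq]; exact hNc
        omega
      have hc2 : ({g : G | orderOf g = 3}).ncard ≤ 14 := by
        rw [← Nat.card_coe_set_eq]
        have := card_orderOf_le (G := G) (p := 3) hS3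
        rw [h37] at this
        exact this
      have heq : ((N : Set G) \ ((P7 : Subgroup G) : Set G)) = {g : G | orderOf g = 3} :=
        Set.eq_of_subset_of_ncard_le hsub (by rw [hc1]; exact hc2) (Set.toFinite _)
      obtain ⟨x, hx⟩ := exists_prime_orderOf_dvd_card' (G := G) 3 (by rw [h]; norm_num)
      have hall : ∀ g : G, orderOf g = 3 → g ∈ N := by
        intro g hg
        have : g ∈ ((N : Set G) \ ((P7 : Subgroup G) : Set G)) := by rw [heq]; exact hg
        exact this.1
      have hncl : Subgroup.normalClosure ({x} : Set G) ≤ N := by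
        rw [Subgroup.normalClosure, Subgroup.closure_le]
        intro a ha
        rw [Group.mem_conjugatesOfSet_iff] at ha
        obtain ⟨b, hb, hba⟩ := ha
        rw [Set.mem_singleton_iff] at hb
        subst hb
        apply hall
        obtain ⟨c, hc⟩ := isConj_iff.mp hba
        rw [← hc]
        exact (MulEquiv.orderOf_eq (MulAut.conj c) b).trans hx
      rcases (Subgroup.normalClosure_normal (s := ({x} : Set G))).eq_bot_or_eq_top with hb | ht
      · have : x ∈ Subgroup.normalClosure ({x} : Set G) :=
          Subgroup.subset_normalClosure (Set.mem_singleton x)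
        rw [hb, Subgroup.mem_bot] at this
        rw [this, orderOf_one] at hx; norm_num at hx
      · rw [ht, top_le_iff] at hncl
        rw [hncl, Subgroup.card_top, h] at hNc
        norm_num at hNc
    · exact h328
  have h2a : Nat.card (Sylow 2 G) = 7 ∨ Nat.card (Sylow 2 G) = 21 := by
    obtain ⟨h1, h2, h3', h4⟩ := sylow_data (K := G) 2 3 21 (by norm_num) (by norm_num)
      (by rw [h]; norm_num) (by norm_num)
    obtain ⟨n, hn⟩ : ∃ n, Nat.card (Sylow 2 G) = n := ⟨_, rfl⟩
    rw [hn] at h1 h2 h3' h4 ⊢
    have hle : n ≤ 21 := Nat.le_of_dvd (by norm_num) h1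
    rw [h] at h4
    have h33 : n ≠ 3 := by rintro rfl; norm_num [Nat.factorial] at h4
    interval_cases n <;> omega
  have h2 : Nat.card (Sylow 2 G) = 21 := by
    rcases h2a with h27 | h221
    · exfalso
      obtain ⟨T⟩ : Nonempty (Sylow 2 G) := inferInstance
      obtain ⟨hT1, hT2⟩ := sylow_card_pow 2 T 3 21 (by rw [h]; norm_num) (by norm_num)
      set N := Subgroup.normalizer ((T : Subgroup G) : Set G) with hN
      have hNi : N.index = 7 := by
        have := Sylow.card_eq_index_normalizer T
        rw [h27] at this; exact this.symm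
      have hNc : Nat.card N = 24 := by
        have := Subgroup.card_mul_index N
        rw [hNi, h] at this; omega
      obtain ⟨x', hx'⟩ := exists_prime_orderOf_dvd_card' (G := N) 3 (by rw [hNc]; norm_num)
      obtain ⟨x, hxdef⟩ : ∃ x : G, x = (x' : G) := ⟨_, rfl⟩
      have hx : orderOf x = 3 := by rw [hxdef]; exact (Subgroup.orderOf_coe x').trans hx'
      have hxN : x ∈ N := by rw [hxdef]; exact x'.2
      set Cx := Subgroup.centralizer ({x} : Set G) with hCx
      have hmod := card_modEq_cent 3 (T : Subgroup G) x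
        (by rw [← hx]; exact pow_orderOf_eq_one x)
        (fun g hg => (Subgroup.mem_normalizer_iff.mp hxN g).mp hg)
      have hCne : Cx.subgroupOf (T : Subgroup G) ≠ ⊥ := by
        intro hbot
        rw [hbot, Subgroup.card_bot, hT1] at hmod
        unfold Nat.ModEq at hmod
        norm_num at hmod
      obtain ⟨a, ha⟩ := (Subgroup.ne_bot_iff_exists_ne_one).mp hCne
      obtain ⟨z, hzdef⟩ : ∃ z : G, z = ((a : (T : Subgroup G)) : G) := ⟨_, rfl⟩
      have hzT : z ∈ (T : Subgroup G) := by rw [hzdef]; exact (a : (T : Subgroup G)).2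
      have hz1 : z ≠ 1 := by
        intro hz
        apply ha
        apply Subtype.ext
        apply Subtype.ext
        rw [← hzdef, hz]; rfl
      have hzCx : z ∈ Cx := by
        have := a.2
        rw [Subgroup.mem_subgroupOf] at this
        rw [hzdef]; exact this
      have hxCx : x ∈ Cx := Subgroup.mem_centralizer_singleton_iff.mpr rfl
      have h3d : 3 ∣ Nat.card Cx := by rw [← hx]; exact Subgroup.orderOf_dvd_natCard Cx hxCx
      have h2d : 2 ∣ Nat.card Cx := by
        have hz8 : orderOf z ∣ 2 ^ 3 := hT1 ▸ Subgroup.orderOf_dvd_natCard _ hzT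
        obtain ⟨j, -, hj⟩ := (Nat.dvd_prime_pow Nat.prime_two).mp hz8
        have hj0 : j ≠ 0 := by
          rintro rfl
          rw [pow_zero, orderOf_eq_one_iff] at hj
          exact hz1 hj
        have : 2 ∣ orderOf z := by rw [hj]; exact dvd_pow_self 2 hj0
        exact this.trans (Subgroup.orderOf_dvd_natCard Cx hzCx)
      have h6d : 6 ∣ Nat.card Cx := by
        have : Nat.Coprime 2 3 := by norm_num
        exact this.mul_dvd_of_dvd_of_dvd h2d h3d
      obtain ⟨Q, hQ⟩ := (IsPGroup.of_card (p := 3) (n := 1)
        (by rw [Nat.card_zpowers, hx]; norm_num) : IsPGroup 3 (Subgroup.zpowers x)).exists_le_sylow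
      have hQe : (Q : Subgroup G) = Subgroup.zpowers x := by
        symm; apply Subgroup.eq_of_le_of_card_ge hQ; rw [hS3 Q, Nat.card_zpowers, hx]
      set N3 := Subgroup.normalizer ((Q : Subgroup G) : Set G) with hN3
      have hN3i : N3.index = 28 := by
        have := Sylow.card_eq_index_normalizer Q
        rw [h3] at this; exact this.symm
      have hN3c : Nat.card N3 = 6 := by
        have := Subgroup.card_mul_index N3
        rw [hN3i, h] at this; omega
      have hcomm : ∀ g ∈ Cx, ∀ b ∈ (Q : Subgroup G), g * b = b * g := by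
        intro g hg b hb
        rw [hQe] at hb
        obtain ⟨i, rfl⟩ := Subgroup.mem_zpowers_iff.mp hb
        have : Commute g x := Subgroup.mem_centralizer_singleton_iff.mp hg
        exact (Commute.zpow_right this i).eq
      have hle : Cx ≤ N3 := by
        intro g hg
        rw [Subgroup.mem_normalizer_iff]
        intro b
        constructor
        · intro hb
          have := hcomm g hg b hb
          rw [this, mul_inv_cancel_right]; exact hb
        · intro hb
          have := hcomm g hg _ hb
          have e : g * b * g⁻¹ = b := by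
            have h1 : g * (g * b * g⁻¹) = g * b := by rw [this]; group
            exact mul_left_cancel h1
          rw [← e]; exact hb
      have hCx6 : Nat.card Cx = 6 := by
        have h1 := Subgroup.card_le_of_le hle
        rw [hN3c] at h1
        have h2 := Nat.le_of_dvd Nat.card_pos h6d
        omega
      have hCN : Cx = N3 := Subgroup.eq_of_le_of_card_ge hle (by rw [hCx6, hN3c])
      refine transfer_simple Q ?_ (by rw [hS3 Q]; norm_num) (by rw [hS3 Q, h]; norm_num)
      intro g hg
      rw [Subgroup.mem_centralizer_iff]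
      intro b hb
      exact (hcomm g (by rw [hCN]; exact hg) b hb).symm
    · exact h221
  exact ⟨h2, h3, h7⟩
end


/-- A simple group of order 168 has exactly 21 Sylow 2-subgroups, 28 Sylow 3-subgroups and 8 Sylow 7-subgroups. -/
theorem result {G : Type*} [Group G] [Finite G] [IsSimpleGroup G] (h : Nat.card G = 168) : Nat.card (Sylow 2 G) = 21 ∧ Nat.card (Sylow 3 G) = 28 ∧ Nat.card (Sylow 7 G) = 8 := by
  exact aux h

end Cfsg.Agent.S1003
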