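import Cfsg.Statements.S1225
-- import your own Cfsg.Agent.* helpers here
import Mathlib
import Cfsg.Agent.Lib.helper6.Invol

set_option autoImplicit false
open Cfsg

namespace Cfsg.Agent.S1225

open Cfsg.Agent.Lib.helper6

/-- Let H be a strongly embedded subgroup of the finite group G, u an involution outside H and D = H ∩ uHu⁻¹. Then any two involutions of H are conjugate by an element of D, and any two involutions of G are conjugate in G. -/
theorem result {G : Type*} [Group G] [Finite G] (H : Subgroup G) (hH : Cfsg.IsStronglyEmbedded H) (u : G) (hu : orderOf u = 2) (huH : u ∉ H) (s t : G) (hs : orderOf s = 2) (hsH : s ∈ H) (ht : orderOf t = 2) (htH : t ∈ H) : (∃ d ∈ (H ⊓ H.map (MulAut.conj u).toMonoidHom), d * s * d⁻¹ = t) ∧ ∀ a b : G, orderOf a = 2 → orderOf b = 2 → IsConj a b := by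
  have hu1 := mul_self_of_orderOf_two hu
  have hui : u⁻¹ = u := inv_eq_self_of_mul_self hu1
  constructor
  · have ht' : orderOf (u * t * u⁻¹) = 2 := by
      have : orderOf (u * t * u⁻¹) = orderOf t := (MulAut.conj u).orderOf_eq t
      rw [this]; exact ht
    have ht'H : u * t * u⁻¹ ∉ H := fun h => huH (se_mem_of_conj_mem hH ht htH h)
    obtain ⟨i, hi, hc⟩ := se_exists_conj hH hs ht' hsH ht'H
    have hii : i⁻¹ = i := inv_eq_self_of_mul_self hi
    have hd : (u * i) * s * (u * i)⁻¹ = t := by
      have : (u * i) * s * (u * i)⁻¹ = u * (i * s * i⁻¹) * u⁻¹ := by group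
      rw [this, hc, hui]
      simp only [mul_assoc]
      rw [hu1, mul_one, ← mul_assoc, hu1, one_mul]
    have hdH : u * i ∈ H := se_mem_of_conj_mem hH hs hsH (by rw [hd]; exact htH)
    have hiu : i * u ∈ H := by
      apply se_mem_of_conj_mem hH ht htH
      have : (i * u) * t * (i * u)⁻¹ = i * (u * t * u⁻¹) * i⁻¹ := by group
      rw [this, ← hc, hii]
      simp only [mul_assoc]
      rw [hi, mul_one, ← mul_assoc, hi, one_mul]
      exact hsH
    refine ⟨u * i, ?_, hd⟩
    rw [Subgroup.mem_inf]
    refine ⟨hdH, ?_⟩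
    rw [Subgroup.mem_map]
    refine ⟨i * u, hiu, ?_⟩
    simp only [MulEquiv.coe_toMonoidHom, MulAut.conj_apply]
    rw [hui]
    simp only [mul_assoc]
    rw [hu1, mul_one]
  · have claim : ∀ a : G, orderOf a = 2 → IsConj a t := by
      intro a ha
      by_cases haH : a ∈ H
      · obtain ⟨i, -, hc⟩ := se_exists_conj hH ha hu haH huH
        obtain ⟨j, -, hc'⟩ := se_exists_conj hH ht hu htH huH
        have h1 : IsConj a u := isConj_iff.mpr ⟨i, hc⟩
        have h2 : IsConj t u := isConj_iff.mpr ⟨j, hc'⟩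
        exact h1.trans h2.symm
      · obtain ⟨i, -, hc⟩ := se_exists_conj hH ht ha htH haH
        exact (isConj_iff.mpr ⟨i, hc⟩ : IsConj t a).symm
    intro a b ha hb
    exact (claim a ha).trans (claim b hb).symm

end Cfsg.Agent.S1225
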