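import Cfsg.Statements.S5195
-- import your own Cfsg.Agent.* helpers here
import Cfsg.Agent.S5194

set_option autoImplicit false
open Cfsg

namespace Cfsg.Agent.S5195

universe u

section grp

open Cfsg.Agent.Lib.helper14 (thompsonA_le thompsonA_ne_bot hasNPC_of_coprime thompson_npc
  center_ne_bot' card_lt_of_ne_top exists_normal_complement_of_normal S4Free)
open Cfsg.Agent.Lib.helper26 (mem_normalizer_of_two_sided)
open Cfsg.Agent.S5194 (mem_thompsonA_iff mem_thompsonA_range_iff thompsonA_normalizer)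

/-- `Q` is a characteristic subgroup of `P` (both subgroups of an ambient group). -/
def CharIn {G : Type u} [Group G] (Q P : Subgroup G) : Prop :=
  Q ≤ P ∧ ∀ φ : ↥P ≃* ↥P, ∀ x : ↥P, (x : G) ∈ Q → ((φ x : ↥P) : G) ∈ Q

theorem charIn_center {G : Type u} [Group G] (P : Subgroup G) :
    CharIn (P ⊓ Subgroup.centralizer (P : Set G)) P := by
  refine ⟨inf_le_left, fun φ x hx => ⟨(φ x).2, ?_⟩⟩
  show ((φ x : ↥P) : G) ∈ Subgroup.centralizer (P : Set G)
  rw [Subgroup.mem_centralizer_iff]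
  intro y hy
  have hxc : (x : G) ∈ Subgroup.centralizer (P : Set G) := hx.2
  have h1 : φ.symm ⟨y, hy⟩ * x = x * φ.symm ⟨y, hy⟩ :=
    Subtype.ext (Subgroup.mem_centralizer_iff.1 hxc _ (φ.symm ⟨y, hy⟩).2)
  have h2 := congrArg (fun z : ↥P => ((φ z : ↥P) : G)) h1
  simp only [map_mul, MulEquiv.apply_symm_apply, Subgroup.coe_mul] at h2
  exact h2

theorem charIn_thompsonA {G : Type u} [Group G] (P : Subgroup G) :
    CharIn (Cfsg.thompsonSubgroupAOf P) P := by
  refine ⟨thompsonA_le P, fun φ x hx => ?_⟩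
  obtain ⟨a, ha, hax⟩ := (mem_thompsonA_iff P (x : G)).1 hx
  have hax' : a = x := Subtype.ext hax
  subst hax'
  have h1 : φ.toMonoidHom a ∈ Cfsg.thompsonSubgroupAOf (φ.toMonoidHom.range) :=
    (mem_thompsonA_range_iff φ.toMonoidHom φ.injective _).2 ⟨a, ha, rfl⟩
  rw [MonoidHom.range_eq_top.2 φ.surjective] at h1
  exact (mem_thompsonA_iff P _).2 ⟨φ a, h1, rfl⟩

/-- automorphisms of `P` descend to the image of `P` in a quotient by a characteristic subgroup -/
theorem quot_aut {G : Type u} [Group G] [Finite G] (P A : Subgroup G) [A.Normal]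
    (hA : CharIn A P) (φ : ↥P ≃* ↥P) :
    ∃ φ' : ↥(P.map (QuotientGroup.mk' A)) ≃* ↥(P.map (QuotientGroup.mk' A)),
      ∀ (x : ↥P) (hx : (QuotientGroup.mk' A) (x : G) ∈ P.map (QuotientGroup.mk' A)),
        ((φ' ⟨(QuotientGroup.mk' A) (x : G), hx⟩ : ↥(P.map (QuotientGroup.mk' A))) : G ⧸ A) =
          (QuotientGroup.mk' A) ((φ x : ↥P) : G) := by
  classical
  have key : ∀ (ψ : ↥P ≃* ↥P) (x y : ↥P), (QuotientGroup.mk' A) (x : G) =
      (QuotientGroup.mk' A) (y : G) →
      (QuotientGroup.mk' A) ((ψ x : ↥P) : G) = (QuotientGroup.mk' A) ((ψ y : ↥P) : G) := by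
    intro ψ x y hxy
    have h1 : ((x⁻¹ * y : ↥P) : G) ∈ A := by
      have h := QuotientGroup.eq.1 hxy
      exact h
    have h2 := hA.2 ψ (x⁻¹ * y) h1
    rw [map_mul, map_inv] at h2
    exact QuotientGroup.eq.2 h2
  have hpick : ∀ y : ↥(P.map (QuotientGroup.mk' A)), ∃ x : ↥P,
      (QuotientGroup.mk' A) (x : G) = (y : G ⧸ A) := by
    rintro ⟨y, x, hx, rfl⟩
    exact ⟨⟨x, hx⟩, rfl⟩
  choose r hr using hpick
  have hmem : ∀ x : ↥P, (QuotientGroup.mk' A) (x : G) ∈ P.map (QuotientGroup.mk' A) :=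
    fun x => Subgroup.mem_map_of_mem _ x.2
  obtain ⟨f, hf⟩ : ∃ f : ↥(P.map (QuotientGroup.mk' A)) →* ↥(P.map (QuotientGroup.mk' A)),
      ∀ y, ((f y : ↥(P.map (QuotientGroup.mk' A))) : G ⧸ A) =
        (QuotientGroup.mk' A) ((φ (r y) : ↥P) : G) := by
    refine ⟨MonoidHom.mk' (fun y => ⟨(QuotientGroup.mk' A) ((φ (r y) : ↥P) : G), hmem _⟩) ?_,
      fun y => rfl⟩
    intro a b
    apply Subtype.ext
    show (QuotientGroup.mk' A) ((φ (r (a * b)) : ↥P) : G) =
      (QuotientGroup.mk' A) ((φ (r a) : ↥P) : G) * (QuotientGroup.mk' A) ((φ (r b) : ↥P) : G)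
    rw [← map_mul, ← Subgroup.coe_mul, ← map_mul]
    apply key
    rw [hr, Subgroup.coe_mul, Subgroup.coe_mul, map_mul, hr, hr]
  have hfx : ∀ (x : ↥P) (hx : (QuotientGroup.mk' A) (x : G) ∈ P.map (QuotientGroup.mk' A)),
      ((f ⟨(QuotientGroup.mk' A) (x : G), hx⟩ : ↥(P.map (QuotientGroup.mk' A))) : G ⧸ A) =
        (QuotientGroup.mk' A) ((φ x : ↥P) : G) := by
    intro x hx
    rw [hf]
    apply key
    exact hr _
  have hinj : Function.Injective f := by
    intro a b hab
    have h1 : (QuotientGroup.mk' A) ((φ (r a) : ↥P) : G) =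
        (QuotientGroup.mk' A) ((φ (r b) : ↥P) : G) := by
      rw [← hf, ← hf, hab]
    have h2 := key φ.symm _ _ h1
    rw [MulEquiv.symm_apply_apply, MulEquiv.symm_apply_apply, hr, hr] at h2
    exact Subtype.ext h2
  have hsurj := Finite.injective_iff_surjective.1 hinj
  exact ⟨MulEquiv.ofBijective f ⟨hinj, hsurj⟩, fun x hx => hfx x hx⟩

theorem npc_of_quot {p : ℕ} [Fact p.Prime] {G : Type u} [Group G] [Finite G] (A : Subgroup G)
    [hAn : A.Normal]
    (hA : ∀ g : G, ∃ m : ℕ, ∀ a ∈ A, g ^ (p ^ m) * a = a * g ^ (p ^ m))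
    (h : Cfsg.HasNormalPComplement p (G ⧸ A)) : Cfsg.HasNormalPComplement p G := by
  have hp : p.Prime := Fact.out
  rw [Cfsg.Agent.S0072.hasNormalPComplement_iff] at h
  obtain ⟨K, hKn, hKc, a, ha⟩ := h
  obtain ⟨L, hL⟩ : ∃ L : Subgroup G, L = K.comap (QuotientGroup.mk' A) := ⟨_, rfl⟩
  haveI hLn : L.Normal := by rw [hL]; exact hKn.comap _
  have hLmem : ∀ x : G, x ∈ L ↔ (QuotientGroup.mk' A) x ∈ K := by
    intro x; rw [hL]; exact Subgroup.mem_comap
  have hcent : ∀ g : G, (orderOf g).Coprime p → ∀ a ∈ A, g * a = a * g := by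
    intro g hg
    obtain ⟨m, hm⟩ := hA g
    have hc : (p ^ m).Coprime (orderOf g) := (Nat.Coprime.pow_right m hg).symm
    obtain ⟨j, hj⟩ := exists_pow_eq_self_of_coprime hc
    intro a ha
    have h1 : ∀ i : ℕ, (g ^ (p ^ m)) ^ i * a = a * (g ^ (p ^ m)) ^ i := by
      intro i
      induction i with
      | zero => rw [pow_zero, one_mul, mul_one]
      | succ i ih => rw [pow_succ, mul_assoc, hm a ha, ← mul_assoc, ih, mul_assoc]
    have h2 := h1 j
    rw [hj] at h2; exact h2
  have hFrob : Cfsg.Agent.Lib.lead.Frob p ↥L := by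
    intro Q hQ g hg hcop
    rw [Subgroup.mem_centralizer_iff]
    intro x hx
    have hxA : ((x : ↥L) : G) ∈ A := by
      obtain ⟨k, hk⟩ := hQ ⟨x, hx⟩
      have hk' : ((x : ↥L) : G) ^ (p ^ k) = 1 := by
        have h := congrArg (fun z : ↥Q => ((z : ↥L) : G)) hk
        simpa using h
      have hxK : (QuotientGroup.mk' A) ((x : ↥L) : G) ∈ K := (hLmem _).1 x.2
      have h1 : orderOf ((QuotientGroup.mk' A) ((x : ↥L) : G)) ∣ p ^ k := by
        apply orderOf_dvd_of_pow_eq_one
        rw [← map_pow, hk', map_one]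
      have h2 : orderOf ((QuotientGroup.mk' A) ((x : ↥L) : G)) ∣ Nat.card K := by
        have h := orderOf_dvd_natCard (⟨_, hxK⟩ : ↥K)
        rw [← Subgroup.orderOf_coe] at h
        exact h
      have hcop' : Nat.Coprime (p ^ k) (Nat.card K) := (Nat.Coprime.pow_right k hKc).symm
      have h3 : orderOf ((QuotientGroup.mk' A) ((x : ↥L) : G)) = 1 :=
        Nat.Coprime.eq_one_of_dvd (Nat.Coprime.coprime_dvd_left h1 hcop') h2
      rw [orderOf_eq_one_iff] at h3
      exact (QuotientGroup.eq_one_iff _).1 h3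
    have hgord : (orderOf ((g : ↥L) : G)).Coprime p := by
      rw [Subgroup.orderOf_coe]; exact hcop
    have h4 := hcent (g : G) hgord (x : G) hxA
    apply Subtype.ext
    exact h4.symm
  obtain ⟨D₀, hD₀n, hD₀c, b, hD₀i⟩ :=
    Cfsg.Agent.Lib.lead.frob_main (Nat.card ↥L) ↥L p le_rfl hFrob
  have hNPC : Cfsg.HasNormalPComplement p ↥L := by
    rw [Cfsg.Agent.S0072.hasNormalPComplement_iff]; exact ⟨D₀, hD₀n, hD₀c, b, hD₀i⟩
  obtain ⟨D, hDn, hDL, hDc, c, hDcard⟩ := exists_normal_complement_of_normal L hNPC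
  rw [Cfsg.Agent.S0072.hasNormalPComplement_iff]
  refine ⟨D, hDn, hDc, a + c, ?_⟩
  have h1 : L.index = p ^ a := by
    rw [hL, Subgroup.index_comap_of_surjective _ (QuotientGroup.mk'_surjective A)]; exact ha
  have e1 := Subgroup.card_mul_index D
  have e2 := Subgroup.card_mul_index L
  have e3 : Nat.card ↥D * D.index = Nat.card ↥D * p ^ (a + c) := by
    rw [e1, ← e2, hDcard, h1, pow_add]; ring
  exact Nat.eq_of_mul_eq_mul_left Nat.card_pos e3

/-- the strengthened Frobenius normal `p`-complement criterion for groups -/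
theorem sf_npc {p : ℕ} [Fact p.Prime] : ∀ (n : ℕ) (G : Type u) [Group G] [Finite G],
    Nat.card G = n → ∀ (P : Sylow p G),
    (p ≠ 2 ∨ ¬ Cfsg.Involves (Equiv.Perm (Fin 4)) G) →
    (∀ Q : Subgroup G, CharIn Q (P : Subgroup G) → Q ≠ ⊥ → ∀ g : G,
      (∀ x ∈ Q, g * x * g⁻¹ ∈ Q) → ∃ m : ℕ, ∀ x ∈ Q, g ^ (p ^ m) * x = x * g ^ (p ^ m)) →
    Cfsg.HasNormalPComplement p G := by
  intro n
  induction n using Nat.strong_induction_on with
  | _ n IH =>
  intro G _ _ hn P h4 H
  have hp : p.Prime := Fact.out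
  by_cases hP : (P : Subgroup G) = ⊥
  · apply hasNPC_of_coprime
    have h := P.not_dvd_index
    rw [hP, Subgroup.index_bot] at h
    exact ((Nat.Prime.coprime_iff_not_dvd hp).2 h).symm
  -- subgroups containing `P`
  have hsub : ∀ M : Subgroup G, (P : Subgroup G) ≤ M → M ≠ ⊤ →
      Cfsg.HasNormalPComplement p ↥M := by
    intro M hPM hM
    have hlt : Nat.card ↥M < n := by rw [← hn]; exact card_lt_of_ne_top hM
    refine IH _ hlt ↥M rfl (P.subtype hPM) ((S4Free p).sub G M h4) ?_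
    intro Q' hchar' hQ'ne g hg
    rw [Sylow.coe_subtype] at hchar'
    obtain ⟨e, he, hes⟩ : ∃ e : ↥((P : Subgroup G).subgroupOf M) ≃* ↥(P : Subgroup G),
        (∀ x, ((e x : ↥(P : Subgroup G)) : G) = ((x : ↥M) : G)) ∧
        (∀ z, (((e.symm z : ↥((P : Subgroup G).subgroupOf M)) : ↥M) : G) = (z : G)) :=
      ⟨{ toFun := fun x => ⟨((x : ↥M) : G), Subgroup.mem_subgroupOf.1 x.2⟩
         invFun := fun z => ⟨⟨z, hPM z.2⟩, Subgroup.mem_subgroupOf.2 z.2⟩
         left_inv := fun x => rfl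
         right_inv := fun z => rfl
         map_mul' := fun a b => rfl }, fun x => rfl, fun z => rfl⟩
    have hQchar : CharIn (Q'.map M.subtype) (P : Subgroup G) := by
      refine ⟨?_, ?_⟩
      · rintro _ ⟨y, hy, rfl⟩
        exact Subgroup.mem_subgroupOf.1 (hchar'.1 hy)
      · intro φ x hx
        obtain ⟨y, hy, hyx⟩ := hx
        have hy' : y ∈ (P : Subgroup G).subgroupOf M := hchar'.1 hy
        have h1 := hchar'.2 (e.trans (φ.trans e.symm)) ⟨y, hy'⟩ hy
        refine ⟨_, h1, ?_⟩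
        have h2 : e ⟨y, hy'⟩ = x := Subtype.ext ((he _).trans hyx)
        show ((((e.trans (φ.trans e.symm)) ⟨y, hy'⟩ :
          ↥((P : Subgroup G).subgroupOf M)) : ↥M) : G) = _
        have h3 : (e.trans (φ.trans e.symm)) ⟨y, hy'⟩ = e.symm (φ (e ⟨y, hy'⟩)) := rfl
        rw [h3, hes, h2]
    have hQne : Q'.map M.subtype ≠ ⊥ := by
      intro h0
      exact hQ'ne ((Subgroup.map_eq_bot_iff_of_injective _ M.subtype_injective).1 h0)
    obtain ⟨m, hm⟩ := H _ hQchar hQne (g : G) (by
      rintro _ ⟨y, hy, rfl⟩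
      exact ⟨g * y * g⁻¹, hg y hy, rfl⟩)
    refine ⟨m, fun y hy => ?_⟩
    apply Subtype.ext
    have h1 := hm (y : G) ⟨y, hy, rfl⟩
    simpa using h1
  -- quotients by characteristic subgroups
  have hquot : ∀ (A : Subgroup G) [A.Normal], CharIn A (P : Subgroup G) → A ≠ ⊥ →
      Cfsg.HasNormalPComplement p (G ⧸ A) := by
    intro A hAn hAchar hAne
    haveI := hAn
    have hlt : Nat.card (G ⧸ A) < n := by
      have h1 := Subgroup.card_eq_card_quotient_mul_card_subgroup A
      have h2 : 1 < Nat.card ↥A := (Subgroup.one_lt_card_iff_ne_bot A).2 hAne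
      have h3 : 0 < Nat.card (G ⧸ A) := Nat.card_pos
      rw [← hn, h1]
      nlinarith
    refine IH _ hlt (G ⧸ A) rfl (P.mapSurjective (QuotientGroup.mk'_surjective A))
      ((S4Free p).quot G A h4) ?_
    intro Q' hchar' hQ'ne g' hg'
    rw [Sylow.coe_mapSurjective] at hchar'
    have hQP : Q'.comap (QuotientGroup.mk' A) ≤ (P : Subgroup G) := by
      intro x hx
      have h1 : (QuotientGroup.mk' A) x ∈ (P : Subgroup G).map (QuotientGroup.mk' A) :=
        hchar'.1 (Subgroup.mem_comap.1 hx)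
      obtain ⟨y, hy, hyx⟩ := h1
      have h2 : y⁻¹ * x ∈ A := QuotientGroup.eq.1 hyx
      have h3 : x = y * (y⁻¹ * x) := by group
      rw [h3]
      exact Subgroup.mul_mem _ hy (hAchar.1 h2)
    have hQchar : CharIn (Q'.comap (QuotientGroup.mk' A)) (P : Subgroup G) := by
      refine ⟨hQP, ?_⟩
      intro φ x hx
      obtain ⟨φ', hφ'⟩ := quot_aut (P : Subgroup G) A hAchar φ
      have hxm : (QuotientGroup.mk' A) (x : G) ∈ (P : Subgroup G).map (QuotientGroup.mk' A) :=
        Subgroup.mem_map_of_mem _ x.2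
      have h1 := hchar'.2 φ' ⟨_, hxm⟩ (Subgroup.mem_comap.1 hx)
      rw [hφ' x hxm] at h1
      exact Subgroup.mem_comap.2 h1
    have hQne : Q'.comap (QuotientGroup.mk' A) ≠ ⊥ := by
      intro h0
      apply hAne
      rw [eq_bot_iff]
      intro a ha
      have h1 : a ∈ Q'.comap (QuotientGroup.mk' A) := by
        apply Subgroup.mem_comap.2
        have h2 : (QuotientGroup.mk' A) a = 1 := (QuotientGroup.eq_one_iff a).2 ha
        rw [h2]; exact Subgroup.one_mem _
      rw [h0] at h1; exact h1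
    obtain ⟨g, rfl⟩ := QuotientGroup.mk'_surjective A g'
    obtain ⟨m, hm⟩ := H _ hQchar hQne g (by
      intro x hx
      apply Subgroup.mem_comap.2
      have h1 := hg' _ (Subgroup.mem_comap.1 hx)
      rw [map_mul, map_mul, map_inv]
      exact h1)
    refine ⟨m, fun y' hy' => ?_⟩
    obtain ⟨y, rfl⟩ := QuotientGroup.mk'_surjective A y'
    have h1 := hm y (Subgroup.mem_comap.2 hy')
    rw [← map_pow, ← map_mul, ← map_mul, h1]
  have hZchar := charIn_center (P : Subgroup G)
  have hZne := center_ne_bot' (P : Subgroup G) P.isPGroup' hP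
  have hJchar := charIn_thompsonA (P : Subgroup G)
  have hJne := thompsonA_ne_bot (P : Subgroup G) hP
  by_cases hZc : Subgroup.centralizer
      (((P : Subgroup G) ⊓ Subgroup.centralizer ((P : Subgroup G) : Set G) : Subgroup G) :
        Set G) = ⊤
  · have hcomm : ∀ (g : G), ∀ z ∈ (P : Subgroup G) ⊓
        Subgroup.centralizer ((P : Subgroup G) : Set G), z * g = g * z := by
      intro g z hz
      have hg : g ∈ Subgroup.centralizer
          (((P : Subgroup G) ⊓ Subgroup.centralizer ((P : Subgroup G) : Set G) : Subgroup G) :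
            Set G) := by rw [hZc]; exact Subgroup.mem_top g
      exact Subgroup.mem_centralizer_iff.1 hg z hz
    have hZn : ((P : Subgroup G) ⊓ Subgroup.centralizer ((P : Subgroup G) : Set G)).Normal := by
      refine ⟨fun z hz g => ?_⟩
      have e : g * z * g⁻¹ = z := by rw [← hcomm g z hz]; group
      rw [e]; exact hz
    haveI := hZn
    refine npc_of_quot _ (fun g => ⟨0, fun a ha => ?_⟩) (hquot _ hZchar hZne)
    rw [pow_zero, pow_one]
    exact (hcomm g a ha).symm
  by_cases hJn : Subgroup.normalizer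
      ((Cfsg.thompsonSubgroupAOf (P : Subgroup G) : Subgroup G) : Set G) = ⊤
  · have hJnorm : (Cfsg.thompsonSubgroupAOf (P : Subgroup G)).Normal := by
      refine ⟨fun x hx g => ?_⟩
      have hg : g ∈ Subgroup.normalizer
          ((Cfsg.thompsonSubgroupAOf (P : Subgroup G) : Subgroup G) : Set G) := by
        rw [hJn]; exact Subgroup.mem_top g
      exact (Subgroup.mem_normalizer_iff.1 hg x).1 hx
    haveI := hJnorm
    exact npc_of_quot _ (fun g => H _ hJchar hJne g (fun x hx => hJnorm.conj_mem x hx g))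
      (hquot _ hJchar hJne)
  apply thompson_npc P h4
  · apply hsub _ _ hZc
    intro y hy
    rw [Subgroup.mem_centralizer_iff]
    intro z hz
    have hzc : z ∈ Subgroup.centralizer ((P : Subgroup G) : Set G) := hz.2
    exact (Subgroup.mem_centralizer_iff.1 hzc y hy).symm
  · apply hsub _ _ hJn
    intro y hy
    exact thompsonA_normalizer (P : Subgroup G) y (Subgroup.le_normalizer hy)

end grp

section fus8

open Cfsg.FusionSystem
open Cfsg.Agent.Lib.helper26 (finite_of_le restrict_mem exists_iso_of_mem IsIso isConj_symm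
  isConj_refl isConj_le_right isConj_card mem_autGroup_iff exists_extension_centralizer
  mem_normalizer_of_two_sided conjAut exists_fullyNormalized_conj isCentric_of_isConj
  exists_normalizerIn_not_mem le_extender centralizerIn_le_extender
  centralizerIn_le_normalizerIn pCore_le_sylow pCore_normal)
open Cfsg.Agent.Lib.helper25 (alperin_goldschmidt_induction le_normalizerIn_self
  normalizerSystem isNormalizerSystem_normalizerSystem
  normalizerSystem_saturated isNormal_of_isNormalizerSystem isCentric_of_isNormalizerSystem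
  realHom realHom_mem_S map_realHom realHom_mem hom_congr)
open Cfsg.Agent.S5253 (range_eq_of_into range_aut self_normalizerHom isCentric_self
  normalizerIn_le_sup centric_sup_centralizer)
open Cfsg.Agent.S5194 (transport_inner eq_top_of_npc)

variable {Ω : Type u} [Group Ω] {S : Subgroup Ω}

theorem core_fn [Finite S] (p : ℕ) [Fact p.Prime] (hS : IsPGroup p S) (F : FusionSystem S)
    (hF : F.IsSaturated p) (hp : p ≠ 2 ∨ F.IsSectionFree p (Equiv.Perm (Fin 4)))
    (R : Subgroup Ω) (hRc : F.IsCentric R) (hRfn : F.IsFullyNormalized R)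
    (Hsub : ∀ Q : Subgroup Ω, CharIn Q (normalizerIn S R) → Q ≠ ⊥ →
      ∀ e : MulAut ↥Q, IsIso F e → ∃ m : ℕ, ∀ x : ↥Q, (e ^ (p ^ m)) x = x)
    (φ : ↥R →* Ω) (hφ : φ ∈ F.Hom R) (hrange : φ.range = R) :
    ∃ s ∈ S, ∀ x : ↥R, φ x = s * x * s⁻¹ := by
  classical
  have hRS : R ≤ S := hRc.1
  have hTS : normalizerIn S R ≤ S := inf_le_left
  have hRT : R ≤ normalizerIn S R := le_normalizerIn_self hRS
  have hpT : IsPGroup p ↥(normalizerIn S R) := hS.to_le hTS
  haveI : Finite ↥(normalizerIn S R) := finite_of_le hTS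
  have hNR := isNormalizerSystem_normalizerSystem F R hRS
  have hsat := normalizerSystem_saturated hS F hF R hRfn _ hNR
  have hn := isNormal_of_isNormalizerSystem F hRS _ hNR
  have hcN := isCentric_of_isNormalizerSystem F hRc _ hNR
  obtain ⟨G, _, ι, hG⟩ := Cfsg.Agent.Lib.helper7.Model.exists_model_of hpT
    (normalizerSystem F R hRS) hsat R hn hcN
  have hG' := hG
  obtain ⟨hGfin, ⟨hιinj, hreal⟩, ⟨TG, hTG⟩, hGcen⟩ := hG
  haveI := hGfin
  have hr : (normalizerSystem F R hRS).IsRealizedBy ι := ⟨hιinj, hreal⟩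
  obtain ⟨eι, heι⟩ : ∃ eι : ↥(normalizerIn S R) ≃* ↥ι.range,
      ∀ t, ((eι t : ι.range) : G) = ι t := ⟨MonoidHom.ofInjective hιinj, fun t => rfl⟩
  have hinv : p ≠ 2 ∨ ¬ Cfsg.Involves (Equiv.Perm (Fin 4)) G := by
    rcases hp with h | h
    · exact Or.inl h
    · exact Or.inr (h R hRfn hRc _ hNR G ι hG')
  have hnpc : Cfsg.HasNormalPComplement p G := by
    refine sf_npc (Nat.card G) G rfl TG hinv ?_
    intro Q' hchar' hQ'ne g hg
    rw [hTG] at hchar'
    obtain ⟨Q, hQ⟩ : ∃ Q : Subgroup Ω, Q = (Q'.comap ι).map (normalizerIn S R).subtype :=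
      ⟨_, rfl⟩
    have hQmem : ∀ x : Ω, x ∈ Q ↔ ∃ hx : x ∈ normalizerIn S R, ι ⟨x, hx⟩ ∈ Q' := by
      intro x
      rw [hQ]
      constructor
      · rintro ⟨t, ht, rfl⟩
        exact ⟨t.2, ht⟩
      · rintro ⟨hx, h⟩
        exact ⟨⟨x, hx⟩, h, rfl⟩
    have hQT : Q ≤ normalizerIn S R := fun x hx => ((hQmem x).1 hx).1
    have hQS : Q ≤ S := hQT.trans hTS
    haveI : Finite ↥Q := finite_of_le hQS
    have hQchar : CharIn Q (normalizerIn S R) := by
      refine ⟨hQT, fun θ x hx => ?_⟩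
      obtain ⟨hx1, hx2⟩ := (hQmem _).1 hx
      have h1 := hchar'.2 (eι.symm.trans (θ.trans eι)) (eι x) (by rw [heι]; exact hx2)
      have h2 : (eι.symm.trans (θ.trans eι)) (eι x) = eι (θ x) := by simp
      rw [h2, heι] at h1
      exact (hQmem _).2 ⟨(θ x).2, h1⟩
    have hQne : Q ≠ ⊥ := by
      intro h0
      apply hQ'ne
      rw [eq_bot_iff]
      intro y hy
      obtain ⟨t, rfl⟩ := hchar'.1 hy
      have h1 : (t : Ω) ∈ Q := (hQmem _).2 ⟨t.2, hy⟩
      rw [h0, Subgroup.mem_bot] at h1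
      have h2 : t = 1 := Subtype.ext h1
      rw [h2, map_one]; exact Subgroup.one_mem _
    have hgr : ∀ x : Q, g * ι ⟨x, hQT x.2⟩ * g⁻¹ ∈ ι.range := fun x =>
      hchar'.1 (hg _ ((hQmem x).1 x.2).2)
    have hβF : realHom ι hιinj hQT g hgr ∈ F.Hom Q := by
      have h := realHom_mem (normalizerSystem F R hRS) ι hr hQT g hgr
      rw [hNR Q] at h; exact h.1
    have hβι : ∀ x : Q, ι ⟨realHom ι hιinj hQT g hgr x, realHom_mem_S ι hιinj hQT g hgr x⟩ =
        g * ι ⟨x, hQT x.2⟩ * g⁻¹ := map_realHom ι hιinj hQT g hgr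
    have hinto : ∀ x : Q, realHom ι hιinj hQT g hgr x ∈ Q := by
      intro x
      refine (hQmem _).2 ⟨realHom_mem_S ι hιinj hQT g hgr x, ?_⟩
      rw [hβι x]
      exact hg _ ((hQmem x).1 x.2).2
    have hrβ := range_eq_of_into F _ hβF hinto
    obtain ⟨e, he, hex⟩ := exists_iso_of_mem F hβF hrβ
    obtain ⟨m, hm⟩ := Hsub Q hQchar hQne e he
    have hiter : ∀ (j : ℕ) (x : Q),
        ι ⟨(((e ^ j : MulAut ↥Q) x : Q) : Ω), hQT ((e ^ j : MulAut ↥Q) x).2⟩ =
          g ^ j * ι ⟨x, hQT x.2⟩ * (g ^ j)⁻¹ := by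
      intro j
      induction j with
      | zero =>
        intro x
        rw [pow_zero, pow_zero, one_mul, inv_one, mul_one]
        rfl
      | succ j ih =>
        intro x
        have h1 : (e ^ (j + 1) : MulAut ↥Q) x = e ((e ^ j : MulAut ↥Q) x) := by
          rw [pow_succ']; rfl
        have h2 := hβι ((e ^ j : MulAut ↥Q) x)
        have h3 := hex ((e ^ j : MulAut ↥Q) x)
        have e1 : (⟨(((e ^ (j + 1) : MulAut ↥Q) x : Q) : Ω),
            hQT ((e ^ (j + 1) : MulAut ↥Q) x).2⟩ : ↥(normalizerIn S R)) =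
            ⟨realHom ι hιinj hQT g hgr ((e ^ j : MulAut ↥Q) x),
              realHom_mem_S ι hιinj hQT g hgr _⟩ := by
          apply Subtype.ext
          show (((e ^ (j + 1) : MulAut ↥Q) x : Q) : Ω) = _
          rw [h1]; exact h3
        rw [e1, h2, ih x, pow_succ']
        group
    refine ⟨m, fun y hy => ?_⟩
    obtain ⟨t, rfl⟩ := hchar'.1 hy
    have htQ : (t : Ω) ∈ Q := (hQmem _).2 ⟨t.2, hy⟩
    have h1 := hiter (p ^ m) ⟨t, htQ⟩
    have e2 : (⟨(((e ^ (p ^ m) : MulAut ↥Q) ⟨t, htQ⟩ : Q) : Ω),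
        hQT ((e ^ (p ^ m) : MulAut ↥Q) ⟨t, htQ⟩).2⟩ : ↥(normalizerIn S R)) = t := by
      apply Subtype.ext
      show (((e ^ (p ^ m) : MulAut ↥Q) ⟨t, htQ⟩ : Q) : Ω) = _
      rw [hm ⟨t, htQ⟩]
    rw [e2] at h1
    have h1' : ι t = g ^ (p ^ m) * ι t * (g ^ (p ^ m))⁻¹ := h1
    calc g ^ (p ^ m) * ι t = (g ^ (p ^ m) * ι t * (g ^ (p ^ m))⁻¹) * g ^ (p ^ m) := by group
      _ = ι t * g ^ (p ^ m) := by rw [← h1']
  have htop : ι.range = ⊤ := by rw [← hTG]; exact eq_top_of_npc TG hGcen hnpc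
  have hvalφ : ∀ x : R, φ x ∈ normalizerIn S R := fun x => by
    have h : φ x ∈ φ.range := ⟨x, rfl⟩
    rw [hrange] at h; exact hRT h
  have hφN : φ ∈ (normalizerSystem F R hRS).Hom R := by
    rw [hNR R]; exact self_normalizerHom F hRS φ hφ hrange
  obtain ⟨g, hg⟩ := (hreal R hRT φ hvalφ).1 hφN
  have hgr : g ∈ ι.range := by rw [htop]; exact Subgroup.mem_top g
  obtain ⟨t, rfl⟩ := hgr
  refine ⟨t, hTS t.2, fun x => ?_⟩
  have h1 := hg x
  have h2 : (⟨φ x, hvalφ x⟩ : ↥(normalizerIn S R)) = t * ⟨x, hRT x.2⟩ * t⁻¹ := by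
    apply hιinj
    rw [map_mul, map_mul, map_inv]
    exact h1
  exact congrArg Subtype.val h2

theorem inner_of_char [Finite S] (p : ℕ) [Fact p.Prime] (hS : IsPGroup p S) (F : FusionSystem S)
    (hF : F.IsSaturated p) (hp : p ≠ 2 ∨ F.IsSectionFree p (Equiv.Perm (Fin 4)))
    (h : ∀ Q : Subgroup Ω, Q ≤ S → Q ≠ ⊥ → (Q.subgroupOf S).Characteristic →
      IsPGroup p (F.autGroup Q)) :
    ∀ (X : Subgroup Ω) (ψ : X →* Ω), ψ ∈ F.Hom X → ∃ s ∈ S, ∀ x : X, ψ x = s * x * s⁻¹ := by
  classical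
  -- the case `N_S(R) = S`
  have hfnS : ∀ R : Subgroup Ω, F.IsCentric R → F.IsFullyNormalized R →
      normalizerIn S R = S →
      ∀ φ ∈ F.Hom R, φ.range = R → ∃ s ∈ S, ∀ x : R, φ x = s * x * s⁻¹ := by
    intro R hRc hRfn hTeq φ hφ hrange
    refine core_fn p hS F hF hp R hRc hRfn ?_ φ hφ hrange
    intro Q hQchar hQne e he
    have hQS : Q ≤ S := hQchar.1.trans inf_le_left
    have hchar : (Q.subgroupOf S).Characteristic := by
      rw [Subgroup.characteristic_iff_map_le]
      intro ϕ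
      rintro _ ⟨x, hx, rfl⟩
      have hxQ : (x : Ω) ∈ Q := Subgroup.mem_subgroupOf.1 hx
      obtain ⟨c, hc, hcs⟩ : ∃ c : ↥(normalizerIn S R) ≃* ↥S,
          (∀ t, ((c t : ↥S) : Ω) = t) ∧ (∀ z, ((c.symm z : ↥(normalizerIn S R)) : Ω) = z) :=
        ⟨MulEquiv.subgroupCongr hTeq, fun t => rfl, fun z => rfl⟩
      have h1 := hQchar.2 (c.trans (ϕ.trans c.symm)) (c.symm x) (by rw [hcs]; exact hxQ)
      have h2 : (c.trans (ϕ.trans c.symm)) (c.symm x) = c.symm (ϕ x) := by simp
      rw [h2, hcs] at h1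
      exact Subgroup.mem_subgroupOf.2 h1
    have hpg := h Q hQS hQne hchar
    have hmem : e ∈ F.autGroup Q := (mem_autGroup_iff F hQS e).2 he
    obtain ⟨m, hm⟩ := hpg ⟨e, hmem⟩
    refine ⟨m, fun x => ?_⟩
    have h1 : e ^ (p ^ m) = 1 := by
      have h2 := congrArg (fun z : ↥(F.autGroup Q) => (z : MulAut ↥Q)) hm
      simpa using h2
    rw [h1]; rfl
  have hSN : normalizerIn S S = S := le_antisymm inf_le_left (le_normalizerIn_self le_rfl)
  have hSfn : F.IsFullyNormalized S := by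
    refine ⟨le_rfl, fun Q _ => ?_⟩
    rw [hSN]
    exact Subgroup.card_le_of_le inf_le_left
  have hbase : ∀ T : Subgroup Ω, T = S → ∀ ψ ∈ F.Hom T, ψ.range = T →
      ∃ s ∈ S, ∀ x : T, ψ x = s * x * s⁻¹ := by
    intro T hT ψ hψ hr
    subst hT
    exact hfnS _ (isCentric_self F) hSfn hSN ψ hψ hr
  have main : ∀ (k : ℕ) (R : Subgroup Ω), F.IsCentric R →
      Nat.card S - Nat.card ↥(normalizerIn S R) = k →
      ∀ φ ∈ F.Hom R, φ.range = R → ∃ s ∈ S, ∀ x : R, φ x = s * x * s⁻¹ := by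
    intro k
    induction k using Nat.strong_induction_on with
    | _ k IH =>
    have star : ∀ (X : Subgroup Ω) (ψ : X →* Ω), ψ ∈ F.Hom X →
        Nat.card S - k ≤ Nat.card X → ∃ s ∈ S, ∀ x : X, ψ x = s * x * s⁻¹ := by
      apply alperin_goldschmidt_induction hS F hF
        (fun U ψ => Nat.card S - k ≤ Nat.card U → ∃ s ∈ S, ∀ x : U, ψ x = s * x * s⁻¹)
      · intro U V φ h hφ hPr hcard
        haveI : Finite V := finite_of_le (F.le_of_mem hφ).1
        obtain ⟨s, hs, hsx⟩ := hPr (hcard.trans (Subgroup.card_le_of_le h))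
        exact ⟨s, hs, fun x => hsx (Subgroup.inclusion h x)⟩
      · intro U V φ ψ' hval hφ hψ' hPrφ hPrψ hcard
        haveI : Finite V := finite_of_le (F.le_of_mem hψ').1
        obtain ⟨s, hs, hsx⟩ := hPrφ hcard
        have hinj : Function.Injective (φ.codRestrict V hval) := by
          intro a b hab
          exact F.injective_of_mem hφ (congrArg Subtype.val hab)
        have hcard' : Nat.card S - k ≤ Nat.card V :=
          hcard.trans (Nat.card_le_card_of_injective _ hinj)
        obtain ⟨t, ht, htx⟩ := hPrψ hcard'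
        refine ⟨t * s, S.mul_mem ht hs, fun x => ?_⟩
        have h1 := htx ((φ.codRestrict V hval) x)
        have h2 : ((φ.codRestrict V hval) x : Ω) = s * x * s⁻¹ := hsx x
        rw [h2] at h1
        show ψ' ((φ.codRestrict V hval) x) = _
        rw [h1]; group
      · intro W' hW' α hα hcard
        have hW'S : W' ≤ S := (F.le_of_mem hα).1
        have hrα : (W'.subtype.comp α.toMonoidHom).range = W' := range_aut α
        by_cases hW'eq : W' = S
        · exact hbase W' hW'eq _ hα hrα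
        · have hess : F.IsEssential p W' := hW'.resolve_left hW'eq
          obtain ⟨g₀, hg₀N, hg₀W⟩ := exists_normalizerIn_not_mem hS hW'S hW'eq
          have hlt : Nat.card W' < Nat.card ↥(normalizerIn S W') := by
            by_contra hcon
            have h := Subgroup.eq_of_le_of_card_ge (le_normalizerIn_self hW'S) (not_lt.1 hcon)
            rw [← h] at hg₀N
            exact hg₀W hg₀N
          have hle : Nat.card ↥(normalizerIn S W') ≤ Nat.card S :=
            Subgroup.card_le_of_le inf_le_left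
          exact IH (Nat.card S - Nat.card ↥(normalizerIn S W')) (by omega) W' hess.1 rfl _ hα
            hrα
    -- the fully normalized case
    have hfn : ∀ R : Subgroup Ω, F.IsCentric R → F.IsFullyNormalized R →
        Nat.card S - Nat.card ↥(normalizerIn S R) = k →
        ∀ φ ∈ F.Hom R, φ.range = R → ∃ s ∈ S, ∀ x : R, φ x = s * x * s⁻¹ := by
      intro R hRc hRfn hk φ hφ hrange
      by_cases hTeq : normalizerIn S R = S
      · exact hfnS R hRc hRfn hTeq φ hφ hrange
      refine core_fn p hS F hF hp R hRc hRfn ?_ φ hφ hrange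
      intro Q hQchar hQne e he
      have hRS : R ≤ S := hRc.1
      have hTS : normalizerIn S R ≤ S := inf_le_left
      have hcardT : Nat.card ↥(normalizerIn S R) ≤ Nat.card S := Subgroup.card_le_of_le hTS
      have hQT : Q ≤ normalizerIn S R := hQchar.1
      have hQS : Q ≤ S := hQT.trans hTS
      haveI : Finite ↥Q := finite_of_le hQS
      have hNTQ : ∀ s ∈ normalizerIn S (normalizerIn S R),
          s ∈ Subgroup.normalizer (Q : Set Ω) := by
        intro s hs
        have key : ∀ t : normalizerIn S (normalizerIn S R), ∀ w ∈ Q,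
            (t : Ω) * w * (t : Ω)⁻¹ ∈ Q := by
          intro t w hw
          exact hQchar.2 (conjAut S (normalizerIn S R) t) ⟨w, hQT hw⟩ hw
        apply mem_normalizer_of_two_sided
        · intro w hw; exact key ⟨s, hs⟩ w hw
        · intro w hw
          have h := key (⟨s, hs⟩⁻¹) w hw
          simpa using h
      -- every map of the system from `Q` into itself is inner
      have hclaim : ∀ ψ ∈ F.Hom Q, (∀ x : Q, ψ x ∈ Q) →
          ∃ s ∈ S, ∀ x : Q, ψ x = s * x * s⁻¹ := by
        intro ψ hψ hinto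
        obtain ⟨s₀, hsN, hsT⟩ := exists_normalizerIn_not_mem hS hTS hTeq
        have hTK : normalizerIn S R ≤ normalizerIn S Q := by
          intro t ht
          exact ⟨hTS ht, hNTQ t ⟨hTS ht, Subgroup.le_normalizer ht⟩⟩
        have hsK : s₀ ∈ normalizerIn S Q := ⟨hsN.1, hNTQ s₀ hsN⟩
        have hlt : Nat.card ↥(normalizerIn S R) < Nat.card ↥(normalizerIn S Q) := by
          by_contra hcon
          have h := Subgroup.eq_of_le_of_card_ge hTK (not_lt.1 hcon)
          rw [← h] at hsK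
          exact hsT hsK
        obtain ⟨U', hconj, hU'fn, -, hU'rec, χ, hχ, e₁, he₁, hχe⟩ :=
          exists_fullyNormalized_conj hS F hF hQS
        obtain ⟨a, haS, hax⟩ := star _ χ hχ (by omega)
        have hUN : Q ≤ normalizerIn S Q := le_normalizerIn_self hQS
        have hea : ∀ u : Q, ((e₁ u : U') : Ω) = a * u * a⁻¹ := by
          intro u
          rw [← hχe u (hUN u.2)]
          exact hax ⟨u, hUN u.2⟩
        have hrψ : ψ.range = Q := range_eq_of_into F ψ hψ hinto
        apply transport_inner F he₁ a haS hea ψ hψ hrψ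
        intro φ₀ hφ₀ hrφ₀
        have hU'S : U' ≤ S := hU'rec.1
        obtain ⟨Ψ, hΨ, hΨx⟩ := hU'rec.2 U' φ₀ hφ₀ hrφ₀
        have hφ₀S : ∀ x, φ₀ x ∈ S := (F.le_of_mem hφ₀).2
        have hU'ext : U' ≤ extender S U' φ₀ := le_extender hU'S hφ₀S
        have hCext : centralizerIn S U' ≤ extender S U' φ₀ := centralizerIn_le_extender
        have hUle : U' ≤ U' ⊔ centralizerIn S U' := le_sup_left
        have hCle : centralizerIn S U' ≤ U' ⊔ centralizerIn S U' := le_sup_right
        have hR₁ext : U' ⊔ centralizerIn S U' ≤ extender S U' φ₀ := sup_le hU'ext hCext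
        have hR₁S : U' ⊔ centralizerIn S U' ≤ S := sup_le hU'S inf_le_left
        haveI : Finite ↥(U' ⊔ centralizerIn S U') := finite_of_le hR₁S
        have hΨ₁ := restrict_mem F hΨ hR₁ext
        have hΨU : ∀ (u : Ω) (hu : u ∈ U'), Ψ ⟨u, hU'ext hu⟩ ∈ U' := by
          intro u hu
          rw [hΨx u hu]
          have h : φ₀ ⟨u, hu⟩ ∈ φ₀.range := ⟨_, rfl⟩
          rw [hrφ₀] at h; exact h
        have hΨC : ∀ (c : Ω) (hc : c ∈ centralizerIn S U'),
            Ψ ⟨c, hCext hc⟩ ∈ centralizerIn S U' := by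
          intro c hc
          refine ⟨(F.le_of_mem hΨ).2 _, ?_⟩
          show _ ∈ Subgroup.centralizer (U' : Set Ω)
          rw [Subgroup.mem_centralizer_iff]
          intro u hu
          have hu' : u ∈ φ₀.range := by rw [hrφ₀]; exact hu
          obtain ⟨u₀, rfl⟩ := hu'
          have h1 := hΨx u₀ u₀.2 (hU'ext u₀.2)
          have hcc : c ∈ Subgroup.centralizer (U' : Set Ω) := hc.2
          have h2 := Subgroup.mem_centralizer_iff.1 hcc u₀ u₀.2
          have h3 : φ₀ u₀ = Ψ ⟨(u₀ : Ω), hU'ext u₀.2⟩ := h1.symm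
          rw [h3, ← map_mul, ← map_mul]
          congr 1
          exact Subtype.ext h2
        have hinto₁ : ∀ x : ↥(U' ⊔ centralizerIn S U'),
            (Ψ.comp (Subgroup.inclusion hR₁ext)) x ∈ U' ⊔ centralizerIn S U' := by
          have hle : U' ⊔ centralizerIn S U' ≤
              ((U' ⊔ centralizerIn S U').comap Ψ).map (extender S U' φ₀).subtype := by
            apply sup_le
            · intro u hu
              exact ⟨⟨u, hU'ext hu⟩, Subgroup.mem_comap.2 (hUle (hΨU u hu)), rfl⟩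
            · intro c hc
              exact ⟨⟨c, hCext hc⟩, Subgroup.mem_comap.2 (hCle (hΨC c hc)), rfl⟩
          intro x
          obtain ⟨x', hx', hxx'⟩ := hle x.2
          have e1 : Subgroup.inclusion hR₁ext x = x' := Subtype.ext hxx'.symm
          show Ψ (Subgroup.inclusion hR₁ext x) ∈ _
          rw [e1]; exact Subgroup.mem_comap.1 hx'
        have hrΨ₁ := range_eq_of_into F _ hΨ₁ hinto₁
        have hR₁c : F.IsCentric (U' ⊔ centralizerIn S U') := centric_sup_centralizer F hU'rec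
        have hcard1 : Nat.card ↥(normalizerIn S Q) ≤ Nat.card ↥(normalizerIn S U') :=
          hU'fn.2 Q (isConj_symm F hconj)
        have hcard2 : Nat.card ↥(normalizerIn S U') ≤
            Nat.card ↥(normalizerIn S (U' ⊔ centralizerIn S U')) :=
          Subgroup.card_le_of_le (normalizerIn_le_sup S U')
        have hcard3 : Nat.card ↥(normalizerIn S (U' ⊔ centralizerIn S U')) ≤ Nat.card S :=
          Subgroup.card_le_of_le inf_le_left
        obtain ⟨b, hbS, hbx⟩ :=
          IH (Nat.card S - Nat.card ↥(normalizerIn S (U' ⊔ centralizerIn S U')))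
          (by omega) _ hR₁c rfl _ hΨ₁ hrΨ₁
        refine ⟨b, hbS, fun x => ?_⟩
        have h6 : Ψ ⟨x, hU'ext x.2⟩ = φ₀ x := hΨx x x.2 (hU'ext x.2)
        have h7 : Ψ ⟨x, hU'ext x.2⟩ = b * x * b⁻¹ := hbx ⟨x, hUle x.2⟩
        exact h6.symm.trans h7
      obtain ⟨s, hsS, hsx⟩ := hclaim (Q.subtype.comp e.toMonoidHom) he (fun x => (e x).2)
      have hsx' : ∀ x : Q, ((e x : Q) : Ω) = s * x * s⁻¹ := hsx
      obtain ⟨m, hm⟩ := hS ⟨s, hsS⟩
      have hsm : s ^ (p ^ m) = 1 := by
        have h2 := congrArg (fun z : ↥S => (z : Ω)) hm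
        simpa using h2
      have hiter : ∀ (j : ℕ) (x : Q),
          (((e ^ j : MulAut ↥Q) x : Q) : Ω) = s ^ j * x * (s ^ j)⁻¹ := by
        intro j
        induction j with
        | zero =>
          intro x
          rw [pow_zero, pow_zero, one_mul, inv_one, mul_one]
          rfl
        | succ j ih =>
          intro x
          have h1 : (e ^ (j + 1) : MulAut ↥Q) x = e ((e ^ j : MulAut ↥Q) x) := by
            rw [pow_succ']; rfl
          rw [h1, hsx', ih x, pow_succ']
          group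
      refine ⟨m, fun x => ?_⟩
      apply Subtype.ext
      rw [hiter, hsm, one_mul, inv_one, mul_one]
    -- the general case
    intro R hRc hk φ hφ hrange
    have hRS : R ≤ S := hRc.1
    obtain ⟨R', hconj, hR'fn, -, -, χ, hχ, e, he, hχe⟩ := exists_fullyNormalized_conj hS F hF hRS
    have hR'c : F.IsCentric R' := isCentric_of_isConj F hRc hconj
    have hcard0 : Nat.card ↥(normalizerIn S R) ≤ Nat.card S := Subgroup.card_le_of_le inf_le_left
    have hcard1 : Nat.card ↥(normalizerIn S R) ≤ Nat.card ↥(normalizerIn S R') :=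
      hR'fn.2 R (isConj_symm F hconj)
    have hcard2 : Nat.card ↥(normalizerIn S R') ≤ Nat.card S := Subgroup.card_le_of_le inf_le_left
    obtain ⟨a, haS, hax⟩ := star _ χ hχ (by omega)
    have hRN : R ≤ normalizerIn S R := le_normalizerIn_self hRS
    have hea : ∀ u : R, ((e u : R') : Ω) = a * u * a⁻¹ := by
      intro u
      rw [← hχe u (hRN u.2)]
      exact hax ⟨u, hRN u.2⟩
    apply transport_inner F he a haS hea φ hφ hrange
    intro φ₀ hφ₀ hrφ₀
    by_cases hlt : Nat.card S - Nat.card ↥(normalizerIn S R') < k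
    · exact IH _ hlt R' hR'c rfl φ₀ hφ₀ hrφ₀
    · exact hfn R' hR'c hR'fn (by omega) φ₀ hφ₀ hrφ₀
  -- all maps of the system are inner
  apply alperin_goldschmidt_induction hS F hF (fun U ψ => ∃ s ∈ S, ∀ x : U, ψ x = s * x * s⁻¹)
  · intro U V φ h hφ hPr
    obtain ⟨s, hs, hsx⟩ := hPr
    exact ⟨s, hs, fun x => hsx (Subgroup.inclusion h x)⟩
  · intro U V φ ψ' hval hφ hψ' hPrφ hPrψ
    obtain ⟨s, hs, hsx⟩ := hPrφ
    obtain ⟨t, ht, htx⟩ := hPrψ
    refine ⟨t * s, S.mul_mem ht hs, fun x => ?_⟩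
    have h1 := htx ((φ.codRestrict V hval) x)
    have h2 : ((φ.codRestrict V hval) x : Ω) = s * x * s⁻¹ := hsx x
    rw [h2] at h1
    show ψ' ((φ.codRestrict V hval) x) = _
    rw [h1]; group
  · intro W' hW' α hα
    have hWc : F.IsCentric W' := by
      rcases hW' with h | h
      · rw [h]; exact isCentric_self F
      · exact h.1
    exact main _ W' hWc rfl _ hα (range_aut α)

end fus8

/-- A strengthened Frobenius normal p-complement criterion for fusion systems. Let F be a saturated fusion system over a finite p-group S such that p is odd or F is S₄-free (the symmetric group of degree 4 is not involved in any model of the normalizer system of a fully normalized F-centric subgroup). If Aut_F(Q) is a p-group for every nontrivial characteristic subgroup Q of S, then F is the inner fusion system of S. -/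
theorem result {Ω : Type*} [Group Ω] {S : Subgroup Ω} [Finite S] (p : ℕ) [Fact p.Prime] (hS : IsPGroup p S) (F : Cfsg.FusionSystem S) (hF : F.IsSaturated p) (hp : p ≠ 2 ∨ F.IsSectionFree p (Equiv.Perm (Fin 4))) (h : ∀ Q : Subgroup Ω, Q ≤ S → Q ≠ ⊥ → (Q.subgroupOf S).Characteristic → IsPGroup p (F.autGroup Q)) : ∀ P : Subgroup Ω, F.Hom P = (Cfsg.innerFusionSystem S).Hom P := by
  have key := inner_of_char p hS F hF hp h
  intro P
  ext φ
  constructor
  · intro hφ
    obtain ⟨s, hs, hsx⟩ := key P φ hφ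
    exact ⟨(F.le_of_mem hφ).1, s, hs, hsx⟩
  · rintro ⟨hP, g, hg, hgx⟩
    exact Cfsg.Agent.Lib.helper25.hom_congr F (F.conj_mem hP hg) (fun x => hgx x)

end Cfsg.Agent.S5195
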