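import Cfsg.Statements.S5332
-- import your own Cfsg.Agent.* helpers here
import Cfsg.Agent.S5195
import Cfsg.Agent.S3073

set_option autoImplicit false
open Cfsg

namespace Cfsg.Agent.S5332

universe u

section fus9

open Cfsg.FusionSystem
open Cfsg.Agent.Lib.helper26 (finite_of_le restrict_mem exists_iso_of_mem IsIso isConj_symm
  isConj_refl isConj_le_right isConj_card mem_autGroup_iff exists_extension_centralizer
  mem_normalizer_of_two_sided conjAut exists_fullyNormalized_conj isCentric_of_isConj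
  exists_normalizerIn_not_mem le_extender centralizerIn_le_extender
  centralizerIn_le_normalizerIn pCore_le_sylow pCore_normal receptive_of_fullyNormalized)
open Cfsg.Agent.Lib.helper25 (alperin_goldschmidt_induction le_normalizerIn_self
  normalizerSystem isNormalizerSystem_normalizerSystem
  normalizerSystem_saturated isNormal_of_isNormalizerSystem isCentric_of_isNormalizerSystem
  realHom realHom_mem_S map_realHom realHom_mem hom_congr)
open Cfsg.Agent.S5253 (range_eq_of_into range_aut self_normalizerHom isCentric_self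
  normalizerIn_le_sup centric_sup_centralizer)
open Cfsg.Agent.S5194 (transport_inner eq_top_of_npc)
open Cfsg.Agent.S5195 (CharIn)

variable {Ω : Type u} [Group Ω] {S : Subgroup Ω}

/-- a criterion for a normal `p`-complement in groups with Sylow `p`-subgroup `T`, in terms of the
subgroup `Q` of `T` -/
def NPCcrit (p : ℕ) (T Q : Subgroup Ω) : Prop :=
  ∀ (G : Type u) [Group G] [Finite G] (ι : ↥T →* G), Function.Injective ι →
    (∃ P : Sylow p G, (P : Subgroup G) = ι.range) →
    (∀ g : G, (∀ x : ↥T, (x : Ω) ∈ Q → ∃ x' : ↥T, (x' : Ω) ∈ Q ∧ ι x' = g * ι x * g⁻¹) →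
      (orderOf g).Coprime p → ∀ x : ↥T, (x : Ω) ∈ Q → g * ι x = ι x * g) →
    Cfsg.HasNormalPComplement p G

theorem exists_crit {p : ℕ} [Fact p.Prime] (hp : p ≠ 2) (T : Subgroup Ω) [Finite T]
    (hT : IsPGroup p T) :
    ∃ K : Subgroup ↥T, K.Characteristic ∧ Subgroup.centralizer (K : Set ↥T) ≤ K ∧
      NPCcrit p T (K.map T.subtype) := by
  obtain ⟨K, hKc, hKcen, hK⟩ := Cfsg.Agent.S3073.result p hp ↥T hT
  refine ⟨K, hKc, hKcen, ?_⟩
  intro G _ _ ι hι hPex Hg
  obtain ⟨P, hP⟩ := hPex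
  obtain ⟨e, he⟩ : ∃ e : ↥(P : Subgroup G) ≃* ↥T, ∀ y : ↥(P : Subgroup G), ι (e y) = (y : G) := by
    refine ⟨(MulEquiv.subgroupCongr hP).trans (MonoidHom.ofInjective hι).symm, fun y => ?_⟩
    have h := (MonoidHom.ofInjective hι).apply_symm_apply (MulEquiv.subgroupCongr hP y)
    have h2 := congrArg (fun z : ↥ι.range => (z : G)) h
    exact h2
  rw [hK G P e]
  have hmem : ∀ y : G, y ∈ ((K.comap (e : ↥(P : Subgroup G) →* ↥T)).map
      (P : Subgroup G).subtype : Subgroup G) ↔ ∃ x : ↥T, x ∈ K ∧ ι x = y := by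
    intro y
    constructor
    · rintro ⟨y₀, hy₀, rfl⟩
      exact ⟨e y₀, hy₀, he y₀⟩
    · rintro ⟨x, hx, rfl⟩
      refine ⟨e.symm x, ?_, ?_⟩
      · show e (e.symm x) ∈ K
        rw [MulEquiv.apply_symm_apply]; exact hx
      · have h := he (e.symm x)
        rw [MulEquiv.apply_symm_apply] at h
        exact h.symm
  have hQx : ∀ x : ↥T, (x : Ω) ∈ K.map T.subtype ↔ x ∈ K := by
    intro x
    constructor
    · rintro ⟨x', hx', hxx'⟩
      have e1 : x' = x := Subtype.ext hxx'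
      rw [← e1]; exact hx'
    · intro hx; exact ⟨x, hx, rfl⟩
  intro g hg hcop
  have h1 := Hg g (by
    intro x hx
    have hxK := (hQx x).1 hx
    have h2 := (Subgroup.mem_normalizer_iff.1 hg (ι x)).1 ((hmem _).2 ⟨x, hxK, rfl⟩)
    obtain ⟨x', hx', hxx'⟩ := (hmem _).1 h2
    exact ⟨x', (hQx x').2 hx', hxx'⟩) hcop
  rw [Subgroup.mem_centralizer_iff]
  intro y hy
  obtain ⟨x, hx, rfl⟩ := (hmem y).1 hy
  exact (h1 x ((hQx x).2 hx)).symm

theorem charIn_of_characteristic {T : Subgroup Ω} (K : Subgroup ↥T) (hK : K.Characteristic) :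
    CharIn (K.map T.subtype) T := by
  refine ⟨Subgroup.map_subtype_le K, fun θ x hx => ?_⟩
  obtain ⟨x', hx', hxx'⟩ := hx
  have e1 : x' = x := Subtype.ext hxx'
  rw [e1] at hx'
  have h1 : θ.toMonoidHom x ∈ K :=
    Subgroup.characteristic_iff_map_le.1 hK θ (Subgroup.mem_map_of_mem _ hx')
  exact ⟨θ x, h1, rfl⟩

theorem normalizes_of_charIn (S : Subgroup Ω) {T Q : Subgroup Ω} (hQ : CharIn Q T) (s : Ω)
    (hs : s ∈ normalizerIn S T) : s ∈ Subgroup.normalizer (Q : Set Ω) := by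
  have key : ∀ t : normalizerIn S T, ∀ w ∈ Q, (t : Ω) * w * (t : Ω)⁻¹ ∈ Q := by
    intro t w hw
    exact hQ.2 (conjAut S T t) ⟨w, hQ.1 hw⟩ hw
  apply mem_normalizer_of_two_sided
  · intro w hw; exact key ⟨s, hs⟩ w hw
  · intro w hw
    have h := key (⟨s, hs⟩⁻¹) w hw
    simpa using h

theorem pow_eq_of_conj {p : ℕ} (hS : IsPGroup p S) {Q : Subgroup Ω} (e : MulAut ↥Q) (s : Ω)
    (hsS : s ∈ S) (hsx : ∀ x : Q, ((e x : Q) : Ω) = s * x * s⁻¹) :
    ∃ m : ℕ, ∀ x : ↥Q, (e ^ (p ^ m)) x = x := by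
  obtain ⟨m, hm⟩ := hS ⟨s, hsS⟩
  have hsm : s ^ (p ^ m) = 1 := by
    have h2 := congrArg (fun z : ↥S => (z : Ω)) hm
    simpa using h2
  have hiter : ∀ (j : ℕ) (x : Q),
      (((e ^ j : MulAut ↥Q) x : Q) : Ω) = s ^ j * x * (s ^ j)⁻¹ := by
    intro j
    induction j with
    | zero =>
      intro x
      rw [pow_zero, pow_zero, one_mul, inv_one, mul_one]
      rfl
    | succ j ih =>
      intro x
      have h1 : (e ^ (j + 1) : MulAut ↥Q) x = e ((e ^ j : MulAut ↥Q) x) := by
        rw [pow_succ']; rfl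
      rw [h1, hsx, ih x, pow_succ']
      group
  refine ⟨m, fun x => ?_⟩
  apply Subtype.ext
  rw [hiter, hsm, one_mul, inv_one, mul_one]

theorem transport_sys (A B : Subgroup Ω) (h : A = B) (E : FusionSystem A) (p : ℕ)
    (hc : E.IsConstrained p) :
    ∃ E' : FusionSystem B, (∀ P : Subgroup Ω, E'.Hom P = E.Hom P) ∧ E'.IsConstrained p := by
  subst h
  exact ⟨E, fun _ => rfl, hc⟩

theorem core_fn3 [Finite S] (p : ℕ) [Fact p.Prime] (hS : IsPGroup p S) (F : FusionSystem S)
    (hF : F.IsSaturated p)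
    (R : Subgroup Ω) (hRc : F.IsCentric R) (hRfn : F.IsFullyNormalized R)
    (T : Subgroup Ω) (hT : T = normalizerIn S R) (Q : Subgroup Ω) (hQT : Q ≤ T)
    (hcrit : NPCcrit p T Q)
    (He : ∀ e : MulAut ↥Q, IsIso F e → ∃ m : ℕ, ∀ x : ↥Q, (e ^ (p ^ m)) x = x)
    (φ : ↥R →* Ω) (hφ : φ ∈ F.Hom R) (hrange : φ.range = R) :
    ∃ s ∈ S, ∀ x : ↥R, φ x = s * x * s⁻¹ := by
  classical
  subst hT
  have hRS : R ≤ S := hRc.1
  have hTS : normalizerIn S R ≤ S := inf_le_left
  have hRT : R ≤ normalizerIn S R := le_normalizerIn_self hRS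
  have hpT : IsPGroup p ↥(normalizerIn S R) := hS.to_le hTS
  haveI : Finite ↥(normalizerIn S R) := finite_of_le hTS
  have hNR := isNormalizerSystem_normalizerSystem F R hRS
  have hsat := normalizerSystem_saturated hS F hF R hRfn _ hNR
  have hn := isNormal_of_isNormalizerSystem F hRS _ hNR
  have hcN := isCentric_of_isNormalizerSystem F hRc _ hNR
  obtain ⟨G, _, ι, hG⟩ := Cfsg.Agent.Lib.helper7.Model.exists_model_of hpT
    (normalizerSystem F R hRS) hsat R hn hcN
  obtain ⟨hGfin, ⟨hιinj, hreal⟩, ⟨TG, hTG⟩, hGcen⟩ := hG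
  haveI := hGfin
  have hr : (normalizerSystem F R hRS).IsRealizedBy ι := ⟨hιinj, hreal⟩
  have hQS : Q ≤ S := hQT.trans hTS
  haveI : Finite ↥Q := finite_of_le hQS
  have hnpc : Cfsg.HasNormalPComplement p G := by
    refine hcrit G ι hιinj ⟨TG, hTG⟩ ?_
    intro g hg hcop
    have hgr : ∀ x : Q, g * ι ⟨x, hQT x.2⟩ * g⁻¹ ∈ ι.range := fun x => by
      obtain ⟨x', -, hx'⟩ := hg ⟨x, hQT x.2⟩ x.2
      exact ⟨x', hx'⟩
    have hβF : realHom ι hιinj hQT g hgr ∈ F.Hom Q := by
      have h := realHom_mem (normalizerSystem F R hRS) ι hr hQT g hgr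
      rw [hNR Q] at h; exact h.1
    have hβι : ∀ x : Q, ι ⟨realHom ι hιinj hQT g hgr x, realHom_mem_S ι hιinj hQT g hgr x⟩ =
        g * ι ⟨x, hQT x.2⟩ * g⁻¹ := map_realHom ι hιinj hQT g hgr
    have hinto : ∀ x : Q, realHom ι hιinj hQT g hgr x ∈ Q := by
      intro x
      obtain ⟨x', hx'Q, hx'⟩ := hg ⟨x, hQT x.2⟩ x.2
      have h4 : (⟨realHom ι hιinj hQT g hgr x, realHom_mem_S ι hιinj hQT g hgr x⟩ :
          ↥(normalizerIn S R)) = x' := hιinj ((hβι x).trans hx'.symm)
      have h5 : realHom ι hιinj hQT g hgr x = (x' : Ω) := congrArg Subtype.val h4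
      rw [h5]; exact hx'Q
    have hrβ := range_eq_of_into F _ hβF hinto
    obtain ⟨e, he, hex⟩ := exists_iso_of_mem F hβF hrβ
    obtain ⟨m, hm⟩ := He e he
    have hiter : ∀ (j : ℕ) (x : Q),
        ι ⟨(((e ^ j : MulAut ↥Q) x : Q) : Ω), hQT ((e ^ j : MulAut ↥Q) x).2⟩ =
          g ^ j * ι ⟨x, hQT x.2⟩ * (g ^ j)⁻¹ := by
      intro j
      induction j with
      | zero =>
        intro x
        rw [pow_zero, pow_zero, one_mul, inv_one, mul_one]
        rfl
      | succ j ih =>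
        intro x
        have h1 : (e ^ (j + 1) : MulAut ↥Q) x = e ((e ^ j : MulAut ↥Q) x) := by
          rw [pow_succ']; rfl
        have h2 := hβι ((e ^ j : MulAut ↥Q) x)
        have h3 := hex ((e ^ j : MulAut ↥Q) x)
        have e1 : (⟨(((e ^ (j + 1) : MulAut ↥Q) x : Q) : Ω),
            hQT ((e ^ (j + 1) : MulAut ↥Q) x).2⟩ : ↥(normalizerIn S R)) =
            ⟨realHom ι hιinj hQT g hgr ((e ^ j : MulAut ↥Q) x),
              realHom_mem_S ι hιinj hQT g hgr _⟩ := by
          apply Subtype.ext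
          show (((e ^ (j + 1) : MulAut ↥Q) x : Q) : Ω) = _
          rw [h1]; exact h3
        rw [e1, h2, ih x, pow_succ']
        group
    have hcm : ∀ t : ↥(normalizerIn S R), (t : Ω) ∈ Q →
        g ^ (p ^ m) * ι t = ι t * g ^ (p ^ m) := by
      intro t htQ
      have h1 := hiter (p ^ m) ⟨t, htQ⟩
      have e2 : (⟨(((e ^ (p ^ m) : MulAut ↥Q) ⟨t, htQ⟩ : Q) : Ω),
          hQT ((e ^ (p ^ m) : MulAut ↥Q) ⟨t, htQ⟩).2⟩ : ↥(normalizerIn S R)) = t := by
        apply Subtype.ext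
        show (((e ^ (p ^ m) : MulAut ↥Q) ⟨t, htQ⟩ : Q) : Ω) = _
        rw [hm ⟨t, htQ⟩]
      rw [e2] at h1
      have h1' : ι t = g ^ (p ^ m) * ι t * (g ^ (p ^ m))⁻¹ := h1
      calc g ^ (p ^ m) * ι t = (g ^ (p ^ m) * ι t * (g ^ (p ^ m))⁻¹) * g ^ (p ^ m) := by group
        _ = ι t * g ^ (p ^ m) := by rw [← h1']
    have hc : (p ^ m).Coprime (orderOf g) := (Nat.Coprime.pow_right m hcop).symm
    obtain ⟨j, hj⟩ := exists_pow_eq_self_of_coprime hc
    intro x hx
    have h1 : ∀ i : ℕ, (g ^ (p ^ m)) ^ i * ι x = ι x * (g ^ (p ^ m)) ^ i := by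
      intro i
      induction i with
      | zero => rw [pow_zero, one_mul, mul_one]
      | succ i ih => rw [pow_succ, mul_assoc, hcm x hx, ← mul_assoc, ih, mul_assoc]
    have h2 := h1 j
    rw [hj] at h2; exact h2
  have htop : ι.range = ⊤ := by rw [← hTG]; exact eq_top_of_npc TG hGcen hnpc
  have hvalφ : ∀ x : R, φ x ∈ normalizerIn S R := fun x => by
    have h : φ x ∈ φ.range := ⟨x, rfl⟩
    rw [hrange] at h; exact hRT h
  have hφN : φ ∈ (normalizerSystem F R hRS).Hom R := by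
    rw [hNR R]; exact self_normalizerHom F hRS φ hφ hrange
  obtain ⟨g, hg⟩ := (hreal R hRT φ hvalφ).1 hφN
  have hgr : g ∈ ι.range := by rw [htop]; exact Subgroup.mem_top g
  obtain ⟨t, rfl⟩ := hgr
  refine ⟨t, hTS t.2, fun x => ?_⟩
  have h1 := hg x
  have h2 : (⟨φ x, hvalφ x⟩ : ↥(normalizerIn S R)) = t * ⟨x, hRT x.2⟩ * t⁻¹ := by
    apply hιinj
    rw [map_mul, map_mul, map_inv]
    exact h1
  exact congrArg Subtype.val h2


theorem inner_of_K [Finite S] (p : ℕ) [Fact p.Prime] (hp2 : p ≠ 2) (hS : IsPGroup p S)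
    (F : FusionSystem S) (hF : F.IsSaturated p) (Q₀ : Subgroup Ω) (hQ₀S : Q₀ ≤ S)
    (hcrit₀ : NPCcrit p S Q₀)
    (He₀ : ∀ e : MulAut ↥Q₀, IsIso F e → ∃ m : ℕ, ∀ x : ↥Q₀, (e ^ (p ^ m)) x = x) :
    ∀ (X : Subgroup Ω) (ψ : X →* Ω), ψ ∈ F.Hom X → ∃ s ∈ S, ∀ x : X, ψ x = s * x * s⁻¹ := by
  classical
  -- the case `N_S(R) = S`
  have hfnS : ∀ R : Subgroup Ω, F.IsCentric R → F.IsFullyNormalized R →
      normalizerIn S R = S →
      ∀ φ ∈ F.Hom R, φ.range = R → ∃ s ∈ S, ∀ x : R, φ x = s * x * s⁻¹ := by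
    intro R hRc hRfn hTeq φ hφ hrange
    exact core_fn3 p hS F hF R hRc hRfn S hTeq.symm Q₀ hQ₀S hcrit₀ He₀ φ hφ hrange
  have hSN : normalizerIn S S = S := le_antisymm inf_le_left (le_normalizerIn_self le_rfl)
  have hSfn : F.IsFullyNormalized S := by
    refine ⟨le_rfl, fun Q _ => ?_⟩
    rw [hSN]
    exact Subgroup.card_le_of_le inf_le_left
  have hbase : ∀ T : Subgroup Ω, T = S → ∀ ψ ∈ F.Hom T, ψ.range = T →
      ∃ s ∈ S, ∀ x : T, ψ x = s * x * s⁻¹ := by
    intro T hT ψ hψ hr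
    subst hT
    exact hfnS _ (isCentric_self F) hSfn hSN ψ hψ hr
  have main : ∀ (k : ℕ) (R : Subgroup Ω), F.IsCentric R →
      Nat.card S - Nat.card ↥(normalizerIn S R) = k →
      ∀ φ ∈ F.Hom R, φ.range = R → ∃ s ∈ S, ∀ x : R, φ x = s * x * s⁻¹ := by
    intro k
    induction k using Nat.strong_induction_on with
    | _ k IH =>
    have star : ∀ (X : Subgroup Ω) (ψ : X →* Ω), ψ ∈ F.Hom X →
        Nat.card S - k ≤ Nat.card X → ∃ s ∈ S, ∀ x : X, ψ x = s * x * s⁻¹ := by
      apply alperin_goldschmidt_induction hS F hF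
        (fun U ψ => Nat.card S - k ≤ Nat.card U → ∃ s ∈ S, ∀ x : U, ψ x = s * x * s⁻¹)
      · intro U V φ h hφ hPr hcard
        haveI : Finite V := finite_of_le (F.le_of_mem hφ).1
        obtain ⟨s, hs, hsx⟩ := hPr (hcard.trans (Subgroup.card_le_of_le h))
        exact ⟨s, hs, fun x => hsx (Subgroup.inclusion h x)⟩
      · intro U V φ ψ' hval hφ hψ' hPrφ hPrψ hcard
        haveI : Finite V := finite_of_le (F.le_of_mem hψ').1
        obtain ⟨s, hs, hsx⟩ := hPrφ hcard
        have hinj : Function.Injective (φ.codRestrict V hval) := by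
          intro a b hab
          exact F.injective_of_mem hφ (congrArg Subtype.val hab)
        have hcard' : Nat.card S - k ≤ Nat.card V :=
          hcard.trans (Nat.card_le_card_of_injective _ hinj)
        obtain ⟨t, ht, htx⟩ := hPrψ hcard'
        refine ⟨t * s, S.mul_mem ht hs, fun x => ?_⟩
        have h1 := htx ((φ.codRestrict V hval) x)
        have h2 : ((φ.codRestrict V hval) x : Ω) = s * x * s⁻¹ := hsx x
        rw [h2] at h1
        show ψ' ((φ.codRestrict V hval) x) = _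
        rw [h1]; group
      · intro W' hW' α hα hcard
        have hW'S : W' ≤ S := (F.le_of_mem hα).1
        have hrα : (W'.subtype.comp α.toMonoidHom).range = W' := range_aut α
        by_cases hW'eq : W' = S
        · exact hbase W' hW'eq _ hα hrα
        · have hess : F.IsEssential p W' := hW'.resolve_left hW'eq
          obtain ⟨g₀, hg₀N, hg₀W⟩ := exists_normalizerIn_not_mem hS hW'S hW'eq
          have hlt : Nat.card W' < Nat.card ↥(normalizerIn S W') := by
            by_contra hcon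
            have h := Subgroup.eq_of_le_of_card_ge (le_normalizerIn_self hW'S) (not_lt.1 hcon)
            rw [← h] at hg₀N
            exact hg₀W hg₀N
          have hle : Nat.card ↥(normalizerIn S W') ≤ Nat.card S :=
            Subgroup.card_le_of_le inf_le_left
          exact IH (Nat.card S - Nat.card ↥(normalizerIn S W')) (by omega) W' hess.1 rfl _ hα
            hrα
    -- the fully normalized case
    have hfn : ∀ R : Subgroup Ω, F.IsCentric R → F.IsFullyNormalized R →
        Nat.card S - Nat.card ↥(normalizerIn S R) = k →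
        ∀ φ ∈ F.Hom R, φ.range = R → ∃ s ∈ S, ∀ x : R, φ x = s * x * s⁻¹ := by
      intro R hRc hRfn hk φ hφ hrange
      by_cases hTeq : normalizerIn S R = S
      · exact hfnS R hRc hRfn hTeq φ hφ hrange
      haveI : Finite ↥(normalizerIn S R) := finite_of_le inf_le_left
      have hpT : IsPGroup p ↥(normalizerIn S R) := hS.to_le inf_le_left
      obtain ⟨K, hKc, -, hKcrit⟩ := exists_crit hp2 (normalizerIn S R) hpT
      obtain ⟨Q, hQ⟩ : ∃ Q : Subgroup Ω, Q = K.map (normalizerIn S R).subtype := ⟨_, rfl⟩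
      rw [← hQ] at hKcrit
      have hQchar : CharIn Q (normalizerIn S R) := by
        rw [hQ]; exact charIn_of_characteristic K hKc
      refine core_fn3 p hS F hF R hRc hRfn _ rfl Q hQchar.1 hKcrit ?_ φ hφ hrange
      intro e he
      have hRS : R ≤ S := hRc.1
      have hTS : normalizerIn S R ≤ S := inf_le_left
      have hcardT : Nat.card ↥(normalizerIn S R) ≤ Nat.card S := Subgroup.card_le_of_le hTS
      have hQT : Q ≤ normalizerIn S R := hQchar.1
      have hQS : Q ≤ S := hQT.trans hTS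
      haveI : Finite ↥Q := finite_of_le hQS
      have hNTQ : ∀ s ∈ normalizerIn S (normalizerIn S R),
          s ∈ Subgroup.normalizer (Q : Set Ω) := fun s hs => normalizes_of_charIn S hQchar s hs
      -- every map of the system from `Q` into itself is inner
      have hclaim : ∀ ψ ∈ F.Hom Q, (∀ x : Q, ψ x ∈ Q) →
          ∃ s ∈ S, ∀ x : Q, ψ x = s * x * s⁻¹ := by
        intro ψ hψ hinto
        obtain ⟨s₀, hsN, hsT⟩ := exists_normalizerIn_not_mem hS hTS hTeq
        have hTK : normalizerIn S R ≤ normalizerIn S Q := by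
          intro t ht
          exact ⟨hTS ht, hNTQ t ⟨hTS ht, Subgroup.le_normalizer ht⟩⟩
        have hsK : s₀ ∈ normalizerIn S Q := ⟨hsN.1, hNTQ s₀ hsN⟩
        have hlt : Nat.card ↥(normalizerIn S R) < Nat.card ↥(normalizerIn S Q) := by
          by_contra hcon
          have h := Subgroup.eq_of_le_of_card_ge hTK (not_lt.1 hcon)
          rw [← h] at hsK
          exact hsT hsK
        obtain ⟨U', hconj, hU'fn, -, hU'rec, χ, hχ, e₁, he₁, hχe⟩ :=
          exists_fullyNormalized_conj hS F hF hQS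
        obtain ⟨a, haS, hax⟩ := star _ χ hχ (by omega)
        have hUN : Q ≤ normalizerIn S Q := le_normalizerIn_self hQS
        have hea : ∀ u : Q, ((e₁ u : U') : Ω) = a * u * a⁻¹ := by
          intro u
          rw [← hχe u (hUN u.2)]
          exact hax ⟨u, hUN u.2⟩
        have hrψ : ψ.range = Q := range_eq_of_into F ψ hψ hinto
        apply transport_inner F he₁ a haS hea ψ hψ hrψ
        intro φ₀ hφ₀ hrφ₀
        have hU'S : U' ≤ S := hU'rec.1
        obtain ⟨Ψ, hΨ, hΨx⟩ := hU'rec.2 U' φ₀ hφ₀ hrφ₀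
        have hφ₀S : ∀ x, φ₀ x ∈ S := (F.le_of_mem hφ₀).2
        have hU'ext : U' ≤ extender S U' φ₀ := le_extender hU'S hφ₀S
        have hCext : centralizerIn S U' ≤ extender S U' φ₀ := centralizerIn_le_extender
        have hUle : U' ≤ U' ⊔ centralizerIn S U' := le_sup_left
        have hCle : centralizerIn S U' ≤ U' ⊔ centralizerIn S U' := le_sup_right
        have hR₁ext : U' ⊔ centralizerIn S U' ≤ extender S U' φ₀ := sup_le hU'ext hCext
        have hR₁S : U' ⊔ centralizerIn S U' ≤ S := sup_le hU'S inf_le_left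
        haveI : Finite ↥(U' ⊔ centralizerIn S U') := finite_of_le hR₁S
        have hΨ₁ := restrict_mem F hΨ hR₁ext
        have hΨU : ∀ (u : Ω) (hu : u ∈ U'), Ψ ⟨u, hU'ext hu⟩ ∈ U' := by
          intro u hu
          rw [hΨx u hu]
          have h : φ₀ ⟨u, hu⟩ ∈ φ₀.range := ⟨_, rfl⟩
          rw [hrφ₀] at h; exact h
        have hΨC : ∀ (c : Ω) (hc : c ∈ centralizerIn S U'),
            Ψ ⟨c, hCext hc⟩ ∈ centralizerIn S U' := by
          intro c hc
          refine ⟨(F.le_of_mem hΨ).2 _, ?_⟩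
          show _ ∈ Subgroup.centralizer (U' : Set Ω)
          rw [Subgroup.mem_centralizer_iff]
          intro u hu
          have hu' : u ∈ φ₀.range := by rw [hrφ₀]; exact hu
          obtain ⟨u₀, rfl⟩ := hu'
          have h1 := hΨx u₀ u₀.2 (hU'ext u₀.2)
          have hcc : c ∈ Subgroup.centralizer (U' : Set Ω) := hc.2
          have h2 := Subgroup.mem_centralizer_iff.1 hcc u₀ u₀.2
          have h3 : φ₀ u₀ = Ψ ⟨(u₀ : Ω), hU'ext u₀.2⟩ := h1.symm
          rw [h3, ← map_mul, ← map_mul]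
          congr 1
          exact Subtype.ext h2
        have hinto₁ : ∀ x : ↥(U' ⊔ centralizerIn S U'),
            (Ψ.comp (Subgroup.inclusion hR₁ext)) x ∈ U' ⊔ centralizerIn S U' := by
          have hle : U' ⊔ centralizerIn S U' ≤
              ((U' ⊔ centralizerIn S U').comap Ψ).map (extender S U' φ₀).subtype := by
            apply sup_le
            · intro u hu
              exact ⟨⟨u, hU'ext hu⟩, Subgroup.mem_comap.2 (hUle (hΨU u hu)), rfl⟩
            · intro c hc
              exact ⟨⟨c, hCext hc⟩, Subgroup.mem_comap.2 (hCle (hΨC c hc)), rfl⟩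
          intro x
          obtain ⟨x', hx', hxx'⟩ := hle x.2
          have e1 : Subgroup.inclusion hR₁ext x = x' := Subtype.ext hxx'.symm
          show Ψ (Subgroup.inclusion hR₁ext x) ∈ _
          rw [e1]; exact Subgroup.mem_comap.1 hx'
        have hrΨ₁ := range_eq_of_into F _ hΨ₁ hinto₁
        have hR₁c : F.IsCentric (U' ⊔ centralizerIn S U') := centric_sup_centralizer F hU'rec
        have hcard1 : Nat.card ↥(normalizerIn S Q) ≤ Nat.card ↥(normalizerIn S U') :=
          hU'fn.2 Q (isConj_symm F hconj)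
        have hcard2 : Nat.card ↥(normalizerIn S U') ≤
            Nat.card ↥(normalizerIn S (U' ⊔ centralizerIn S U')) :=
          Subgroup.card_le_of_le (normalizerIn_le_sup S U')
        have hcard3 : Nat.card ↥(normalizerIn S (U' ⊔ centralizerIn S U')) ≤ Nat.card S :=
          Subgroup.card_le_of_le inf_le_left
        obtain ⟨b, hbS, hbx⟩ :=
          IH (Nat.card S - Nat.card ↥(normalizerIn S (U' ⊔ centralizerIn S U')))
          (by omega) _ hR₁c rfl _ hΨ₁ hrΨ₁
        refine ⟨b, hbS, fun x => ?_⟩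
        have h6 : Ψ ⟨x, hU'ext x.2⟩ = φ₀ x := hΨx x x.2 (hU'ext x.2)
        have h7 : Ψ ⟨x, hU'ext x.2⟩ = b * x * b⁻¹ := hbx ⟨x, hUle x.2⟩
        exact h6.symm.trans h7
      obtain ⟨s, hsS, hsx⟩ := hclaim (Q.subtype.comp e.toMonoidHom) he (fun x => (e x).2)
      exact pow_eq_of_conj hS e s hsS hsx
    -- the general case
    intro R hRc hk φ hφ hrange
    have hRS : R ≤ S := hRc.1
    obtain ⟨R', hconj, hR'fn, -, -, χ, hχ, e, he, hχe⟩ := exists_fullyNormalized_conj hS F hF hRS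
    have hR'c : F.IsCentric R' := isCentric_of_isConj F hRc hconj
    have hcard0 : Nat.card ↥(normalizerIn S R) ≤ Nat.card S := Subgroup.card_le_of_le inf_le_left
    have hcard1 : Nat.card ↥(normalizerIn S R) ≤ Nat.card ↥(normalizerIn S R') :=
      hR'fn.2 R (isConj_symm F hconj)
    have hcard2 : Nat.card ↥(normalizerIn S R') ≤ Nat.card S := Subgroup.card_le_of_le inf_le_left
    obtain ⟨a, haS, hax⟩ := star _ χ hχ (by omega)
    have hRN : R ≤ normalizerIn S R := le_normalizerIn_self hRS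
    have hea : ∀ u : R, ((e u : R') : Ω) = a * u * a⁻¹ := by
      intro u
      rw [← hχe u (hRN u.2)]
      exact hax ⟨u, hRN u.2⟩
    apply transport_inner F he a haS hea φ hφ hrange
    intro φ₀ hφ₀ hrφ₀
    by_cases hlt : Nat.card S - Nat.card ↥(normalizerIn S R') < k
    · exact IH _ hlt R' hR'c rfl φ₀ hφ₀ hrφ₀
    · exact hfn R' hR'c hR'fn (by omega) φ₀ hφ₀ hrφ₀
  -- all maps of the system are inner
  apply alperin_goldschmidt_induction hS F hF (fun U ψ => ∃ s ∈ S, ∀ x : U, ψ x = s * x * s⁻¹)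
  · intro U V φ h hφ hPr
    obtain ⟨s, hs, hsx⟩ := hPr
    exact ⟨s, hs, fun x => hsx (Subgroup.inclusion h x)⟩
  · intro U V φ ψ' hval hφ hψ' hPrφ hPrψ
    obtain ⟨s, hs, hsx⟩ := hPrφ
    obtain ⟨t, ht, htx⟩ := hPrψ
    refine ⟨t * s, S.mul_mem ht hs, fun x => ?_⟩
    have h1 := htx ((φ.codRestrict V hval) x)
    have h2 : ((φ.codRestrict V hval) x : Ω) = s * x * s⁻¹ := hsx x
    rw [h2] at h1
    show ψ' ((φ.codRestrict V hval) x) = _
    rw [h1]; group
  · intro W' hW' α hα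
    have hWc : F.IsCentric W' := by
      rcases hW' with h | h
      · rw [h]; exact isCentric_self F
      · exact h.1
    exact main _ W' hWc rfl _ hα (range_aut α)

end fus9

/-- Let p be odd and F a saturated fusion system over a finite p-group S that is not the inner system of S. Then F contains a saturated constrained subsystem over S that is itself not the inner system. -/
theorem result {Ω : Type*} [Group Ω] {S : Subgroup Ω} [Finite S] (p : ℕ) [Fact p.Prime] (hS : IsPGroup p S) (F : Cfsg.FusionSystem S) (hF : F.IsSaturated p) (hp : p ≠ 2) (hne : ∃ P : Subgroup Ω, F.Hom P ≠ (Cfsg.innerFusionSystem S).Hom P) : ∃ E : Cfsg.FusionSystem S, E ≤ F ∧ E.IsConstrained p ∧ ∃ P : Subgroup Ω, E.Hom P ≠ (Cfsg.innerFusionSystem S).Hom P := by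
  classical
  obtain ⟨K, hKc, hKcen, hKcrit⟩ := exists_crit hp S hS
  obtain ⟨Q, hQ⟩ : ∃ Q : Subgroup Ω, Q = K.map S.subtype := ⟨_, rfl⟩
  have hQS : Q ≤ S := by rw [hQ]; exact Subgroup.map_subtype_le K
  rw [← hQ] at hKcrit
  have hQchar : Cfsg.Agent.S5195.CharIn Q S := by
    rw [hQ]; exact charIn_of_characteristic K hKc
  haveI : Finite ↥Q := Cfsg.Agent.Lib.helper26.finite_of_le hQS
  -- some automorphism of `Q` in the system does not have `p`-power order
  have hex : ∃ e : MulAut ↥Q, Cfsg.Agent.Lib.helper26.IsIso F e ∧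
      ∀ m : ℕ, ∃ x : ↥Q, (e ^ (p ^ m)) x ≠ x := by
    by_contra hcon
    have hcon' : ∀ e : MulAut ↥Q, Cfsg.Agent.Lib.helper26.IsIso F e →
        ∃ m : ℕ, ∀ x : ↥Q, (e ^ (p ^ m)) x = x := by
      intro e he
      by_contra h1
      apply hcon
      refine ⟨e, he, fun m => ?_⟩
      by_contra h2
      apply h1
      refine ⟨m, fun x => ?_⟩
      by_contra h3
      exact h2 ⟨x, h3⟩
    have key := inner_of_K p hp hS F hF Q hQS hKcrit hcon'
    obtain ⟨P, hP⟩ := hne
    apply hP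
    ext φ
    constructor
    · intro hφ
      obtain ⟨s, hs, hsx⟩ := key P φ hφ
      exact ⟨(F.le_of_mem hφ).1, s, hs, hsx⟩
    · rintro ⟨hP', g, hg, hgx⟩
      exact Cfsg.Agent.Lib.helper25.hom_congr F (F.conj_mem hP' hg) (fun x => hgx x)
  obtain ⟨e, he, hemp⟩ := hex
  have hNQ : Cfsg.FusionSystem.normalizerIn S Q = S :=
    le_antisymm inf_le_left (fun s hs =>
      ⟨hs, normalizes_of_charIn S hQchar s ⟨hs, Subgroup.le_normalizer hs⟩⟩)
  have hQfn : F.IsFullyNormalized Q := by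
    refine ⟨hQS, fun Q' _ => ?_⟩
    rw [hNQ]
    exact Subgroup.card_le_of_le inf_le_left
  have hQrec := Cfsg.Agent.Lib.helper26.receptive_of_fullyNormalized hS F hF hQfn
  have hCQ : Cfsg.FusionSystem.centralizerIn S Q ≤ Q := by
    intro x hx
    have hxS : x ∈ S := hx.1
    have hxc : x ∈ Subgroup.centralizer (Q : Set Ω) := hx.2
    have h1 : (⟨x, hxS⟩ : ↥S) ∈ Subgroup.centralizer (K : Set ↥S) := by
      rw [Subgroup.mem_centralizer_iff]
      intro k hk
      apply Subtype.ext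
      have hkQ : (k : Ω) ∈ Q := by rw [hQ]; exact ⟨k, hk, rfl⟩
      exact Subgroup.mem_centralizer_iff.1 hxc k hkQ
    have h2 := hKcen h1
    rw [hQ]
    exact ⟨⟨x, hxS⟩, h2, rfl⟩
  have hQc : F.IsCentric Q := by
    have h := Cfsg.Agent.S5253.centric_sup_centralizer F hQrec
    rw [sup_eq_left.2 hCQ] at h; exact h
  have hNQsys := Cfsg.Agent.Lib.helper25.isNormalizerSystem_normalizerSystem F Q hQS
  have hsat := Cfsg.Agent.Lib.helper25.normalizerSystem_saturated hS F hF Q hQfn _ hNQsys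
  have hn := Cfsg.Agent.Lib.helper25.isNormal_of_isNormalizerSystem F hQS _ hNQsys
  have hcN := Cfsg.Agent.Lib.helper25.isCentric_of_isNormalizerSystem F hQc _ hNQsys
  obtain ⟨E, hE, hEc⟩ := transport_sys (Cfsg.FusionSystem.normalizerIn S Q) S hNQ
    (Cfsg.Agent.Lib.helper25.normalizerSystem F Q hQS) p ⟨hsat, Q, hn, hcN⟩
  refine ⟨E, ?_, hEc, Q, ?_⟩
  · intro P φ hφ
    rw [hE P, hNQsys P] at hφ
    exact hφ.1
  · intro hEq
    have h1 : Q.subtype.comp e.toMonoidHom ∈ E.Hom Q := by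
      rw [hE Q, hNQsys Q]
      exact Cfsg.Agent.S5253.self_normalizerHom F hQS _ he (Cfsg.Agent.S5253.range_aut e)
    rw [hEq] at h1
    obtain ⟨-, s, hsS, hsx⟩ := h1
    obtain ⟨m, hm⟩ := pow_eq_of_conj hS e s hsS hsx
    obtain ⟨x, hx⟩ := hemp m
    exact hx (hm x)

end Cfsg.Agent.S5332
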