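import Cfsg.Statements.S5221
-- import your own Cfsg.Agent.* helpers here
import Cfsg.Agent.S5332

set_option autoImplicit false
open Cfsg

namespace Cfsg.Agent.S5221

universe u

section fus10

open Cfsg.FusionSystem
open Cfsg.Agent.Lib.helper26 (finite_of_le restrict_mem exists_iso_of_mem IsIso isConj_symm
  isConj_refl isConj_le_right isConj_card mem_autGroup_iff exists_extension_centralizer
  mem_normalizer_of_two_sided conjAut exists_fullyNormalized_conj isCentric_of_isConj
  exists_normalizerIn_not_mem le_extender centralizerIn_le_extender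
  centralizerIn_le_normalizerIn pCore_le_sylow pCore_normal)
open Cfsg.Agent.Lib.helper25 (alperin_goldschmidt_induction le_normalizerIn_self
  normalizerSystem isNormalizerSystem_normalizerSystem
  normalizerSystem_saturated isNormal_of_isNormalizerSystem isCentric_of_isNormalizerSystem
  realHom realHom_mem_S map_realHom realHom_mem hom_congr)
open Cfsg.Agent.S5253 (range_eq_of_into range_aut self_normalizerHom isCentric_self
  normalizerIn_le_sup centric_sup_centralizer)
open Cfsg.Agent.S5194 (transport_inner eq_top_of_npc)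
open Cfsg.Agent.S5195 (CharIn core_fn)
open Cfsg.Agent.S5332 (transport_sys)

variable {Ω : Type u} [Group Ω] {S : Subgroup Ω}

theorem fusionSystem_eq_of_hom {E F : FusionSystem S} (h : ∀ P : Subgroup Ω, E.Hom P = F.Hom P) :
    E = F := by
  cases E with
  | mk Hom₁ a1 a2 a3 a4 a5 =>
  cases F with
  | mk Hom₂ b1 b2 b3 b4 b5 =>
  have hHom : Hom₁ = Hom₂ := funext h
  subst hHom
  rfl

theorem inner_of_normal_centric [Finite S] (p : ℕ) [Fact p.Prime] (hS : IsPGroup p S)
    (F : FusionSystem S) (hF : F.IsSaturated p)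
    (hp : p ≠ 2 ∨ F.IsSectionFree p (Equiv.Perm (Fin 4)))
    (H : ∀ R : Subgroup Ω, F.IsCentric R → normalizerIn S R = S →
      ∀ φ ∈ F.Hom R, φ.range = R → ∃ s ∈ S, ∀ x : R, φ x = s * x * s⁻¹) :
    ∀ (X : Subgroup Ω) (ψ : X →* Ω), ψ ∈ F.Hom X → ∃ s ∈ S, ∀ x : X, ψ x = s * x * s⁻¹ := by
  classical
  have hfnS : ∀ R : Subgroup Ω, F.IsCentric R → F.IsFullyNormalized R →
      normalizerIn S R = S →
      ∀ φ ∈ F.Hom R, φ.range = R → ∃ s ∈ S, ∀ x : R, φ x = s * x * s⁻¹ :=
    fun R hRc _ hTeq φ hφ hrange => H R hRc hTeq φ hφ hrange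
  have hSN : normalizerIn S S = S := le_antisymm inf_le_left (le_normalizerIn_self le_rfl)
  have hSfn : F.IsFullyNormalized S := by
    refine ⟨le_rfl, fun Q _ => ?_⟩
    rw [hSN]
    exact Subgroup.card_le_of_le inf_le_left
  have hbase : ∀ T : Subgroup Ω, T = S → ∀ ψ ∈ F.Hom T, ψ.range = T →
      ∃ s ∈ S, ∀ x : T, ψ x = s * x * s⁻¹ := by
    intro T hT ψ hψ hr
    subst hT
    exact hfnS _ (isCentric_self F) hSfn hSN ψ hψ hr
  have main : ∀ (k : ℕ) (R : Subgroup Ω), F.IsCentric R →
      Nat.card S - Nat.card ↥(normalizerIn S R) = k →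
      ∀ φ ∈ F.Hom R, φ.range = R → ∃ s ∈ S, ∀ x : R, φ x = s * x * s⁻¹ := by
    intro k
    induction k using Nat.strong_induction_on with
    | _ k IH =>
    have star : ∀ (X : Subgroup Ω) (ψ : X →* Ω), ψ ∈ F.Hom X →
        Nat.card S - k ≤ Nat.card X → ∃ s ∈ S, ∀ x : X, ψ x = s * x * s⁻¹ := by
      apply alperin_goldschmidt_induction hS F hF
        (fun U ψ => Nat.card S - k ≤ Nat.card U → ∃ s ∈ S, ∀ x : U, ψ x = s * x * s⁻¹)
      · intro U V φ h hφ hPr hcard
        haveI : Finite V := finite_of_le (F.le_of_mem hφ).1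
        obtain ⟨s, hs, hsx⟩ := hPr (hcard.trans (Subgroup.card_le_of_le h))
        exact ⟨s, hs, fun x => hsx (Subgroup.inclusion h x)⟩
      · intro U V φ ψ' hval hφ hψ' hPrφ hPrψ hcard
        haveI : Finite V := finite_of_le (F.le_of_mem hψ').1
        obtain ⟨s, hs, hsx⟩ := hPrφ hcard
        have hinj : Function.Injective (φ.codRestrict V hval) := by
          intro a b hab
          exact F.injective_of_mem hφ (congrArg Subtype.val hab)
        have hcard' : Nat.card S - k ≤ Nat.card V :=
          hcard.trans (Nat.card_le_card_of_injective _ hinj)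
        obtain ⟨t, ht, htx⟩ := hPrψ hcard'
        refine ⟨t * s, S.mul_mem ht hs, fun x => ?_⟩
        have h1 := htx ((φ.codRestrict V hval) x)
        have h2 : ((φ.codRestrict V hval) x : Ω) = s * x * s⁻¹ := hsx x
        rw [h2] at h1
        show ψ' ((φ.codRestrict V hval) x) = _
        rw [h1]; group
      · intro W' hW' α hα hcard
        have hW'S : W' ≤ S := (F.le_of_mem hα).1
        have hrα : (W'.subtype.comp α.toMonoidHom).range = W' := range_aut α
        by_cases hW'eq : W' = S
        · exact hbase W' hW'eq _ hα hrα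
        · have hess : F.IsEssential p W' := hW'.resolve_left hW'eq
          obtain ⟨g₀, hg₀N, hg₀W⟩ := exists_normalizerIn_not_mem hS hW'S hW'eq
          have hlt : Nat.card W' < Nat.card ↥(normalizerIn S W') := by
            by_contra hcon
            have h := Subgroup.eq_of_le_of_card_ge (le_normalizerIn_self hW'S) (not_lt.1 hcon)
            rw [← h] at hg₀N
            exact hg₀W hg₀N
          have hle : Nat.card ↥(normalizerIn S W') ≤ Nat.card S :=
            Subgroup.card_le_of_le inf_le_left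
          exact IH (Nat.card S - Nat.card ↥(normalizerIn S W')) (by omega) W' hess.1 rfl _ hα
            hrα
    -- the fully normalized case
    have hfn : ∀ R : Subgroup Ω, F.IsCentric R → F.IsFullyNormalized R →
        Nat.card S - Nat.card ↥(normalizerIn S R) = k →
        ∀ φ ∈ F.Hom R, φ.range = R → ∃ s ∈ S, ∀ x : R, φ x = s * x * s⁻¹ := by
      intro R hRc hRfn hk φ hφ hrange
      by_cases hTeq : normalizerIn S R = S
      · exact hfnS R hRc hRfn hTeq φ hφ hrange
      refine core_fn p hS F hF hp R hRc hRfn ?_ φ hφ hrange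
      intro Q hQchar hQne e he
      have hRS : R ≤ S := hRc.1
      have hTS : normalizerIn S R ≤ S := inf_le_left
      have hcardT : Nat.card ↥(normalizerIn S R) ≤ Nat.card S := Subgroup.card_le_of_le hTS
      have hQT : Q ≤ normalizerIn S R := hQchar.1
      have hQS : Q ≤ S := hQT.trans hTS
      haveI : Finite ↥Q := finite_of_le hQS
      have hNTQ : ∀ s ∈ normalizerIn S (normalizerIn S R),
          s ∈ Subgroup.normalizer (Q : Set Ω) := by
        intro s hs
        have key : ∀ t : normalizerIn S (normalizerIn S R), ∀ w ∈ Q,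
            (t : Ω) * w * (t : Ω)⁻¹ ∈ Q := by
          intro t w hw
          exact hQchar.2 (conjAut S (normalizerIn S R) t) ⟨w, hQT hw⟩ hw
        apply mem_normalizer_of_two_sided
        · intro w hw; exact key ⟨s, hs⟩ w hw
        · intro w hw
          have h := key (⟨s, hs⟩⁻¹) w hw
          simpa using h
      -- every map of the system from `Q` into itself is inner
      have hclaim : ∀ ψ ∈ F.Hom Q, (∀ x : Q, ψ x ∈ Q) →
          ∃ s ∈ S, ∀ x : Q, ψ x = s * x * s⁻¹ := by
        intro ψ hψ hinto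
        obtain ⟨s₀, hsN, hsT⟩ := exists_normalizerIn_not_mem hS hTS hTeq
        have hTK : normalizerIn S R ≤ normalizerIn S Q := by
          intro t ht
          exact ⟨hTS ht, hNTQ t ⟨hTS ht, Subgroup.le_normalizer ht⟩⟩
        have hsK : s₀ ∈ normalizerIn S Q := ⟨hsN.1, hNTQ s₀ hsN⟩
        have hlt : Nat.card ↥(normalizerIn S R) < Nat.card ↥(normalizerIn S Q) := by
          by_contra hcon
          have h := Subgroup.eq_of_le_of_card_ge hTK (not_lt.1 hcon)
          rw [← h] at hsK
          exact hsT hsK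
        obtain ⟨U', hconj, hU'fn, -, hU'rec, χ, hχ, e₁, he₁, hχe⟩ :=
          exists_fullyNormalized_conj hS F hF hQS
        obtain ⟨a, haS, hax⟩ := star _ χ hχ (by omega)
        have hUN : Q ≤ normalizerIn S Q := le_normalizerIn_self hQS
        have hea : ∀ u : Q, ((e₁ u : U') : Ω) = a * u * a⁻¹ := by
          intro u
          rw [← hχe u (hUN u.2)]
          exact hax ⟨u, hUN u.2⟩
        have hrψ : ψ.range = Q := range_eq_of_into F ψ hψ hinto
        apply transport_inner F he₁ a haS hea ψ hψ hrψ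
        intro φ₀ hφ₀ hrφ₀
        have hU'S : U' ≤ S := hU'rec.1
        obtain ⟨Ψ, hΨ, hΨx⟩ := hU'rec.2 U' φ₀ hφ₀ hrφ₀
        have hφ₀S : ∀ x, φ₀ x ∈ S := (F.le_of_mem hφ₀).2
        have hU'ext : U' ≤ extender S U' φ₀ := le_extender hU'S hφ₀S
        have hCext : centralizerIn S U' ≤ extender S U' φ₀ := centralizerIn_le_extender
        have hUle : U' ≤ U' ⊔ centralizerIn S U' := le_sup_left
        have hCle : centralizerIn S U' ≤ U' ⊔ centralizerIn S U' := le_sup_right
        have hR₁ext : U' ⊔ centralizerIn S U' ≤ extender S U' φ₀ := sup_le hU'ext hCext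
        have hR₁S : U' ⊔ centralizerIn S U' ≤ S := sup_le hU'S inf_le_left
        haveI : Finite ↥(U' ⊔ centralizerIn S U') := finite_of_le hR₁S
        have hΨ₁ := restrict_mem F hΨ hR₁ext
        have hΨU : ∀ (u : Ω) (hu : u ∈ U'), Ψ ⟨u, hU'ext hu⟩ ∈ U' := by
          intro u hu
          rw [hΨx u hu]
          have h : φ₀ ⟨u, hu⟩ ∈ φ₀.range := ⟨_, rfl⟩
          rw [hrφ₀] at h; exact h
        have hΨC : ∀ (c : Ω) (hc : c ∈ centralizerIn S U'),
            Ψ ⟨c, hCext hc⟩ ∈ centralizerIn S U' := by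
          intro c hc
          refine ⟨(F.le_of_mem hΨ).2 _, ?_⟩
          show _ ∈ Subgroup.centralizer (U' : Set Ω)
          rw [Subgroup.mem_centralizer_iff]
          intro u hu
          have hu' : u ∈ φ₀.range := by rw [hrφ₀]; exact hu
          obtain ⟨u₀, rfl⟩ := hu'
          have h1 := hΨx u₀ u₀.2 (hU'ext u₀.2)
          have hcc : c ∈ Subgroup.centralizer (U' : Set Ω) := hc.2
          have h2 := Subgroup.mem_centralizer_iff.1 hcc u₀ u₀.2
          have h3 : φ₀ u₀ = Ψ ⟨(u₀ : Ω), hU'ext u₀.2⟩ := h1.symm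
          rw [h3, ← map_mul, ← map_mul]
          congr 1
          exact Subtype.ext h2
        have hinto₁ : ∀ x : ↥(U' ⊔ centralizerIn S U'),
            (Ψ.comp (Subgroup.inclusion hR₁ext)) x ∈ U' ⊔ centralizerIn S U' := by
          have hle : U' ⊔ centralizerIn S U' ≤
              ((U' ⊔ centralizerIn S U').comap Ψ).map (extender S U' φ₀).subtype := by
            apply sup_le
            · intro u hu
              exact ⟨⟨u, hU'ext hu⟩, Subgroup.mem_comap.2 (hUle (hΨU u hu)), rfl⟩
            · intro c hc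
              exact ⟨⟨c, hCext hc⟩, Subgroup.mem_comap.2 (hCle (hΨC c hc)), rfl⟩
          intro x
          obtain ⟨x', hx', hxx'⟩ := hle x.2
          have e1 : Subgroup.inclusion hR₁ext x = x' := Subtype.ext hxx'.symm
          show Ψ (Subgroup.inclusion hR₁ext x) ∈ _
          rw [e1]; exact Subgroup.mem_comap.1 hx'
        have hrΨ₁ := range_eq_of_into F _ hΨ₁ hinto₁
        have hR₁c : F.IsCentric (U' ⊔ centralizerIn S U') := centric_sup_centralizer F hU'rec
        have hcard1 : Nat.card ↥(normalizerIn S Q) ≤ Nat.card ↥(normalizerIn S U') :=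
          hU'fn.2 Q (isConj_symm F hconj)
        have hcard2 : Nat.card ↥(normalizerIn S U') ≤
            Nat.card ↥(normalizerIn S (U' ⊔ centralizerIn S U')) :=
          Subgroup.card_le_of_le (normalizerIn_le_sup S U')
        have hcard3 : Nat.card ↥(normalizerIn S (U' ⊔ centralizerIn S U')) ≤ Nat.card S :=
          Subgroup.card_le_of_le inf_le_left
        obtain ⟨b, hbS, hbx⟩ :=
          IH (Nat.card S - Nat.card ↥(normalizerIn S (U' ⊔ centralizerIn S U')))
          (by omega) _ hR₁c rfl _ hΨ₁ hrΨ₁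
        refine ⟨b, hbS, fun x => ?_⟩
        have h6 : Ψ ⟨x, hU'ext x.2⟩ = φ₀ x := hΨx x x.2 (hU'ext x.2)
        have h7 : Ψ ⟨x, hU'ext x.2⟩ = b * x * b⁻¹ := hbx ⟨x, hUle x.2⟩
        exact h6.symm.trans h7
      obtain ⟨s, hsS, hsx⟩ := hclaim (Q.subtype.comp e.toMonoidHom) he (fun x => (e x).2)
      have hsx' : ∀ x : Q, ((e x : Q) : Ω) = s * x * s⁻¹ := hsx
      obtain ⟨m, hm⟩ := hS ⟨s, hsS⟩
      have hsm : s ^ (p ^ m) = 1 := by
        have h2 := congrArg (fun z : ↥S => (z : Ω)) hm
        simpa using h2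
      have hiter : ∀ (j : ℕ) (x : Q),
          (((e ^ j : MulAut ↥Q) x : Q) : Ω) = s ^ j * x * (s ^ j)⁻¹ := by
        intro j
        induction j with
        | zero =>
          intro x
          rw [pow_zero, pow_zero, one_mul, inv_one, mul_one]
          rfl
        | succ j ih =>
          intro x
          have h1 : (e ^ (j + 1) : MulAut ↥Q) x = e ((e ^ j : MulAut ↥Q) x) := by
            rw [pow_succ']; rfl
          rw [h1, hsx', ih x, pow_succ']
          group
      refine ⟨m, fun x => ?_⟩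
      apply Subtype.ext
      rw [hiter, hsm, one_mul, inv_one, mul_one]
    -- the general case
    intro R hRc hk φ hφ hrange
    have hRS : R ≤ S := hRc.1
    obtain ⟨R', hconj, hR'fn, -, -, χ, hχ, e, he, hχe⟩ := exists_fullyNormalized_conj hS F hF hRS
    have hR'c : F.IsCentric R' := isCentric_of_isConj F hRc hconj
    have hcard0 : Nat.card ↥(normalizerIn S R) ≤ Nat.card S := Subgroup.card_le_of_le inf_le_left
    have hcard1 : Nat.card ↥(normalizerIn S R) ≤ Nat.card ↥(normalizerIn S R') :=
      hR'fn.2 R (isConj_symm F hconj)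
    have hcard2 : Nat.card ↥(normalizerIn S R') ≤ Nat.card S := Subgroup.card_le_of_le inf_le_left
    obtain ⟨a, haS, hax⟩ := star _ χ hχ (by omega)
    have hRN : R ≤ normalizerIn S R := le_normalizerIn_self hRS
    have hea : ∀ u : R, ((e u : R') : Ω) = a * u * a⁻¹ := by
      intro u
      rw [← hχe u (hRN u.2)]
      exact hax ⟨u, hRN u.2⟩
    apply transport_inner F he a haS hea φ hφ hrange
    intro φ₀ hφ₀ hrφ₀
    by_cases hlt : Nat.card S - Nat.card ↥(normalizerIn S R') < k
    · exact IH _ hlt R' hR'c rfl φ₀ hφ₀ hrφ₀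
    · exact hfn R' hR'c hR'fn (by omega) φ₀ hφ₀ hrφ₀
  -- all maps of the system are inner
  apply alperin_goldschmidt_induction hS F hF (fun U ψ => ∃ s ∈ S, ∀ x : U, ψ x = s * x * s⁻¹)
  · intro U V φ h hφ hPr
    obtain ⟨s, hs, hsx⟩ := hPr
    exact ⟨s, hs, fun x => hsx (Subgroup.inclusion h x)⟩
  · intro U V φ ψ' hval hφ hψ' hPrφ hPrψ
    obtain ⟨s, hs, hsx⟩ := hPrφ
    obtain ⟨t, ht, htx⟩ := hPrψ
    refine ⟨t * s, S.mul_mem ht hs, fun x => ?_⟩
    have h1 := htx ((φ.codRestrict V hval) x)
    have h2 : ((φ.codRestrict V hval) x : Ω) = s * x * s⁻¹ := hsx x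
    rw [h2] at h1
    show ψ' ((φ.codRestrict V hval) x) = _
    rw [h1]; group
  · intro W' hW' α hα
    have hWc : F.IsCentric W' := by
      rcases hW' with h | h
      · rw [h]; exact isCentric_self F
      · exact h.1
    exact main _ W' hWc rfl _ hα (range_aut α)

end fus10

/-- Let F be a sparse fusion system over a finite p-group S: a saturated fusion system, not the inner fusion system of S, whose only saturated fusion systems over S contained in it are F itself and the inner one. If p is odd, or F is S₄-free (the symmetric group of degree 4 is not involved in any model of the normalizer system of a fully normalized F-centric subgroup), then F is constrained. -/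
theorem result {Ω : Type*} [Group Ω] {S : Subgroup Ω} [Finite S] (p : ℕ) [Fact p.Prime] (hS : IsPGroup p S) (F : Cfsg.FusionSystem S) (hF : F.IsSaturated p) (hsp : ¬ (∀ P : Subgroup Ω, F.Hom P = (Cfsg.innerFusionSystem S).Hom P) ∧ ∀ E : Cfsg.FusionSystem S, E.IsSaturated p → E.IsSubsystemOf F → (∀ P : Subgroup Ω, E.Hom P = F.Hom P) ∨ (∀ P : Subgroup Ω, E.Hom P = (Cfsg.innerFusionSystem S).Hom P)) (hp : p ≠ 2 ∨ F.IsSectionFree p (Equiv.Perm (Fin 4))) : F.IsConstrained p := by
  classical
  have hex : ∃ R : Subgroup Ω, F.IsCentric R ∧ Cfsg.FusionSystem.normalizerIn S R = S ∧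
      ∃ φ ∈ F.Hom R, φ.range = R ∧ ¬ ∃ s ∈ S, ∀ x : R, φ x = s * x * s⁻¹ := by
    by_contra hcon
    apply hsp.1
    have key := inner_of_normal_centric p hS F hF hp (fun R hRc hTeq φ hφ hr => by
      by_contra h
      exact hcon ⟨R, hRc, hTeq, φ, hφ, hr, h⟩)
    intro P
    ext φ
    constructor
    · intro hφ
      obtain ⟨s, hs, hsx⟩ := key P φ hφ
      exact ⟨(F.le_of_mem hφ).1, s, hs, hsx⟩
    · rintro ⟨hP', g, hg, hgx⟩
      exact Cfsg.Agent.Lib.helper25.hom_congr F (F.conj_mem hP' hg) (fun x => hgx x)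
  obtain ⟨R, hRc, hNR, φ, hφ, hrφ, hnot⟩ := hex
  have hRS : R ≤ S := hRc.1
  have hRfn : F.IsFullyNormalized R := by
    refine ⟨hRS, fun Q' _ => ?_⟩
    rw [hNR]
    exact Subgroup.card_le_of_le inf_le_left
  have hNsys := Cfsg.Agent.Lib.helper25.isNormalizerSystem_normalizerSystem F R hRS
  have hsat := Cfsg.Agent.Lib.helper25.normalizerSystem_saturated hS F hF R hRfn _ hNsys
  have hn := Cfsg.Agent.Lib.helper25.isNormal_of_isNormalizerSystem F hRS _ hNsys
  have hcN := Cfsg.Agent.Lib.helper25.isCentric_of_isNormalizerSystem F hRc _ hNsys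
  obtain ⟨E, hE, hEc⟩ := Cfsg.Agent.S5332.transport_sys (Cfsg.FusionSystem.normalizerIn S R) S hNR
    (Cfsg.Agent.Lib.helper25.normalizerSystem F R hRS) p ⟨hsat, R, hn, hcN⟩
  have hEF : E.IsSubsystemOf F := by
    intro P ψ hψ
    rw [hE P, hNsys P] at hψ
    exact hψ.1
  rcases hsp.2 E hEc.1 hEF with h1 | h1
  · have h2 : E = F := fusionSystem_eq_of_hom h1
    rw [← h2]; exact hEc
  · exfalso
    apply hnot
    have h2 : φ ∈ E.Hom R := by
      rw [hE R, hNsys R]
      exact Cfsg.Agent.S5253.self_normalizerHom F hRS φ hφ hrφ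
    rw [h1 R] at h2
    obtain ⟨-, s, hs, hsx⟩ := h2
    exact ⟨s, hs, hsx⟩

end Cfsg.Agent.S5221
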