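import Cfsg.Statements.S5247
-- import your own Cfsg.Agent.* helpers here
import Cfsg.Agent.Lib.helper26.FusionIso
import Cfsg.Agent.Lib.helper26.Centric
import Cfsg.Agent.Lib.helper26.SL2
import Cfsg.Agent.Lib.helper25.FusionSat
import Cfsg.Agent.Lib.helper25.FusionLocal
import Cfsg.Agent.Lib.helper25.ModelCore

set_option autoImplicit false
open Cfsg

namespace Cfsg.Agent.S5247

section
open Cfsg.Agent.Lib.helper26 Cfsg Cfsg.FusionSystem

/-- membership in `O_p(K)` for a subgroup `K`, in terms of subgroups of the ambient group -/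
theorem mem_pCoreOf_iff {X : Type*} [Group X] {p : ℕ} [Fact p.Prime] (K : Subgroup X) (x : X) :
    x ∈ (pCore p K).map K.subtype ↔ ∃ M : Subgroup X, M ≤ K ∧
      (∀ k ∈ K, ∀ m ∈ M, k * m * k⁻¹ ∈ M) ∧ IsPGroup p M ∧ x ∈ M := by
  constructor
  · intro hx
    refine ⟨(pCore p K).map K.subtype, ?_, ?_, ?_, hx⟩
    · rintro _ ⟨y, -, rfl⟩
      exact y.2
    · rintro k hk _ ⟨m, hm, rfl⟩
      exact ⟨⟨k, hk⟩ * m * ⟨k, hk⟩⁻¹, (pCore_normal p K).conj_mem m hm ⟨k, hk⟩, rfl⟩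
    · obtain ⟨P⟩ : Nonempty (Sylow p K) := inferInstance
      exact (P.isPGroup'.to_le (pCore_le_sylow P)).map _
  · rintro ⟨M, hMK, hnorm, hMp, hx⟩
    have hn : (M.subgroupOf K).Normal := by
      constructor
      intro m hm k
      rw [Subgroup.mem_subgroupOf] at hm ⊢
      exact hnorm k k.2 m hm
    have hp' : IsPGroup p (M.subgroupOf K) := hMp.comap_subtype
    exact ⟨⟨x, hMK hx⟩, le_pCore hn hp' (Subgroup.mem_subgroupOf.2 hx), rfl⟩

theorem quad_pow {Q : Type*} [Group Q] (χ : MulAut Q)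
    (hq : ∀ a : Q, (χ a⁻¹) * a * (χ a⁻¹) * (χ (χ a)) = 1) (n : ℕ) (a : Q) :
    (χ ^ n) a = a * (a⁻¹ * χ a) ^ n := by
  have hfix : ∀ a : Q, χ (a⁻¹ * χ a) = a⁻¹ * χ a := by
    intro a
    have h := hq a
    rw [map_inv] at h
    rw [map_mul, map_inv]
    have e : (χ a)⁻¹ * χ (χ a) = ((χ a)⁻¹ * a)⁻¹ * ((χ a)⁻¹ * a * (χ a)⁻¹ * χ (χ a)) := by group
    rw [e, h, mul_one]
    group
  induction n with
  | zero => simp
  | succ n ih =>
    obtain ⟨d, hd⟩ : ∃ d, d = a⁻¹ * χ a := ⟨_, rfl⟩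
    have hχa : χ a = a * d := by rw [hd]; group
    rw [← hd] at ih ⊢
    rw [pow_succ', MulAut.mul_apply, ih, map_mul, map_pow, hd, hfix, ← hd, hχa, pow_succ', mul_assoc]

theorem quad_pow_card {Q : Type*} [Group Q] [Finite Q] (χ : MulAut Q)
    (hq : ∀ a : Q, (χ a⁻¹) * a * (χ a⁻¹) * (χ (χ a)) = 1) : χ ^ Nat.card Q = 1 := by
  ext a
  rw [quad_pow χ hq, pow_card_eq_one', mul_one]
  rfl

theorem quad_mem_pCore_of_cyclic {Q : Type*} [Group Q] [Finite Q] {p : ℕ} [Fact p.Prime]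
    (hQ : IsPGroup p Q) [IsCyclic Q] (A : Subgroup (MulAut Q)) (χ : MulAut Q) (hχ : χ ∈ A)
    (hq : ∀ a : Q, (χ a⁻¹) * a * (χ a⁻¹) * (χ (χ a)) = 1) :
    χ ∈ (pCore p A).map A.subtype := by
  rw [mem_pCoreOf_iff]
  refine ⟨Subgroup.zpowers χ, Subgroup.zpowers_le.2 hχ, ?_, ?_, Subgroup.mem_zpowers χ⟩
  · intro k _ m hm
    have h1 : k * m = m * k := mulAut_comm_of_cyclic k m
    rw [h1, mul_inv_cancel_right]
    exact hm
  · obtain ⟨m, hm⟩ := IsPGroup.iff_card.1 hQ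
    rintro ⟨g, hg⟩
    refine ⟨m, ?_⟩
    obtain ⟨j, rfl⟩ := Subgroup.mem_zpowers_iff.1 hg
    apply Subtype.ext
    show (χ ^ j) ^ p ^ m = 1
    rw [← hm, ← zpow_natCast, ← zpow_mul, mul_comm, zpow_mul, zpow_natCast, quad_pow_card χ hq,
      one_zpow]

variable {Ω : Type*} [Group Ω] {S : Subgroup Ω}

theorem quad_stable_any [Finite S] {p : ℕ} [Fact p.Prime] (F : FusionSystem S)
    (hst : ∀ Q : Subgroup Ω, F.IsFullyNormalized Q → ∀ χ : MulAut ↥Q, χ ∈ F.autGroup Q →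
      (∀ a : ↥Q, (χ a⁻¹) * a * (χ a⁻¹) * (χ (χ a)) = 1) →
      χ ∈ ((Cfsg.pCore p ↥(F.autGroup Q)).map (F.autGroup Q).subtype : Subgroup (MulAut ↥Q)))
    (Q : Subgroup Ω) (hQS : Q ≤ S) (χ : MulAut Q) (hχ : χ ∈ F.autGroup Q)
    (hq : ∀ a : ↥Q, (χ a⁻¹) * a * (χ a⁻¹) * (χ (χ a)) = 1) :
    χ ∈ ((Cfsg.pCore p ↥(F.autGroup Q)).map (F.autGroup Q).subtype : Subgroup (MulAut ↥Q)) := by
  obtain ⟨Q', hconj, hfn⟩ := Cfsg.Agent.Lib.helper25.exists_fullyNormalized_isConj F hQS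
  obtain ⟨e, he⟩ := (isConj_iff_exists_iso F).1 hconj
  have hχ' := he.congr_mem hχ
  have hq' : ∀ b : Q', (MulAut.congr e χ) b⁻¹ * b * (MulAut.congr e χ) b⁻¹ *
      (MulAut.congr e χ) ((MulAut.congr e χ) b) = 1 := by
    intro b
    have h := hq (e.symm b)
    have h2 := congrArg e h
    rw [map_mul, map_mul, map_mul, map_one, MulEquiv.apply_symm_apply] at h2
    show e (χ (e.symm b⁻¹)) * b * e (χ (e.symm b⁻¹)) * e (χ (e.symm (e (χ (e.symm b))))) = 1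
    rw [MulEquiv.symm_apply_apply, map_inv]
    exact h2
  have h1 := hst Q' hfn _ hχ' hq'
  rw [mem_pCoreOf_iff] at h1 ⊢
  obtain ⟨M', hM'A, hnorm', hp', hmem'⟩ := h1
  refine ⟨M'.comap (MulAut.congr e).toMonoidHom, ?_, ?_, ?_, hmem'⟩
  · intro m hm
    exact he.congr_mem_iff.1 (hM'A hm)
  · intro k hk m hm
    show MulAut.congr e (k * m * k⁻¹) ∈ M'
    rw [map_mul, map_mul, map_inv]
    exact hnorm' _ (he.congr_mem hk) _ hm
  · exact hp'.comap_of_injective (MulAut.congr e).toMonoidHom (MulAut.congr e).injective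

theorem main [Finite S] (p : ℕ) [Fact p.Prime] (hS : IsPGroup p S) (F : Cfsg.FusionSystem S) :
    (∀ Q : Subgroup Ω, F.IsFullyNormalized Q → ∀ χ : MulAut ↥Q, χ ∈ F.autGroup Q →
      (∀ a : ↥Q, (χ a⁻¹) * a * (χ a⁻¹) * (χ (χ a)) = 1) →
      χ ∈ ((Cfsg.pCore p ↥(F.autGroup Q)).map (F.autGroup Q).subtype : Subgroup (MulAut ↥Q))) ↔
    ∀ R : Subgroup Ω, F.IsFullyNormalized R → ¬ IsCyclic ↥R →
      ∀ N : Cfsg.FusionSystem (Cfsg.FusionSystem.normalizerIn S R), F.IsNormalizerSystem R N →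
        (∀ Q : Subgroup Ω, N.IsFullyNormalized Q → ∀ χ : MulAut ↥Q, χ ∈ N.autGroup Q →
          (∀ a : ↥Q, (χ a⁻¹) * a * (χ a⁻¹) * (χ (χ a)) = 1) →
          χ ∈ ((Cfsg.pCore p ↥(N.autGroup Q)).map (N.autGroup Q).subtype :
            Subgroup (MulAut ↥Q))) := by
  constructor
  · intro hst R hR hRnc N hN Q hQ χ hχ hq
    have hQN : Q ≤ normalizerIn S R := hQ.1
    have hQS : Q ≤ S := hQN.trans inf_le_left
    have hsub : ∀ α ∈ N.autGroup Q, α ∈ F.autGroup Q := by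
      intro α hα
      have h1 := (mem_autGroup_iff N hQN α).1 hα
      rw [hN Q] at h1
      exact (mem_autGroup_iff F hQS α).2 h1.1
    have h1 := quad_stable_any F hst Q hQS χ (hsub χ hχ) hq
    rw [mem_pCoreOf_iff] at h1 ⊢
    obtain ⟨M, hMA, hnorm, hp, hmem⟩ := h1
    refine ⟨M ⊓ N.autGroup Q, inf_le_right, ?_, hp.to_le inf_le_left, ⟨hmem, hχ⟩⟩
    intro k hk m hm
    exact ⟨hnorm k (hsub k hk) m hm.1,
      (N.autGroup Q).mul_mem ((N.autGroup Q).mul_mem hk hm.2) ((N.autGroup Q).inv_mem hk)⟩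
  · intro hall Q hQ χ hχ hq
    have hQS : Q ≤ S := hQ.1
    haveI : Finite Q := finite_of_le hQS
    by_cases hc : IsCyclic Q
    · exact quad_mem_pCore_of_cyclic (hS.to_le hQS) (F.autGroup Q) χ hχ hq
    · have hN := Cfsg.Agent.Lib.helper25.isNormalizerSystem_normalizerSystem F Q hQS
      have hAut := Cfsg.Agent.Lib.helper25.autGroup_eq_of_isNormalizerSystem F hQS _ hN
      haveI : Finite ↥(normalizerIn S Q) := finite_of_le inf_le_left
      have hQfn : (Cfsg.Agent.Lib.helper25.normalizerSystem F Q hQS).IsFullyNormalized Q := by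
        refine ⟨le_inf hQS Subgroup.le_normalizer, fun Q' _ => ?_⟩
        have h1 : normalizerIn (normalizerIn S Q) Q = normalizerIn S Q :=
          le_antisymm inf_le_left (le_inf le_rfl inf_le_right)
        rw [h1]
        exact Subgroup.card_le_of_le inf_le_left
      have h2 := hall Q hQ hc _ hN Q hQfn χ (by rw [hAut]; exact hχ) hq
      rw [hAut] at h2
      exact h2
end

/-- Let p be an odd prime and F a saturated fusion system over a finite p-group S. Call a fusion system E (over any subgroup) p-stable when, for every fully E-normalized subgroup Q and every χ ∈ Aut_E(Q) with χ(a⁻¹)·a·χ(a⁻¹)·χ(χ(a)) = 1 for all a ∈ Q (χ acts quadratically), χ lies in O_p(Aut_E(Q)). Then F is p-stable if and only if every normalizer fusion system N_F(R) of every non-cyclic fully F-normalized subgroup R of S is p-stable. -/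
theorem result {Ω : Type*} [Group Ω] {S : Subgroup Ω} [Finite S] (p : ℕ) [Fact p.Prime] (hS : IsPGroup p S) (F : Cfsg.FusionSystem S) (hF : F.IsSaturated p) (hp : p ≠ 2) : (∀ Q : Subgroup Ω, F.IsFullyNormalized Q → ∀ χ : MulAut ↥Q, χ ∈ F.autGroup Q → (∀ a : ↥Q, (χ a⁻¹) * a * (χ a⁻¹) * (χ (χ a)) = 1) → χ ∈ ((Cfsg.pCore p ↥(F.autGroup Q)).map (F.autGroup Q).subtype : Subgroup (MulAut ↥Q))) ↔ ∀ R : Subgroup Ω, F.IsFullyNormalized R → ¬ IsCyclic ↥R → ∀ N : Cfsg.FusionSystem (Cfsg.FusionSystem.normalizerIn S R), F.IsNormalizerSystem R N → (∀ Q : Subgroup Ω, N.IsFullyNormalized Q → ∀ χ : MulAut ↥Q, χ ∈ N.autGroup Q → (∀ a : ↥Q, (χ a⁻¹) * a * (χ a⁻¹) * (χ (χ a)) = 1) → χ ∈ ((Cfsg.pCore p ↥(N.autGroup Q)).map (N.autGroup Q).subtype : Subgroup (MulAut ↥Q))) := by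
  exact main p hS F

end Cfsg.Agent.S5247
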