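import Cfsg.Statements.S5281
import Cfsg.Agent.S5247
import Cfsg.Agent.Lib.helper7.ZJInnA
import Cfsg.Agent.Lib.helper25.FusionRadical
import Cfsg.Agent.Lib.helper26.Frattini
import Cfsg.Agent.Lib.helper26.CentricExt

set_option autoImplicit false
open Cfsg

namespace Cfsg.Agent.S5281

section
open Cfsg.Agent.Lib.helper26 Cfsg Cfsg.FusionSystem

universe u
variable {Ω : Type u} [Group Ω] {S : Subgroup Ω}

/-- Every automorphism of `Q` in the system extends to an automorphism of `P` in the system. -/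
def Ext (F : FusionSystem S) (Q P : Subgroup Ω) (hQP : Q ≤ P) : Prop :=
  ∀ α ∈ F.autGroup Q, ∃ α' ∈ F.autGroup P, ∀ x : Q, ((α' ⟨x, hQP x.2⟩ : P) : Ω) = α x

theorem aut_of_hom [Finite S] (F : FusionSystem S) {P Y : Subgroup Ω} (hPS : P ≤ S) (hPY : P ≤ Y)
    {ψ : Y →* Ω} (hψ : ψ ∈ F.Hom Y) (hinto : ∀ x : P, ψ ⟨x, hPY x.2⟩ ∈ P) :
    ∃ α' ∈ F.autGroup P, ∀ x : P, ((α' x : P) : Ω) = ψ ⟨x, hPY x.2⟩ := by
  haveI : Finite P := finite_of_le hPS
  have hres : ψ.comp (Subgroup.inclusion hPY) ∈ F.Hom P := restrict_mem F hψ hPY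
  obtain ⟨f, hf⟩ : ∃ f : P →* P, f = (ψ.comp (Subgroup.inclusion hPY)).codRestrict P
      (fun x => hinto x) := ⟨_, rfl⟩
  have hfx : ∀ x : P, ((f x : P) : Ω) = ψ ⟨x, hPY x.2⟩ := by
    intro x; rw [hf]; rfl
  have hinj : Function.Injective f := by
    intro a b hab
    have h1 : (ψ.comp (Subgroup.inclusion hPY)) a = (ψ.comp (Subgroup.inclusion hPY)) b := by
      have := congrArg Subtype.val hab
      rw [hfx, hfx] at this
      exact this
    exact F.injective_of_mem hres h1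
  have hbij : Function.Bijective f := ⟨hinj, Finite.injective_iff_surjective.1 hinj⟩
  refine ⟨MulEquiv.ofBijective f hbij, ?_, fun x => hfx x⟩
  rw [mem_autGroup_iff F hPS]
  have e : P.subtype.comp (MulEquiv.ofBijective f hbij).toMonoidHom =
      ψ.comp (Subgroup.inclusion hPY) := by
    ext x
    exact hfx x
  rw [e]; exact hres

theorem ext_cent [Finite S] (F : FusionSystem S) {Q : Subgroup Ω} (hrec : F.IsReceptive Q) :
    Ext F Q (Q ⊔ centralizerIn S Q) le_sup_left := by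
  intro α hα
  have hQS : Q ≤ S := hrec.1
  have hiso : IsIso F α := (mem_autGroup_iff_isIso F hQS α).1 hα
  obtain ⟨Y, hQY, hCY, -, ψ, hψ, hψe, hψc⟩ := exists_extension_centralizer F hrec hiso
  have hPY : Q ⊔ centralizerIn S Q ≤ Y := sup_le hQY hCY
  have hinto : ∀ x : ↥(Q ⊔ centralizerIn S Q), ψ ⟨x, hPY x.2⟩ ∈ Q ⊔ centralizerIn S Q := by
    have hle : Q ⊔ centralizerIn S Q ≤ ((Q ⊔ centralizerIn S Q).comap ψ).map Y.subtype := by
      apply sup_le
      · intro u hu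
        refine ⟨⟨u, hQY hu⟩, Subgroup.mem_comap.2 ?_, rfl⟩
        rw [hψe ⟨u, hu⟩ (hQY hu)]
        exact Subgroup.mem_sup_left (α ⟨u, hu⟩).2
      · intro c hc
        exact ⟨⟨c, hCY hc⟩, Subgroup.mem_comap.2 (Subgroup.mem_sup_right (hψc c hc (hCY hc))), rfl⟩
    intro x
    obtain ⟨y, hy, hyx⟩ := hle x.2
    have e1 : (⟨x, hPY x.2⟩ : Y) = y := Subtype.ext hyx.symm
    rw [e1]; exact Subgroup.mem_comap.1 hy
  obtain ⟨α', hα', hα'x⟩ := aut_of_hom F (sup_le hQS inf_le_left) hPY hψ hinto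
  refine ⟨α', hα', fun x => ?_⟩
  exact (hα'x ⟨x, Subgroup.mem_sup_left x.2⟩).trans (hψe x _)

theorem ext_step [Finite S] {p : ℕ} [Fact p.Prime] (hS : IsPGroup p S) (F : FusionSystem S)
    {P : Subgroup Ω} (hfa : F.IsFullyAutomized p P) (hrec : F.IsReceptive P)
    (hcen : F.IsCentric P) (hnr : ¬ F.IsRadical p P) :
    ∃ (R : Subgroup Ω) (hPR : P ≤ R), R ≤ S ∧ Nat.card P < Nat.card R ∧ Ext F P R hPR := by
  have hPS : P ≤ S := hcen.1
  haveI : Finite P := finite_of_le hPS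
  obtain ⟨O, hO⟩ : ∃ O, O = (pCore p (F.autGroup P)).map (F.autGroup P).subtype := ⟨_, rfl⟩
  have hInnO : Inn P ≤ O := by rw [hO]; exact inn_le_pCore_autGroup hS F hPS
  have hOS : O ≤ autInducedBy S P := by
    obtain ⟨-, T, hT⟩ := hfa
    intro o ho
    rw [hO] at ho
    obtain ⟨o', ho', rfl⟩ := ho
    have h1 : o' ∈ (T : Subgroup (F.autGroup P)) := pCore_le_sylow T ho'
    rw [hT, Subgroup.mem_subgroupOf] at h1
    exact h1
  have hOn : ∀ a ∈ F.autGroup P, ∀ o ∈ O, a * o * a⁻¹ ∈ O := by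
    intro a ha o ho
    rw [hO] at ho ⊢
    obtain ⟨o', ho', rfl⟩ := ho
    exact ⟨⟨a, ha⟩ * o' * ⟨a, ha⟩⁻¹, (pCore_normal p _).conj_mem o' ho' ⟨a, ha⟩, rfl⟩
  obtain ⟨R, hR⟩ : ∃ R, R = (O.comap (conjAut S P)).map (normalizerIn S P).subtype := ⟨_, rfl⟩
  have hmemR : ∀ g : Ω, g ∈ R ↔ ∃ hg : g ∈ normalizerIn S P, conjAut S P ⟨g, hg⟩ ∈ O := by
    intro g
    rw [hR]
    constructor
    · rintro ⟨g', hg', rfl⟩
      exact ⟨g'.2, hg'⟩
    · rintro ⟨hg, h⟩
      exact ⟨⟨g, hg⟩, h, rfl⟩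
  have hRN : R ≤ normalizerIn S P := fun g hg => ((hmemR g).1 hg).1
  have hRS : R ≤ S := hRN.trans inf_le_left
  haveI : Finite R := finite_of_le hRS
  have hPN : P ≤ normalizerIn S P := le_inf hPS Subgroup.le_normalizer
  have hinn : ∀ (x : Ω) (hx : x ∈ P), conjAut S P ⟨x, hPN hx⟩ ∈ Inn P := by
    intro x hx
    refine ⟨⟨x, hx⟩, ?_⟩
    ext y
    rfl
  have hPR : P ≤ R := by
    intro x hx
    rw [hmemR]
    exact ⟨hPN hx, hInnO (hinn x hx)⟩
  refine ⟨R, hPR, hRS, ?_, ?_⟩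
  · by_contra hcon
    have hle : Nat.card R ≤ Nat.card P := not_lt.mp hcon
    have hEq : P = R := Subgroup.eq_of_le_of_card_ge hPR hle
    apply hnr
    refine ⟨hPS, ?_⟩
    rw [← hO]
    apply le_antisymm _ hInnO
    intro o ho
    obtain ⟨g, hg⟩ := (mem_autInducedBy_iff_conjAut o).1 (hOS ho)
    have hgR : (g : Ω) ∈ R := by
      rw [hmemR]
      exact ⟨g.2, by rw [hg]; exact ho⟩
    rw [← hEq] at hgR
    rw [← hg]
    exact hinn g hgR
  · intro β hβ
    have hνX : ∀ (g : Ω) (hg : g ∈ R), β * conjAut S P ⟨g, hRN hg⟩ * β⁻¹ ∈ autInducedBy S P := by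
      intro g hg
      exact hOS (hOn β hβ _ ((hmemR g).1 hg).2)
    obtain ⟨Y, hPY, hRY, hYN, ψ, hψ, hψx⟩ := exists_extension_of_normalizes F hrec β hβ R hRN hνX
    have hψS : ∀ y : Y, ψ y ∈ S := (F.le_of_mem hψ).2
    have hinto : ∀ x : R, ψ ⟨x, hRY x.2⟩ ∈ R := by
      intro x
      have hxN : (x : Ω) ∈ normalizerIn S P := hRN x.2
      have hconjx : ∀ y : P, ψ ⟨x, hRY x.2⟩ * ((β y : P) : Ω) * (ψ ⟨x, hRY x.2⟩)⁻¹ =
          ((β (conjAut S P ⟨x, hxN⟩ y) : P) : Ω) := by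
        intro y
        rw [← hψx y (hPY y.2), ← hψx (conjAut S P ⟨x, hxN⟩ y) (hPY (conjAut S P ⟨x, hxN⟩ y).2),
          ← map_inv, ← map_mul, ← map_mul]
        rfl
      have hhN : ψ ⟨x, hRY x.2⟩ ∈ normalizerIn S P := by
        refine ⟨hψS _, ?_⟩
        apply Cfsg.Agent.Lib.helper7.Model.mem_normalizer_of_conj_le P
        intro y hy
        have h1 := hconjx (β⁻¹ ⟨y, hy⟩)
        have h2 : ((β (β⁻¹ ⟨y, hy⟩) : P) : Ω) = y := by simp
        rw [h2] at h1
        rw [h1]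
        exact (β _).2
      rw [hmemR]
      refine ⟨hhN, ?_⟩
      have hEq : conjAut S P ⟨ψ ⟨x, hRY x.2⟩, hhN⟩ = β * conjAut S P ⟨x, hxN⟩ * β⁻¹ := by
        ext y
        have h1 := hconjx (β⁻¹ y)
        have h2 : ((β (β⁻¹ y) : P) : Ω) = y := by simp
        rw [h2] at h1
        exact h1
      rw [hEq]
      exact hOn β hβ _ ((hmemR x).1 x.2).2
    obtain ⟨α', hα', hα'x⟩ := aut_of_hom F hRS hRY hψ hinto
    refine ⟨α', hα', fun x => ?_⟩
    rw [hα'x]
    exact hψx x _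

theorem ind_main [Finite S] (p : ℕ) [Fact p.Prime] (hS : IsPGroup p S) (F : FusionSystem S)
    (hF : F.IsSaturated p)
    (hall : ∀ R : Subgroup Ω, F.IsFullyNormalized R → F.IsCentric R → F.IsRadical p R →
      ∀ N : FusionSystem (normalizerIn S R), F.IsNormalizerSystem R N →
        (∀ Q : Subgroup Ω, N.IsFullyNormalized Q → ∀ χ : MulAut ↥Q, χ ∈ N.autGroup Q →
          (∀ a : ↥Q, (χ a⁻¹) * a * (χ a⁻¹) * (χ (χ a)) = 1) →
          χ ∈ ((pCore p ↥(N.autGroup Q)).map (N.autGroup Q).subtype : Subgroup (MulAut ↥Q)))) :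
    ∀ (n : ℕ) (P : Subgroup Ω), F.IsCentric P → Nat.card S - Nat.card P = n →
      ∀ (Q : Subgroup Ω) (hQP : Q ≤ P), Ext F Q P hQP → ∀ χ : MulAut Q, χ ∈ F.autGroup Q →
        (∀ a : Q, (χ a⁻¹) * a * (χ a⁻¹) * (χ (χ a)) = 1) →
        χ ∈ ((pCore p ↥(F.autGroup Q)).map (F.autGroup Q).subtype : Subgroup (MulAut ↥Q)) := by
  intro n
  induction n using Nat.strong_induction_on with
  | _ n ih =>
    intro P hcen hn Q hQP hExt χ hχ hq
    have hPS := hcen.1
    have hQS : Q ≤ S := hQP.trans hPS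
    obtain ⟨P', hconj, hfn, hfa, hrec, ψ₀, -, e, he, -⟩ := exists_fullyNormalized_conj hS F hF hPS
    obtain ⟨Q₁, hQ₁P', e₁, he₁, he₁x⟩ := IsIso.restrict he hQP
    have hcen' : F.IsCentric P' := isCentric_of_isConj F hcen hconj
    have hP'S := hcen'.1
    have hQ₁S : Q₁ ≤ S := hQ₁P'.trans hP'S
    have hχ' := he₁.congr_mem hχ
    have hq' : ∀ b : Q₁, (MulAut.congr e₁ χ) b⁻¹ * b * (MulAut.congr e₁ χ) b⁻¹ *
        (MulAut.congr e₁ χ) ((MulAut.congr e₁ χ) b) = 1 := by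
      intro b
      have h := hq (e₁.symm b)
      have h2 := congrArg e₁ h
      rw [map_mul, map_mul, map_mul, map_one, MulEquiv.apply_symm_apply] at h2
      show e₁ (χ (e₁.symm b⁻¹)) * b * e₁ (χ (e₁.symm b⁻¹)) * e₁ (χ (e₁.symm (e₁ (χ (e₁.symm b))))) = 1
      rw [MulEquiv.symm_apply_apply, map_inv]
      exact h2
    have hExt' : Ext F Q₁ P' hQ₁P' := by
      intro α' hα'
      have hα : MulAut.congr e₁.symm α' ∈ F.autGroup Q := he₁.symm.congr_mem hα'
      obtain ⟨β, hβ, hβx⟩ := hExt _ hα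
      refine ⟨MulAut.congr e β, he.congr_mem hβ, fun y => ?_⟩
      have h1 : e.symm ⟨y, hQ₁P' y.2⟩ = ⟨e₁.symm y, hQP (e₁.symm y).2⟩ := by
        apply e.injective
        rw [MulEquiv.apply_symm_apply]
        apply Subtype.ext
        rw [← he₁x, MulEquiv.apply_symm_apply]
      show ((e (β (e.symm ⟨y, hQ₁P' y.2⟩)) : P') : Ω) = α' y
      rw [h1]
      have h2 := hβx (e₁.symm y)
      have h3 : (MulAut.congr e₁.symm α') (e₁.symm y) = e₁.symm (α' y) := by
        show e₁.symm (α' (e₁.symm.symm (e₁.symm y))) = _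
        simp
      have h4 : β ⟨e₁.symm y, hQP (e₁.symm y).2⟩ = ⟨e₁.symm (α' y), hQP (e₁.symm (α' y)).2⟩ := by
        apply Subtype.ext; rw [h2, h3]
      rw [h4, ← he₁x, MulEquiv.apply_symm_apply]
    have key : MulAut.congr e₁ χ ∈
        ((pCore p ↥(F.autGroup Q₁)).map (F.autGroup Q₁).subtype : Subgroup (MulAut ↥Q₁)) := by
      by_cases hrad : F.IsRadical p P'
      · have hN := Cfsg.Agent.Lib.helper25.isNormalizerSystem_normalizerSystem F P' hP'S
        haveI : Finite ↥(normalizerIn S P') := finite_of_le inf_le_left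
        have hst := hall P' hfn hcen' hrad _ hN
        have hP'N : P' ≤ normalizerIn S P' := le_inf hP'S Subgroup.le_normalizer
        have hQ₁N : Q₁ ≤ normalizerIn S P' := hQ₁P'.trans hP'N
        have hsup : ∀ α ∈ F.autGroup Q₁,
            α ∈ (Cfsg.Agent.Lib.helper25.normalizerSystem F P' hP'S).autGroup Q₁ := by
          intro α hα
          obtain ⟨β, hβ, hβx⟩ := hExt' α hα
          have hβF : P'.subtype.comp β.toMonoidHom ∈ F.Hom P' := (mem_autGroup_iff F hP'S β).1 hβ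
          have hβN := Cfsg.Agent.Lib.helper7.ZJInn.mem_normalizerSystem_of_into F hP'S hβF le_rfl
            hP'N (fun w hw => (β ⟨w, hw⟩).2)
          have hres := restrict_mem (Cfsg.Agent.Lib.helper25.normalizerSystem F P' hP'S) hβN hQ₁P'
          rw [mem_autGroup_iff _ hQ₁N]
          have e2 : Q₁.subtype.comp α.toMonoidHom =
              (P'.subtype.comp β.toMonoidHom).comp (Subgroup.inclusion hQ₁P') := by
            ext x
            exact (hβx x).symm
          rw [e2]; exact hres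
        have hsub : ∀ α ∈ (Cfsg.Agent.Lib.helper25.normalizerSystem F P' hP'S).autGroup Q₁,
            α ∈ F.autGroup Q₁ := by
          intro α hα
          have h1 := (mem_autGroup_iff _ hQ₁N α).1 hα
          rw [hN Q₁] at h1
          exact (mem_autGroup_iff F hQ₁S α).2 h1.1
        have h1 := Cfsg.Agent.S5247.quad_stable_any
          (Cfsg.Agent.Lib.helper25.normalizerSystem F P' hP'S) hst Q₁ hQ₁N _ (hsup _ hχ') hq'
        rw [Cfsg.Agent.S5247.mem_pCoreOf_iff] at h1 ⊢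
        obtain ⟨M, hMA, hnorm, hp, hmem⟩ := h1
        exact ⟨M, fun m hm => hsub m (hMA hm), fun k hk m hm => hnorm k (hsup k hk) m hm, hp, hmem⟩
      · obtain ⟨R, hP'R, hRS, hlt, hExtR⟩ := ext_step hS F hfa hrec hcen' hrad
        have hcenR : F.IsCentric R := isCentric_of_le F hcen' hP'R hRS
        have hcard : Nat.card P = Nat.card P' := Nat.card_congr e.toEquiv
        have hRle : Nat.card R ≤ Nat.card S := Subgroup.card_le_of_le hRS
        have hlt' : Nat.card S - Nat.card R < n := by omega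
        refine ih _ hlt' R hcenR rfl Q₁ (hQ₁P'.trans hP'R) ?_ _ hχ' hq'
        intro α hα
        obtain ⟨β, hβ, hβx⟩ := hExt' α hα
        obtain ⟨γ, hγ, hγx⟩ := hExtR β hβ
        exact ⟨γ, hγ, fun x => by rw [← hβx x]; exact hγx ⟨x, hQ₁P' x.2⟩⟩
    rw [Cfsg.Agent.S5247.mem_pCoreOf_iff] at key ⊢
    obtain ⟨M', hM'A, hnorm', hp', hmem'⟩ := key
    refine ⟨M'.comap (MulAut.congr e₁).toMonoidHom, ?_, ?_, ?_, hmem'⟩
    · intro m hm
      exact he₁.congr_mem_iff.1 (hM'A hm)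
    · intro k hk m hm
      show MulAut.congr e₁ (k * m * k⁻¹) ∈ M'
      rw [map_mul, map_mul, map_inv]
      exact hnorm' _ (he₁.congr_mem hk) _ hm
    · exact hp'.comap_of_injective (MulAut.congr e₁).toMonoidHom (MulAut.congr e₁).injective

end

/-- Let p be an odd prime and F a saturated fusion system over a finite p-group S. Call a fusion system E (over any subgroup) p-stable when, for every fully E-normalized subgroup Q and every χ in Aut_E(Q) with χ(a⁻¹)·a·χ(a⁻¹)·χ(χ(a)) = 1 for all a in Q (χ acts quadratically), χ lies in O_p(Aut_E(Q)). Then F is p-stable if and only if the normalizer fusion system of R in F is p-stable for every fully F-normalized, F-centric, F-radical subgroup R of S. -/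
theorem result {Ω : Type*} [Group Ω] {S : Subgroup Ω} [Finite S] (p : ℕ) [Fact p.Prime] (hS : IsPGroup p ↥S) (F : Cfsg.FusionSystem S) (hF : F.IsSaturated p) (hp : p ≠ 2) : (∀ Q : Subgroup Ω, F.IsFullyNormalized Q → ∀ χ : MulAut ↥Q, χ ∈ F.autGroup Q → (∀ a : ↥Q, (χ a⁻¹) * a * (χ a⁻¹) * (χ (χ a)) = 1) → χ ∈ ((Cfsg.pCore p ↥(F.autGroup Q)).map (F.autGroup Q).subtype : Subgroup (MulAut ↥Q))) ↔ ∀ R : Subgroup Ω, F.IsFullyNormalized R → F.IsCentric R → F.IsRadical p R → ∀ N : Cfsg.FusionSystem (Cfsg.FusionSystem.normalizerIn S R), F.IsNormalizerSystem R N → (∀ Q : Subgroup Ω, N.IsFullyNormalized Q → ∀ χ : MulAut ↥Q, χ ∈ N.autGroup Q → (∀ a : ↥Q, (χ a⁻¹) * a * (χ a⁻¹) * (χ (χ a)) = 1) → χ ∈ ((Cfsg.pCore p ↥(N.autGroup Q)).map (N.autGroup Q).subtype : Subgroup (MulAut ↥Q))) := by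
  constructor
  · intro hst R hR hRc hRr N hN Q hQ χ hχ hq
    have hQN : Q ≤ Cfsg.FusionSystem.normalizerIn S R := hQ.1
    have hQS : Q ≤ S := hQN.trans inf_le_left
    have hsub : ∀ α ∈ N.autGroup Q, α ∈ F.autGroup Q := by
      intro α hα
      have h1 := (Cfsg.Agent.Lib.helper26.mem_autGroup_iff N hQN α).1 hα
      rw [hN Q] at h1
      exact (Cfsg.Agent.Lib.helper26.mem_autGroup_iff F hQS α).2 h1.1
    have h1 := Cfsg.Agent.S5247.quad_stable_any F hst Q hQS χ (hsub χ hχ) hq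
    rw [Cfsg.Agent.S5247.mem_pCoreOf_iff] at h1 ⊢
    obtain ⟨M, hMA, hnorm, hp, hmem⟩ := h1
    refine ⟨M ⊓ N.autGroup Q, inf_le_right, ?_, hp.to_le inf_le_left, ⟨hmem, hχ⟩⟩
    intro k hk m hm
    exact ⟨hnorm k (hsub k hk) m hm.1,
      (N.autGroup Q).mul_mem ((N.autGroup Q).mul_mem hk hm.2) ((N.autGroup Q).inv_mem hk)⟩
  · intro hall Q hQ χ hχ hq
    have hrec := Cfsg.Agent.Lib.helper26.receptive_of_fullyNormalized hS F hF hQ
    have hcen := Cfsg.Agent.S5253.centric_sup_centralizer F hrec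
    exact ind_main p hS F hF hall _ (Q ⊔ Cfsg.FusionSystem.centralizerIn S Q) hcen rfl Q le_sup_left
      (ext_cent F hrec) χ hχ hq

end Cfsg.Agent.S5281
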