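import Cfsg.Statements.S0042
import Mathlib
import Cfsg.Agent.Lib.helper1.FpfPrime
import Cfsg.Agent.S0035
-- import your own Cfsg.Agent.* helpers here

set_option autoImplicit false
open Cfsg

namespace Cfsg.Agent.S0042

open Pointwise

/-- In a finite Frobenius group, the Frobenius kernel is (the carrier of) a normal subgroup which is nilpotent. -/
theorem result {G : Type*} [Group G] [Finite G] (H : Subgroup G) (hH : Cfsg.IsFrobeniusComplement H) :
    ∃ N : Subgroup G, (N : Set G) = Cfsg.frobeniusKernel H ∧ N.Normal ∧ Group.IsNilpotent N := by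
  obtain ⟨N, hNset, hNn, hNc⟩ := Cfsg.Agent.S0035.result H hH
  refine ⟨N, hNset, hNn, ?_⟩
  haveI := hNn
  obtain ⟨hH1, hHtop, hmal⟩ := hH
  have hcard : Nat.card H ≠ 1 := fun h => hH1 (Subgroup.eq_bot_of_card_eq H h)
  obtain ⟨r, hr, hrdvd⟩ := Nat.exists_prime_and_dvd hcard
  haveI : Fact r.Prime := ⟨hr⟩
  obtain ⟨h₀, hh₀⟩ := exists_prime_orderOf_dvd_card' r hrdvd
  have hto : orderOf (h₀ : G) = r := by rw [Subgroup.orderOf_coe]; exact hh₀
  have htH : (h₀ : G) ∈ H := h₀.2
  have ht1 : (h₀ : G) ≠ 1 := by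
    intro h
    rw [h, orderOf_one] at hto
    exact hr.one_lt.ne hto
  have htr : (h₀ : G) ^ r = 1 := by rw [← hto]; exact pow_orderOf_eq_one _
  apply Cfsg.Agent.Lib.helper1.fpf_nilpotent r hr N (MulAut.conjNormal (h₀ : G))
  refine ⟨?_, ?_⟩
  · intro n hn
    have h1 : (h₀ : G) * (n : G) * (h₀ : G)⁻¹ = n := by
      have := congrArg Subtype.val hn
      rwa [MulAut.conjNormal_apply] at this
    by_contra hn1
    have hnH : (n : G) ∉ H := by
      intro hnH
      have h2 : (n : G) ∈ N ⊓ H := ⟨n.2, hnH⟩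
      rw [disjoint_iff.mp hNc.disjoint, Subgroup.mem_bot] at h2
      exact hn1 (Subtype.ext h2)
    have h2 := hmal (n : G) hnH
    have h3 : (h₀ : G) ∈ H ⊓ (MulAut.conj (n : G) • H) := by
      refine ⟨htH, ?_⟩
      show (h₀ : G) ∈ MulAut.conj (n : G) • H
      rw [Subgroup.mem_pointwise_smul_iff_inv_smul_mem]
      have h4 : (MulAut.conj (n : G))⁻¹ • (h₀ : G) = (h₀ : G) := by
        rw [MulAut.smul_def, MulAut.conj_inv_apply]
        calc (n : G)⁻¹ * (h₀ : G) * (n : G)
            = (n : G)⁻¹ * ((h₀ : G) * (n : G) * (h₀ : G)⁻¹) * (h₀ : G) := by group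
          _ = (h₀ : G) := by rw [h1]; group
      rw [h4]; exact htH
    rw [h2, Subgroup.mem_bot] at h3
    exact ht1 h3
  · rw [← map_pow, htr, map_one]

end Cfsg.Agent.S0042
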