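import Cfsg.Statements.S0081
import Cfsg.Agent.Lib.lead.Tate
import Cfsg.Agent.Lib.lead.PNil
import Cfsg.Agent.S0072
import Mathlib

set_option autoImplicit false
open Cfsg

namespace Cfsg.Agent.S0081

open scoped commutatorElement Pointwise
open Cfsg.Agent.Lib.lead

theorem commutator_sup_le {G : Type*} [Group G] (N P : Subgroup G) [N.Normal] :
    ⁅N ⊔ P, N ⊔ P⁆ ≤ N ⊔ ⁅P, P⁆ := by
  rw [Subgroup.commutator_le]
  intro g₁ hg₁ g₂ hg₂
  rw [← SetLike.mem_coe, Subgroup.normal_mul] at hg₁ hg₂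
  obtain ⟨n₁, hn₁, u₁, hu₁, rfl⟩ := Set.mem_mul.mp hg₁
  obtain ⟨n₂, hn₂, u₂, hu₂, rfl⟩ := Set.mem_mul.mp hg₂
  have key : ⁅n₁ * u₁, n₂ * u₂⁆ * ⁅u₁, u₂⁆⁻¹ ∈ N := by
    rw [← QuotientGroup.eq_one_iff]
    have e1 : ((n₁ : G) : G ⧸ N) = 1 := (QuotientGroup.eq_one_iff n₁).mpr hn₁
    have e2 : ((n₂ : G) : G ⧸ N) = 1 := (QuotientGroup.eq_one_iff n₂).mpr hn₂
    simp only [commutatorElement_def, QuotientGroup.mk_mul, QuotientGroup.mk_inv, e1, e2, one_mul]
    group
  have e : ⁅n₁ * u₁, n₂ * u₂⁆ = (⁅n₁ * u₁, n₂ * u₂⁆ * ⁅u₁, u₂⁆⁻¹) * ⁅u₁, u₂⁆ := by group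
  rw [e]
  exact Subgroup.mul_mem _ (Subgroup.mem_sup_left key)
    (Subgroup.mem_sup_right (Subgroup.commutator_mem_commutator hu₁ hu₂))

/-- If a normal subgroup meets a Sylow p-subgroup P inside the Frattini subgroup of P, then it has a normal p-complement. -/
theorem result {G : Type*} [Group G] [Finite G] {p : ℕ} [Fact p.Prime] (P : Sylow p G) (N : Subgroup G) [N.Normal] (h : N ⊓ (P : Subgroup G) ≤ (frattini P).map (P : Subgroup G).subtype) : Cfsg.HasNormalPComplement p N := by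
  have hPG₀ : (P : Subgroup G) ≤ N ⊔ (P : Subgroup G) := le_sup_right
  have hNG₀ : N ≤ N ⊔ (P : Subgroup G) := le_sup_left
  have hidx : ¬ p ∣ ((P : Subgroup G).subgroupOf (N ⊔ (P : Subgroup G))).index := by
    show ¬ p ∣ (P : Subgroup G).relIndex (N ⊔ (P : Subgroup G))
    intro hdvd
    exact P.not_dvd_index (dvd_trans hdvd (Subgroup.relIndex_dvd_index_of_le hPG₀))
  let Q : Sylow p (N ⊔ (P : Subgroup G) : Subgroup G) :=
    (P.2.comap_subtype (K := (N ⊔ (P : Subgroup G) : Subgroup G))).toSylow hidx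
  have hPP : ⁅(P : Subgroup G), (P : Subgroup G)⁆ ≤ (P : Subgroup G) := by
    rw [Subgroup.commutator_le]
    intro a ha b hb
    exact Subgroup.mul_mem _ (Subgroup.mul_mem _ (Subgroup.mul_mem _ ha hb) (Subgroup.inv_mem _ ha))
      (Subgroup.inv_mem _ hb)
  have hfr : (commutator (N ⊔ (P : Subgroup G) : Subgroup G)).subgroupOf
      (Q : Subgroup (N ⊔ (P : Subgroup G) : Subgroup G)) ≤
      frattini (Q : Subgroup (N ⊔ (P : Subgroup G) : Subgroup G)) := by
    intro z hz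
    rw [Subgroup.mem_subgroupOf] at hz
    have hz1 : (((z : (N ⊔ (P : Subgroup G) : Subgroup G)) : G)) ∈
        ⁅N ⊔ (P : Subgroup G), N ⊔ (P : Subgroup G)⁆ :=
      (mem_commutator_subtype_iff _ (z : (N ⊔ (P : Subgroup G) : Subgroup G))).mp hz
    have hzP : (((z : (N ⊔ (P : Subgroup G) : Subgroup G)) : G)) ∈ (P : Subgroup G) := z.2
    have hz2 := commutator_sup_le N (P : Subgroup G) hz1
    rw [← SetLike.mem_coe, Subgroup.normal_mul] at hz2
    obtain ⟨n, hn, c, hc, hnc⟩ := Set.mem_mul.mp hz2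
    have hcP : c ∈ (P : Subgroup G) := hPP hc
    have hnP : n ∈ (P : Subgroup G) := by
      have e : n = (((z : (N ⊔ (P : Subgroup G) : Subgroup G)) : G)) * c⁻¹ := by rw [← hnc]; group
      rw [e]; exact Subgroup.mul_mem _ hzP (Subgroup.inv_mem _ hcP)
    have hnΦ : n ∈ (frattini P).map (P : Subgroup G).subtype := h ⟨hn, hnP⟩
    have hcΦ : c ∈ (frattini P).map (P : Subgroup G).subtype := by
      rw [← Subgroup.map_subtype_commutator] at hc
      exact Subgroup.map_mono (Cfsg.Agent.Lib.helper1.commutator_le_frattini p P.2) hc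
    have hzΦ : (((z : (N ⊔ (P : Subgroup G) : Subgroup G)) : G)) ∈
        (frattini P).map (P : Subgroup G).subtype := by
      rw [← hnc]; exact Subgroup.mul_mem _ hnΦ hcΦ
    obtain ⟨w, hw, hwz⟩ := hzΦ
    let ε : (P : Subgroup G).subgroupOf (N ⊔ (P : Subgroup G)) ≃* (P : Subgroup G) :=
      Subgroup.subgroupOfEquivOfLe hPG₀
    have h1 := frattini_le_comap_frattini_of_surjective (φ := ε.symm.toMonoidHom) ε.symm.surjective
    have h2 : ε.symm w ∈ frattini ((P : Subgroup G).subgroupOf (N ⊔ (P : Subgroup G))) := h1 hw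
    have h3 : ε.symm w = z := by
      apply Subtype.ext; apply Subtype.ext
      exact hwz
    rw [← h3]; exact h2
  have hcl := commutator_inf_le_of_le_frattini Q hfr
  have hcompl := isComplement'_pResidual_of_commutator_le Q hcl
  have hNPC : Cfsg.HasNormalPComplement p (N ⊔ (P : Subgroup G) : Subgroup G) :=
    ⟨Q, Cfsg.pResidual p _, Cfsg.Agent.S0075.pResidual_normal p, hcompl⟩
  have hsub := Cfsg.Agent.S0072.hasNormalPComplement_subgroup p hNPC
    (N.subgroupOf (N ⊔ (P : Subgroup G)))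
  exact hasNPC_of_surjective (Subgroup.subgroupOfEquivOfLe hNG₀).toMonoidHom
    (Subgroup.subgroupOfEquivOfLe hNG₀).surjective hsub

end Cfsg.Agent.S0081
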