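import Cfsg.Statements.S0095
import Mathlib

set_option autoImplicit false
open Cfsg

namespace Cfsg.Agent.S0095

open scoped commutatorElement

theorem comm_mul_left {M : Type*} [Group M] (hc : ∀ a b : M, ⁅a, b⁆ ∈ Subgroup.center M) (a b g : M) :
    ⁅a * b, g⁆ = ⁅a, g⁆ * ⁅b, g⁆ := by
  have h1 : ⁅a * b, g⁆ = a * ⁅b, g⁆ * a⁻¹ * ⁅a, g⁆ := by
    simp only [commutatorElement_def]; group
  have h2 : a * ⁅b, g⁆ = ⁅b, g⁆ * a := (Subgroup.mem_center_iff.mp (hc b g)) a
  have h3 : ⁅b, g⁆ * ⁅a, g⁆ = ⁅a, g⁆ * ⁅b, g⁆ := ((Subgroup.mem_center_iff.mp (hc b g)) ⁅a, g⁆).symm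
  rw [h1, h2, mul_inv_cancel_right, h3]

theorem comm_pow_left {M : Type*} [Group M] (hc : ∀ a b : M, ⁅a, b⁆ ∈ Subgroup.center M) (a g : M) (n : ℕ) :
    ⁅a ^ n, g⁆ = ⁅a, g⁆ ^ n := by
  induction n with
  | zero => simp
  | succ n ih => rw [pow_succ, comm_mul_left hc, ih, pow_succ]

theorem comm_self_pow {M : Type*} [Group M] (a : M) (n : ℕ) : ⁅a ^ n, a⁆ = 1 := by
  rw [commutatorElement_eq_one_iff_commute]
  exact (Commute.refl a).pow_left n

theorem card_odd_pow.{u} {p : ℕ} [Fact p.Prime] : ∀ (N : ℕ) (M : Type u) [Group M] [Finite M],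
    Nat.card M ≤ N → Nat.card (Subgroup.center M) = p → (∀ a b : M, ⁅a, b⁆ ∈ Subgroup.center M) →
    ∃ k : ℕ, Nat.card M = p ^ (2 * k + 1) := by
  intro N
  induction N with
  | zero =>
    intro M _ _ hN
    have := Nat.card_pos (α := M)
    omega
  | succ N ih =>
    intro M _ _ hN hZ hc
    by_cases htop : Subgroup.center M = ⊤
    · refine ⟨0, ?_⟩
      rw [← Subgroup.card_top (G := M), ← htop, hZ]; simp
    · obtain ⟨x, hx⟩ : ∃ x : M, x ∉ Subgroup.center M := by
        by_contra hcon
        push Not at hcon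
        exact htop (eq_top_iff.mpr fun x _ => hcon x)
      obtain ⟨y, hy⟩ : ∃ y : M, y * x ≠ x * y := by
        by_contra hcon
        push Not at hcon
        exact hx (Subgroup.mem_center_iff.mpr hcon)
      set c : M := ⁅x, y⁆ with hcdef
      set d : M := ⁅y, x⁆ with hddef
      have hc1 : c ≠ 1 := by
        rw [hcdef, Ne, commutatorElement_eq_one_iff_mul_comm]
        exact fun h => hy h.symm
      have hd1 : d ≠ 1 := by
        rw [hddef, Ne, commutatorElement_eq_one_iff_mul_comm]
        exact hy
      have hcd : c * d = 1 := by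
        rw [hcdef, hddef]; simp only [commutatorElement_def]; group
      have hdc : d * c = 1 := by
        rw [hcdef, hddef]; simp only [commutatorElement_def]; group
      have hcomm' : Commute c d := by
        show c * d = d * c
        rw [hcd, hdc]
      have hcZ : c ∈ Subgroup.center M := hc x y
      have hdZ : d ∈ Subgroup.center M := hc y x
      have hgen : ∀ g : M, g ≠ 1 → g ∈ Subgroup.center M → ∀ z ∈ Subgroup.center M, ∃ t : ℕ, g ^ t = z := by
        intro g hg1 hgZ z hz
        have hg' : (⟨g, hgZ⟩ : Subgroup.center M) ≠ 1 := by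
          intro h; exact hg1 (congrArg Subtype.val h)
        obtain ⟨t, ht⟩ := mem_powers_of_prime_card hZ hg' (g' := (⟨z, hz⟩ : Subgroup.center M))
        exact ⟨t, congrArg Subtype.val ht⟩
      let φ : M →* Subgroup.center M × Subgroup.center M :=
        { toFun := fun e => (⟨⁅e, x⁆, hc e x⟩, ⟨⁅e, y⁆, hc e y⟩)
          map_one' := by ext <;> simp
          map_mul' := by
            intro a b
            ext
            · simp [comm_mul_left hc]
            · simp [comm_mul_left hc] }
      have hφ : ∀ e : M, e ∈ φ.ker ↔ ⁅e, x⁆ = 1 ∧ ⁅e, y⁆ = 1 := by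
        intro e
        rw [MonoidHom.mem_ker]
        constructor
        · intro h
          have h1 := congrArg (fun q : Subgroup.center M × Subgroup.center M => (q.1 : M)) h
          have h2 := congrArg (fun q : Subgroup.center M × Subgroup.center M => (q.2 : M)) h
          exact ⟨h1, h2⟩
        · rintro ⟨h1, h2⟩
          ext
          · exact h1
          · exact h2
      have hcomb : ∀ s t : ℕ, ⁅x ^ s * y ^ t, x⁆ = d ^ t ∧ ⁅x ^ s * y ^ t, y⁆ = c ^ s := by
        intro s t
        constructor
        · rw [comm_mul_left hc, comm_self_pow, one_mul, comm_pow_left hc]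
        · rw [comm_mul_left hc, comm_self_pow, mul_one, comm_pow_left hc]
      have hsurj : Function.Surjective φ := by
        rintro ⟨⟨a, ha⟩, ⟨b, hb⟩⟩
        obtain ⟨t, ht⟩ := hgen d hd1 hdZ a ha
        obtain ⟨s, hs⟩ := hgen c hc1 hcZ b hb
        refine ⟨x ^ s * y ^ t, ?_⟩
        ext
        · show ⁅x ^ s * y ^ t, x⁆ = a
          rw [(hcomb s t).1, ht]
        · show ⁅x ^ s * y ^ t, y⁆ = b
          rw [(hcomb s t).2, hs]
      have hindex : φ.ker.index = p * p := by
        rw [Subgroup.index_ker, MonoidHom.range_eq_top_of_surjective φ hsurj, Subgroup.card_top,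
          Nat.card_prod, hZ]
      have hp : p.Prime := Fact.out
      have hcard : Nat.card φ.ker * (p * p) = Nat.card M := by
        rw [← hindex]; exact Subgroup.card_mul_index _
      -- centre of the kernel
      have hcen : ∀ z : φ.ker, z ∈ Subgroup.center φ.ker ↔ (z : M) ∈ Subgroup.center M := by
        intro z
        constructor
        · intro hz
          rw [Subgroup.mem_center_iff]
          intro e
          obtain ⟨t, ht⟩ := hgen c hc1 hcZ ⁅e, x⁆ (hc e x)
          obtain ⟨s, hs⟩ := hgen d hd1 hdZ ⁅e, y⁆ (hc e y)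
          have he' : e * (x ^ s * y ^ t) ∈ φ.ker := by
            rw [hφ]
            constructor
            · rw [comm_mul_left hc, (hcomb s t).1, ← ht, ← hcomm'.mul_pow, hcd, one_pow]
            · rw [comm_mul_left hc, (hcomb s t).2, ← hs, ← hcomm'.symm.mul_pow, hdc, one_pow]
          have hzx := ((hφ z).mp z.2)
          have hzx1 : (z : M) * x = x * z := (commutatorElement_eq_one_iff_mul_comm.mp hzx.1)
          have hzy1 : (z : M) * y = y * z := (commutatorElement_eq_one_iff_mul_comm.mp hzx.2)
          have hz1 : (⟨e * (x ^ s * y ^ t), he'⟩ : φ.ker) * z = z * ⟨e * (x ^ s * y ^ t), he'⟩ :=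
            (Subgroup.mem_center_iff.mp hz) _
          have hz2 : e * (x ^ s * y ^ t) * (z : M) = z * (e * (x ^ s * y ^ t)) := congrArg Subtype.val hz1
          have hz3 : (z : M) * (x ^ s * y ^ t) = (x ^ s * y ^ t) * z := by
            have h1 : Commute (z : M) x := hzx1
            have h2 : Commute (z : M) y := hzy1
            exact ((h1.pow_right s).mul_right (h2.pow_right t)).eq
          calc e * (z : M) = e * ((z : M) * (x ^ s * y ^ t)) * (x ^ s * y ^ t)⁻¹ := by group
            _ = e * (x ^ s * y ^ t) * z * (x ^ s * y ^ t)⁻¹ := by rw [hz3]; group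
            _ = z * (e * (x ^ s * y ^ t)) * (x ^ s * y ^ t)⁻¹ := by rw [hz2]
            _ = z * e := by group
        · intro hz
          rw [Subgroup.mem_center_iff]
          intro e
          exact Subtype.ext ((Subgroup.mem_center_iff.mp hz) e)
      have hZker : Nat.card (Subgroup.center φ.ker) = p := by
        rw [← hZ]
        have hle : Subgroup.center M ≤ φ.ker := by
          intro z hz
          rw [hφ]
          have h1 := (Subgroup.mem_center_iff.mp hz)
          exact ⟨commutatorElement_eq_one_iff_mul_comm.mpr (h1 x).symm, commutatorElement_eq_one_iff_mul_comm.mpr (h1 y).symm⟩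
        have heq : Subgroup.center φ.ker = (Subgroup.center M).subgroupOf φ.ker := by
          ext z
          rw [hcen, Subgroup.mem_subgroupOf]
        rw [heq]
        exact Nat.card_congr (Subgroup.subgroupOfEquivOfLe hle).toEquiv
      have hcker : ∀ a b : φ.ker, ⁅a, b⁆ ∈ Subgroup.center φ.ker := by
        intro a b
        rw [hcen]
        exact hc a b
      have hlt : Nat.card φ.ker ≤ N := by
        have h4 : 4 ≤ p * p := Nat.mul_le_mul hp.two_le hp.two_le
        have hpos := Nat.card_pos (α := φ.ker)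
        nlinarith
      obtain ⟨k, hk⟩ := ih φ.ker hlt hZker hcker
      refine ⟨k + 1, ?_⟩
      rw [← hcard, hk]
      ring

/-- The order of an extraspecial p-group is an odd power p^(2n+1) of p with n ≥ 1. -/
theorem result {P : Type*} [Group P] [Finite P] {p : ℕ} [Fact p.Prime] (h : Cfsg.IsExtraspecial p P) : ∃ n : ℕ, 1 ≤ n ∧ Nat.card P = p ^ (2 * n + 1) := by
  obtain ⟨⟨hP, hfr, hcomm⟩, hcard⟩ := h
  have hp : p.Prime := Fact.out
  have hc : ∀ a b : P, ⁅a, b⁆ ∈ Subgroup.center P := by
    intro a b
    rw [← hcomm]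
    exact Subgroup.commutator_mem_commutator (Subgroup.mem_top a) (Subgroup.mem_top b)
  obtain ⟨k, hk⟩ := card_odd_pow (Nat.card P) P le_rfl hcard hc
  refine ⟨k, ?_, hk⟩
  by_contra hk0
  have hk0' : k = 0 := by omega
  subst hk0'
  simp only [mul_zero, zero_add, pow_one] at hk
  have htop : Subgroup.center P = ⊤ := Subgroup.eq_top_of_card_eq _ (by rw [hcard, hk])
  have hbot : commutator P = ⊥ := by
    rw [commutator_def, Subgroup.commutator_eq_bot_iff_le_centralizer]
    intro x _
    rw [Subgroup.mem_centralizer_iff]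
    intro g _
    have : x ∈ Subgroup.center P := by rw [htop]; trivial
    exact ((Subgroup.mem_center_iff.mp this) g)
  rw [hcomm] at hbot
  rw [hbot] at hcard
  simp at hcard
  exact hp.one_lt.ne' hcard.symm

end Cfsg.Agent.S0095
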