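import Cfsg.Statements.S0106
import Mathlib
import Cfsg.Agent.S0071
import Cfsg.Agent.Lib.helper16.SL23
import Cfsg.Agent.Lib.helper2.Idx2

set_option autoImplicit false
open Cfsg

namespace Cfsg.Agent.S0106

theorem pow_modEq_one {k u m : ℕ} (hm : Odd m) (h : u ^ m ≡ 1 [MOD 2 ^ k]) :
    u ≡ 1 [MOD 2 ^ k] := by
  have h1 : ((u : ZMod (2 ^ k))) ^ m = 1 := by
    have := (ZMod.natCast_eq_natCast_iff _ _ _).mpr h
    simpa using this
  have hm0 : m ≠ 0 := by rcases hm with ⟨r, rfl⟩; omega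
  obtain ⟨U, hU⟩ : ∃ U : (ZMod (2 ^ k))ˣ, (U : ZMod (2 ^ k)) = u :=
    ⟨Units.ofPowEqOne _ m h1 hm0, Units.val_ofPowEqOne _ _ _ _⟩
  have hUm : U ^ m = 1 := by
    ext
    simp [hU, h1]
  have hUt : U ^ Nat.totient (2 ^ k) = 1 := ZMod.pow_totient U
  have hd1 : orderOf U ∣ m := orderOf_dvd_of_pow_eq_one hUm
  have hd2 : orderOf U ∣ Nat.totient (2 ^ k) := orderOf_dvd_of_pow_eq_one hUt
  have hd3 : orderOf U ∣ 2 ^ k := by
    rcases Nat.eq_zero_or_pos k with rfl | hk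
    · simpa using hd2
    · rw [Nat.totient_prime_pow Nat.prime_two hk] at hd2
      have h2 : 2 ^ (k - 1) * (2 - 1) ∣ 2 ^ k := by
        rw [Nat.mul_one]
        exact pow_dvd_pow 2 (Nat.sub_le k 1)
      exact hd2.trans h2
  have hcop : Nat.Coprime m (2 ^ k) := (Nat.coprime_two_right.mpr hm).pow_right k
  have hone : orderOf U = 1 := (Nat.Coprime.coprime_dvd_left hd1 hcop).eq_one_of_dvd hd3
  have hU1 : U = 1 := orderOf_eq_one_iff.mp hone
  have h2 : ((u : ℕ) : ZMod (2 ^ k)) = ((1 : ℕ) : ZMod (2 ^ k)) := by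
    rw [← hU, hU1]
    simp
  exact (ZMod.natCast_eq_natCast_iff _ _ _).mp h2

theorem cyc_cent {G : Type*} [Group G] [Finite G] (g c : G) (hodd : Odd (orderOf g)) {k : ℕ}
    (hc : orderOf c = 2 ^ k) (hg : g * c * g⁻¹ ∈ Subgroup.zpowers c) : g * c * g⁻¹ = c := by
  obtain ⟨u, hu⟩ : ∃ u : ℕ, c ^ u = g * c * g⁻¹ := by
    have := mem_powers_iff_mem_zpowers.mpr hg
    exact (Submonoid.mem_powers_iff _ _).mp this
  have key : ∀ m : ℕ, g ^ m * c * (g ^ m)⁻¹ = c ^ (u ^ m) := by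
    intro m
    induction m with
    | zero => simp
    | succ m ih =>
      have h1 : g ^ (m + 1) * c * (g ^ (m + 1))⁻¹ = g * (g ^ m * c * (g ^ m)⁻¹) * g⁻¹ := by
        rw [pow_succ']; group
      rw [h1, ih, ← conj_pow, ← hu, ← pow_mul, pow_succ']
  have h1 := key (orderOf g)
  rw [pow_orderOf_eq_one] at h1
  have h1' : c ^ (u ^ orderOf g) = c ^ 1 := by
    rw [pow_one, ← h1]; group
  have h2 : u ^ (orderOf g) ≡ 1 [MOD orderOf c] := pow_eq_pow_iff_modEq.mp h1'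
  rw [hc] at h2
  have h3 := pow_modEq_one hodd h2
  rw [← hc] at h3
  rw [← hu]
  have := (pow_eq_pow_iff_modEq).mpr h3
  simpa using this

theorem quat_struct {G : Type*} [Group G] [Finite G] (T : Subgroup G) (n : ℕ)
    (e : T ≃* QuaternionGroup (2 ^ n)) :
    ∃ (A : Subgroup G) (z : G), A ≤ T ∧ IsCyclic A ∧ z ∈ A ∧ orderOf z = 2 ∧
      (∀ y ∈ T, y ∉ A → y ^ 2 = z) ∧
      (∀ y ∈ T, y ∉ A → ∀ x ∈ A, y * x * y⁻¹ = x⁻¹) ∧
      (∀ y ∈ T, ∀ y' ∈ T, y ∉ A → y' ∉ A → y⁻¹ * y' ∈ A) := by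
  have hN : NeZero (2 ^ n) := ⟨by positivity⟩
  have hN2 : NeZero (2 * 2 ^ n) := ⟨by positivity⟩
  obtain ⟨c, hc⟩ : ∃ c : T, c = e.symm (QuaternionGroup.a 1) := ⟨_, rfl⟩
  have hec : e c = QuaternionGroup.a 1 := by rw [hc]; simp
  have hmemA : ∀ (x : G) (hx : x ∈ T) (k : ZMod (2 * 2 ^ n)),
      e ⟨x, hx⟩ = QuaternionGroup.a k → x ∈ Subgroup.zpowers (c : G) := by
    intro x hx k hk
    have h1 : (⟨x, hx⟩ : T) = c ^ k.val := by
      apply e.injective
      rw [hk, map_pow, hec, QuaternionGroup.a_one_pow, ZMod.natCast_zmod_val]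
    have h2 : x = (c : G) ^ k.val := by
      have := congrArg Subtype.val h1
      simpa using this
    rw [h2]
    exact Subgroup.pow_mem _ (Subgroup.mem_zpowers _) _
  have hAT : Subgroup.zpowers (c : G) ≤ T := by
    rw [Subgroup.zpowers_le]; exact c.2
  have hAmem : ∀ (x : G) (hx : x ∈ T), x ∈ Subgroup.zpowers (c : G) →
      ∃ k, e ⟨x, hx⟩ = QuaternionGroup.a k := by
    intro x hx hxA
    obtain ⟨m, hm⟩ := (Submonoid.mem_powers_iff _ _).mp (mem_powers_iff_mem_zpowers.mpr hxA)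
    have h1 : (⟨x, hx⟩ : T) = c ^ m := by
      apply Subtype.ext
      simp [hm]
    rw [h1, map_pow, hec, QuaternionGroup.a_one_pow]
    exact ⟨_, rfl⟩
  have hinva : ∀ l : ZMod (2 * 2 ^ n),
      (QuaternionGroup.a l : QuaternionGroup (2 ^ n))⁻¹ = QuaternionGroup.a (-l) := by
    intro l
    rw [inv_eq_iff_mul_eq_one, QuaternionGroup.a_mul_a, add_neg_cancel]
    exact QuaternionGroup.a_zero
  refine ⟨Subgroup.zpowers (c : G), (c : G) ^ (2 ^ n), hAT, inferInstance,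
    Subgroup.pow_mem _ (Subgroup.mem_zpowers _) _, ?_, ?_, ?_, ?_⟩
  · have h1 : orderOf (c : G) = 2 * 2 ^ n := by
      rw [Subgroup.orderOf_coe, ← e.orderOf_eq, hec]
      exact QuaternionGroup.orderOf_a_one
    rw [orderOf_pow_of_dvd (by positivity) (by rw [h1]; exact Dvd.intro_left 2 rfl), h1]
    exact Nat.mul_div_cancel 2 (by positivity)
  · intro y hy hyA
    rcases hk : e ⟨y, hy⟩ with k | k
    · exact absurd (hmemA y hy k hk) hyA
    · have h1 : (⟨y, hy⟩ : T) ^ 2 = c ^ (2 ^ n) := by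
        apply e.injective
        rw [map_pow, map_pow, hk, hec, QuaternionGroup.xa_sq, QuaternionGroup.a_one_pow]
      have := congrArg Subtype.val h1
      simpa using this
  · intro y hy hyA x hxA
    have hx : x ∈ T := hAT hxA
    obtain ⟨l, hl⟩ := hAmem x hx hxA
    rcases hk : e ⟨y, hy⟩ with k | k
    · exact absurd (hmemA y hy k hk) hyA
    · have h1 : (⟨y, hy⟩ : T) * ⟨x, hx⟩ * (⟨y, hy⟩ : T)⁻¹ = (⟨x, hx⟩ : T)⁻¹ := by
        apply e.injective
        rw [map_mul, map_mul, map_inv, map_inv, hk, hl]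
        rw [mul_inv_eq_iff_eq_mul, QuaternionGroup.xa_mul_a, hinva, QuaternionGroup.a_mul_xa]
        congr 1; ring
      have := congrArg Subtype.val h1
      simpa using this
  · intro y hy y' hy' hyA hy'A
    rcases hk : e ⟨y, hy⟩ with k | k
    · exact absurd (hmemA y hy k hk) hyA
    · rcases hk' : e ⟨y', hy'⟩ with k' | k'
      · exact absurd (hmemA y' hy' k' hk') hy'A
      · rcases hd : e ⟨y⁻¹ * y', T.mul_mem (T.inv_mem hy) hy'⟩ with d | d
        · exact hmemA _ _ d hd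
        · exfalso
          have h1 : e ⟨y', hy'⟩ = e ⟨y, hy⟩ * e ⟨y⁻¹ * y', T.mul_mem (T.inv_mem hy) hy'⟩ := by
            rw [← map_mul]; congr 1; apply Subtype.ext; simp
          rw [hk, hk', hd, QuaternionGroup.xa_mul_xa] at h1
          cases h1

theorem core {G : Type*} [Group G] [Finite G] (T A : Subgroup G) (z : G) (hAT : A ≤ T)
    (hAc : IsCyclic A) (h2 : ∀ x ∈ T, ∃ l : ℕ, orderOf x = 2 ^ l) (hzA : z ∈ A)
    (hz : orderOf z = 2)
    (hsq : ∀ y ∈ T, y ∉ A → y ^ 2 = z)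
    (hinv : ∀ y ∈ T, y ∉ A → ∀ x ∈ A, y * x * y⁻¹ = x⁻¹)
    (hquot : ∀ y ∈ T, ∀ y' ∈ T, y ∉ A → y' ∉ A → y⁻¹ * y' ∈ A)
    (Q : Subgroup G) (hQT : Q ≤ T) (g : G) (hgN : g ∈ Subgroup.normalizer (Q : Set G))
    (hodd : Odd (orderOf g)) (hgC : g ∉ Subgroup.centralizer (Q : Set G)) :
    ∃ i : G, i ^ 4 = 1 ∧ i ^ 2 ≠ 1 ∧ (g * i * g⁻¹) ^ 2 = i ^ 2 ∧
      (g * i * g⁻¹) * i * (g * i * g⁻¹)⁻¹ = i⁻¹ ∧
      g * (g * i * g⁻¹) * g⁻¹ = i * (g * i * g⁻¹) := by
  have hBc : IsCyclic (Q ⊓ A : Subgroup G) := by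
    have hBA : Q ⊓ A ≤ A := inf_le_right
    exact isCyclic_of_injective (Subgroup.inclusion hBA) (Subgroup.inclusion_injective hBA)
  obtain ⟨⟨b, hbB⟩, hb⟩ := hBc.exists_generator
  have hBgen : ∀ x ∈ Q ⊓ A, x ∈ Subgroup.zpowers b := by
    intro x hx
    obtain ⟨m, hm⟩ := Subgroup.mem_zpowers_iff.mp (hb ⟨x, hx⟩)
    exact ⟨m, by simpa using congrArg Subtype.val hm⟩
  have hbQ : b ∈ Q := hbB.1
  have hbA : b ∈ A := hbB.2
  have hconjQ : ∀ x ∈ Q, g * x * g⁻¹ ∈ Q := fun x hx =>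
    (Subgroup.mem_normalizer_iff.mp hgN x).mp hx
  by_cases hcase : g * b * g⁻¹ ∈ A
  · -- Case I
    exfalso
    apply hgC
    have hgb : g * b * g⁻¹ = b := by
      obtain ⟨l, hl⟩ := h2 b (hQT hbQ)
      exact cyc_cent g b hodd hl (hBgen _ ⟨hconjQ b hbQ, hcase⟩)
    have hgB : ∀ x ∈ Q ⊓ A, g * x * g⁻¹ = x := by
      intro x hx
      obtain ⟨m, rfl⟩ := Subgroup.mem_zpowers_iff.mp (hBgen x hx)
      rw [← conj_zpow, hgb]
    rw [Subgroup.mem_centralizer_iff]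
    intro x hx
    by_cases hxA : x ∈ A
    · have := hgB x ⟨hx, hxA⟩
      calc x * g = (g * x * g⁻¹) * g := by rw [this]
        _ = g * x := by group
    · have hx'Q : g * x * g⁻¹ ∈ Q := hconjQ x hx
      have hx'A : g * x * g⁻¹ ∉ A := by
        intro h
        have h1 := hgB _ ⟨hx'Q, h⟩
        have h2' : g * x * g⁻¹ = x := by
          calc g * x * g⁻¹ = g⁻¹ * (g * (g * x * g⁻¹) * g⁻¹) * g := by group
            _ = g⁻¹ * (g * x * g⁻¹) * g := by rw [h1]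
            _ = x := by group
        rw [h2'] at h
        exact hxA h
      have hdA : x⁻¹ * (g * x * g⁻¹) ∈ A := hquot x (hQT hx) _ (hQT hx'Q) hxA hx'A
      have hdQ : x⁻¹ * (g * x * g⁻¹) ∈ Q := Q.mul_mem (Q.inv_mem hx) hx'Q
      obtain ⟨d, hd⟩ : ∃ d, d = x⁻¹ * (g * x * g⁻¹) := ⟨_, rfl⟩
      rw [← hd] at hdA hdQ
      have hgd : g * d * g⁻¹ = d := hgB d ⟨hdQ, hdA⟩
      have hgx : g * x * g⁻¹ = x * d := by rw [hd]; group
      have key : ∀ m : ℕ, g ^ m * x * (g ^ m)⁻¹ = x * d ^ m := by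
        intro m
        induction m with
        | zero => simp
        | succ m ih =>
          calc g ^ (m + 1) * x * (g ^ (m + 1))⁻¹ = g * (g ^ m * x * (g ^ m)⁻¹) * g⁻¹ := by
                rw [pow_succ']; group
            _ = g * (x * d ^ m) * g⁻¹ := by rw [ih]
            _ = (g * x * g⁻¹) * (g * d * g⁻¹) ^ m := by rw [conj_pow]; group
            _ = x * d ^ (m + 1) := by rw [hgx, hgd, pow_succ']; group
      have h1 := key (orderOf g)
      rw [pow_orderOf_eq_one] at h1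
      have hdm : d ^ orderOf g = 1 := by simpa using h1.symm
      have hd1 : d = 1 := by
        obtain ⟨l, hl⟩ := h2 d (hQT hdQ)
        have hdvd : orderOf d ∣ orderOf g := orderOf_dvd_of_pow_eq_one hdm
        have hodd' : Odd (orderOf d) := hodd.of_dvd_nat hdvd
        rw [hl] at hodd'
        have hl0 : l = 0 := by
          by_contra hl0
          have : Even (2 ^ l) := (Nat.even_pow.mpr ⟨even_two, hl0⟩)
          exact (Nat.not_odd_iff_even.mpr this) hodd'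
        rw [hl0, pow_zero] at hl
        exact orderOf_eq_one_iff.mp hl
      rw [hd1, mul_one] at hgx
      calc x * g = (g * x * g⁻¹) * g := by rw [hgx]
        _ = g * x := by group
  · -- Case II
    obtain ⟨j, hj⟩ : ∃ j, j = g * b * g⁻¹ := ⟨_, rfl⟩
    rw [← hj] at hcase
    have hjQ : j ∈ Q := hj ▸ hconjQ b hbQ
    have hjT : j ∈ T := hQT hjQ
    have hj2 : j ^ 2 = z := hsq j hjT hcase
    have hz1 : z ≠ 1 := by
      intro h
      rw [h, orderOf_one] at hz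
      omega
    have hz2 : z ^ 2 = 1 := by rw [← hz]; exact pow_orderOf_eq_one z
    have hj4 : j ^ 4 = 1 := by
      calc j ^ 4 = (j ^ 2) ^ 2 := by rw [← pow_mul]
        _ = 1 := by rw [hj2, hz2]
    have hb4 : b ^ 4 = 1 := by
      have h1 : j ^ 4 = g * b ^ 4 * g⁻¹ := by rw [hj, conj_pow]
      rw [hj4] at h1
      have h' : b ^ 4 = g⁻¹ * (g * b ^ 4 * g⁻¹) * g := by group
      rw [h', ← h1]; group
    have hb2ne : b ^ 2 ≠ 1 := by
      intro h
      have h1 : j ^ 2 = g * b ^ 2 * g⁻¹ := by rw [hj, conj_pow]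
      rw [h, hj2] at h1
      apply hz1; rw [h1]; group
    have hb2ord : orderOf (b ^ 2) = 2 := by
      apply orderOf_eq_prime
      · rw [← pow_mul]; exact hb4
      · exact hb2ne
    have hb2 : b ^ 2 = z :=
      Cfsg.Agent.Lib.helper2.Idx2.invol_unique_sub A hAc (A.pow_mem hbA 2) hzA hb2ord hz
    have hjb : j * b * j⁻¹ = b⁻¹ := hinv j hjT hcase b hbA
    obtain ⟨k, hk⟩ : ∃ k, k = g * j * g⁻¹ := ⟨_, rfl⟩
    have hkQ : k ∈ Q := hk ▸ hconjQ j hjQ
    have hkA : k ∉ A := by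
      intro hkA
      have hk' : k = g ^ 2 * b * (g ^ 2)⁻¹ := by rw [hk, hj, pow_two]; group
      have hmem : g ^ 2 * b * (g ^ 2)⁻¹ ∈ Subgroup.zpowers b := by
        rw [← hk']; exact hBgen k ⟨hkQ, hkA⟩
      have hodd2 : Odd (orderOf (g ^ 2)) := hodd.of_dvd_nat (orderOf_pow_dvd 2)
      obtain ⟨l, hl⟩ := h2 b (hQT hbQ)
      have hc2 : g ^ 2 * b * (g ^ 2)⁻¹ = b := cyc_cent (g ^ 2) b hodd2 hl hmem
      obtain ⟨r, hr⟩ := hodd
      have hg : g = (g ^ 2) ^ (r + 1) := by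
        rw [← pow_mul]
        have : 2 * (r + 1) = orderOf g + 1 := by omega
        rw [this, pow_succ, pow_orderOf_eq_one, one_mul]
      have hcomm : Commute (g ^ 2) b := by
        show g ^ 2 * b = b * g ^ 2
        calc g ^ 2 * b = (g ^ 2 * b * (g ^ 2)⁻¹) * g ^ 2 := by group
          _ = b * g ^ 2 := by rw [hc2]
      have hcomm' : Commute g b := by rw [hg]; exact hcomm.pow_left _
      apply hcase
      rw [hj, hcomm'.eq, mul_inv_cancel_right]
      exact hbA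
    have hkT : k ∈ T := hQT hkQ
    have hcA : j⁻¹ * k ∈ A := hquot j hjT k hkT hcase hkA
    have hcQ : j⁻¹ * k ∈ Q := Q.mul_mem (Q.inv_mem hjQ) hkQ
    obtain ⟨m, hm⟩ := Subgroup.mem_zpowers_iff.mp (hBgen _ ⟨hcQ, hcA⟩)
    have hb4z : b ^ (4 : ℤ) = 1 := by exact_mod_cast hb4
    have hm4 : b ^ m = b ^ (m % 4) := by
      conv_lhs => rw [← Int.emod_add_mul_ediv m 4]
      rw [zpow_add, zpow_mul, hb4z, one_zpow, mul_one]
    have hmr : m % 4 = 0 ∨ m % 4 = 1 ∨ m % 4 = 2 ∨ m % 4 = 3 := by omega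
    rw [hm4] at hm
    have hkeq : k = j * (j⁻¹ * k) := by group
    have hgj' : g * b⁻¹ * g⁻¹ = j⁻¹ := by rw [hj]; group
    rcases hmr with h0 | h1 | h2' | h3
    · exfalso
      rw [h0, zpow_zero] at hm
      have hkj : k = j := by rw [hkeq, ← hm, mul_one]
      have hgj : g * j = j * g := by
        calc g * j = (g * j * g⁻¹) * g := by group
          _ = j * g := by rw [← hk, hkj]
      have hbj : b = j := by
        calc b = g⁻¹ * (g * b * g⁻¹) * g := by group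
          _ = g⁻¹ * j * g := by rw [← hj]
          _ = g⁻¹ * (j * g) := by group
          _ = g⁻¹ * (g * j) := by rw [hgj]
          _ = j := by group
      exact hcase (hbj ▸ hbA)
    · rw [h1, zpow_one] at hm
      have hkj : k = j * b := by rw [hkeq, ← hm]
      refine ⟨b⁻¹, ?_, ?_, ?_, ?_, ?_⟩
      · rw [inv_pow, hb4, inv_one]
      · rw [inv_pow]; intro h; exact hb2ne (inv_eq_one.mp h)
      · rw [hgj', inv_pow, inv_pow, hj2, hb2]
      · rw [hgj', inv_inv, inv_inv]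
        calc j⁻¹ * b⁻¹ * j = j⁻¹ * (j * b * j⁻¹) * j := by rw [hjb]
          _ = b := by group
      · rw [hgj']
        calc g * j⁻¹ * g⁻¹ = (g * j * g⁻¹)⁻¹ := by group
          _ = (j * b)⁻¹ := by rw [← hk, hkj]
          _ = b⁻¹ * j⁻¹ := by group
    · exfalso
      have hb2z : b ^ (2 : ℤ) = b ^ 2 := by norm_cast
      rw [h2', hb2z, hb2, ← hj2] at hm
      have hkj : k = j ^ 3 := by rw [hkeq, ← hm]; group
      have hmem : g * j * g⁻¹ ∈ Subgroup.zpowers j := by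
        rw [← hk, hkj]; exact Subgroup.pow_mem _ (Subgroup.mem_zpowers _) _
      obtain ⟨l, hl⟩ := h2 j hjT
      have hc2 : g * j * g⁻¹ = j := cyc_cent g j hodd hl hmem
      rw [← hk, hkj] at hc2
      have h5 : j ^ 2 = 1 := by
        calc j ^ 2 = j ^ 3 * j⁻¹ := by group
          _ = 1 := by rw [hc2]; group
      rw [hj2] at h5
      exact hz1 h5
    · have hb3z : b ^ (3 : ℤ) = b⁻¹ := by
        have h' : b ^ (3 : ℤ) = b ^ 3 := by norm_cast
        rw [h']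
        exact eq_inv_of_mul_eq_one_left (by rw [← pow_succ]; exact hb4)
      rw [h3, hb3z] at hm
      have hkj : k = b * j := by
        calc k = j * (j⁻¹ * k) := hkeq
          _ = j * b⁻¹ := by rw [← hm]
          _ = (j * b * j⁻¹)⁻¹ * j := by group
          _ = b * j := by rw [hjb, inv_inv]
      refine ⟨b, hb4, hb2ne, ?_, ?_, ?_⟩
      · rw [← hj, hj2, hb2]
      · rw [← hj]; exact hjb
      · rw [← hj, ← hk, hkj]

theorem final {G : Type*} [Group G] (i g : G) (r1 : i ^ 4 = 1) (hne : i ^ 2 ≠ 1)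
    (r2 : (g * i * g⁻¹) ^ 2 = i ^ 2) (r3 : (g * i * g⁻¹) * i * (g * i * g⁻¹)⁻¹ = i⁻¹)
    (r5 : g * (g * i * g⁻¹) * g⁻¹ = i * (g * i * g⁻¹)) (hodd : Odd (orderOf g)) :
    ∃ (H K : Subgroup G) (hK : (K.subgroupOf H).Normal),
      Nonempty ((H ⧸ K.subgroupOf H) ≃* Matrix.SpecialLinearGroup (Fin 2) (ZMod 3)) := by
  have hg3i : g ^ 3 * i = i * g ^ 3 := by
    obtain ⟨j, hj⟩ : ∃ j, j = g * i * g⁻¹ := ⟨_, rfl⟩
    have r2' := r2
    have r3' := r3
    have r5' := r5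
    rw [← hj] at r2' r3' r5'
    have h1 : g ^ 3 * i * (g ^ 3)⁻¹ = g * (g * j * g⁻¹) * g⁻¹ := by
      rw [hj, pow_succ, pow_two]; group
    have h2 : g * (i * j) * g⁻¹ = j * (i * j) := by
      calc g * (i * j) * g⁻¹ = (g * i * g⁻¹) * (g * j * g⁻¹) := by group
        _ = j * (i * j) := by rw [← hj, r5']
    have h3 : j * i = i⁻¹ * j := by
      calc j * i = (j * i * j⁻¹) * j := by group
        _ = i⁻¹ * j := by rw [r3']
    have h4 : j * (i * j) = i := by
      calc j * (i * j) = (j * i) * j := by group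
        _ = i⁻¹ * j ^ 2 := by rw [h3, pow_two, mul_assoc]
        _ = i := by rw [r2']; group
    have h5 : g ^ 3 * i * (g ^ 3)⁻¹ = i := by rw [h1, r5', h2, h4]
    calc g ^ 3 * i = (g ^ 3 * i * (g ^ 3)⁻¹) * g ^ 3 := by group
      _ = i * g ^ 3 := by rw [h5]
  obtain ⟨H, hH⟩ : ∃ H : Subgroup G, H = Subgroup.closure {i, g} := ⟨_, rfl⟩
  obtain ⟨K, hKdef⟩ : ∃ K : Subgroup G, K = Subgroup.zpowers (g ^ 3) := ⟨_, rfl⟩
  have hHle : H ≤ Subgroup.centralizer {g ^ 3} := by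
    rw [hH, Subgroup.closure_le]
    intro x hx
    rw [SetLike.mem_coe, Subgroup.mem_centralizer_iff]
    intro h hh
    have hh' : h = g ^ 3 := hh
    subst hh'
    rcases hx with hx | hx
    · rw [hx]; exact hg3i
    · have hx' : x = g := hx
      rw [hx']; group
  have hKc : ∀ x ∈ K, ∀ y ∈ H, y * x * y⁻¹ = x := by
    intro x hx y hy
    rw [hKdef] at hx
    obtain ⟨m, rfl⟩ := Subgroup.mem_zpowers_iff.mp hx
    have h1 : g ^ 3 * y = y * g ^ 3 := (Subgroup.mem_centralizer_iff.mp (hHle hy)) _ rfl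
    have h2 : Commute y (g ^ 3) := h1.symm
    rw [(h2.zpow_right m).eq, mul_inv_cancel_right]
  have hK : (K.subgroupOf H).Normal := by
    constructor
    rintro ⟨x, hx⟩ hxK ⟨y, hy⟩
    rw [Subgroup.mem_subgroupOf] at hxK ⊢
    simp only [Subgroup.coe_mul, Subgroup.coe_inv] at hxK ⊢
    rw [hKc x hxK y hy]; exact hxK
  refine ⟨H, K, hK, ?_⟩
  obtain ⟨φ, hφ⟩ : ∃ φ : H →* H ⧸ K.subgroupOf H, φ = QuotientGroup.mk' (K.subgroupOf H) :=
    ⟨_, rfl⟩
  have hφs : Function.Surjective φ := by rw [hφ]; exact QuotientGroup.mk'_surjective _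
  have hφ1 : ∀ x : H, φ x = 1 ↔ (x : G) ∈ K := by
    intro x
    rw [hφ]
    exact (QuotientGroup.eq_one_iff x).trans Subgroup.mem_subgroupOf
  have hiH : i ∈ H := by rw [hH]; exact Subgroup.subset_closure (by simp)
  have hgH : g ∈ H := by rw [hH]; exact Subgroup.subset_closure (by simp)
  obtain ⟨I, hI⟩ : ∃ I : H, (I : G) = i := ⟨⟨i, hiH⟩, rfl⟩
  obtain ⟨W, hW⟩ : ∃ W : H, (W : G) = g := ⟨⟨g, hgH⟩, rfl⟩
  have R1 : I ^ 4 = 1 := Subtype.ext (by
    simp only [Subgroup.coe_pow, Subgroup.coe_one, hI]; exact r1)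
  have R2 : (W * I * W⁻¹) ^ 2 = I ^ 2 := Subtype.ext (by
    simp only [Subgroup.coe_mul, Subgroup.coe_inv, Subgroup.coe_pow, hI, hW]; exact r2)
  have R3 : (W * I * W⁻¹) * I * (W * I * W⁻¹)⁻¹ = I⁻¹ := Subtype.ext (by
    simp only [Subgroup.coe_mul, Subgroup.coe_inv, hI, hW]; exact r3)
  have R5 : W * (W * I * W⁻¹) * W⁻¹ = I * (W * I * W⁻¹) := Subtype.ext (by
    simp only [Subgroup.coe_mul, Subgroup.coe_inv, hI, hW]; exact r5)
  have q1 : (φ I) ^ 4 = 1 := by rw [← map_pow, R1, map_one]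
  have q2 : (φ W * φ I * (φ W)⁻¹) ^ 2 = (φ I) ^ 2 := by
    have := congrArg φ R2
    simpa only [map_mul, map_inv, map_pow] using this
  have q3 : (φ W * φ I * (φ W)⁻¹) * φ I * (φ W * φ I * (φ W)⁻¹)⁻¹ = (φ I)⁻¹ := by
    have := congrArg φ R3
    simpa only [map_mul, map_inv, map_pow] using this
  have q4 : (φ W) ^ 3 = 1 := by
    rw [← map_pow, hφ1]
    simp only [Subgroup.coe_pow, hW]
    rw [hKdef]; exact Subgroup.mem_zpowers _
  have q5 : φ W * (φ W * φ I * (φ W)⁻¹) * (φ W)⁻¹ = φ I * (φ W * φ I * (φ W)⁻¹) := by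
    have := congrArg φ R5
    simpa only [map_mul, map_inv, map_pow] using this
  have qne : (φ I) ^ 2 ≠ 1 := by
    rw [← map_pow]
    intro h
    have h1 := (hφ1 _).mp h
    simp only [Subgroup.coe_pow, hI] at h1
    rw [hKdef] at h1
    have h3 : orderOf (i ^ 2) = 2 := orderOf_eq_prime (by rw [← pow_mul]; exact r1) hne
    have h4 : orderOf (i ^ 2) ∣ orderOf (g ^ 3) := orderOf_dvd_of_mem_zpowers h1
    have h5 : orderOf (g ^ 3) ∣ orderOf g := orderOf_pow_dvd 3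
    have h6 : Odd 2 := by rw [← h3]; exact hodd.of_dvd_nat (h4.trans h5)
    exact absurd h6 (by decide)
  have qgen : Subgroup.closure {φ I, φ W} = ⊤ := by
    have h1 : Subgroup.closure ({I, W} : Set H) = ⊤ := by
      apply Subgroup.map_injective H.subtype_injective
      rw [MonoidHom.map_closure, Set.image_pair, ← MonoidHom.range_eq_map, Subgroup.range_subtype]
      simp only [Subgroup.coe_subtype, hI, hW]
      exact hH.symm
    have h2 : Subgroup.map φ (Subgroup.closure {I, W}) = Subgroup.closure {φ I, φ W} := by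
      rw [MonoidHom.map_closure, Set.image_pair]
    rw [← h2, h1, ← MonoidHom.range_eq_map]
    exact MonoidHom.range_eq_top.mpr hφs
  exact Cfsg.Agent.Lib.helper16.SL23.iso_of_rel (φ I) (φ W) q1 q2 q3 q4 q5 qgen qne

/-- A finite group with generalized quaternion Sylow 2-subgroups either has a normal 2-complement or has a section isomorphic to SL(2,3). -/
theorem result {G : Type*} [Group G] [Finite G] (T : Sylow 2 G) (n : ℕ) (hn : 1 ≤ n) (hT : Nonempty ((T : Subgroup G) ≃* QuaternionGroup (2 ^ n))) : Cfsg.HasNormalPComplement 2 G ∨ ∃ (H K : Subgroup G) (hK : (K.subgroupOf H).Normal), Nonempty ((H ⧸ K.subgroupOf H) ≃* Matrix.SpecialLinearGroup (Fin 2) (ZMod 3)) := by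
  by_cases hfr : ∀ Q : Subgroup G, Q ≤ (T : Subgroup G) → ∀ g ∈ Subgroup.normalizer (Q : Set G),
      Nat.Coprime (orderOf g) 2 → g ∈ Subgroup.centralizer (Q : Set G)
  · left
    obtain ⟨N, hN, hc⟩ := (Cfsg.Agent.S0071.result T).mpr hfr
    exact ⟨T, N, hN, hc⟩
  · right
    push Not at hfr
    obtain ⟨Q, hQT, g, hgN, hgcop, hgC⟩ := hfr
    obtain ⟨e⟩ := hT
    obtain ⟨A, z, hAT, hAc, hzA, hz, hsq, hinv, hquot⟩ := quat_struct (T : Subgroup G) n e
    have hodd : Odd (orderOf g) := Nat.coprime_two_right.mp hgcop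
    have h2 : ∀ x ∈ (T : Subgroup G), ∃ l : ℕ, orderOf x = 2 ^ l := by
      intro x hx
      obtain ⟨k, hk⟩ := T.isPGroup' ⟨x, hx⟩
      have hk' : x ^ 2 ^ k = 1 := by simpa using congrArg Subtype.val hk
      obtain ⟨l, _, hl⟩ := (Nat.dvd_prime_pow Nat.prime_two).mp (orderOf_dvd_of_pow_eq_one hk')
      exact ⟨l, hl⟩
    obtain ⟨i, r1, hne, r2, r3, r5⟩ :=
      core T A z hAT hAc h2 hzA hz hsq hinv hquot Q hQT g hgN hodd hgC
    exact final i g r1 hne r2 r3 r5 hodd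

end Cfsg.Agent.S0106
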