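import Mathlib
import Cfsg.Statements.S0247
import Cfsg.Agent.Lib.helper4.SpCard

set_option autoImplicit false
open Cfsg

namespace Cfsg.Agent.S0247

open Matrix

/-- index type of the symplectic group of degree four -/
abbrev K4 : Type := Fin 2 ⊕ Fin 2

/-- numbering of the index type -/
def idx : K4 → Fin 4 := Sum.elim ![0, 1] ![2, 3]

def tA : Matrix (Fin 4) (Fin 6) (ZMod 2) :=
  !![0, 1, 1, 0, 0, 0; 0, 0, 0, 0, 1, 1; 0, 0, 1, 1, 1, 1; 0, 0, 0, 1, 1, 0]
def tB : Matrix (Fin 6) (Fin 4) (ZMod 2) :=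
  !![1, 0, 0, 0; 1, 0, 1, 0; 0, 0, 1, 0; 0, 1, 0, 0; 0, 1, 0, 1; 0, 0, 0, 1]
def L0 : Matrix (Fin 6) (Fin 6) (ZMod 2) :=
  !![1, 1, 1, 0, 0, 0; 0, 0, 0, 0, 0, 0; 0, 0, 0, 0, 0, 0; 0, 0, 0, 0, 0, 0; 0, 0, 0, 0, 0, 0; 0, 0, 0, 0, 0, 0]
def R0 : Matrix (Fin 6) (Fin 6) (ZMod 2) :=
  !![0, 0, 0, 0, 0, 0; 0, 1, 0, 0, 0, 0; 0, 0, 1, 0, 0, 0; 0, 0, 0, 1, 0, 0; 0, 0, 0, 0, 1, 0; 0, 0, 0, 0, 0, 1]
/-- coordinates on the even weight vectors modulo the all-ones vector -/
def A0 : Matrix K4 (Fin 6) (ZMod 2) := tA.submatrix idx id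
/-- a basis of the even weight vectors modulo the all-ones vector -/
def B0 : Matrix (Fin 6) K4 (ZMod 2) := tB.submatrix id idx
/-- the all-ones matrix -/
def J0 : Matrix (Fin 6) (Fin 6) (ZMod 2) := Matrix.of fun _ _ => 1

theorem g1 : A0 * B0 = 1 := by decide
theorem g2 : J0 * B0 = 0 := by decide
theorem g3 : B0 * A0 = 1 + J0 * L0 + R0 * J0 := by decide
theorem g4 : A0 * J0 = 0 := by decide
theorem g5 : B0ᵀ * B0 = Matrix.J (Fin 2) (ZMod 2) := by decide
theorem g6 : J0 * J0 = 0 := by decide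
theorem rows_lemma : ∀ n0 : K4 → ZMod 2,
    (∀ i : Fin 6, ∃ j : Fin 6, ∀ k, B0 j k + n0 k = B0 i k) → n0 = 0 := by decide
theorem rows_inj' : ∀ i j : Fin 6, j ≠ i → ∃ k : K4, B0 j k + 1 = B0 i k := by decide
theorem zmod2_ne : ∀ x : ZMod 2, x + 1 ≠ x := by decide
theorem rows_inj (i j : Fin 6) (h : ∀ k, B0 j k = B0 i k) : j = i := by
  by_contra hne
  obtain ⟨k, hk⟩ := rows_inj' i j hne
  rw [h k] at hk
  exact zmod2_ne _ hk

section
variable {F : Type*} [Field F] (c : ZMod 2 →+* F)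

def A : Matrix K4 (Fin 6) F := A0.map c
def B : Matrix (Fin 6) K4 F := B0.map c
def JF (F : Type*) [Field F] : Matrix (Fin 6) (Fin 6) F := Matrix.of fun _ _ => 1
def LF : Matrix (Fin 6) (Fin 6) F := L0.map c
def RF : Matrix (Fin 6) (Fin 6) F := R0.map c

theorem J0_map : J0.map c = JF F := by
  ext i j
  simp [J0, JF]

theorem h1 : A c * B c = 1 := by
  rw [A, B, ← Matrix.map_mul, g1, Matrix.map_one _ (map_zero c) (map_one c)]

theorem h2 : JF F * B c = 0 := by
  rw [B, ← J0_map c, ← Matrix.map_mul, g2, Matrix.map_zero _ (map_zero c)]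

theorem h3 : B c * A c = 1 + JF F * LF c + RF c * JF F := by
  rw [A, B, ← Matrix.map_mul, g3, Matrix.map_add _ (map_add c), Matrix.map_add _ (map_add c),
    Matrix.map_one _ (map_zero c) (map_one c), Matrix.map_mul, Matrix.map_mul, J0_map]
  rfl

theorem h4 : A c * JF F = 0 := by
  rw [A, ← J0_map c, ← Matrix.map_mul, g4, Matrix.map_zero _ (map_zero c)]

theorem J_map : (Matrix.J (Fin 2) (ZMod 2)).map c = Matrix.J (Fin 2) F := by
  rw [Matrix.J, Matrix.fromBlocks_map, Matrix.map_zero _ (map_zero c), Matrix.map_neg _ (map_neg c),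
    Matrix.map_one _ (map_zero c) (map_one c)]
  rfl

theorem h5 : (B c)ᵀ * B c = Matrix.J (Fin 2) F := by
  rw [B, ← Matrix.transpose_map, ← Matrix.map_mul, g5, J_map]

theorem h6 (c' : ZMod 2 →+* F) : JF F * JF F = 0 := by
  rw [← J0_map c', ← Matrix.map_mul, g6, Matrix.map_zero _ (map_zero c')]

theorem h7 : (JF F)ᵀ = JF F := rfl

/-- permutation matrices -/
abbrev P (F : Type*) [Field F] (σ : Equiv.Perm (Fin 6)) : Matrix (Fin 6) (Fin 6) F :=
  Matrix.permMatrixHom σ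

theorem P_mul_J (σ : Equiv.Perm (Fin 6)) : P F σ * JF F = JF F := by
  show (σ⁻¹).toPEquiv.toMatrix * JF F = JF F
  rw [PEquiv.toMatrix_toPEquiv_mul]
  rfl

theorem J_mul_P (σ : Equiv.Perm (Fin 6)) : JF F * P F σ = JF F := by
  show JF F * (σ⁻¹).toPEquiv.toMatrix = JF F
  rw [PEquiv.mul_toMatrix_toPEquiv]
  rfl

theorem P_mul_apply (σ : Equiv.Perm (Fin 6)) (X : Matrix (Fin 6) K4 F) (i : Fin 6) (k : K4) :
    (P F σ * X) i k = X (σ⁻¹ i) k := by
  rw [show P F σ = (Equiv.toPEquiv σ⁻¹).toMatrix from rfl, PEquiv.toMatrix_toPEquiv_mul]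
  rfl

theorem Pt_mul_P (σ : Equiv.Perm (Fin 6)) : (P F σ)ᵀ * P F σ = 1 := by
  have e : (P F σ)ᵀ = P F σ⁻¹ := by
    show ((σ⁻¹).permMatrix F)ᵀ = ((σ⁻¹)⁻¹).permMatrix F
    rw [Matrix.transpose_permMatrix]
  rw [e, P, P, ← map_mul, inv_mul_cancel, map_one]

theorem J_mul_PB (σ : Equiv.Perm (Fin 6)) : JF F * (P F σ * B c) = 0 := by
  rw [← Matrix.mul_assoc, J_mul_P, h2]

theorem key (Y : Matrix (Fin 6) K4 F) (hY : JF F * Y = 0) :
    B c * (A c * Y) = Y + JF F * (LF c * Y) := by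
  rw [← Matrix.mul_assoc, h3, Matrix.add_mul, Matrix.add_mul, Matrix.one_mul, Matrix.mul_assoc,
    Matrix.mul_assoc (RF c), hY, Matrix.mul_zero, add_zero]

/-- the representation on the even weight vectors modulo the all-ones vector -/
def Mhom : Equiv.Perm (Fin 6) →* Matrix K4 K4 F where
  toFun σ := A c * P F σ * B c
  map_one' := by rw [P, map_one, Matrix.mul_one, h1]
  map_mul' σ τ := by
    have e1 : A c * P F σ * B c * (A c * P F τ * B c) =
        A c * P F σ * (B c * (A c * (P F τ * B c))) := by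
      simp only [Matrix.mul_assoc]
    rw [e1, key c _ (J_mul_PB c τ), Matrix.mul_add, ← Matrix.mul_assoc (A c * P F σ) (JF F),
      Matrix.mul_assoc (A c) (P F σ) (JF F), P_mul_J, h4, Matrix.zero_mul, add_zero, P, P, P,
      map_mul]
    simp only [Matrix.mul_assoc]

theorem Mhom_apply (σ : Equiv.Perm (Fin 6)) : Mhom c σ = A c * P F σ * B c := rfl

theorem B_mul_Mhom (σ : Equiv.Perm (Fin 6)) :
    B c * Mhom c σ = P F σ * B c + JF F * (LF c * (P F σ * B c)) := by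
  rw [Mhom_apply, Matrix.mul_assoc (A c), key c _ (J_mul_PB c σ)]

theorem Mhom_mem (σ : Equiv.Perm (Fin 6)) : Mhom c σ ∈ Matrix.symplecticGroup (Fin 2) F := by
  rw [SymplecticGroup.mem_iff', ← h5 c]
  have e1 : (Mhom c σ)ᵀ * ((B c)ᵀ * B c) * Mhom c σ = (B c * Mhom c σ)ᵀ * (B c * Mhom c σ) := by
    simp only [Matrix.transpose_mul, Matrix.mul_assoc]
  have hY : JF F * (P F σ * B c) = 0 := J_mul_PB c σ
  have hYt : (P F σ * B c)ᵀ * JF F = 0 := by
    have := congrArg Matrix.transpose hY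
    rw [Matrix.transpose_mul, h7, Matrix.transpose_zero] at this
    exact this
  have hYY : (P F σ * B c)ᵀ * (P F σ * B c) = (B c)ᵀ * B c := by
    rw [Matrix.transpose_mul, Matrix.mul_assoc, ← Matrix.mul_assoc (P F σ)ᵀ, Pt_mul_P,
      Matrix.one_mul]
  rw [e1, B_mul_Mhom]
  generalize P F σ * B c = Y at hY hYt hYY ⊢
  generalize LF c * Y = N
  rw [Matrix.transpose_add, Matrix.transpose_mul, h7, Matrix.add_mul, Matrix.mul_add,
    Matrix.mul_add, hYY, ← Matrix.mul_assoc Yᵀ, hYt, Matrix.zero_mul, Matrix.mul_assoc Nᵀ,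
    hY, Matrix.mul_zero, Matrix.mul_assoc Nᵀ, ← Matrix.mul_assoc (JF F) (JF F), h6 c,
    Matrix.zero_mul, Matrix.mul_zero, add_zero, add_zero, add_zero]

/-- the homomorphism into the symplectic group -/
def phi : Equiv.Perm (Fin 6) →* Matrix.symplecticGroup (Fin 2) F where
  toFun σ := ⟨Mhom c σ, Mhom_mem c σ⟩
  map_one' := Subtype.ext (map_one (Mhom c))
  map_mul' σ τ := Subtype.ext (map_mul (Mhom c) σ τ)

theorem phi_injective (hc : Function.Bijective c) : Function.Injective (phi c) := by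
  rw [injective_iff_map_eq_one]
  intro σ hσ
  have hM : Mhom c σ = 1 := congrArg Subtype.val hσ
  have hB := B_mul_Mhom c σ
  rw [hM, Matrix.mul_one] at hB
  -- entries
  obtain ⟨n0, hn0⟩ : ∃ n0 : K4 → ZMod 2, ∀ k, c (n0 k) =
      ∑ j : Fin 6, (LF c * (P F σ * B c)) j k := by
    choose n0 hn0 using fun k => hc.2 (∑ j : Fin 6, (LF c * (P F σ * B c)) j k)
    exact ⟨n0, hn0⟩
  have hent : ∀ (i : Fin 6) (k : K4), B0 (σ⁻¹ i) k + n0 k = B0 i k := by
    intro i k
    apply hc.1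
    have h := congrFun (congrFun hB i) k
    rw [Matrix.add_apply, P_mul_apply, Matrix.mul_apply] at h
    simp only [JF, Matrix.of_apply, one_mul] at h
    rw [map_add, hn0 k]
    exact h.symm
  have hn : n0 = 0 := rows_lemma n0 (fun i => ⟨σ⁻¹ i, fun k => hent i k⟩)
  have hfix : ∀ i : Fin 6, σ⁻¹ i = i := by
    intro i
    apply rows_inj
    intro k
    have := hent i k
    rw [hn] at this
    simpa using this
  ext i
  have := hfix (σ i)
  simp at this
  simp [← this]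

end

/-- Sp_4(2) is isomorphic to the symmetric group S_6. -/
theorem result {F : Type*} [Field F] [Fintype F] (hF : Fintype.card F = 2) : Nonempty (Matrix.symplecticGroup (Fin 2) F ≃* Equiv.Perm (Fin 6)) := by
  have e : ZMod 2 ≃+* F := FiniteField.ringEquivOfCardEq (by rw [ZMod.card, hF])
  have hinj := phi_injective (e : ZMod 2 →+* F) e.bijective
  have hcard : Nat.card (Matrix.symplecticGroup (Fin 2) F) = 720 := by
    rw [Cfsg.Agent.Lib.helper4.card_sp (F := F) hF 2]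
    decide
  have hbij : Function.Bijective (phi (e : ZMod 2 →+* F)) := by
    apply hinj.bijective_of_nat_card_le
    rw [hcard, Nat.card_eq_fintype_card, Fintype.card_perm, Fintype.card_fin]
    decide
  exact ⟨(MulEquiv.ofBijective (phi (e : ZMod 2 →+* F)) hbij).symm⟩

end Cfsg.Agent.S0247
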