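import Cfsg.Statements.S3335

import Cfsg.Agent.Lib.helper8.AltPres
set_option autoImplicit false
open Cfsg

namespace Cfsg.Agent.S3335

section Helpers

universe u

theorem sw_comm {α : Type u} [DecidableEq α] {a b c d : α} (hac : a ≠ c) (had : a ≠ d)
    (hbc : b ≠ c) (hbd : b ≠ d) :
    Equiv.swap a b * Equiv.swap c d = Equiv.swap c d * Equiv.swap a b := by
  have hdis : (Equiv.swap a b).Disjoint (Equiv.swap c d) := by
    intro x
    by_cases h1 : x = a
    · right; rw [h1]; exact Equiv.swap_apply_of_ne_of_ne hac had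
    · by_cases h2 : x = b
      · right; rw [h2]; exact Equiv.swap_apply_of_ne_of_ne hbc hbd
      · left; exact Equiv.swap_apply_of_ne_of_ne h1 h2
  exact hdis.commute.eq

theorem sw_conj1 {α : Type u} [DecidableEq α] {x y z : α} (hxz : x ≠ z) (hyz : y ≠ z) :
    Equiv.swap x y * Equiv.swap y z * Equiv.swap x y = Equiv.swap x z := by
  have := Equiv.swap_mul_swap_mul_swap (x := z) (y := y) (z := x) hyz.symm hxz.symm
  rw [Equiv.swap_comm y x, Equiv.swap_comm z y] at this
  exact this

theorem sw_conj2 {α : Type u} [DecidableEq α] {x y z : α} (hxy : x ≠ y) (hxz : x ≠ z) :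
    Equiv.swap y z * Equiv.swap x y * Equiv.swap y z = Equiv.swap x z := by
  have := Equiv.swap_mul_swap_mul_swap (x := x) (y := y) (z := z) hxy hxz
  rw [Equiv.swap_comm z x] at this
  exact this

theorem sw_cube {α : Type u} [DecidableEq α] {x y z : α} (hxy : x ≠ y) (hxz : x ≠ z)
    (hyz : y ≠ z) :
    (Equiv.swap x y * Equiv.swap y z) ^ 3 = 1 := by
  have e3 : (Equiv.swap x y * Equiv.swap y z) ^ 3
      = (Equiv.swap x y * Equiv.swap y z * Equiv.swap x y)
        * (Equiv.swap y z * Equiv.swap x y * Equiv.swap y z) := by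
    rw [pow_succ, pow_two]; simp only [mul_assoc]
  rw [e3, sw_conj1 hxz hyz, sw_conj2 hxy hxz, Equiv.swap_mul_self]

theorem sw_sq {α : Type u} [DecidableEq α] {a b c d : α} (hac : a ≠ c) (had : a ≠ d)
    (hbc : b ≠ c) (hbd : b ≠ d) :
    (Equiv.swap a b * Equiv.swap c d) ^ 2 = 1 := by
  have hc := sw_comm hac had hbc hbd
  have hx := Equiv.swap_mul_self a b
  have hy := Equiv.swap_mul_self c d
  generalize Equiv.swap a b = x at hc hx hy ⊢
  generalize Equiv.swap c d = y at hc hx hy ⊢
  calc (x * y) ^ 2 = x * (y * x) * y := by rw [pow_two]; simp only [mul_assoc]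
    _ = x * (x * y) * y := by rw [← hc]
    _ = (x * x) * (y * y) := by simp only [mul_assoc]
    _ = 1 := by rw [hx, hy, one_mul]

def pt (k : ℕ) (j : ℕ) : Fin (k + 3) := if h : j < k + 3 then ⟨j, h⟩ else ⟨0, by omega⟩

theorem pt_val (k j : ℕ) (h : j < k + 3) : (pt k j).val = j := by
  unfold pt; rw [dif_pos h]

theorem pt_ne (k : ℕ) {j j' : ℕ} (h : j < k + 3) (h' : j' < k + 3) (hne : j ≠ j') :
    pt k j ≠ pt k j' := by
  intro e
  have := congrArg Fin.val e
  rw [pt_val k j h, pt_val k j' h'] at this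
  exact hne this

def sw (k : ℕ) (j : ℕ) : Equiv.Perm (Fin (k + 3)) := Equiv.swap (pt k j) (pt k (j + 1))

def gp (k : ℕ) (i : ℕ) : Equiv.Perm (Fin (k + 3)) := sw k 0 * sw k (i + 1)

theorem sw_self (k j : ℕ) : sw k j * sw k j = 1 := Equiv.swap_mul_self _ _

theorem gp_cube0 (k : ℕ) : gp k 0 ^ 3 = 1 := by
  have := sw_cube (pt_ne k (j := 0) (j' := 1) (by omega) (by omega) (by omega))
    (pt_ne k (j := 0) (j' := 2) (by omega) (by omega) (by omega))
    (pt_ne k (j := 1) (j' := 2) (by omega) (by omega) (by omega))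
  exact this

theorem gp_sq (k i : ℕ) (h1 : 1 ≤ i) (hk : i ≤ k) : gp k i ^ 2 = 1 := by
  have := sw_sq (pt_ne k (j := 0) (j' := i + 1) (by omega) (by omega) (by omega))
    (pt_ne k (j := 0) (j' := i + 1 + 1) (by omega) (by omega) (by omega))
    (pt_ne k (j := 0 + 1) (j' := i + 1) (by omega) (by omega) (by omega))
    (pt_ne k (j := 0 + 1) (j' := i + 1 + 1) (by omega) (by omega) (by omega))
  exact this

theorem gp_mul (k i j : ℕ) : gp k i * gp k j = (sw k 0 * sw k (i + 1) * sw k 0) * sw k (j + 1) := by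
  unfold gp
  simp only [mul_assoc]

theorem sw_conj_zero (k : ℕ) : sw k 0 * sw k 1 * sw k 0 = Equiv.swap (pt k 0) (pt k 2) := by
  have := sw_conj1 (y := pt k 1) (pt_ne k (j := 0) (j' := 2) (by omega) (by omega) (by omega))
    (pt_ne k (j := 1) (j' := 2) (by omega) (by omega) (by omega))
  exact this

theorem sw_conj_pos (k i : ℕ) (h1 : 1 ≤ i) (hk : i ≤ k) :
    sw k 0 * sw k (i + 1) * sw k 0 = sw k (i + 1) := by
  have hc : sw k 0 * sw k (i + 1) = sw k (i + 1) * sw k 0 :=
    sw_comm (pt_ne k (j := 0) (j' := i + 1) (by omega) (by omega) (by omega))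
    (pt_ne k (j := 0) (j' := i + 1 + 1) (by omega) (by omega) (by omega))
    (pt_ne k (j := 0 + 1) (j' := i + 1) (by omega) (by omega) (by omega))
    (pt_ne k (j := 0 + 1) (j' := i + 1 + 1) (by omega) (by omega) (by omega))
  rw [hc, mul_assoc, sw_self, mul_one]

theorem gp_cube (k i : ℕ) (hk : i + 1 ≤ k) : (gp k i * gp k (i + 1)) ^ 3 = 1 := by
  rw [gp_mul]
  rcases Nat.eq_zero_or_pos i with h0 | h0
  · subst h0
    rw [sw_conj_zero]
    have := sw_cube (pt_ne k (j := 0) (j' := 2) (by omega) (by omega) (by omega))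
      (pt_ne k (j := 0) (j' := 3) (by omega) (by omega) (by omega))
      (pt_ne k (j := 2) (j' := 3) (by omega) (by omega) (by omega))
    exact this
  · rw [sw_conj_pos k i h0 (by omega)]
    have := sw_cube (pt_ne k (j := i + 1) (j' := i + 1 + 1) (by omega) (by omega) (by omega))
      (pt_ne k (j := i + 1) (j' := i + 1 + 1 + 1) (by omega) (by omega) (by omega))
      (pt_ne k (j := i + 1 + 1) (j' := i + 1 + 1 + 1) (by omega) (by omega) (by omega))
    exact this

theorem gp_sq2 (k i j : ℕ) (hij : i + 1 < j) (hk : j ≤ k) : (gp k i * gp k j) ^ 2 = 1 := by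
  rw [gp_mul]
  rcases Nat.eq_zero_or_pos i with h0 | h0
  · subst h0
    rw [sw_conj_zero]
    have := sw_sq (pt_ne k (j := 0) (j' := j + 1) (by omega) (by omega) (by omega))
      (pt_ne k (j := 0) (j' := j + 1 + 1) (by omega) (by omega) (by omega))
      (pt_ne k (j := 2) (j' := j + 1) (by omega) (by omega) (by omega))
      (pt_ne k (j := 2) (j' := j + 1 + 1) (by omega) (by omega) (by omega))
    exact this
  · rw [sw_conj_pos k i h0 (by omega)]
    have := sw_sq (pt_ne k (j := i + 1) (j' := j + 1) (by omega) (by omega) (by omega))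
      (pt_ne k (j := i + 1) (j' := j + 1 + 1) (by omega) (by omega) (by omega))
      (pt_ne k (j := i + 1 + 1) (j' := j + 1) (by omega) (by omega) (by omega))
      (pt_ne k (j := i + 1 + 1) (j' := j + 1 + 1) (by omega) (by omega) (by omega))
    exact this

theorem sign_sw (k j : ℕ) (hj : j + 1 < k + 3) : Equiv.Perm.sign (sw k j) = -1 :=
  Equiv.Perm.sign_swap (pt_ne k (by omega) (by omega) (by omega))

theorem sign_gp (k i : ℕ) (hk : i ≤ k) : Equiv.Perm.sign (gp k i) = 1 := by
  unfold gp
  rw [Equiv.Perm.sign_mul, sign_sw k 0 (by omega), sign_sw k (i + 1) (by omega)]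
  decide

def fperm (k : ℕ) (i : Fin (k + 3 - 2)) : alternatingGroup (Fin (k + 3)) :=
  ⟨gp k i.val, Equiv.Perm.mem_alternatingGroup.mpr (sign_gp k i.val (by have := i.2; omega))⟩

theorem gen_top (k : ℕ) : Subgroup.closure (Set.range (fperm k)) = ⊤ := by
  classical
  obtain ⟨K, hK⟩ : ∃ K : Subgroup (Equiv.Perm (Fin (k + 3))),
      K = Subgroup.closure (Set.range (fun i : Fin (k + 3 - 2) => gp k i.val)) := ⟨_, rfl⟩
  have hgK : ∀ i, i ≤ k → gp k i ∈ K := by
    intro i hi
    rw [hK]
    exact Subgroup.subset_closure ⟨⟨i, by omega⟩, rfl⟩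
  have hall : ∀ σ : Equiv.Perm (Fin (k + 3)), σ ∈ K ∨ sw k 0 * σ ∈ K := by
    intro σ
    have hσ : σ ∈ Submonoid.closure
        (Set.range fun i : Fin (k + 2) => Equiv.swap i.castSucc i.succ) := by
      rw [Equiv.Perm.mclosure_swap_castSucc_succ]; exact Submonoid.mem_top σ
    refine Submonoid.closure_induction_left (motive := fun x _ => x ∈ K ∨ sw k 0 * x ∈ K)
      (Or.inl K.one_mem) ?_ hσ
    rintro _ ⟨i, rfl⟩ y _ hy
    have hi : Equiv.swap i.castSucc i.succ = sw k i.val := by
      unfold sw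
      have e1 : i.castSucc = pt k i.val := by
        apply Fin.ext; rw [pt_val k _ (by have := i.2; omega)]; rfl
      have e2 : i.succ = pt k (i.val + 1) := by
        apply Fin.ext; rw [pt_val k _ (by have := i.2; omega)]; rfl
      rw [e1, e2]
    show Equiv.swap i.castSucc i.succ * y ∈ K ∨ sw k 0 * (Equiv.swap i.castSucc i.succ * y) ∈ K
    rw [hi]
    by_cases h0 : i.val = 0
    · rw [h0]
      rcases hy with hy | hy
      · right; rw [← mul_assoc, sw_self, one_mul]; exact hy
      · left; exact hy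
    · obtain ⟨m, hm⟩ : ∃ m, i.val = m + 1 := ⟨i.val - 1, by omega⟩
      rw [hm]
      have hmk : m ≤ k := by have := i.2; omega
      rcases hy with hy | hy
      · right
        rw [← mul_assoc]
        exact K.mul_mem (hgK m hmk) hy
      · left
        have e : sw k (m + 1) * y = (gp k m)⁻¹ * (sw k 0 * y) := by
          have i1 : (sw k 0)⁻¹ = sw k 0 := inv_eq_of_mul_eq_one_left (sw_self k 0)
          have i2 : (sw k (m + 1))⁻¹ = sw k (m + 1) := inv_eq_of_mul_eq_one_left (sw_self k (m + 1))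
          unfold gp
          rw [mul_inv_rev, i1, i2, mul_assoc, ← mul_assoc (sw k 0) (sw k 0) y, sw_self, one_mul]
        rw [e]
        exact K.mul_mem (K.inv_mem (hgK m hmk)) hy
  have hKA : K ≤ alternatingGroup (Fin (k + 3)) := by
    rw [hK, Subgroup.closure_le]
    rintro _ ⟨i, rfl⟩
    exact (fperm k i).2
  have hmap : (Subgroup.closure (Set.range (fperm k))).map
      (alternatingGroup (Fin (k + 3))).subtype = K := by
    rw [MonoidHom.map_closure, hK, ← Set.range_comp]
    rfl
  rw [eq_top_iff]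
  intro x _
  have hx : (x : Equiv.Perm (Fin (k + 3))) ∈ K := by
    rcases hall x with h | h
    · exact h
    · exfalso
      have h1 := Equiv.Perm.mem_alternatingGroup.mp (hKA h)
      rw [Equiv.Perm.sign_mul, Equiv.Perm.mem_alternatingGroup.mp x.2, mul_one,
        sign_sw k 0 (by omega)] at h1
      exact absurd h1 (by decide)
  rw [← hmap] at hx
  obtain ⟨y, hy, hyx⟩ := hx
  have hyx' : y = x := Subtype.ext hyx
  rw [← hyx']
  exact hy

theorem main_aux (k : ℕ) (rels : Set (FreeGroup (Fin (k + 3 - 2))))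
    (h1 : ∀ i : Fin (k + 3 - 2), i.val = 0 → FreeGroup.of i ^ 3 ∈ rels)
    (h2 : ∀ i : Fin (k + 3 - 2), 1 ≤ i.val → FreeGroup.of i ^ 2 ∈ rels)
    (h3 : ∀ i j : Fin (k + 3 - 2), j.val = i.val + 1 →
      (FreeGroup.of i * FreeGroup.of j) ^ 3 ∈ rels)
    (h4 : ∀ i j : Fin (k + 3 - 2), i.val + 1 < j.val →
      (FreeGroup.of i * FreeGroup.of j) ^ 2 ∈ rels)
    (hr : ∀ r ∈ rels, FreeGroup.lift (fperm k) r = 1) :
    Nonempty (PresentedGroup rels ≃* alternatingGroup (Fin (k + 3))) := by
  classical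
  obtain ⟨s, hs⟩ : ∃ s : Fin (k + 3 - 2) → PresentedGroup rels,
      s = fun i => PresentedGroup.mk rels (FreeGroup.of i) := ⟨_, rfl⟩
  have hsof : s = PresentedGroup.of := by rw [hs]; rfl
  have p1 : ∀ i : Fin (k + 3 - 2), i.val = 0 → s i ^ 3 = 1 := by
    intro i hi
    have := PresentedGroup.one_of_mem (h1 i hi)
    rw [map_pow] at this
    rw [hs]; exact this
  have p2 : ∀ i : Fin (k + 3 - 2), 1 ≤ i.val → s i ^ 2 = 1 := by
    intro i hi
    have := PresentedGroup.one_of_mem (h2 i hi)
    rw [map_pow] at this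
    rw [hs]; exact this
  have p3 : ∀ i j : Fin (k + 3 - 2), j.val = i.val + 1 → (s i * s j) ^ 3 = 1 := by
    intro i j hij
    have := PresentedGroup.one_of_mem (h3 i j hij)
    rw [map_pow, map_mul] at this
    rw [hs]; exact this
  have p4 : ∀ i j : Fin (k + 3 - 2), i.val + 1 < j.val → (s i * s j) ^ 2 = 1 := by
    intro i j hij
    have := PresentedGroup.one_of_mem (h4 i j hij)
    rw [map_pow, map_mul] at this
    rw [hs]; exact this
  have c0 : ∀ i : Fin (k + 3 - 2), (i : ℕ) = 0 → s i * s i * s i = 1 := by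
    intro i hi
    have := p1 i hi
    rw [pow_succ, pow_two] at this
    exact this
  have c1 : ∀ i : Fin (k + 3 - 2), 1 ≤ (i : ℕ) → s i * s i = 1 := by
    intro i hi
    have := p2 i hi
    rw [pow_two] at this
    exact this
  have inv1 : ∀ i : Fin (k + 3 - 2), 1 ≤ (i : ℕ) → (s i)⁻¹ = s i := fun i hi =>
    inv_eq_of_mul_eq_one_left (c1 i hi)
  have c2 : ∀ i j : Fin (k + 3 - 2), 1 ≤ (i : ℕ) → (i : ℕ) + 1 < j → s i * s j = s j * s i := by
    intro i j hi hij
    have h := p4 i j hij
    rw [pow_two] at h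
    have h' : s i * s j = (s i * s j)⁻¹ := (inv_eq_of_mul_eq_one_left h).symm
    rw [h', mul_inv_rev, inv1 i hi, inv1 j (by omega)]
  have c2' : ∀ i j : Fin (k + 3 - 2), (i : ℕ) = 0 → 2 ≤ (j : ℕ) →
      s j * s i * s j = (s i)⁻¹ := by
    intro i j hi hj
    have h := p4 i j (by omega)
    rw [pow_two] at h
    apply eq_inv_of_mul_eq_one_right
    rw [← h]
    simp only [mul_assoc]
  have c3 : ∀ i j : Fin (k + 3 - 2), 1 ≤ (i : ℕ) → (i : ℕ) + 1 = j →
      s i * s j * s i = s j * s i * s j := by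
    intro i j hi hij
    have h := p3 i j hij.symm
    have h2 : s i * s j * s i * (s j * s i * s j)⁻¹ = 1 := by
      rw [mul_inv_rev, mul_inv_rev, inv1 i hi, inv1 j (by omega)]
      rw [← h, pow_succ, pow_two]
      simp only [mul_assoc]
    exact mul_inv_eq_one.mp h2
  have c3' : ∀ i j : Fin (k + 3 - 2), (i : ℕ) = 0 → (j : ℕ) = 1 →
      s j * s i * s j = (s i)⁻¹ * s j * (s i)⁻¹ := by
    intro i j hi hj
    have h := p3 i j (by omega)
    have hj1 := inv1 j (by omega)
    have h2 : s j * s i * s j = (s i * s j * s i)⁻¹ := by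
      apply eq_inv_of_mul_eq_one_right
      rw [← h, pow_succ, pow_two]
      simp only [mul_assoc]
    rw [h2, mul_inv_rev, mul_inv_rev, hj1, mul_assoc]
  have hcl : Subgroup.closure (Set.range s) = ⊤ := by
    rw [hsof]; exact PresentedGroup.closure_range_of rels
  obtain ⟨hfin, hcard⟩ := Cfsg.Agent.Lib.helper8.h8a_card_le (k + 3 - 2) (PresentedGroup rels) s
    c0 c1 c2 c2' c3 c3' hcl
  have hsurj : Function.Surjective (PresentedGroup.toGroup hr) := by
    rw [← MonoidHom.range_eq_top, eq_top_iff, ← gen_top k, Subgroup.closure_le]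
    rintro _ ⟨i, rfl⟩
    exact ⟨PresentedGroup.of i, PresentedGroup.toGroup.of hr⟩
  have hbij : Function.Bijective (PresentedGroup.toGroup hr) := by
    apply hsurj.bijective_of_nat_card_le
    have e1 : k + 3 - 2 + 2 = k + 3 := by omega
    rw [e1] at hcard
    have e2 : 2 * Nat.card (alternatingGroup (Fin (k + 3))) = (k + 3).factorial := by
      rw [two_mul_nat_card_alternatingGroup, Nat.card_perm, Nat.card_fin]
    omega
  exact ⟨MulEquiv.ofBijective (PresentedGroup.toGroup hr) hbij⟩

end Helpers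

/-- A presentation of the alternating group of degree n ≥ 3 on generators x_1, …, x_{n−2} (indexed here by 0, …, n−3): the first generator cubes to 1, every other generator squares to 1, the product of two consecutive generators has order dividing 3, and the product of two generators at distance at least 2 has order dividing 2. The group so presented is isomorphic to the alternating group of degree n. -/
theorem result (n : ℕ) (hn : 3 ≤ n) :
    Nonempty (PresentedGroup
      ({g : FreeGroup (Fin (n - 2)) | ∃ i : Fin (n - 2), i.val = 0 ∧ g = FreeGroup.of i ^ 3} ∪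
       {g | ∃ i : Fin (n - 2), 1 ≤ i.val ∧ g = FreeGroup.of i ^ 2} ∪
       {g | ∃ i j : Fin (n - 2), j.val = i.val + 1 ∧ g = (FreeGroup.of i * FreeGroup.of j) ^ 3} ∪
       {g | ∃ i j : Fin (n - 2), i.val + 1 < j.val ∧ g = (FreeGroup.of i * FreeGroup.of j) ^ 2})
      ≃* alternatingGroup (Fin n)) := by

    obtain ⟨k, rfl⟩ : ∃ k, n = k + 3 := ⟨n - 3, by omega⟩
    apply main_aux k
    · intro i hi
      exact Or.inl (Or.inl (Or.inl ⟨i, hi, rfl⟩))
    · intro i hi
      exact Or.inl (Or.inl (Or.inr ⟨i, hi, rfl⟩))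
    · intro i j hij
      exact Or.inl (Or.inr ⟨i, j, hij, rfl⟩)
    · intro i j hij
      exact Or.inr ⟨i, j, hij, rfl⟩
    · rintro r (((⟨i, hi, rfl⟩ | ⟨i, hi, rfl⟩) | ⟨i, j, hij, rfl⟩) | ⟨i, j, hij, rfl⟩)
      · rw [map_pow, FreeGroup.lift_apply_of]
        apply Subtype.ext
        rw [Subgroup.coe_pow, Subgroup.coe_one]
        show gp k i.val ^ 3 = 1
        rw [hi]
        exact gp_cube0 k
      · rw [map_pow, FreeGroup.lift_apply_of]
        apply Subtype.ext
        rw [Subgroup.coe_pow, Subgroup.coe_one]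
        exact gp_sq k i.val hi (by have := i.2; omega)
      · rw [map_pow, map_mul, FreeGroup.lift_apply_of, FreeGroup.lift_apply_of]
        apply Subtype.ext
        rw [Subgroup.coe_pow, Subgroup.coe_mul, Subgroup.coe_one]
        show (gp k i.val * gp k j.val) ^ 3 = 1
        rw [hij]
        exact gp_cube k i.val (by have := j.2; omega)
      · rw [map_pow, map_mul, FreeGroup.lift_apply_of, FreeGroup.lift_apply_of]
        apply Subtype.ext
        rw [Subgroup.coe_pow, Subgroup.coe_mul, Subgroup.coe_one]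
        exact gp_sq2 k i.val j.val hij (by have := j.2; omega)

end Cfsg.Agent.S3335
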