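import Cfsg.Statements.S0892

import Cfsg.Agent.Lib.helper8.AltStem5
import Cfsg.Agent.S3335
set_option autoImplicit false
open Cfsg

namespace Cfsg.Agent.S0892

section Helpers

open Cfsg.Agent.Lib.helper8 in
theorem alt_setup (k : ℕ) : ∃ t : ℕ → alternatingGroup (Fin (k + 3)),
    h8s_Rel k t ∧ h8s_Gen k t ∧
    2 * Nat.card (alternatingGroup (Fin (k + 3))) = (k + 3).factorial := by
  classical
  obtain ⟨t, ht⟩ : ∃ t : ℕ → alternatingGroup (Fin (k + 3)),
      ∀ j, ∀ h : j ≤ k, t j = ⟨Cfsg.Agent.S3335.gp k j,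
        Equiv.Perm.mem_alternatingGroup.mpr (Cfsg.Agent.S3335.sign_gp k j h)⟩ :=
    ⟨fun j => if h : j ≤ k then ⟨Cfsg.Agent.S3335.gp k j,
        Equiv.Perm.mem_alternatingGroup.mpr (Cfsg.Agent.S3335.sign_gp k j h)⟩ else 1,
      fun j h => dif_pos h⟩
  refine ⟨t, ?_, ?_, ?_⟩
  · apply h8s_rel_of_pow
    · rw [ht 0 (by omega)]
      apply Subtype.ext
      have h := Cfsg.Agent.S3335.gp_cube0 k
      rw [pow_succ, pow_two] at h
      exact h
    · intro j h1 h2
      rw [ht j h2]
      apply Subtype.ext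
      have h := Cfsg.Agent.S3335.gp_sq k j h1 h2
      rw [pow_two] at h
      exact h
    · intro i hi
      rw [ht i (by omega), ht (i + 1) hi]
      apply Subtype.ext
      rw [Subgroup.coe_pow, Subgroup.coe_mul, Subgroup.coe_one]
      exact Cfsg.Agent.S3335.gp_cube k i hi
    · intro i j hij hj
      rw [ht i (by omega), ht j hj]
      apply Subtype.ext
      rw [Subgroup.coe_pow, Subgroup.coe_mul, Subgroup.coe_one]
      exact Cfsg.Agent.S3335.gp_sq2 k i j hij hj
  · show Subgroup.closure (Set.range (fun i : Fin (k + 1) => t i)) = ⊤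
    have hr : Set.range (fun i : Fin (k + 1) => t i) = Set.range (Cfsg.Agent.S3335.fperm k) := by
      ext q
      constructor
      · rintro ⟨i, rfl⟩
        refine ⟨⟨i.val, by have := i.2; omega⟩, ?_⟩
        show _ = t i.val
        rw [ht i.val (by have := i.2; omega)]
        rfl
      · rintro ⟨i, rfl⟩
        refine ⟨⟨i.val, by have := i.2; omega⟩, ?_⟩
        show t i.val = _
        rw [ht i.val (by have := i.2; omega)]
        rfl
    rw [hr]
    exact Cfsg.Agent.S3335.gen_top k
  · rw [two_mul_nat_card_alternatingGroup, Nat.card_perm, Nat.card_fin]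

end Helpers

/-- Let n ≥ 4 with n ≠ 6 and n ≠ 7, and let Γ be a finite group with a subgroup Z contained in both the centre and the commutator subgroup of Γ such that Γ / Z is isomorphic to the alternating group on n letters. Then Z has order at most 2. -/
theorem result (n : ℕ) (hn : 4 ≤ n) (h6 : n ≠ 6) (h7 : n ≠ 7) {Γ : Type*} [Group Γ] [Finite Γ] (Z : Subgroup Γ) [Z.Normal] (hZc : Z ≤ Subgroup.center Γ) (hZd : Z ≤ commutator Γ) (e : Γ ⧸ Z ≃* alternatingGroup (Fin n)) : Nat.card Z ≤ 2 := by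

    obtain ⟨k, rfl⟩ : ∃ k, n = k + 3 := ⟨n - 3, by omega⟩
    obtain ⟨t, hR, hG, hcard⟩ := alt_setup k
    obtain ⟨π, hπ⟩ : ∃ π : Γ →* alternatingGroup (Fin (k + 3)),
        ∀ g, π g = e (QuotientGroup.mk g) :=
      ⟨e.toMonoidHom.comp (QuotientGroup.mk' Z), fun g => rfl⟩
    have hker : ∀ z, π z = 1 ↔ z ∈ Z := by
      intro z
      rw [hπ, MulEquiv.map_eq_one_iff, QuotientGroup.eq_one_iff]
    have hS : Cfsg.Agent.Lib.helper8.h8s_Stem π := by
      refine ⟨?_, ?_, ?_⟩
      · intro a
        obtain ⟨q, rfl⟩ := e.surjective a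
        obtain ⟨g, rfl⟩ := QuotientGroup.mk_surjective q
        exact ⟨g, hπ g⟩
      · intro z hz g
        exact Subgroup.mem_center_iff.mp (hZc ((hker z).mp hz)) g
      · intro z hz
        exact hZd ((hker z).mp hz)
    have hmain := Cfsg.Agent.Lib.helper8.h8s_main π hS k (by omega) (by omega) (by omega) t hR hG
      hcard
    have hkz : π.ker = Z := by
      ext z
      rw [MonoidHom.mem_ker]
      exact hker z
    rw [hkz] at hmain
    exact hmain

end Cfsg.Agent.S0892
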