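import Cfsg.Statements.S0891

import Cfsg.Agent.Lib.helper8.SpinModel
import Cfsg.Agent.S0892
set_option autoImplicit false
open Cfsg

namespace Cfsg.Agent.S0891

section Helpers

open Cfsg.Agent.Lib.helper8

def dcRels (k : ℕ) : Set (FreeGroup ℕ) :=
  {r | r = FreeGroup.of 0 ^ 3} ∪
  {r | ∃ j, 1 ≤ j ∧ j ≤ k ∧ r = FreeGroup.of j ^ 2 * (FreeGroup.of (k + 1))⁻¹} ∪
  {r | ∃ i, i + 1 ≤ k ∧
    r = (FreeGroup.of i * FreeGroup.of (i + 1)) ^ 3 * (FreeGroup.of (k + 1))⁻¹} ∪
  {r | ∃ i j, i + 1 < j ∧ j ≤ k ∧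
    r = (FreeGroup.of i * FreeGroup.of j) ^ 2 * (FreeGroup.of (k + 1))⁻¹} ∪
  {r | r = FreeGroup.of (k + 1) ^ 2} ∪
  {r | ∃ j, r = FreeGroup.of (k + 1) * FreeGroup.of j * (FreeGroup.of (k + 1))⁻¹
    * (FreeGroup.of j)⁻¹} ∪
  {r | ∃ j, k + 1 < j ∧ r = FreeGroup.of j}

theorem dc_lift {G : Type*} [Group G] (k : ℕ) (f : ℕ → G)
    (h0 : f 0 ^ 3 = 1) (h1 : ∀ j, 1 ≤ j → j ≤ k → f j ^ 2 = f (k + 1))
    (h3 : ∀ i, i + 1 ≤ k → (f i * f (i + 1)) ^ 3 = f (k + 1))
    (h2 : ∀ i j, i + 1 < j → j ≤ k → (f i * f j) ^ 2 = f (k + 1))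
    (hz : f (k + 1) ^ 2 = 1) (hc : ∀ j, f (k + 1) * f j = f j * f (k + 1))
    (hx : ∀ j, k + 1 < j → f j = 1) :
    ∀ r ∈ dcRels k, FreeGroup.lift f r = 1 := by
  rintro r ((((((rfl | ⟨j, hj1, hj2, rfl⟩) | ⟨i, hi, rfl⟩) | ⟨i, j, hij, hj, rfl⟩) | rfl)
    | ⟨j, rfl⟩) | ⟨j, hj, rfl⟩)
  · simp only [map_pow, FreeGroup.lift_apply_of]
    exact h0
  · simp only [map_mul, map_pow, map_inv, FreeGroup.lift_apply_of]
    rw [h1 j hj1 hj2, mul_inv_cancel]
  · simp only [map_mul, map_pow, map_inv, FreeGroup.lift_apply_of]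
    rw [h3 i hi, mul_inv_cancel]
  · simp only [map_mul, map_pow, map_inv, FreeGroup.lift_apply_of]
    rw [h2 i j hij hj, mul_inv_cancel]
  · simp only [map_pow, FreeGroup.lift_apply_of]
    exact hz
  · simp only [map_mul, map_inv, FreeGroup.lift_apply_of]
    rw [hc j]
    group
  · simp only [FreeGroup.lift_apply_of]
    exact hx j hj

theorem rel_P2 {G : Type*} [Group G] {m : ℕ} {t : ℕ → G} (hR : h8s_Rel m t) (i j : ℕ)
    (hij : i + 1 < j) (hj : j ≤ m) : (t i * t j) ^ 2 = 1 := by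
  rw [pow_two]
  rcases Nat.eq_zero_or_pos i with h0 | h0
  · rw [h0]
    have h := hR.R2' j (by omega) hj
    calc t 0 * t j * (t 0 * t j) = t 0 * (t j * t 0 * t j) := by simp only [mul_assoc]
      _ = 1 := by rw [h, mul_inv_cancel]
  · have h := hR.R2 i j h0 hij hj
    calc t i * t j * (t i * t j) = t i * (t j * t i) * t j := by simp only [mul_assoc]
      _ = t i * (t i * t j) * t j := by rw [h]
      _ = (t i * t i) * (t j * t j) := by simp only [mul_assoc]
      _ = 1 := by rw [hR.R1 i h0 (by omega), hR.R1 j (by omega) hj, one_mul]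

theorem dc_exists (k : ℕ) (hk : 1 ≤ k) : ∃ (Γ : Type) (_ : Group Γ) (_ : Finite Γ) (z : Γ)
    (_ : z ∈ Subgroup.center Γ), orderOf z = 2 ∧ z ∈ commutator Γ ∧
    ∃ _ : (Subgroup.zpowers z).Normal,
      Nonempty (Γ ⧸ Subgroup.zpowers z ≃* alternatingGroup (Fin (k + 3))) := by
  classical
  obtain ⟨t, hR, hG, hcard⟩ := Cfsg.Agent.S0892.alt_setup k
  obtain ⟨M, instM, φ, zM, hzM1, hzMz, hzMc, m0, m1, m3, m2⟩ := h8q_model k hk
  obtain ⟨g, hg⟩ : ∃ g : ℕ → PresentedGroup (dcRels k), g = fun j => PresentedGroup.of j :=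
    ⟨_, rfl⟩
  obtain ⟨z, hz⟩ : ∃ z : PresentedGroup (dcRels k), z = g (k + 1) := ⟨_, rfl⟩
  have rel : ∀ r ∈ dcRels k, PresentedGroup.mk (dcRels k) r = 1 := fun r hr =>
    PresentedGroup.one_of_mem hr
  have gmk : ∀ j, g j = PresentedGroup.mk (dcRels k) (FreeGroup.of j) := by
    intro j
    rw [hg]
    rfl
  have g0 : g 0 ^ 3 = 1 := by
    have h := rel (FreeGroup.of 0 ^ 3) (Or.inl (Or.inl (Or.inl (Or.inl (Or.inl (Or.inl rfl))))))
    rw [map_pow, ← gmk] at h
    exact h
  have g1 : ∀ j, 1 ≤ j → j ≤ k → g j ^ 2 = z := by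
    intro j h1 h2
    have h := rel _ (Or.inl (Or.inl (Or.inl (Or.inl (Or.inl (Or.inr ⟨j, h1, h2, rfl⟩))))))
    simp only [map_mul, map_pow, map_inv, ← gmk] at h
    rw [hz]
    exact mul_inv_eq_one.mp h
  have g3 : ∀ i, i + 1 ≤ k → (g i * g (i + 1)) ^ 3 = z := by
    intro i hi
    have h := rel _ (Or.inl (Or.inl (Or.inl (Or.inl (Or.inr ⟨i, hi, rfl⟩)))))
    simp only [map_mul, map_pow, map_inv, ← gmk] at h
    rw [hz]
    exact mul_inv_eq_one.mp h
  have g2 : ∀ i j, i + 1 < j → j ≤ k → (g i * g j) ^ 2 = z := by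
    intro i j hij hj
    have h := rel _ (Or.inl (Or.inl (Or.inl (Or.inr ⟨i, j, hij, hj, rfl⟩))))
    simp only [map_mul, map_pow, map_inv, ← gmk] at h
    rw [hz]
    exact mul_inv_eq_one.mp h
  have gz : z ^ 2 = 1 := by
    have h := rel (FreeGroup.of (k + 1) ^ 2) (Or.inl (Or.inl (Or.inr rfl)))
    rw [map_pow, ← gmk] at h
    rw [hz]
    exact h
  have gc : ∀ j, z * g j = g j * z := by
    intro j
    have h := rel _ (Or.inl (Or.inr ⟨j, rfl⟩))
    simp only [map_mul, map_inv, ← gmk] at h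
    rw [hz]
    have h' := mul_inv_eq_one.mp h
    calc g (k + 1) * g j = (g (k + 1) * g j * (g (k + 1))⁻¹) * g (k + 1) := by group
      _ = g j * g (k + 1) := by rw [h']
  have gx : ∀ j, k + 1 < j → g j = 1 := by
    intro j hj
    have h := rel _ (Or.inr ⟨j, hj, rfl⟩)
    rw [gmk]
    exact h
  have hcl : Subgroup.closure (Set.range g) = ⊤ := by
    rw [hg]
    exact PresentedGroup.closure_range_of (dcRels k)
  have zc : ∀ x : PresentedGroup (dcRels k), z * x = x * z := by
    intro x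
    have hx : x ∈ Subgroup.closure (Set.range g) := by rw [hcl]; exact Subgroup.mem_top x
    refine Subgroup.closure_induction (p := fun x _ => z * x = x * z) ?_ ?_ ?_ ?_ hx
    · rintro _ ⟨j, rfl⟩
      exact gc j
    · rw [mul_one, one_mul]
    · intro x y _ _ hx hy
      rw [← mul_assoc, hx, mul_assoc, hy, mul_assoc]
    · intro x _ hx
      calc z * x⁻¹ = x⁻¹ * (x * z) * x⁻¹ := by group
        _ = x⁻¹ * (z * x) * x⁻¹ := by rw [hx]
        _ = x⁻¹ * z := by group
  have zz : z * z = 1 := by rw [← pow_two]; exact gz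
  -- the model
  obtain ⟨f, hf1, hf2, hf3⟩ : ∃ f : ℕ → M, (∀ j, j ≤ k → f j = φ j) ∧ f (k + 1) = zM ∧
      ∀ j, k + 1 < j → f j = 1 := by
    refine ⟨fun j => if j ≤ k then φ j else if j = k + 1 then zM else 1, ?_, ?_, ?_⟩
    · intro j hj
      simp only [if_pos hj]
    · simp only [if_neg (show ¬ (k + 1 ≤ k) by omega), if_pos]
    · intro j hj
      simp only [if_neg (show ¬ (j ≤ k) by omega), if_neg (show ¬ (j = k + 1) by omega)]
  have hfl : ∀ r ∈ dcRels k, FreeGroup.lift f r = 1 := by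
    apply dc_lift
    · rw [hf1 0 (by omega)]; exact m0
    · intro j h1 h2
      rw [hf1 j h2, hf2]; exact m1 j h1 h2
    · intro i hi
      rw [hf1 i (by omega), hf1 (i + 1) hi, hf2]; exact m3 i hi
    · intro i j hij hj
      rw [hf1 i (by omega), hf1 j hj, hf2]; exact m2 i j hij hj
    · rw [hf2, pow_two]; exact hzMz
    · intro j
      rw [hf2]; exact hzMc (f j)
    · exact hf3
  have hz1 : z ≠ 1 := by
    intro h
    have h1 : PresentedGroup.toGroup hfl z = zM := by
      rw [hz, gmk]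
      show PresentedGroup.toGroup hfl (PresentedGroup.of (k + 1)) = zM
      rw [PresentedGroup.toGroup.of, hf2]
    rw [h, map_one] at h1
    exact hzM1 h1.symm
  have hord : orderOf z = 2 := orderOf_eq_prime gz hz1
  have hzcen : z ∈ Subgroup.center (PresentedGroup (dcRels k)) :=
    Subgroup.mem_center_iff.mpr (fun x => (zc x).symm)
  -- z is a commutator
  have hzcomm : z ∈ commutator (PresentedGroup (dcRels k)) := by
    obtain ⟨b, hb⟩ : ∃ b, b = g 1 * z := ⟨_, rfl⟩
    have a3 : g 0 * g 0 * g 0 = 1 := by rw [← g0, pow_succ, pow_two]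
    have bb : b * b = z := by
      have h := g1 1 (by omega) hk
      rw [pow_two] at h
      rw [hb]
      calc g 1 * z * (g 1 * z) = g 1 * (z * g 1) * z := by group
        _ = g 1 * (g 1 * z) * z := by rw [zc (g 1)]
        _ = (g 1 * g 1) * (z * z) := by group
        _ = z := by rw [h, zz, mul_one]
    have ab3 : (g 0 * b) ^ 3 = 1 := by
      have h : (g 0 * g 1) ^ 3 = z := g3 0 (by omega)
      have e : Commute (g 0 * g 1) z := (zc (g 0 * g 1)).symm
      rw [hb, ← mul_assoc, e.mul_pow, h]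
      calc z * z ^ 3 = (z * z) * (z * z) := by rw [pow_succ, pow_two]; simp only [mul_assoc]
        _ = 1 := by rw [zz, one_mul]
    obtain ⟨-, -, V3⟩ := h8s_V (g 0) b z zc zz a3 bb ab3
    have hmem : b * (g 0 * b * (g 0)⁻¹) * b⁻¹ * (g 0 * b * (g 0)⁻¹)⁻¹
        ∈ commutator (PresentedGroup (dcRels k)) :=
      Subgroup.commutator_mem_commutator (Subgroup.mem_top b) (Subgroup.mem_top _)
    have e : b * (g 0 * b * (g 0)⁻¹) * b⁻¹ * (g 0 * b * (g 0)⁻¹)⁻¹ = z := by
      rw [V3]
      symm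
      calc z = (g 0 * b * (g 0)⁻¹) * b * b⁻¹ * (g 0 * b * (g 0)⁻¹)⁻¹ * z := by group
        _ = (g 0 * b * (g 0)⁻¹) * b * z * b⁻¹ * (g 0 * b * (g 0)⁻¹)⁻¹ := by
            simp only [mul_assoc, zc]
    rw [e] at hmem
    exact hmem
  have hWcen : ∀ w ∈ Subgroup.zpowers z, ∀ x : PresentedGroup (dcRels k), x * w = w * x := by
    intro w hw x
    obtain ⟨n, rfl⟩ := Subgroup.mem_zpowers_iff.mp hw
    exact ((Commute.zpow_left (zc x) n).eq).symm
  haveI hN : (Subgroup.zpowers z).Normal := h8s_normal_of_central _ hWcen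
  have hzmk : (QuotientGroup.mk z : PresentedGroup (dcRels k) ⧸ Subgroup.zpowers z) = 1 :=
    (QuotientGroup.eq_one_iff z).mpr (Subgroup.mem_zpowers z)
  -- the quotient satisfies the relations
  have hRy : h8s_Rel k (fun j =>
      (QuotientGroup.mk (g j) : PresentedGroup (dcRels k) ⧸ Subgroup.zpowers z)) := by
    apply h8s_rel_of_pow
    · show (QuotientGroup.mk (g 0) : PresentedGroup (dcRels k) ⧸ Subgroup.zpowers z)
        * QuotientGroup.mk (g 0) * QuotientGroup.mk (g 0) = 1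
      rw [← QuotientGroup.mk_mul, ← QuotientGroup.mk_mul, ← pow_two, ← pow_succ, g0]
      rfl
    · intro j h1 h2
      show (QuotientGroup.mk (g j) : PresentedGroup (dcRels k) ⧸ Subgroup.zpowers z)
        * QuotientGroup.mk (g j) = 1
      rw [← QuotientGroup.mk_mul, ← pow_two, g1 j h1 h2]
      exact hzmk
    · intro i hi
      show ((QuotientGroup.mk (g i) : PresentedGroup (dcRels k) ⧸ Subgroup.zpowers z)
        * QuotientGroup.mk (g (i + 1))) ^ 3 = 1
      rw [← QuotientGroup.mk_mul, ← QuotientGroup.mk_pow, g3 i hi]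
      exact hzmk
    · intro i j hij hj
      show ((QuotientGroup.mk (g i) : PresentedGroup (dcRels k) ⧸ Subgroup.zpowers z)
        * QuotientGroup.mk (g j)) ^ 2 = 1
      rw [← QuotientGroup.mk_mul, ← QuotientGroup.mk_pow, g2 i j hij hj]
      exact hzmk
  have hGy : h8s_Gen k (fun j =>
      (QuotientGroup.mk (g j) : PresentedGroup (dcRels k) ⧸ Subgroup.zpowers z)) := by
    show Subgroup.closure (Set.range (fun i : Fin (k + 1) =>
      (QuotientGroup.mk (g i) : PresentedGroup (dcRels k) ⧸ Subgroup.zpowers z))) = ⊤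
    rw [eq_top_iff]
    intro q _
    obtain ⟨x, rfl⟩ := QuotientGroup.mk_surjective q
    have hx : x ∈ Subgroup.closure (Set.range g) := by rw [hcl]; exact Subgroup.mem_top x
    refine Subgroup.closure_induction (p := fun x _ =>
      (QuotientGroup.mk x : PresentedGroup (dcRels k) ⧸ Subgroup.zpowers z)
        ∈ Subgroup.closure (Set.range (fun i : Fin (k + 1) =>
          (QuotientGroup.mk (g i) : PresentedGroup (dcRels k) ⧸ Subgroup.zpowers z))))
      ?_ ?_ ?_ ?_ hx
    · rintro _ ⟨j, rfl⟩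
      rcases Nat.lt_or_ge j (k + 1) with h | h
      · exact Subgroup.subset_closure ⟨⟨j, h⟩, rfl⟩
      · rcases Nat.lt_or_ge (k + 1) j with h' | h'
        · rw [gx j h']
          exact Subgroup.one_mem _
        · have hj : j = k + 1 := by omega
          rw [hj, ← hz, hzmk]
          exact Subgroup.one_mem _
    · exact Subgroup.one_mem _
    · intro x y _ _ hx hy
      rw [QuotientGroup.mk_mul]
      exact Subgroup.mul_mem _ hx hy
    · intro x _ hx
      rw [QuotientGroup.mk_inv]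
      exact Subgroup.inv_mem _ hx
  obtain ⟨hfinQ, hleQ⟩ := h8s_card k _ hRy hGy
  -- the map to the alternating group
  obtain ⟨f', hf1', hf2'⟩ : ∃ f' : ℕ → alternatingGroup (Fin (k + 3)),
      (∀ j, j ≤ k → f' j = t j) ∧ ∀ j, k < j → f' j = 1 := by
    refine ⟨fun j => if j ≤ k then t j else 1, ?_, ?_⟩
    · intro j hj
      simp only [if_pos hj]
    · intro j hj
      simp only [if_neg (show ¬ (j ≤ k) by omega)]
  have hfl' : ∀ r ∈ dcRels k, FreeGroup.lift f' r = 1 := by
    apply dc_lift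
    · rw [hf1' 0 (by omega), pow_succ, pow_two]; exact hR.R0
    · intro j h1 h2
      rw [hf1' j h2, hf2' (k + 1) (by omega), pow_two]; exact hR.R1 j h1 h2
    · intro i hi
      rw [hf1' i (by omega), hf1' (i + 1) hi, hf2' (k + 1) (by omega)]; exact h8s_P3 hR i hi
    · intro i j hij hj
      rw [hf1' i (by omega), hf1' j hj, hf2' (k + 1) (by omega)]; exact rel_P2 hR i j hij hj
    · rw [hf2' (k + 1) (by omega), one_pow]
    · intro j
      rw [hf2' (k + 1) (by omega), one_mul, mul_one]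
    · intro j hj
      exact hf2' j (by omega)
  have hΨz : PresentedGroup.toGroup hfl' z = 1 := by
    rw [hz, gmk]
    show PresentedGroup.toGroup hfl' (PresentedGroup.of (k + 1)) = 1
    rw [PresentedGroup.toGroup.of, hf2' (k + 1) (by omega)]
  have hΨg : ∀ j, j ≤ k → PresentedGroup.toGroup hfl' (g j) = t j := by
    intro j hj
    rw [gmk]
    show PresentedGroup.toGroup hfl' (PresentedGroup.of j) = t j
    rw [PresentedGroup.toGroup.of, hf1' j hj]
  have hWker : Subgroup.zpowers z ≤ (PresentedGroup.toGroup hfl').ker := by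
    rw [Subgroup.zpowers_le]
    exact MonoidHom.mem_ker.mpr hΨz
  have hsurj : Function.Surjective (QuotientGroup.lift (Subgroup.zpowers z)
      (PresentedGroup.toGroup hfl') hWker) := by
    rw [← MonoidHom.range_eq_top, eq_top_iff]
    have hG' : Subgroup.closure (Set.range (fun i : Fin (k + 1) => t i)) = ⊤ := hG
    rw [← hG', Subgroup.closure_le]
    rintro _ ⟨i, rfl⟩
    refine ⟨QuotientGroup.mk (g i), ?_⟩
    rw [QuotientGroup.lift_mk]
    exact hΨg i (by have := i.2; omega)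
  haveI := hfinQ
  have hbij : Function.Bijective (QuotientGroup.lift (Subgroup.zpowers z)
      (PresentedGroup.toGroup hfl') hWker) := by
    apply hsurj.bijective_of_nat_card_le
    omega
  -- finiteness
  have hfin : Finite (PresentedGroup (dcRels k)) := by
    have hs : Function.Surjective (fun p : (PresentedGroup (dcRels k) ⧸ Subgroup.zpowers z)
        × Subgroup.zpowers z => p.1.out * (p.2 : PresentedGroup (dcRels k))⁻¹) := by
      intro x
      obtain ⟨h, hh⟩ := QuotientGroup.mk_out_eq_mul (Subgroup.zpowers z) x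
      refine ⟨(QuotientGroup.mk x, h), ?_⟩
      show (QuotientGroup.mk x : PresentedGroup (dcRels k) ⧸ Subgroup.zpowers z).out
        * (h : PresentedGroup (dcRels k))⁻¹ = x
      rw [hh]
      group
    haveI : Finite (Subgroup.zpowers z) := by
      have hfo : IsOfFinOrder z := isOfFinOrder_iff_pow_eq_one.mpr ⟨2, by omega, gz⟩
      exact Nat.finite_of_card_ne_zero (by
        rw [Nat.card_zpowers]
        exact (orderOf_pos_iff.mpr hfo).ne')
    exact Finite.of_surjective _ hs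
  exact ⟨PresentedGroup (dcRels k), inferInstance, hfin, z, hzcen, hord, hzcomm, hN,
    ⟨MulEquiv.ofBijective _ hbij⟩⟩

end Helpers

/-- For every n ≥ 4 there are a finite group Γ and a central element z of Γ of order 2 lying in the commutator subgroup of Γ such that the quotient of Γ by the (normal) subgroup generated by z is isomorphic to the alternating group on n letters. -/
theorem result (n : ℕ) (hn : 4 ≤ n) : ∃ (Γ : Type) (_ : Group Γ) (_ : Finite Γ) (z : Γ) (hz : z ∈ Subgroup.center Γ), orderOf z = 2 ∧ z ∈ commutator Γ ∧ ∃ _ : (Subgroup.zpowers z).Normal, Nonempty (Γ ⧸ Subgroup.zpowers z ≃* alternatingGroup (Fin n)) := by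

    obtain ⟨k, rfl⟩ : ∃ k, n = k + 3 := ⟨n - 3, by omega⟩
    exact dc_exists k (by omega)

end Cfsg.Agent.S0891
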