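import Cfsg.Statements.S0447

import Cfsg.Agent.Lib.helper8.AltStem6
import Cfsg.Agent.S0891
set_option autoImplicit false
open Cfsg

namespace Cfsg.Agent.S0447

section Helpers

open Cfsg.Agent.Lib.helper8

theorem alt_setup' (k : ℕ) : ∃ t : ℕ → alternatingGroup (Fin (k + 3)),
    h8s_Rel k t ∧ h8s_Gen k t ∧
    2 * Nat.card (alternatingGroup (Fin (k + 3))) = (k + 3).factorial ∧
    ∀ j, j ≤ k → ((t j : alternatingGroup (Fin (k + 3))) : Equiv.Perm (Fin (k + 3)))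
      = Cfsg.Agent.S3335.gp k j := by
  classical
  obtain ⟨t, ht⟩ : ∃ t : ℕ → alternatingGroup (Fin (k + 3)),
      ∀ j, ∀ h : j ≤ k, t j = ⟨Cfsg.Agent.S3335.gp k j,
        Equiv.Perm.mem_alternatingGroup.mpr (Cfsg.Agent.S3335.sign_gp k j h)⟩ :=
    ⟨fun j => if h : j ≤ k then ⟨Cfsg.Agent.S3335.gp k j,
        Equiv.Perm.mem_alternatingGroup.mpr (Cfsg.Agent.S3335.sign_gp k j h)⟩ else 1,
      fun j h => dif_pos h⟩
  refine ⟨t, ?_, ?_, ?_, ?_⟩
  · apply h8s_rel_of_pow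
    · rw [ht 0 (by omega)]
      apply Subtype.ext
      have h := Cfsg.Agent.S3335.gp_cube0 k
      rw [pow_succ, pow_two] at h
      exact h
    · intro j h1 h2
      rw [ht j h2]
      apply Subtype.ext
      have h := Cfsg.Agent.S3335.gp_sq k j h1 h2
      rw [pow_two] at h
      exact h
    · intro i hi
      rw [ht i (by omega), ht (i + 1) hi]
      apply Subtype.ext
      rw [Subgroup.coe_pow, Subgroup.coe_mul, Subgroup.coe_one]
      exact Cfsg.Agent.S3335.gp_cube k i hi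
    · intro i j hij hj
      rw [ht i (by omega), ht j hj]
      apply Subtype.ext
      rw [Subgroup.coe_pow, Subgroup.coe_mul, Subgroup.coe_one]
      exact Cfsg.Agent.S3335.gp_sq2 k i j hij hj
  · show Subgroup.closure (Set.range (fun i : Fin (k + 1) => t i)) = ⊤
    have hr : Set.range (fun i : Fin (k + 1) => t i) = Set.range (Cfsg.Agent.S3335.fperm k) := by
      ext q
      constructor
      · rintro ⟨i, rfl⟩
        refine ⟨⟨i.val, by have := i.2; omega⟩, ?_⟩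
        show _ = t i.val
        rw [ht i.val (by have := i.2; omega)]
        rfl
      · rintro ⟨i, rfl⟩
        refine ⟨⟨i.val, by have := i.2; omega⟩, ?_⟩
        show t i.val = _
        rw [ht i.val (by have := i.2; omega)]
        rfl
    rw [hr]
    exact Cfsg.Agent.S3335.gen_top k
  · rw [two_mul_nat_card_alternatingGroup, Nat.card_perm, Nat.card_fin]
  · intro j hj
    rw [ht j hj]

theorem invol_conj (k : ℕ) (hk7 : k + 3 ≤ 7) (u : Equiv.Perm (Fin (k + 3))) (huu : u * u = 1)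
    (hu1 : u ≠ 1) (hs : Equiv.Perm.sign u = 1) :
    1 ≤ k ∧ ∃ σ : Equiv.Perm (Fin (k + 3)), Equiv.Perm.sign σ = 1 ∧
      σ * u * σ⁻¹ = Cfsg.Agent.S3335.gp k 1 := by
  classical
  have ho : orderOf u = 2 := orderOf_eq_prime (by rw [pow_two]; exact huu) hu1
  obtain ⟨r, hr⟩ := Equiv.Perm.cycleType_prime_order (σ := u) (by rw [ho]; exact Nat.prime_two)
  rw [ho] at hr
  have hsum := Equiv.Perm.sum_cycleType_le u
  rw [hr, Multiset.sum_replicate, Fintype.card_fin, smul_eq_mul] at hsum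
  have hsign := Equiv.Perm.sign_of_cycleType u
  rw [hr, Multiset.sum_replicate, Multiset.card_replicate, hs, smul_eq_mul] at hsign
  have hr2 : r ≤ 2 := by omega
  have hr1 : r = 1 := by
    interval_cases r
    · exfalso; revert hsign; decide
    · rfl
    · exfalso; revert hsign; decide
  subst hr1
  have hk1 : 1 ≤ k := by omega
  refine ⟨hk1, ?_⟩
  have hnd : [Cfsg.Agent.S3335.pt k 0, Cfsg.Agent.S3335.pt k 1, Cfsg.Agent.S3335.pt k 2,
      Cfsg.Agent.S3335.pt k 3].Nodup := by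
    have h01 := Cfsg.Agent.S3335.pt_ne k (j := 0) (j' := 1) (by omega) (by omega) (by omega)
    have h02 := Cfsg.Agent.S3335.pt_ne k (j := 0) (j' := 2) (by omega) (by omega) (by omega)
    have h03 := Cfsg.Agent.S3335.pt_ne k (j := 0) (j' := 3) (by omega) (by omega) (by omega)
    have h12 := Cfsg.Agent.S3335.pt_ne k (j := 1) (j' := 2) (by omega) (by omega) (by omega)
    have h13 := Cfsg.Agent.S3335.pt_ne k (j := 1) (j' := 3) (by omega) (by omega) (by omega)
    have h23 := Cfsg.Agent.S3335.pt_ne k (j := 2) (j' := 3) (by omega) (by omega) (by omega)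
    simp only [List.nodup_cons, List.mem_cons, List.not_mem_nil, or_false, not_or,
      not_false_eq_true, List.nodup_nil, and_true]
    exact ⟨⟨h01, h02, h03⟩, ⟨h12, h13⟩, h23⟩
  have hgp : Cfsg.Agent.S3335.gp k 1 = Equiv.swap (Cfsg.Agent.S3335.pt k 0)
      (Cfsg.Agent.S3335.pt k 1) * Equiv.swap (Cfsg.Agent.S3335.pt k 2)
      (Cfsg.Agent.S3335.pt k 3) := rfl
  have hct : (Cfsg.Agent.S3335.gp k 1).cycleType = u.cycleType := by
    rw [hgp, Equiv.Perm.cycleType_swap_mul_swap_of_nodup hnd, hr]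
    rfl
  have hconj : IsConj u (Cfsg.Agent.S3335.gp k 1) :=
    Equiv.Perm.isConj_iff_cycleType_eq.mpr hct.symm
  obtain ⟨ρ, hρ⟩ := isConj_iff.mp hconj
  rcases Int.units_eq_one_or (Equiv.Perm.sign ρ) with h1 | h1
  · exact ⟨ρ, h1, hρ⟩
  · refine ⟨Cfsg.Agent.S3335.sw k 0 * ρ, ?_, ?_⟩
    · rw [Equiv.Perm.sign_mul, h1, Cfsg.Agent.S3335.sign_sw k 0 (by omega)]
      rfl
    · have hcomm : Cfsg.Agent.S3335.sw k 0 * Cfsg.Agent.S3335.sw k 2
          = Cfsg.Agent.S3335.sw k 2 * Cfsg.Agent.S3335.sw k 0 :=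
        Cfsg.Agent.S3335.sw_comm
          (Cfsg.Agent.S3335.pt_ne k (j := 0) (j' := 2) (by omega) (by omega) (by omega))
          (Cfsg.Agent.S3335.pt_ne k (j := 0) (j' := 3) (by omega) (by omega) (by omega))
          (Cfsg.Agent.S3335.pt_ne k (j := 1) (j' := 2) (by omega) (by omega) (by omega))
          (Cfsg.Agent.S3335.pt_ne k (j := 1) (j' := 3) (by omega) (by omega) (by omega))
      have hss := Cfsg.Agent.S3335.sw_self k 0
      have hinv : (Cfsg.Agent.S3335.sw k 0)⁻¹ = Cfsg.Agent.S3335.sw k 0 :=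
        inv_eq_of_mul_eq_one_left hss
      calc Cfsg.Agent.S3335.sw k 0 * ρ * u * (Cfsg.Agent.S3335.sw k 0 * ρ)⁻¹
          = Cfsg.Agent.S3335.sw k 0 * (ρ * u * ρ⁻¹) * (Cfsg.Agent.S3335.sw k 0)⁻¹ := by group
        _ = Cfsg.Agent.S3335.sw k 0 * (Cfsg.Agent.S3335.sw k 0 * Cfsg.Agent.S3335.sw k 2)
            * Cfsg.Agent.S3335.sw k 0 := by rw [hρ, hinv]; rfl
        _ = (Cfsg.Agent.S3335.sw k 0 * Cfsg.Agent.S3335.sw k 0) * Cfsg.Agent.S3335.sw k 2
            * Cfsg.Agent.S3335.sw k 0 := by simp only [mul_assoc]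
        _ = Cfsg.Agent.S3335.sw k 2 * Cfsg.Agent.S3335.sw k 0 := by rw [hss, one_mul]
        _ = Cfsg.Agent.S3335.gp k 1 := by rw [← hcomm]; rfl

theorem sq_of_card_two {G : Type*} [Group G] (Z : Subgroup G) (h : Nat.card Z = 2) (w : G)
    (hw : w ∈ Z) : w * w = 1 := by
  have h1 := pow_card_eq_one' (G := Z) (x := ⟨w, hw⟩)
  rw [h] at h1
  have h2 := congrArg Subtype.val h1
  rw [Subgroup.coe_pow, pow_two] at h2
  exact h2

theorem part1 (n : ℕ) (H : Type) [Group H] [Finite H] (hn : n ≤ 7)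
    (hdc : Cfsg.IsNonsplitDoubleCover H (alternatingGroup (Fin n))) (x : H)
    (hx : orderOf x = 2) : x ∈ Subgroup.center H := by
  classical
  obtain ⟨hc2, ⟨e⟩, hns⟩ := hdc
  by_contra hxc
  obtain ⟨π, hπ⟩ : ∃ π : H →* alternatingGroup (Fin n), ∀ g, π g = e (QuotientGroup.mk g) :=
    ⟨e.toMonoidHom.comp (QuotientGroup.mk' _), fun g => rfl⟩
  have hker : ∀ z, π z = 1 ↔ z ∈ Subgroup.center H := by
    intro z
    rw [hπ, MulEquiv.map_eq_one_iff, QuotientGroup.eq_one_iff]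
  have hsurj : Function.Surjective π := by
    intro a
    obtain ⟨q, rfl⟩ := e.surjective a
    obtain ⟨g, rfl⟩ := QuotientGroup.mk_surjective q
    exact ⟨g, hπ g⟩
  have hxx : x * x = 1 := by
    rw [← pow_two, ← hx]
    exact pow_orderOf_eq_one x
  have hu1 : π x ≠ 1 := fun h => hxc ((hker x).mp h)
  have hn3 : 3 ≤ n := by
    by_contra hlt
    have hbot := alternatingGroup.eq_bot_of_card_le_two (α := Fin n)
      (by rw [Nat.card_fin]; omega)
    apply hu1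
    have hall : ∀ a : Equiv.Perm (Fin n), a ∈ alternatingGroup (Fin n) → a = 1 := by
      intro a ha
      rw [hbot] at ha
      exact Subgroup.mem_bot.mp ha
    exact Subtype.ext (hall _ (π x).2)
  obtain ⟨k, rfl⟩ : ∃ k, n = k + 3 := ⟨n - 3, by omega⟩
  obtain ⟨t, hR, hG, hcard, htv⟩ := alt_setup' k
  have huu : (π x : Equiv.Perm (Fin (k + 3))) * (π x : Equiv.Perm (Fin (k + 3))) = 1 := by
    rw [← Subgroup.coe_mul, ← map_mul, hxx, map_one]
    rfl
  obtain ⟨hk1, σ, hσs, hσ⟩ := invol_conj k hn (π x : Equiv.Perm (Fin (k + 3))) huu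
    (fun h => hu1 (Subtype.ext h)) (Equiv.Perm.mem_alternatingGroup.mp (π x).2)
  obtain ⟨g, hg⟩ := hsurj ⟨σ, Equiv.Perm.mem_alternatingGroup.mpr hσs⟩
  have hexp : ∀ z, π z = 1 → z * z = 1 := fun z hz =>
    sq_of_card_two (Subgroup.center H) hc2 z ((hker z).mp hz)
  have hcen : ∀ z, π z = 1 → ∀ g, g * z = z * g := fun z hz g =>
    Subgroup.mem_center_iff.mp ((hker z).mp hz) g
  have hkerEq : π.ker = Subgroup.center H := by
    ext z
    rw [MonoidHom.mem_ker]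
    exact hker z
  have hns' : ∀ L : Subgroup H, ¬ (π.ker).IsComplement' L := by
    rw [hkerEq]
    exact hns
  have hπc : π (g * x * g⁻¹) = t 1 := by
    apply Subtype.ext
    rw [map_mul, map_mul, map_inv, hg, htv 1 hk1]
    exact hσ
  have key := h8s_nonsplit π hsurj hcen k hk1 t hR hG hcard hexp hns' (g * x * g⁻¹) hπc
  apply key
  calc g * x * g⁻¹ * (g * x * g⁻¹) = g * (x * x) * g⁻¹ := by group
    _ = 1 := by rw [hxx]; group

theorem cj {G : Type*} [Group G] (p q z : G) (hzz : z * z = 1) (hp : p * p = z)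
    (hq : q * q = z) (hpq : (p * q) * (p * q) = z) : q * p * q⁻¹ = p * z := by
  have e1 : q * p * q⁻¹ = p⁻¹ * ((p * q) * (p * q)) * (q * q)⁻¹ := by group
  rw [e1, hpq, hq, mul_inv_cancel_right]
  exact inv_eq_of_mul_eq_one_right (by rw [← mul_assoc, hp, hzz])

theorem tri_sq {G : Type*} [Group G] (a b c z : G) (hz : ∀ g, g * z = z * g) (hzz : z * z = 1)
    (ha : a * a = z) (hb : b * b = z) (hc : c * c = z)
    (hab : (a * b) * (a * b) = z) (hac : (a * c) * (a * c) = z)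
    (hbc : (b * c) * (b * c) = z) : (a * b * c) * (a * b * c) = 1 := by
  have C1 := cj a c z hzz ha hc hac
  have C2 := cj b c z hzz hb hc hbc
  calc a * b * c * (a * b * c) = a * b * (c * a * c⁻¹) * (c * b * c⁻¹) * (c * c) := by group
    _ = a * b * (a * z) * (b * z) * z := by rw [C1, C2, hc]
    _ = a * b * a * (z * b) * z * z := by group
    _ = a * b * a * (b * z) * z * z := by rw [← hz b]
    _ = (a * b * (a * b)) * z * (z * z) := by group
    _ = 1 := by rw [hab, hzz, mul_one]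

theorem comm_cen {G : Type*} [Group G] (c₁ c₂ l₁ l₂ : G) (hc₁ : ∀ g, g * c₁ = c₁ * g)
    (hc₂ : ∀ g, g * c₂ = c₂ * g) :
    (c₁ * l₁) * (c₂ * l₂) * (c₁ * l₁)⁻¹ * (c₂ * l₂)⁻¹ = l₁ * l₂ * l₁⁻¹ * l₂⁻¹ := by
  calc c₁ * l₁ * (c₂ * l₂) * (c₁ * l₁)⁻¹ * (c₂ * l₂)⁻¹
      = c₁ * (l₁ * (c₂ * l₂) * l₁⁻¹) * c₁⁻¹ * (c₂ * l₂)⁻¹ := by group
    _ = (l₁ * (c₂ * l₂) * l₁⁻¹) * c₁ * c₁⁻¹ * (c₂ * l₂)⁻¹ := by
        rw [← hc₁ (l₁ * (c₂ * l₂) * l₁⁻¹)]
    _ = (l₁ * c₂) * (l₂ * l₁⁻¹ * l₂⁻¹) * c₂⁻¹ := by group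
    _ = c₂ * l₁ * (l₂ * l₁⁻¹ * l₂⁻¹) * c₂⁻¹ := by rw [hc₂ l₁]
    _ = c₂ * (l₁ * l₂ * l₁⁻¹ * l₂⁻¹) * c₂⁻¹ := by group
    _ = (l₁ * l₂ * l₁⁻¹ * l₂⁻¹) * c₂ * c₂⁻¹ := by rw [← hc₂ (l₁ * l₂ * l₁⁻¹ * l₂⁻¹)]
    _ = l₁ * l₂ * l₁⁻¹ * l₂⁻¹ := by group

theorem perm_ne : Cfsg.Agent.S3335.gp 5 1 * Cfsg.Agent.S3335.gp 5 3 * Cfsg.Agent.S3335.gp 5 5
    ≠ 1 := by
  intro h
  have h2 := congrArg (fun p : Equiv.Perm (Fin (5 + 3)) => p (⟨2, by omega⟩ : Fin (5 + 3))) h
  revert h2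
  decide

theorem part2 : ∃ (H : Type) (_ : Group H) (_ : Finite H),
    Cfsg.IsNonsplitDoubleCover H (alternatingGroup (Fin 8)) ∧
    ∃ x y : H, x ≠ y ∧ orderOf x = 2 ∧ orderOf y = 2 := by
  classical
  obtain ⟨Γ, instG, instF, z, hzc, hz2, hzd, hN, ⟨e⟩⟩ := Cfsg.Agent.S0891.dc_exists 5 (by omega)
  obtain ⟨π, hπ⟩ : ∃ π : Γ →* alternatingGroup (Fin (5 + 3)),
      ∀ g, π g = e (QuotientGroup.mk g) :=
    ⟨e.toMonoidHom.comp (QuotientGroup.mk' _), fun g => rfl⟩
  have hker : ∀ w, π w = 1 ↔ w ∈ Subgroup.zpowers z := by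
    intro w
    rw [hπ, MulEquiv.map_eq_one_iff, QuotientGroup.eq_one_iff]
  have hsurj : Function.Surjective π := by
    intro a
    obtain ⟨q, rfl⟩ := e.surjective a
    obtain ⟨g, rfl⟩ := QuotientGroup.mk_surjective q
    exact ⟨g, hπ g⟩
  have hcard2 : Nat.card (Subgroup.zpowers z) = 2 := by rw [Nat.card_zpowers, hz2]
  have hzz : z * z = 1 := by
    rw [← pow_two, ← hz2]
    exact pow_orderOf_eq_one z
  have hz1 : z ≠ 1 := by
    intro h
    rw [h, orderOf_one] at hz2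
    omega
  have hcenEq : Subgroup.center Γ = Subgroup.zpowers z := by
    apply le_antisymm
    · intro c hc
      have hc' : π c ∈ Subgroup.center (alternatingGroup (Fin (5 + 3))) := by
        rw [Subgroup.mem_center_iff]
        intro a
        obtain ⟨g, rfl⟩ := hsurj a
        rw [← map_mul, ← map_mul, Subgroup.mem_center_iff.mp hc g]
      rw [alternatingGroup.center_eq_bot (by rw [Nat.card_fin]; omega), Subgroup.mem_bot] at hc'
      exact (hker c).mp hc'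
    · rw [Subgroup.zpowers_le]
      exact hzc
  have hexp : ∀ w, π w = 1 → w * w = 1 := fun w hw =>
    sq_of_card_two (Subgroup.zpowers z) hcard2 w ((hker w).mp hw)
  have hcen : ∀ w, π w = 1 → ∀ g, g * w = w * g := fun w hw g =>
    Subgroup.mem_center_iff.mp (hcenEq ▸ (hker w).mp hw) g
  obtain ⟨t, hR, hG, hcard, htv⟩ := alt_setup' 5
  obtain ⟨B, z', hz'π, hBπ, hB03, hBsq, hB3, hB2⟩ :=
    h8s_norm π hsurj hcen 5 (by omega) t hR hexp
  obtain ⟨y, hy⟩ : ∃ y, y = B 1 * B 3 * B 5 := ⟨_, rfl⟩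
  have hyy : y * y = 1 := by
    rw [hy]
    exact tri_sq (B 1) (B 3) (B 5) z' (hcen z' hz'π) (hexp z' hz'π)
      (hBsq 1 (by omega) (by omega)) (hBsq 3 (by omega) (by omega))
      (hBsq 5 (by omega) (by omega)) (hB2 1 3 (by omega) (by omega))
      (hB2 1 5 (by omega) (by omega)) (hB2 3 5 (by omega) (by omega))
  have hyπ : π y ≠ 1 := by
    intro h
    apply perm_ne
    have h' := congrArg Subtype.val h
    rw [hy, map_mul, map_mul, hBπ 1 (by omega), hBπ 3 (by omega), hBπ 5 (by omega),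
      Subgroup.coe_mul, Subgroup.coe_mul, htv 1 (by omega), htv 3 (by omega),
      htv 5 (by omega)] at h'
    exact h'
  have hy1 : y ≠ 1 := by
    intro h
    apply hyπ
    rw [h, map_one]
  have hyz : z ≠ y := by
    intro h
    apply hyπ
    rw [← h]
    exact (hker z).mpr (Subgroup.mem_zpowers z)
  refine ⟨Γ, instG, instF, ⟨?_, ?_, ?_⟩, z, y, hyz, hz2, ?_⟩
  · rw [hcenEq]
    exact hcard2
  · exact ⟨(QuotientGroup.quotientMulEquivOfEq hcenEq).trans e⟩
  · intro L hL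
    have hdis := hL.disjoint
    have hcomL : commutator Γ ≤ L := by
      rw [commutator_eq_closure, Subgroup.closure_le]
      rintro _ ⟨g₁, g₂, rfl⟩
      obtain ⟨⟨c₁, l₁⟩, h1⟩ := (Subgroup.IsComplement.existsUnique hL g₁).exists
      obtain ⟨⟨c₂, l₂⟩, h2⟩ := (Subgroup.IsComplement.existsUnique hL g₂).exists
      have hc₁ : ∀ g, g * c₁.1 = c₁.1 * g := fun g => Subgroup.mem_center_iff.mp c₁.2 g
      have hc₂ : ∀ g, g * c₂.1 = c₂.1 * g := fun g => Subgroup.mem_center_iff.mp c₂.2 g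
      have hl₁ : l₁.1 ∈ L := l₁.2
      have hl₂ : l₂.1 ∈ L := l₂.2
      have hcomm : g₁ * g₂ * g₁⁻¹ * g₂⁻¹ = l₁.1 * l₂.1 * l₁.1⁻¹ * l₂.1⁻¹ := by
        have h1' : c₁.1 * l₁.1 = g₁ := h1
        have h2' : c₂.1 * l₂.1 = g₂ := h2
        rw [← h1', ← h2']
        exact comm_cen c₁.1 c₂.1 l₁.1 l₂.1 hc₁ hc₂
      rw [commutatorElement_def, hcomm]
      exact L.mul_mem (L.mul_mem (L.mul_mem hl₁ hl₂) (L.inv_mem hl₁)) (L.inv_mem hl₂)
    have hzL : z ∈ L := hcomL hzd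
    exact hz1 (Subgroup.disjoint_def.mp hdis hzc hzL)
  · exact orderOf_eq_prime (by rw [pow_two]; exact hyy) hy1

end Helpers

/-- Involutions in double covers of alternating groups: for n ≤ 7, a finite non-split double cover of the alternating group of degree n has exactly one element of order 2 (the central one); for degree 8 there is a non-split double cover with two distinct involutions. -/
theorem result : (∀ (n : ℕ) (H : Type) (_ : Group H) (_ : Finite H), n ≤ 7 → Cfsg.IsNonsplitDoubleCover H (alternatingGroup (Fin n)) → ∀ x y : H, orderOf x = 2 → orderOf y = 2 → x = y) ∧ ∃ (H : Type) (_ : Group H) (_ : Finite H), Cfsg.IsNonsplitDoubleCover H (alternatingGroup (Fin 8)) ∧ ∃ x y : H, x ≠ y ∧ orderOf x = 2 ∧ orderOf y = 2 := by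

  refine ⟨?_, part2⟩
  intro n H instG instF hn hdc x y hx hy
  have hxc := part1 n H hn hdc x hx
  have hyc := part1 n H hn hdc y hy
  obtain ⟨hc2, -, -⟩ := hdc
  have hx1 : x ≠ 1 := by
    intro h
    rw [h, orderOf_one] at hx
    omega
  have hy1 : y ≠ 1 := by
    intro h
    rw [h, orderOf_one] at hy
    omega
  have hu := (Nat.card_eq_two_iff' (1 : Subgroup.center H)).mp hc2
  have h1 : (⟨x, hxc⟩ : Subgroup.center H) ≠ 1 := fun h => hx1 (congrArg Subtype.val h)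
  have h2 : (⟨y, hyc⟩ : Subgroup.center H) ≠ 1 := fun h => hy1 (congrArg Subtype.val h)
  exact congrArg Subtype.val (hu.unique h1 h2)

end Cfsg.Agent.S0447
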