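import Cfsg.Statements.S0647
-- import your own Cfsg.Agent.* helpers here

set_option autoImplicit false
open Cfsg

namespace Cfsg.Agent.S0647

/-- For a nonempty family of maximal abelian subgroups of a finite group, the intersection of the family is the centre of the subgroup it generates, which is also the full centralizer of that subgroup. -/
theorem result {S : Type*} [Group S] [Finite S] (𝒜 : Set (Subgroup S)) (hne : 𝒜.Nonempty) (hab : ∀ A ∈ 𝒜, IsMulCommutative A) (hmax : ∀ A ∈ 𝒜, ∀ B : Subgroup S, IsMulCommutative B → A ≤ B → B = A) : sInf 𝒜 = sSup 𝒜 ⊓ Subgroup.centralizer ((sSup 𝒜 : Subgroup S) : Set S) ∧ sInf 𝒜 = Subgroup.centralizer ((sSup 𝒜 : Subgroup S) : Set S) := by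
  have hcomm : ∀ A ∈ 𝒜, ∀ a ∈ A, ∀ b ∈ A, a * b = b * a := by
    intro A hA a ha b hb
    haveI := hab A hA
    exact Subgroup.mul_comm_of_mem_isMulCommutative A ha hb
  have h2 : sInf 𝒜 = Subgroup.centralizer ((sSup 𝒜 : Subgroup S) : Set S) := by
    ext x
    constructor
    · intro hx
      rw [Subgroup.mem_sInf] at hx
      have hle : sSup 𝒜 ≤ Subgroup.centralizer ({x} : Set S) := by
        apply sSup_le
        intro A hA a ha
        rw [Subgroup.mem_centralizer_iff]
        intro h hh
        rw [Set.mem_singleton_iff] at hh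
        subst hh
        exact hcomm A hA h (hx A hA) a ha
      rw [Subgroup.mem_centralizer_iff]
      intro h hh
      have h3 := hle hh
      rw [Subgroup.mem_centralizer_iff] at h3
      exact (h3 x rfl).symm
    · intro hx
      rw [Subgroup.mem_sInf]
      intro A hA
      have hxA : ∀ a ∈ A, a * x = x * a := fun a ha =>
        (Subgroup.mem_centralizer_iff.mp hx) a (le_sSup hA ha)
      have hB : IsMulCommutative (Subgroup.closure ((A : Set S) ∪ {x})) := by
        apply Subgroup.isMulCommutative_closure
        rintro u (hu | hu) v (hv | hv)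
        · exact hcomm A hA u hu v hv
        · rw [Set.mem_singleton_iff] at hv; subst hv; exact hxA u hu
        · rw [Set.mem_singleton_iff] at hu; subst hu; exact (hxA v hv).symm
        · rw [Set.mem_singleton_iff] at hu hv; subst hu; subst hv; rfl
      have hle : A ≤ Subgroup.closure ((A : Set S) ∪ {x}) := fun a ha =>
        Subgroup.subset_closure (Or.inl ha)
      have h3 := hmax A hA _ hB hle
      rw [← h3]
      exact Subgroup.subset_closure (Or.inr rfl)
  refine ⟨?_, h2⟩
  rw [← h2]
  obtain ⟨A, hA⟩ := hne
  exact (inf_eq_right.mpr ((sInf_le hA).trans (le_sSup hA))).symm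

end Cfsg.Agent.S0647
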