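import Cfsg.Statements.S0649
-- import your own Cfsg.Agent.* helpers here

set_option autoImplicit false
open Cfsg

namespace Cfsg.Agent.S0649

/-- In the Glauberman replacement situation, if B does not normalize A then some element of B normalizes N_S(A) without normalizing A. -/
theorem result {S : Type*} [Group S] [Finite S] {p : ℕ} [Fact p.Prime] (hS : IsPGroup p S) (B : Subgroup S) [B.Normal] (hB2 : p = 2 → IsMulCommutative B) (A : Subgroup S) (hA : IsMulCommutative A) (hBA : ⁅B, B⁆ ≤ A) (hnot : ¬ B ≤ Subgroup.normalizer (A : Set S)) : ∃ b ∈ B, b ∈ Subgroup.normalizer ((Subgroup.normalizer (A : Set S)) : Set S) ∧ b ∉ Subgroup.normalizer (A : Set S) := by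
  classical
  haveI : Group.IsNilpotent S := hS.isNilpotent
  obtain ⟨c, hc⟩ : ∃ n, Subgroup.upperCentralSeries S n = ⊤ := Group.IsNilpotent.nilpotent S
  set N := Subgroup.normalizer (A : Set S) with hN
  have hex : ∃ i, ¬ (B ⊓ Subgroup.upperCentralSeries S i ≤ N) := by
    refine ⟨c, ?_⟩
    rw [hc, inf_top_eq]
    exact hnot
  have hmin : ∀ m, m < Nat.find hex → ¬ ¬ (B ⊓ Subgroup.upperCentralSeries S m ≤ N) :=
    fun m hm => Nat.find_min hex hm
  have hspec := Nat.find_spec hex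
  set i := Nat.find hex with hi
  have hi0 : i ≠ 0 := by
    intro h0
    apply hspec
    rw [h0, Subgroup.upperCentralSeries_zero, inf_bot_eq]
    exact bot_le
  obtain ⟨j, hj⟩ := Nat.exists_eq_succ_of_ne_zero hi0
  have hPj : B ⊓ Subgroup.upperCentralSeries S j ≤ N := by
    have := hmin j (by rw [hj]; exact Nat.lt_succ_self j)
    exact not_not.mp this
  rw [hj] at hspec
  obtain ⟨b, hb, hbN⟩ := SetLike.not_le_iff_exists.mp hspec
  obtain ⟨hbB, hbZ⟩ := hb
  have hbZ' : b⁻¹ ∈ Subgroup.upperCentralSeries S (j + 1) := inv_mem hbZ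
  have key1 : ∀ n ∈ N, b * n * b⁻¹ ∈ N := by
    intro n hn
    have h1 : b * n * b⁻¹ * n⁻¹ ∈ Subgroup.upperCentralSeries S j :=
      (Subgroup.mem_upperCentralSeries_succ_iff.mp hbZ) n
    have h2 : b * n * b⁻¹ * n⁻¹ ∈ B := by
      have : n * b⁻¹ * n⁻¹ ∈ B := Subgroup.Normal.conj_mem inferInstance b⁻¹ (inv_mem hbB) n
      have h3 : b * (n * b⁻¹ * n⁻¹) ∈ B := mul_mem hbB this
      convert h3 using 1
      group
    have h3 : b * n * b⁻¹ * n⁻¹ ∈ N := hPj ⟨h2, h1⟩
    have h4 := mul_mem h3 hn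
    simpa using h4
  have key2 : ∀ n ∈ N, b⁻¹ * n * b ∈ N := by
    intro n hn
    have h1 : b⁻¹ * n * b⁻¹⁻¹ * n⁻¹ ∈ Subgroup.upperCentralSeries S j :=
      (Subgroup.mem_upperCentralSeries_succ_iff.mp hbZ') n
    have h2 : b⁻¹ * n * b⁻¹⁻¹ * n⁻¹ ∈ B := by
      have : n * b * n⁻¹ ∈ B := Subgroup.Normal.conj_mem inferInstance b hbB n
      have h3 : b⁻¹ * (n * b * n⁻¹) ∈ B := mul_mem (inv_mem hbB) this
      convert h3 using 1
      group
    have h3 : b⁻¹ * n * b⁻¹⁻¹ * n⁻¹ ∈ N := hPj ⟨h2, h1⟩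
    have h4 := mul_mem h3 hn
    simpa using h4
  refine ⟨b, hbB, ?_, hbN⟩
  rw [Subgroup.mem_normalizer_iff]
  intro h
  constructor
  · intro hh
    exact key1 h hh
  · intro hh
    have := key2 _ hh
    simpa [mul_assoc] using this

end Cfsg.Agent.S0649
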