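import Cfsg.Statements.S0651
-- import your own Cfsg.Agent.* helpers here
import Mathlib
import Cfsg.Agent.S0650

set_option autoImplicit false
open Cfsg

namespace Cfsg.Agent.S0651

theorem exists_normalizing_elt {S : Type*} [Group S] [Finite S] {p : ℕ} [Fact p.Prime]
    (hS : IsPGroup p S) (B : Subgroup S) [B.Normal] (N : Subgroup S) (hBN : ¬ B ≤ N) :
    ∃ b ∈ B, b ∈ Subgroup.normalizer (N : Set S) ∧ b ∉ N := by
  by_contra hcon
  push Not at hcon
  have hnil : Group.IsNilpotent S := hS.isNilpotent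
  obtain ⟨c, hc⟩ := Subgroup.nilpotent_iff_lowerCentralSeries.mp hnil
  have key : ∀ i, ¬ (B ⊓ (⊤ : Subgroup S).lowerCentralSeries i ≤ N) := by
    intro i
    induction i with
    | zero => rw [Subgroup.lowerCentralSeries_zero, inf_top_eq]; exact hBN
    | succ i ih =>
      intro hle
      apply ih
      intro x hx
      apply hcon x hx.1
      apply Cfsg.Agent.S0650.mem_normalizer_of_conj_mem
      intro n hn
      have h1 : x * n * x⁻¹ * n⁻¹ ∈ B ⊓ (⊤ : Subgroup S).lowerCentralSeries (i + 1) := by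
        refine ⟨?_, ?_⟩
        · have h2 : x * n * x⁻¹ * n⁻¹ = x * (n * x⁻¹ * n⁻¹) := by group
          rw [h2]
          exact B.mul_mem hx.1 (Subgroup.Normal.conj_mem inferInstance _ (B.inv_mem hx.1) n)
        · rw [Subgroup.lowerCentralSeries_succ]
          exact Subgroup.commutator_mem_commutator hx.2 (Subgroup.mem_top n)
      have h2 : x * n * x⁻¹ = (x * n * x⁻¹ * n⁻¹) * n := by group
      rw [h2]; exact N.mul_mem (hle h1) hn
  apply key c
  rw [hc, inf_bot_eq]; exact bot_le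

theorem repl {S : Type*} [Group S] [Finite S] {p : ℕ} [Fact p.Prime] (hS : IsPGroup p S)
    (hp2 : p ≠ 2) (B : Subgroup S) [B.Normal] (A : Subgroup S) (hA : IsMulCommutative A)
    (hBA : ⁅B, B⁆ ≤ A) (hnot : ¬ B ≤ Subgroup.normalizer (A : Set S)) :
    ∃ A₁ : Subgroup S, Nat.card A₁ = Nat.card A ∧ IsMulCommutative A₁ ∧ ⁅B, B⁆ ≤ A₁ ∧
      A ⊓ B < A₁ ⊓ B ∧ A₁ ⊓ B < B ∧ Monoid.exponent A₁ ∣ Monoid.exponent A ∧
      ∀ D : Subgroup S, D.Normal → A ≤ D → A₁ ≤ D := by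
  obtain ⟨b, hb, hbN, hbA⟩ := exists_normalizing_elt hS B _ hnot
  have h := Cfsg.Agent.S0650.result hS B (fun h => absurd h hp2) A hA hBA hnot b hb hbN hbA
  obtain ⟨h1, h2, h3, h4, h5, -, -, -, -, h10⟩ := h
  refine ⟨_, h1, h2, h3, h4, h5, h10 hp2, ?_⟩
  intro D hDn hAD
  apply sup_le (inf_le_left.trans hAD)
  rw [Subgroup.closure_le]
  rintro _ ⟨a, ha, rfl⟩
  have h6 : a * b⁻¹ * a⁻¹ * b = a * (b⁻¹ * a⁻¹ * b⁻¹⁻¹) := by group
  rw [SetLike.mem_coe, h6]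
  exact D.mul_mem (hAD ha) (hDn.conj_mem _ (D.inv_mem (hAD ha)) b⁻¹)

theorem core {S : Type*} [Group S] [Finite S] (B : Subgroup S) (P : Subgroup S → Prop)
    (hstep : ∀ A : Subgroup S, P A → ¬ B ≤ Subgroup.normalizer (A : Set S) →
      ∃ A₁, P A₁ ∧ Nat.card ↥(A ⊓ B) < Nat.card ↥(A₁ ⊓ B))
    (U : Subgroup S) (hU : P U) : ∃ A, P A ∧ B ≤ Subgroup.normalizer (A : Set S) := by
  have : Nonempty {A : Subgroup S // P A} := ⟨⟨U, hU⟩⟩
  obtain ⟨⟨A, hA⟩, hmax⟩ :=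
    Finite.exists_max (fun A : {A : Subgroup S // P A} => Nat.card ↥(A.1 ⊓ B))
  refine ⟨A, hA, ?_⟩
  by_contra hnot
  obtain ⟨A₁, hA₁, hlt⟩ := hstep A hA hnot
  have h1 := hmax ⟨A₁, hA₁⟩
  simp only at h1
  omega

theorem card_lt_of_lt' {S : Type*} [Group S] [Finite S] {H K : Subgroup S} (h : H < K) :
    Nat.card H < Nat.card K := by
  rcases lt_or_eq_of_le (Subgroup.card_le_of_le h.le) with h1 | h1
  · exact h1
  · exact absurd (Subgroup.eq_of_le_of_card_ge h.le h1.ge) h.ne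

/-- For odd p and D normal in the p-group S, the abelian subgroups of D of largest order satisfy the replacement property: a class-2 normal subgroup B of S with a member containing [B, B] but not B normalizes some such member. -/
theorem result {S : Type*} [Group S] [Finite S] {p : ℕ} [Fact p.Prime] (hS : IsPGroup p S) (hp : p ≠ 2) (D : Subgroup S) [D.Normal] : ∀ (B : Subgroup S) [B.Normal], ⁅⁅B, B⁆, B⁆ = ⊥ → (∃ U ∈ (Set.image (fun A : Subgroup ↥D => A.map D.subtype) (Cfsg.maxAbelianSubgroups ↥D)), ⁅B, B⁆ ≤ U ∧ ¬ B ≤ U) → ∃ A ∈ (Set.image (fun A : Subgroup ↥D => A.map D.subtype) (Cfsg.maxAbelianSubgroups ↥D)), ⁅B, B⁆ ≤ A ∧ ¬ B ≤ A ∧ B ≤ Subgroup.normalizer (A : Set S) := by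
  classical
  intro B _ _ ⟨U, ⟨U₀, hU₀, hUeq⟩, hBU, hnBU⟩
  simp only at hUeq
  have hinj : Function.Injective D.subtype := Subgroup.subtype_injective D
  have hchar : ∀ A : Subgroup S,
      A ∈ Set.image (fun A : Subgroup ↥D => A.map D.subtype) (Cfsg.maxAbelianSubgroups ↥D) ↔
        (A ≤ D ∧ IsMulCommutative A ∧ Nat.card A = Nat.card U) := by
    intro A
    constructor
    · rintro ⟨A₀, hA₀, rfl⟩
      simp only
      have : IsMulCommutative ↥A₀ := hA₀.1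
      refine ⟨Subgroup.map_subtype_le A₀, inferInstance, ?_⟩
      rw [← hUeq, Subgroup.card_map_of_injective hinj, Subgroup.card_map_of_injective hinj]
      exact le_antisymm (hU₀.2 A₀ hA₀.1) (hA₀.2 U₀ hU₀.1)
    · rintro ⟨hAD, hAc, hcard⟩
      refine ⟨A.subgroupOf D, ⟨inferInstance, ?_⟩, Subgroup.map_subgroupOf_eq_of_le hAD⟩
      intro B₀ hB₀
      have h1 : Nat.card ↥(A.subgroupOf D) = Nat.card A := by
        rw [← Subgroup.card_map_of_injective hinj, Subgroup.map_subgroupOf_eq_of_le hAD]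
      rw [h1, hcard, ← hUeq, Subgroup.card_map_of_injective hinj]
      exact hU₀.2 B₀ hB₀
  have hU' := (hchar U).mp ⟨U₀, hU₀, hUeq⟩
  obtain ⟨A, ⟨⟨hAD, hAc, hcard⟩, hBA, hnBA⟩, hnorm⟩ := core B
    (fun A => (A ≤ D ∧ IsMulCommutative A ∧ Nat.card A = Nat.card U) ∧ ⁅B, B⁆ ≤ A ∧ ¬ B ≤ A)
    (by
      rintro A ⟨⟨hAD, hAc, hcard⟩, hBA, hnBA⟩ hnot
      obtain ⟨A₁, h1, h2, h3, h4, h5, -, h7⟩ := repl hS hp B A hAc hBA hnot
      refine ⟨A₁, ⟨⟨h7 D inferInstance hAD, h2, h1.trans hcard⟩, h3, ?_⟩, card_lt_of_lt' h4⟩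
      intro hle
      exact h5.ne (le_antisymm inf_le_right (le_inf hle le_rfl)))
    U ⟨hU', hBU, hnBU⟩
  exact ⟨A, (hchar A).mpr ⟨hAD, hAc, hcard⟩, hBA, hnBA, hnorm⟩

end Cfsg.Agent.S0651
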