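import Cfsg.Statements.S0652
-- import your own Cfsg.Agent.* helpers here
import Mathlib
import Cfsg.Agent.S0651

set_option autoImplicit false
open Cfsg

namespace Cfsg.Agent.S0652

/-- For odd p and D normal in the p-group S, the elementary abelian subgroups of D of largest order satisfy the replacement property for class-2 normal subgroups of S. -/
theorem result {S : Type*} [Group S] [Finite S] {p : ℕ} [Fact p.Prime] (hS : IsPGroup p S) (hp : p ≠ 2) (D : Subgroup S) [D.Normal] : ∀ (B : Subgroup S) [B.Normal], ⁅⁅B, B⁆, B⁆ = ⊥ → (∃ U ∈ (Set.image (fun A : Subgroup ↥D => A.map D.subtype) (Cfsg.maxElementaryAbelianSubgroups p ↥D)), ⁅B, B⁆ ≤ U ∧ ¬ B ≤ U) → ∃ A ∈ (Set.image (fun A : Subgroup ↥D => A.map D.subtype) (Cfsg.maxElementaryAbelianSubgroups p ↥D)), ⁅B, B⁆ ≤ A ∧ ¬ B ≤ A ∧ B ≤ Subgroup.normalizer (A : Set S) := by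
  classical
  intro B _ _ ⟨U, ⟨U₀, hU₀, hUeq⟩, hBU, hnBU⟩
  simp only at hUeq
  have hinj : Function.Injective D.subtype := Subgroup.subtype_injective D
  have hchar : ∀ A : Subgroup S,
      A ∈ Set.image (fun A : Subgroup ↥D => A.map D.subtype)
        (Cfsg.maxElementaryAbelianSubgroups p ↥D) ↔
        (A ≤ D ∧ Cfsg.IsElementaryAbelian p A ∧ Nat.card A = Nat.card U) := by
    intro A
    constructor
    · rintro ⟨A₀, hA₀, rfl⟩
      simp only
      have : IsMulCommutative ↥A₀ := hA₀.1.1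
      refine ⟨Subgroup.map_subtype_le A₀, ⟨inferInstance, ?_⟩, ?_⟩
      · rintro _ ⟨a₀, ha₀, rfl⟩
        have h1 := hA₀.1.2 a₀ ha₀
        rw [← map_pow, h1, map_one]
      · rw [← hUeq, Subgroup.card_map_of_injective hinj, Subgroup.card_map_of_injective hinj]
        exact le_antisymm (hU₀.2 A₀ hA₀.1) (hA₀.2 U₀ hU₀.1)
    · rintro ⟨hAD, ⟨hAc, hAp⟩, hcard⟩
      refine ⟨A.subgroupOf D, ⟨⟨inferInstance, ?_⟩, ?_⟩, Subgroup.map_subgroupOf_eq_of_le hAD⟩
      · intro a ha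
        apply Subtype.ext
        rw [Subgroup.coe_pow, Subgroup.coe_one]
        exact hAp _ (Subgroup.mem_subgroupOf.mp ha)
      · intro B₀ hB₀
        have h1 : Nat.card ↥(A.subgroupOf D) = Nat.card A := by
          rw [← Subgroup.card_map_of_injective hinj, Subgroup.map_subgroupOf_eq_of_le hAD]
        rw [h1, hcard, ← hUeq, Subgroup.card_map_of_injective hinj]
        exact hU₀.2 B₀ hB₀
  have hU' := (hchar U).mp ⟨U₀, hU₀, hUeq⟩
  obtain ⟨A, ⟨⟨hAD, hAe, hcard⟩, hBA, hnBA⟩, hnorm⟩ := Cfsg.Agent.S0651.core B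
    (fun A => (A ≤ D ∧ Cfsg.IsElementaryAbelian p A ∧ Nat.card A = Nat.card U) ∧
      ⁅B, B⁆ ≤ A ∧ ¬ B ≤ A)
    (by
      rintro A ⟨⟨hAD, ⟨hAc, hAp⟩, hcard⟩, hBA, hnBA⟩ hnot
      obtain ⟨A₁, h1, h2, h3, h4, h5, h6, h7⟩ := Cfsg.Agent.S0651.repl hS hp B A hAc hBA hnot
      have hexpA : Monoid.exponent A ∣ p := by
        apply Monoid.exponent_dvd_of_forall_pow_eq_one
        intro a
        apply Subtype.ext
        rw [Subgroup.coe_pow, Subgroup.coe_one]
        exact hAp _ a.2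
      have hA₁p : ∀ z ∈ A₁, z ^ p = 1 := by
        intro z hz
        have h8 := Monoid.exponent_dvd_iff_forall_pow_eq_one.mp (h6.trans hexpA) ⟨z, hz⟩
        have h9 := congrArg Subtype.val h8
        simpa using h9
      refine ⟨A₁, ⟨⟨h7 D inferInstance hAD, ⟨h2, hA₁p⟩, h1.trans hcard⟩, h3, ?_⟩,
        Cfsg.Agent.S0651.card_lt_of_lt' h4⟩
      intro hle
      exact h5.ne (le_antisymm inf_le_right (le_inf hle le_rfl)))
    U ⟨hU', hBU, hnBU⟩
  exact ⟨A, (hchar A).mpr ⟨hAD, hAe, hcard⟩, hBA, hnBA, hnorm⟩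

end Cfsg.Agent.S0652
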