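import Cfsg.Statements.S0654
-- import your own Cfsg.Agent.* helpers here
import Cfsg.Agent.Lib.helper15.ZJT

set_option autoImplicit false
open Cfsg

namespace Cfsg.Agent.S0654

/-- The ZJ-Theorem for the elementary-abelian Thompson subgroup: for an odd prime p, a finite group G with C_G(O_p(G)) ≤ O_p(G) acting p-stably on its normal p-subgroups, and a Sylow p-subgroup S of G, the subgroup generated by the elements of order dividing p in Z(J_e(S)) is characteristic in G. -/
theorem result {G : Type*} [Group G] [Finite G] {p : ℕ} [Fact p.Prime] (hp : p ≠ 2) (hc : Subgroup.centralizer (Cfsg.pCore p G : Set G) ≤ Cfsg.pCore p G) (hst : ∀ (P : Subgroup G) [P.Normal], IsPGroup p P → Cfsg.IsPStableOn p P) (S : Sylow p G) : ((Cfsg.omegaCenterThompson p ↥(S : Subgroup G)).map (S : Subgroup G).subtype).Characteristic := by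
  have hst' := Cfsg.Agent.Lib.helper15.zstab_of_pStableOn hst
  have hD : Cfsg.IsStronglyClosed (S : Subgroup G) (S : Subgroup G) := ⟨le_rfl, fun x _ g h => h⟩
  have hn := Cfsg.Agent.Lib.helper15.zj_inf_normal hp S (S : Subgroup G) hD _
    (Cfsg.Agent.Lib.helper15.zjgood_ea p) hst' hc
  rw [Cfsg.Agent.Lib.helper15.omegaCenterThompson_map_eq,
    Cfsg.Agent.Lib.helper15.omegaOne_centerThompsonOf_eq]
  exact Cfsg.Agent.Lib.helper15.zj_characteristic S
    (fun ψ A hA => Cfsg.Agent.Lib.helper3.isEA_map p _ hA) hn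


end Cfsg.Agent.S0654
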