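import Cfsg.Statements.S0655
-- import your own Cfsg.Agent.* helpers here

set_option autoImplicit false
open Cfsg

namespace Cfsg.Agent.S0655

/-- In a p-group the intersection of all elementary abelian subgroups of largest order is the subgroup generated by the elements of order dividing p in the centre (equivalently the centralizer) of the elementary-version Thompson subgroup. -/
theorem result {S : Type*} [Group S] [Finite S] {p : ℕ} [Fact p.Prime] (hS : IsPGroup p S) : sInf (Cfsg.maxElementaryAbelianSubgroups p S) = Cfsg.omegaCenterThompson p S ∧ Cfsg.omegaCenterThompson p S = Cfsg.omegaOne p (Subgroup.centralizer (Cfsg.thompsonSubgroup p S : Set S)) := by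
  classical
  -- the family is nonempty
  have hbot : Cfsg.IsElementaryAbelian p (⊥ : Subgroup S) := by
    refine ⟨?_, ?_⟩
    · rw [← Subgroup.le_centralizer_iff_isMulCommutative]; exact bot_le
    · intro a ha; rw [Subgroup.mem_bot] at ha; subst ha; exact one_pow p
  have hne : (Cfsg.maxElementaryAbelianSubgroups p S).Nonempty := by
    have hfin : Set.Finite {A : Subgroup S | Cfsg.IsElementaryAbelian p A} := Set.toFinite _
    obtain ⟨A, hA, hmax⟩ := Set.exists_max_image {A : Subgroup S | Cfsg.IsElementaryAbelian p A}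
      (fun A => Nat.card A) hfin ⟨⊥, hbot⟩
    exact ⟨A, hA, fun B hB => hmax B hB⟩
  have F1 : ∀ x : S, x ∈ Subgroup.centralizer (Cfsg.thompsonSubgroup p S : Set S) → x ^ p = 1 →
      ∀ A ∈ Cfsg.maxElementaryAbelianSubgroups p S, x ∈ A := by
    intro x hx hxp A hA
    obtain ⟨⟨hAc, hAp⟩, hAmax⟩ := hA
    have hAJ : A ≤ Cfsg.thompsonSubgroup p S := le_sSup ⟨⟨hAc, hAp⟩, hAmax⟩
    have hxA : ∀ a ∈ A, a * x = x * a := fun a ha =>
      (Subgroup.mem_centralizer_iff.mp hx) a (hAJ ha)
    have hBc : IsMulCommutative (Subgroup.closure ((A : Set S) ∪ {x})) := by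
      apply Subgroup.isMulCommutative_closure
      rintro u (hu | hu) v (hv | hv)
      · exact setLike_mul_comm hu hv
      · rw [Set.mem_singleton_iff] at hv; subst hv; exact hxA u hu
      · rw [Set.mem_singleton_iff] at hu; subst hu; exact (hxA v hv).symm
      · rw [Set.mem_singleton_iff] at hu hv; subst hu; subst hv; rfl
    have hBp : ∀ b ∈ Subgroup.closure ((A : Set S) ∪ {x}), b ^ p = 1 := by
      intro b hb
      induction hb using Subgroup.closure_induction with
      | mem u hu =>
        rcases hu with hu | hu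
        · exact hAp u hu
        · rw [Set.mem_singleton_iff] at hu; subst hu; exact hxp
      | one => exact one_pow p
      | mul u v hu hv ihu ihv =>
        have hc : Commute u v := setLike_mul_comm hu hv
        rw [hc.mul_pow, ihu, ihv, one_mul]
      | inv u hu ihu => rw [inv_pow, ihu, inv_one]
    have hle : A ≤ Subgroup.closure ((A : Set S) ∪ {x}) := fun a ha =>
      Subgroup.subset_closure (Or.inl ha)
    have hcard := hAmax _ ⟨hBc, hBp⟩
    have heq := Subgroup.eq_of_le_of_card_ge hle hcard
    rw [heq]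
    exact Subgroup.subset_closure (Or.inr rfl)
  have F2 : ∀ x ∈ sInf (Cfsg.maxElementaryAbelianSubgroups p S),
      x ∈ Cfsg.thompsonSubgroup p S ⊓ Subgroup.centralizer (Cfsg.thompsonSubgroup p S : Set S)
        ∧ x ^ p = 1 := by
    intro x hx
    rw [Subgroup.mem_sInf] at hx
    obtain ⟨A₀, hA₀⟩ := hne
    refine ⟨⟨le_sSup hA₀ (hx A₀ hA₀), ?_⟩, hA₀.1.2 x (hx A₀ hA₀)⟩
    have hle : Cfsg.thompsonSubgroup p S ≤ Subgroup.centralizer ({x} : Set S) := by
      apply sSup_le
      intro A hA a ha
      rw [Subgroup.mem_centralizer_iff]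
      intro h hh
      rw [Set.mem_singleton_iff] at hh
      subst hh
      haveI := hA.1.1
      exact setLike_mul_comm (hx A hA) ha
    change x ∈ Subgroup.centralizer (Cfsg.thompsonSubgroup p S : Set S)
    rw [Subgroup.mem_centralizer_iff]
    intro h hh
    have h3 := hle hh
    rw [Subgroup.mem_centralizer_iff] at h3
    exact (h3 x rfl).symm
  have E1 : sInf (Cfsg.maxElementaryAbelianSubgroups p S) = Cfsg.omegaCenterThompson p S := by
    apply le_antisymm
    · intro x hx
      exact Subgroup.subset_closure (F2 x hx)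
    · unfold Cfsg.omegaCenterThompson Cfsg.omegaOne
      rw [Subgroup.closure_le]
      rintro x ⟨hx, hxp⟩
      rw [SetLike.mem_coe, Subgroup.mem_sInf]
      exact F1 x hx.2 hxp
  refine ⟨E1, ?_⟩
  apply le_antisymm
  · unfold Cfsg.omegaCenterThompson Cfsg.omegaOne
    apply Subgroup.closure_mono
    rintro x ⟨hx, hxp⟩
    exact ⟨hx.2, hxp⟩
  · rw [← E1]
    unfold Cfsg.omegaOne
    rw [Subgroup.closure_le]
    rintro x ⟨hx, hxp⟩
    rw [SetLike.mem_coe, Subgroup.mem_sInf]
    exact F1 x hx hxp

end Cfsg.Agent.S0655
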