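import Cfsg.Statements.S0673
import Cfsg.Agent.Lib.helper29.PolyFun

set_option autoImplicit false
open Cfsg

namespace Cfsg.Agent.S0673

open Polynomial Cfsg.Agent.Lib.helper29

theorem main {p : ℕ} [Fact p.Prime] {K : Type*} [Field K] [CharP K p]
    (W : Submodule K (ZMod p → K)) (hW : ∀ f ∈ W, (fun j => f (j - 1)) ∈ W) :
    ∃ r : ℕ, r ≤ p ∧ Module.finrank K W = r ∧
      ∀ f : ZMod p → K, f ∈ W ↔ ∃ P : Polynomial K, P.degree < r ∧ ev p K P = f := by
  classical
  have hp : p.Prime := Fact.out
  have hD : ∀ P : K[X], ev p K P ∈ W → ev p K (P.comp (X - C 1) - P) ∈ W := by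
    intro P hP
    rw [map_sub]
    apply W.sub_mem _ hP
    have h1 := hW _ hP
    have h2 : (fun j => ev p K P (j - 1)) = ev p K (P.comp (X - C 1)) :=
      funext (fun j => ev_shift P j)
    rw [← h2]
    exact h1
  have hex : ∃ r : ℕ, ∀ f ∈ W, ∃ P : K[X], P.degree < r ∧ ev p K P = f :=
    ⟨p, fun f _ => ev_surjective f⟩
  have hrspec := Nat.find_spec hex
  have hrp : Nat.find hex ≤ p := Nat.find_min' hex (fun f _ => ev_surjective f)
  have hsub : ∀ P : K[X], P.degree < (Nat.find hex : ℕ) → ev p K P ∈ W := by
    rcases Nat.eq_zero_or_pos (Nat.find hex) with h0 | hpos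
    · intro P hP
      rw [h0] at hP
      have hP0 : P = 0 := by
        by_contra hne
        have := (natDegree_lt_iff_degree_lt hne).mpr hP
        omega
      rw [hP0, map_zero]
      exact W.zero_mem
    · obtain ⟨e, he⟩ : ∃ e, Nat.find hex = e + 1 := ⟨Nat.find hex - 1, by omega⟩
      have hmin : ¬ ∀ f ∈ W, ∃ P : K[X], P.degree < (e : ℕ) ∧ ev p K P = f :=
        Nat.find_min hex (by omega : e < Nat.find hex)
      push Not at hmin
      obtain ⟨f, hfW, hf⟩ := hmin
      obtain ⟨P₀, hP₀deg, hP₀⟩ := hrspec f hfW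
      have hP₀ne : P₀ ≠ 0 := by
        intro h
        apply hf 0 (by rw [degree_zero]; exact WithBot.bot_lt_coe e)
        rw [← hP₀, h]
      have hnat : P₀.natDegree = e := by
        have h1 : P₀.natDegree < e + 1 := by
          rw [he] at hP₀deg
          exact (natDegree_lt_iff_degree_lt hP₀ne).mpr hP₀deg
        by_contra hne
        have h2 : P₀.natDegree < e := by omega
        exact hf P₀ ((natDegree_lt_iff_degree_lt hP₀ne).mp h2) hP₀
      have hiter : ∀ i ≤ e, ∃ R : K[X], ev p K R ∈ W ∧ R ≠ 0 ∧ R.natDegree = e - i := by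
        intro i
        induction i with
        | zero =>
          intro _
          exact ⟨P₀, by rw [hP₀]; exact hfW, hP₀ne, by omega⟩
        | succ i ih =>
          intro hi
          obtain ⟨R, hRW, hR0, hRd⟩ := ih (by omega)
          obtain ⟨h1, h2⟩ := natDegree_D (p := p) R (e - i - 1) (by omega) (by omega)
          exact ⟨_, hD R hRW, h2, by omega⟩
      have hall : ∀ d ≤ e, ∀ Q : K[X], Q.natDegree ≤ d → ev p K Q ∈ W := by
        intro d
        induction d with
        | zero =>
          intro _ Q hQ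
          obtain ⟨R, hRW, hR0, hRd⟩ := hiter e le_rfl
          have hRd0 : R.natDegree = 0 := by omega
          obtain ⟨c, rfl⟩ : ∃ c, R = C c := ⟨_, eq_C_of_natDegree_eq_zero hRd0⟩
          obtain ⟨q, rfl⟩ : ∃ q, Q = C q := ⟨_, eq_C_of_natDegree_eq_zero (Nat.le_zero.mp hQ)⟩
          have hc : c ≠ 0 := by
            intro h
            apply hR0
            rw [h, C_0]
          have h1 : (C q : K[X]) = (q / c) • C c := by
            rw [smul_C, smul_eq_mul, div_mul_cancel₀ q hc]
          rw [h1, map_smul]
          exact W.smul_mem _ hRW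
        | succ d ih =>
          intro hd Q hQ
          obtain ⟨R, hRW, hR0, hRd⟩ := hiter (e - d - 1) (by omega)
          have hRd' : R.natDegree = d + 1 := by omega
          have hlc : R.coeff (d + 1) ≠ 0 := by
            rw [← hRd']
            exact leadingCoeff_ne_zero.mpr hR0
          have hQ' : (Q - (Q.coeff (d + 1) / R.coeff (d + 1)) • R).natDegree ≤ d := by
            rw [natDegree_le_iff_coeff_eq_zero]
            intro N hN
            rw [coeff_sub, coeff_smul, smul_eq_mul]
            by_cases hN1 : N = d + 1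
            · rw [hN1, div_mul_cancel₀ _ hlc, sub_self]
            · rw [coeff_eq_zero_of_natDegree_lt (by omega : Q.natDegree < N),
                coeff_eq_zero_of_natDegree_lt (by omega : R.natDegree < N), mul_zero, sub_zero]
          have h1 := ih (by omega) _ hQ'
          have h2 : Q = (Q - (Q.coeff (d + 1) / R.coeff (d + 1)) • R) +
              (Q.coeff (d + 1) / R.coeff (d + 1)) • R := by ring
          rw [h2, map_add, map_smul]
          exact W.add_mem h1 (W.smul_mem _ hRW)
      intro P hP
      by_cases hP0 : P = 0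
      · rw [hP0, map_zero]
        exact W.zero_mem
      · rw [he] at hP
        have := (natDegree_lt_iff_degree_lt hP0).mpr hP
        exact hall e le_rfl P (by omega)
  refine ⟨Nat.find hex, hrp, ?_, ?_⟩
  · have hinj : Function.Injective ((ev p K).domRestrict (degreeLT K (Nat.find hex))) := by
      rw [← LinearMap.ker_eq_bot, LinearMap.ker_eq_bot']
      intro P hP
      apply Subtype.ext
      apply eq_zero_of_ev_eq_zero (p := p) P.1 _ hP
      exact lt_of_lt_of_le (mem_degreeLT.mp P.2) (by exact_mod_cast hrp)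
    have hWeq : W = LinearMap.range ((ev p K).domRestrict (degreeLT K (Nat.find hex))) := by
      ext f
      constructor
      · intro hf
        obtain ⟨P, hdeg, hP⟩ := hrspec f hf
        exact ⟨⟨P, mem_degreeLT.mpr hdeg⟩, hP⟩
      · rintro ⟨P, rfl⟩
        exact hsub P.1 (mem_degreeLT.mp P.2)
    have h1 := LinearMap.finrank_range_of_inj hinj
    rw [LinearEquiv.finrank_eq (degreeLTEquiv K _), Module.finrank_fin_fun] at h1
    rw [← h1]
    exact congrArg (fun S : Submodule K (ZMod p → K) => Module.finrank K S) hWeq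
  · intro f
    constructor
    · intro hf
      exact hrspec f hf
    · rintro ⟨P, hdeg, rfl⟩
      exact hsub P hdeg


/-- In characteristic `p`, the translation-invariant subspaces of the space of functions on `ZMod p` are exactly the spaces of polynomial functions of degree less than `r`, one for each `r ≤ p`, of dimension `r`. -/
theorem result {p : ℕ} [Fact p.Prime] {K : Type*} [Field K] [CharP K p] (W : Submodule K (ZMod p → K)) (hW : ∀ f ∈ W, (fun j => f (j - 1)) ∈ W) : ∃ r : ℕ, r ≤ p ∧ Module.finrank K W = r ∧ ∀ f : ZMod p → K, f ∈ W ↔ ∃ P : Polynomial K, P.degree < r ∧ ∀ j : ZMod p, f j = P.eval (ZMod.cast j : K) := by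
  obtain ⟨r, hr, hfin, hiff⟩ := main W hW
  refine ⟨r, hr, hfin, ?_⟩
  intro f
  rw [hiff]
  constructor
  · rintro ⟨P, hdeg, rfl⟩
    exact ⟨P, hdeg, fun j => rfl⟩
  · rintro ⟨P, hdeg, hP⟩
    exact ⟨P, hdeg, funext (fun j => (hP j).symm)⟩

end Cfsg.Agent.S0673
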