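import Cfsg.Statements.S5914
-- import your own Cfsg.Agent.* helpers here

set_option autoImplicit false
open Cfsg

namespace Cfsg.Agent.S5914

universe u

section back
variable {S : Type*} [Group S]

def swapAut (n : ℕ) (j k : Fin n) : (Fin n → S) ≃* (Fin n → S) where
  toFun y := y ∘ Equiv.swap j k
  invFun y := y ∘ Equiv.swap j k
  left_inv y := by
    funext l
    simp
  right_inv y := by
    funext l
    simp
  map_mul' _ _ := rfl

theorem swapAut_mulSingle (n : ℕ) (j k : Fin n) (t : S) :
    swapAut n j k (Pi.mulSingle j t) = Pi.mulSingle k t := by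
  funext l
  change (Pi.mulSingle j t : Fin n → S) (Equiv.swap j k l) = _
  by_cases hl : l = k
  · subst hl
    simp
  · have h1 : Equiv.swap j k l ≠ j := by
      intro h
      apply hl
      have h2 := congrArg (Equiv.swap j k) h
      simpa using h2
    rw [Pi.mulSingle_eq_of_ne h1, Pi.mulSingle_eq_of_ne hl]

def shearAut (hcomm : ∀ a b : S, a * b = b * a) (n : ℕ) (i j : Fin n) (hij : j ≠ i) :
    (Fin n → S) ≃* (Fin n → S) where
  toFun y := y * Pi.mulSingle j (y i)
  invFun y := y * Pi.mulSingle j (y i)⁻¹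
  left_inv y := by
    funext l
    simp only [Pi.mul_apply, Pi.mulSingle_eq_of_ne hij.symm, mul_one]
    by_cases hl : l = j
    · subst hl
      simp
    · simp [Pi.mulSingle_eq_of_ne hl]
  right_inv y := by
    funext l
    simp only [Pi.mul_apply, Pi.mulSingle_eq_of_ne hij.symm, mul_one]
    by_cases hl : l = j
    · subst hl
      simp
    · simp [Pi.mulSingle_eq_of_ne hl]
  map_mul' y z := by
    funext l
    simp only [Pi.mul_apply]
    by_cases hl : l = j
    · subst hl
      simp only [Pi.mulSingle_eq_same]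
      rw [mul_assoc, mul_assoc, ← mul_assoc (z l), hcomm (z l), mul_assoc]
    · simp [Pi.mulSingle_eq_of_ne hl]

theorem pi_char_eq_top [IsSimpleGroup S] (n : ℕ) (K : Subgroup (Fin n → S))
    (hK : K.Characteristic) (hne : K ≠ ⊥) : K = ⊤ := by
  classical
  have hKn : K.Normal := Subgroup.normal_of_characteristic K
  obtain ⟨x, hxK, hx1⟩ : ∃ x ∈ K, x ≠ 1 := by
    by_contra hcon
    push Not at hcon
    exact hne ((Subgroup.eq_bot_iff_forall K).mpr hcon)
  obtain ⟨i, hi⟩ : ∃ i, x i ≠ 1 := by
    by_contra hcon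
    push Not at hcon
    exact hx1 (funext hcon)
  have hfix : ∀ (φ : (Fin n → S) ≃* (Fin n → S)) (y : Fin n → S), y ∈ K → φ y ∈ K := by
    intro φ y hy
    have h1 := hK.fixed φ
    have h2 : y ∈ K.comap φ.toMonoidHom := by
      rw [h1]
      exact hy
    exact h2
  obtain ⟨j, s, hs1, hsK⟩ : ∃ j s, s ≠ 1 ∧ (Pi.mulSingle j s : Fin n → S) ∈ K := by
    by_cases hc : ∃ s, s * x i ≠ x i * s
    · obtain ⟨s, hs⟩ := hc
      refine ⟨i, x i * s * (x i)⁻¹ * s⁻¹, ?_, ?_⟩
      · intro h
        apply hs
        rw [mul_inv_eq_one, mul_inv_eq_iff_eq_mul] at h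
        exact h.symm
      · have h1 : x * (Pi.mulSingle i s * x⁻¹ * (Pi.mulSingle i s)⁻¹) ∈ K :=
          K.mul_mem hxK (hKn.conj_mem _ (K.inv_mem hxK) _)
        have h2 : x * (Pi.mulSingle i s * x⁻¹ * (Pi.mulSingle i s)⁻¹) =
            Pi.mulSingle i (x i * s * (x i)⁻¹ * s⁻¹) := by
          funext l
          by_cases hl : l = i
          · subst hl
            simp [mul_assoc]
          · simp [Pi.mulSingle_eq_of_ne hl]
        rw [← h2]
        exact h1
    · push Not at hc
      have hcomm : ∀ a b : S, a * b = b * a := by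
        have hcen : x i ∈ Subgroup.center S := by
          rw [Subgroup.mem_center_iff]
          intro g
          exact hc g
        have htop : Subgroup.center S = ⊤ := by
          rcases (inferInstance : (Subgroup.center S).Normal).eq_bot_or_eq_top with h | h
          · rw [h, Subgroup.mem_bot] at hcen
            exact absurd hcen hi
          · exact h
        intro a b
        have hb : b ∈ Subgroup.center S := by
          rw [htop]
          exact Subgroup.mem_top b
        exact Subgroup.mem_center_iff.mp hb a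
      by_cases hj : ∃ j, j ≠ i
      · obtain ⟨j, hj⟩ := hj
        refine ⟨j, x i, hi, ?_⟩
        have h1 := hfix (shearAut hcomm n i j hj) x hxK
        have h2 : x⁻¹ * (x * Pi.mulSingle j (x i)) ∈ K := K.mul_mem (K.inv_mem hxK) h1
        rw [inv_mul_cancel_left] at h2
        exact h2
      · push Not at hj
        refine ⟨i, x i, hi, ?_⟩
        have h1 : x = Pi.mulSingle i (x i) := by
          funext l
          rw [hj l]
          simp
        rw [← h1]
        exact hxK
  have hT : K.comap (MonoidHom.mulSingle (fun _ : Fin n => S) j) = ⊤ := by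
    have hn : (K.comap (MonoidHom.mulSingle (fun _ : Fin n => S) j)).Normal := hKn.comap _
    rcases hn.eq_bot_or_eq_top with h | h
    · exfalso
      have h1 : s ∈ K.comap (MonoidHom.mulSingle (fun _ : Fin n => S) j) := hsK
      rw [h, Subgroup.mem_bot] at h1
      exact hs1 h1
    · exact h
  rw [Subgroup.eq_top_iff']
  intro y
  apply Subgroup.pi_mem_of_mulSingle_mem
  intro k
  have h1 : y k ∈ K.comap (MonoidHom.mulSingle (fun _ : Fin n => S) j) := by
    rw [hT]
    exact Subgroup.mem_top _
  have h2 := hfix (swapAut n j k) _ h1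
  have h3 := swapAut_mulSingle n j k (y k)
  rw [← h3]
  exact h2

theorem back {G : Type*} [Group G] [IsSimpleGroup S] (n : ℕ) (e : G ≃* (Fin n → S))
    (H : Subgroup G) (hH : H.Characteristic) : H = ⊥ ∨ H = ⊤ := by
  by_cases hbot : H = ⊥
  · exact Or.inl hbot
  · right
    have hK : (H.map e.toMonoidHom).Characteristic := by
      rw [Subgroup.characteristic_iff_map_le]
      intro φ
      rintro _ ⟨_, ⟨h, hh, rfl⟩, rfl⟩
      refine ⟨e.symm (φ (e h)), ?_, by simp⟩
      rw [← Subgroup.characteristic_iff_map_eq.mp hH ((e.trans φ).trans e.symm)]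
      exact ⟨h, hh, rfl⟩
    have hne : H.map e.toMonoidHom ≠ ⊥ := by
      intro h
      apply hbot
      rw [Subgroup.map_eq_bot_iff_of_injective _ e.injective] at h
      exact h
    have htop := pi_char_eq_top n _ hK hne
    rw [Subgroup.eq_top_iff']
    intro g
    have h1 : e g ∈ H.map e.toMonoidHom := by
      rw [htop]
      exact Subgroup.mem_top _
    obtain ⟨h, hh, heq⟩ := h1
    have h2 := e.injective heq
    rw [← h2]
    exact hh

end back

section fwd
variable {G : Type u} [Group G]

def finSplit (k : ℕ) (N : Type*) [Group N] : (Fin (k + 1) → N) ≃* (Fin k → N) × N where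
  toFun f := (Fin.init f, f (Fin.last k))
  invFun p := Fin.snoc p.1 p.2
  left_inv f := Fin.snoc_init_self f
  right_inv p := by simp
  map_mul' f g := rfl

def Good (N P : Subgroup G) : Prop :=
  P.Normal ∧ N ≤ P ∧ P ≤ N ⊔ Subgroup.centralizer (N : Set G) ∧
    ∃ (k : ℕ) (ψ : (Fin k → N) →* G), 1 ≤ k ∧ Function.Injective ψ ∧ ψ.range = P

theorem good_self (N : Subgroup G) (hN : N.Normal) : Good N N := by
  refine ⟨hN, le_rfl, le_sup_left, 1,
    N.subtype.comp (Pi.evalMonoidHom (fun _ : Fin 1 => N) 0), le_rfl, ?_, ?_⟩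
  · intro f g hfg
    funext i
    have hi : i = 0 := Subsingleton.elim _ _
    subst hi
    exact Subtype.ext hfg
  · ext x
    constructor
    · rintro ⟨f, rfl⟩
      exact (f 0).2
    · intro hx
      exact ⟨fun _ => ⟨x, hx⟩, rfl⟩

theorem good_step (N : Subgroup G) (hN : N.Normal) (P : Subgroup G) (hP : Good N P)
    (φ : G ≃* G) (hdis : P ⊓ N.map φ.toMonoidHom = ⊥) : Good N (P ⊔ N.map φ.toMonoidHom) := by
  obtain ⟨hPn, hNP, hPle, k, ψ, hk, hinj, hrange⟩ := hP
  have hMn : (N.map φ.toMonoidHom).Normal := hN.map φ.toMonoidHom φ.surjective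
  have hd : Disjoint P (N.map φ.toMonoidHom) := disjoint_iff.mpr hdis
  have hcomm : ∀ (a : Fin k → N) (b : N),
      Commute (ψ a) ((φ.toMonoidHom.comp N.subtype) b) := by
    intro a b
    apply Subgroup.commute_of_normal_of_disjoint P _ hPn hMn hd
    · rw [← hrange]
      exact ⟨a, rfl⟩
    · exact ⟨b, b.2, rfl⟩
  have hr2 : (φ.toMonoidHom.comp N.subtype).range = N.map φ.toMonoidHom := by
    rw [MonoidHom.range_comp, Subgroup.range_subtype]
  refine ⟨?_, hNP.trans le_sup_left, sup_le hPle (le_sup_of_le_right ?_), k + 1,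
    (ψ.noncommCoprod (φ.toMonoidHom.comp N.subtype) hcomm).comp (finSplit k N).toMonoidHom,
    by omega, ?_, ?_⟩
  · haveI := hPn
    haveI := hMn
    infer_instance
  · intro m hm
    rw [Subgroup.mem_centralizer_iff]
    intro n hn
    have hd' : Disjoint N (N.map φ.toMonoidHom) := hd.mono_left hNP
    exact Subgroup.commute_of_normal_of_disjoint N _ hN hMn hd' n m hn hm
  · have h1 : Function.Injective (ψ.noncommCoprod (φ.toMonoidHom.comp N.subtype) hcomm) := by
      rw [MonoidHom.noncommCoprod_injective]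
      refine ⟨hinj, φ.injective.comp N.subtype_injective, ?_⟩
      rw [hrange, hr2]
      exact hd
    exact h1.comp (finSplit k N).injective
  · have h1 : (finSplit k N).toMonoidHom.range = ⊤ :=
      MonoidHom.range_eq_top.mpr (finSplit k N).surjective
    rw [MonoidHom.range_comp, h1, ← MonoidHom.range_eq_map, MonoidHom.noncommCoprod_range,
      hrange, hr2]

theorem exists_min_normal [Finite G] [Nontrivial G] :
    ∃ N : Subgroup G, N.Normal ∧ N ≠ ⊥ ∧
      ∀ K : Subgroup G, K.Normal → K ≤ N → K ≠ ⊥ → K = N := by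
  have hfin : {K : Subgroup G | K.Normal ∧ K ≠ ⊥}.Finite := Set.toFinite _
  obtain ⟨N, hN⟩ := hfin.exists_minimal ⟨⊤, inferInstance, top_ne_bot⟩
  refine ⟨N, hN.prop.1, hN.prop.2, fun K hK hKN hKne => ?_⟩
  exact le_antisymm hKN (hN.le_of_le ⟨hK, hKne⟩ hKN)

theorem forward [Finite G] [Nontrivial G]
    (h : ∀ H : Subgroup G, H.Characteristic → H = ⊥ ∨ H = ⊤) :
    ∃ N : Subgroup G, IsSimpleGroup N ∧ ∃ k : ℕ, 1 ≤ k ∧ Nonempty (G ≃* (Fin k → N)) := by
  obtain ⟨N, hN, hNbot, hNmin⟩ := exists_min_normal (G := G)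
  have hfin : {P : Subgroup G | Good N P}.Finite := Set.toFinite _
  obtain ⟨P, hP⟩ := hfin.exists_maximal ⟨N, good_self N hN⟩
  have hPgood : Good N P := hP.prop
  have hall : ∀ φ : G ≃* G, N.map φ.toMonoidHom ≤ P := by
    intro φ
    by_contra hnot
    have hPn := hPgood.1
    have hMn : (N.map φ.toMonoidHom).Normal := hN.map φ.toMonoidHom φ.surjective
    have hKn : ((P ⊓ N.map φ.toMonoidHom).comap φ.toMonoidHom).Normal := by
      haveI := hPn
      haveI := hMn
      infer_instance
    have hKle : (P ⊓ N.map φ.toMonoidHom).comap φ.toMonoidHom ≤ N := by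
      intro x hx
      obtain ⟨n, hn, hnx⟩ := hx.2
      have h1 := φ.injective hnx
      rw [← h1]
      exact hn
    by_cases hK : (P ⊓ N.map φ.toMonoidHom).comap φ.toMonoidHom = ⊥
    · have hdis : P ⊓ N.map φ.toMonoidHom = ⊥ := by
        rw [Subgroup.eq_bot_iff_forall]
        intro x hx
        obtain ⟨n, hn, rfl⟩ := hx.2
        have h1 : n ∈ (P ⊓ N.map φ.toMonoidHom).comap φ.toMonoidHom := hx
        rw [hK, Subgroup.mem_bot] at h1
        rw [h1]
        exact map_one _
      have hg := good_step N hN P hPgood φ hdis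
      have h2 := hP.le_of_ge hg le_sup_left
      exact hnot (le_sup_right.trans h2)
    · have h1 := hNmin _ hKn hKle hK
      apply hnot
      rintro _ ⟨n, hn, rfl⟩
      have hn' : n ∈ (P ⊓ N.map φ.toMonoidHom).comap φ.toMonoidHom := by
        rw [h1]
        exact hn
      exact hn'.1
  have hchar : (⨆ φ : G ≃* G, N.map φ.toMonoidHom).Characteristic := by
    rw [Subgroup.characteristic_iff_map_le]
    intro ψ
    rw [Subgroup.map_iSup]
    apply iSup_le
    intro φ
    rw [Subgroup.map_map]
    exact le_iSup (fun φ : G ≃* G => N.map φ.toMonoidHom) (φ.trans ψ)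
  have hNle : N ≤ ⨆ φ : G ≃* G, N.map φ.toMonoidHom := by
    refine le_trans ?_ (le_iSup (fun φ : G ≃* G => N.map φ.toMonoidHom) (MulEquiv.refl G))
    intro n hn
    exact ⟨n, hn, rfl⟩
  have hCtop : (⨆ φ : G ≃* G, N.map φ.toMonoidHom) = ⊤ := by
    rcases h _ hchar with h1 | h1
    · exfalso
      apply hNbot
      rw [eq_bot_iff, ← h1]
      exact hNle
    · exact h1
  have hPtop : P = ⊤ := by
    rw [eq_top_iff, ← hCtop]
    exact iSup_le hall
  obtain ⟨hPn, hNP, hPle, k, ψ, hk, hinj, hrange⟩ := hPgood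
  refine ⟨N, ?_, k, hk, ?_⟩
  · haveI : Nontrivial N := (Subgroup.nontrivial_iff_ne_bot N).mpr hNbot
    refine ⟨fun K' hK' => ?_⟩
    have hKn : (K'.map N.subtype).Normal := by
      constructor
      intro x hx g
      have hg : g ∈ N ⊔ Subgroup.centralizer (N : Set G) := hPle (by
        rw [hPtop]
        exact Subgroup.mem_top g)
      haveI := hN
      obtain ⟨n, hn, c, hc, rfl⟩ := Subgroup.mem_sup_of_normal_left.mp hg
      obtain ⟨y, hy, rfl⟩ := hx
      rw [Subgroup.mem_centralizer_iff] at hc
      have h1 : c * (N.subtype y) * c⁻¹ = N.subtype y := by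
        have h3 := hc y y.2
        change c * (y : G) * c⁻¹ = (y : G)
        rw [← h3, mul_inv_cancel_right]
      have h2 : n * c * N.subtype y * (n * c)⁻¹ = n * (c * N.subtype y * c⁻¹) * n⁻¹ := by group
      rw [h2, h1]
      exact ⟨⟨n, hn⟩ * y * ⟨n, hn⟩⁻¹, hK'.conj_mem y hy _, rfl⟩
    have hle : K'.map N.subtype ≤ N := Subgroup.map_subtype_le K'
    by_cases hb : K'.map N.subtype = ⊥
    · left
      rwa [Subgroup.map_eq_bot_iff_of_injective _ N.subtype_injective] at hb
    · right
      have h1 := hNmin _ hKn hle hb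
      rw [eq_top_iff]
      intro y _
      have hy : (y : G) ∈ K'.map N.subtype := by
        rw [h1]
        exact y.2
      obtain ⟨z, hz, hzy⟩ := hy
      have h2 : z = y := Subtype.ext hzy
      rw [← h2]
      exact hz
  · have hsurj : Function.Surjective ψ := by
      intro g
      have h1 : g ∈ ψ.range := by
        rw [hrange, hPtop]
        exact Subgroup.mem_top g
      exact h1
    exact ⟨(MulEquiv.ofBijective ψ ⟨hinj, hsurj⟩).symm⟩

end fwd


/-- A non-trivial finite group G is characteristically simple (its only characteristic subgroups are 1 and G) if and only if G is isomorphic to a direct power S^n (n ≥ 1) of some simple group S (possibly cyclic of prime order). -/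
theorem result {G : Type*} [Group G] [Finite G] [Nontrivial G] :
    (∀ H : Subgroup G, H.Characteristic → H = ⊥ ∨ H = ⊤) ↔
    ∃ (S : Type) (_ : Group S) (_ : IsSimpleGroup S) (n : ℕ), 1 ≤ n ∧ Nonempty (G ≃* (Fin n → S)) := by
  constructor
  · intro h
    obtain ⟨N, hNs, k, hk, ⟨e⟩⟩ := forward h
    haveI : Small.{0} N := Countable.toSmall N
    haveI : IsSimpleGroup (Shrink.{0} N) := (Shrink.mulEquiv (α := N)).isSimpleGroup
    exact ⟨Shrink.{0} N, inferInstance, inferInstance, k, hk,
      ⟨e.trans (MulEquiv.piCongrRight (fun _ => (Shrink.mulEquiv (α := N)).symm))⟩⟩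
  · rintro ⟨S, _, _, n, hn, ⟨e⟩⟩ H hH
    exact back n e H hH

end Cfsg.Agent.S5914
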