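import Cfsg.Statements.S0721
import Cfsg.Agent.S5914

set_option autoImplicit false
open Cfsg

namespace Cfsg.Agent.S0721

/-- A minimal normal subgroup of a finite group is isomorphic to a direct power `T ^ m` of a simple group `T` (possibly of prime order). -/
theorem result {H : Type*} [Group H] [Finite H] (N : Subgroup H) [N.Normal] (hN : N ≠ ⊥) (hmin : ∀ M : Subgroup H, M.Normal → M ≤ N → M = ⊥ ∨ M = N) : ∃ (T : Type) (_ : Group T) (m : ℕ), IsSimpleGroup T ∧ 0 < m ∧ Nonempty (N ≃* (Fin m → T)) := by
  have hnt : Nontrivial N := (Subgroup.nontrivial_iff_ne_bot N).mpr hN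
  have hchar : ∀ C : Subgroup N, C.Characteristic → C = ⊥ ∨ C = ⊤ := by
    intro C hC
    have hnorm : (C.map N.subtype).Normal := by
      constructor
      intro x hx h
      obtain ⟨c, hc, rfl⟩ := hx
      refine ⟨MulAut.conjNormal h c, ?_, ?_⟩
      · have h1 := hC.fixed (MulAut.conjNormal h)
        rw [← h1] at hc
        exact hc
      · simp
    have hle : C.map N.subtype ≤ N := by
      rintro _ ⟨c, -, rfl⟩
      exact c.2
    rcases hmin _ hnorm hle with h | h
    · left
      exact (Subgroup.map_eq_bot_iff_of_injective C N.subtype_injective).mp h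
    · right
      rw [eq_top_iff]
      intro x _
      have hx : (x : H) ∈ C.map N.subtype := by
        rw [h]
        exact x.2
      obtain ⟨c, hc, hcx⟩ := hx
      have : c = x := Subtype.ext hcx
      rwa [← this]
  obtain ⟨S, _, hS, n, hn, hiso⟩ := (Cfsg.Agent.S5914.result (G := N)).mp hchar
  exact ⟨S, inferInstance, n, hS, hn, hiso⟩

end Cfsg.Agent.S0721
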