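import Cfsg.Statements.S1230
import Cfsg.Agent.S1229
import Cfsg.Agent.Lib.helper2.Sharp3M

set_option autoImplicit false
open Cfsg

namespace Cfsg.Agent.S1230

/-- In characteristic `2`, `SL(2, F) ≃* PSL(2, F)`. -/
theorem sl2_equiv_psl2 (F : Type) [Field F] [Fintype F] [CharP F 2] :
    Nonempty (Matrix.SpecialLinearGroup (Fin 2) F ≃*
      Matrix.ProjectiveSpecialLinearGroup (Fin 2) F) := by
  classical
  have hcenter : Subgroup.center (Matrix.SpecialLinearGroup (Fin 2) F) = ⊥ := by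
    apply Subgroup.eq_bot_of_card_eq
    rw [Cfsg.Agent.Lib.helper2.SLCard.card_center_SL F 2 (by norm_num)]
    obtain ⟨n, -, hn⟩ := FiniteField.card F 2
    rw [hn]
    have hodd : Odd (2 ^ (n : ℕ) - 1) := by
      have hpos : 0 < (n : ℕ) := n.pos
      have h2 : Even (2 ^ (n : ℕ)) := (Nat.even_pow' hpos.ne').mpr even_two
      have h1 : 1 ≤ 2 ^ (n : ℕ) := Nat.one_le_two_pow
      obtain ⟨k, hk⟩ := h2
      exact ⟨k - 1, by omega⟩
    exact Nat.coprime_two_left.mpr hodd
  exact ⟨(QuotientGroup.quotientBot.symm).trans (QuotientGroup.quotientMulEquivOfEq hcenter.symm)⟩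

/-- Let G be a finite group with a Sylow 2-subgroup T that is neither cyclic nor normal, such that the centralizer of every involution is an elementary abelian 2-group. Then G ≅ PSL(2,F) for a finite field F with |F| = |T|. -/
theorem result {G : Type*} [Group G] [Finite G] (T : Sylow 2 G) (hnc : ¬ IsCyclic (T : Subgroup G)) (hnn : ¬ (T : Subgroup G).Normal) (hC : ∀ t : G, orderOf t = 2 → IsMulCommutative (Subgroup.centralizer ({t} : Set G)) ∧ ∀ c ∈ Subgroup.centralizer ({t} : Set G), c ^ 2 = 1) : ∃ (F : Type) (_ : Field F) (_ : Fintype F), Fintype.card F = Nat.card T ∧ Nonempty (G ≃* Matrix.ProjectiveSpecialLinearGroup (Fin 2) F) := by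
  classical
  obtain ⟨h3t, hfix3, hreg⟩ := Cfsg.Agent.S1229.result T hnc hnn hC
  have hTH : (T : Subgroup G) ≤ Subgroup.normalizer ((T : Subgroup G) : Set G) :=
    Subgroup.le_normalizer
  have hHtop : Subgroup.normalizer ((T : Subgroup G) : Set G) ≠ ⊤ := by
    intro h
    exact hnn (Subgroup.normalizer_eq_top_iff.mp h)
  generalize Subgroup.normalizer ((T : Subgroup G) : Set G) = H at h3t hfix3 hreg hTH hHtop
  obtain ⟨g₀, hg₀⟩ : ∃ g : G, g ∉ H := by
    by_contra hcon
    push Not at hcon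
    exact hHtop ((Subgroup.eq_top_iff' H).mpr hcon)
  haveI : Fintype (G ⧸ H) := Fintype.ofFinite _
  have hx₁ : (QuotientGroup.mk g₀ : G ⧸ H) ≠ QuotientGroup.mk 1 := by
    intro h
    rw [QuotientGroup.eq] at h
    apply hg₀
    have h2 : g₀ = (g₀⁻¹ * 1)⁻¹ := by group
    rw [h2]
    exact H.inv_mem h
  -- the points other than the base point are in bijection with `T`
  have hcardX : Fintype.card (G ⧸ H) = Nat.card (T : Subgroup G) + 1 := by
    have hfix0 : ∀ t ∈ (T : Subgroup G), t • (QuotientGroup.mk 1 : G ⧸ H) = QuotientGroup.mk 1 := by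
      intro t ht
      rw [MulAction.Quotient.smul_mk, QuotientGroup.eq]
      simpa using H.inv_mem (hTH ht)
    have e : (T : Subgroup G) ≃ {x : G ⧸ H // x ≠ QuotientGroup.mk 1} := by
      refine Equiv.ofBijective (fun t => ⟨(t : G) • (QuotientGroup.mk g₀ : G ⧸ H), ?_⟩) ⟨?_, ?_⟩
      · intro h
        apply hx₁
        calc (QuotientGroup.mk g₀ : G ⧸ H)
            = (t : G)⁻¹ • ((t : G) • (QuotientGroup.mk g₀ : G ⧸ H)) := by rw [inv_smul_smul]
          _ = (t : G)⁻¹ • (QuotientGroup.mk 1 : G ⧸ H) := by rw [h]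
          _ = QuotientGroup.mk 1 := hfix0 _ (inv_mem t.2)
      · intro t t' htt
        have h1 : (t : G) • (QuotientGroup.mk g₀ : G ⧸ H) = (t' : G) • (QuotientGroup.mk g₀ : G ⧸ H) :=
          congrArg Subtype.val htt
        obtain ⟨s, -, hs⟩ := hreg (QuotientGroup.mk g₀) ((t' : G) • (QuotientGroup.mk g₀ : G ⧸ H)) hx₁
          (by
            intro h
            apply hx₁
            calc (QuotientGroup.mk g₀ : G ⧸ H)
                = (t' : G)⁻¹ • ((t' : G) • (QuotientGroup.mk g₀ : G ⧸ H)) := by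
                  rw [inv_smul_smul]
              _ = (t' : G)⁻¹ • (QuotientGroup.mk 1 : G ⧸ H) := by rw [h]
              _ = QuotientGroup.mk 1 := hfix0 _ (inv_mem t'.2))
        have e1 := hs (t : G) ⟨t.2, h1⟩
        have e2 := hs (t' : G) ⟨t'.2, rfl⟩
        exact Subtype.ext (e1.trans e2.symm)
      · rintro ⟨y, hy⟩
        obtain ⟨s, ⟨hsT, hsy⟩, -⟩ := hreg (QuotientGroup.mk g₀) y hx₁ hy
        exact ⟨⟨s, hsT⟩, Subtype.ext hsy⟩
    rw [Nat.card_congr e, Nat.card_eq_fintype_card, Fintype.card_subtype_compl,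
      Fintype.card_subtype_eq]
    have hpos : 0 < Fintype.card (G ⧸ H) := Fintype.card_pos_iff.mpr ⟨QuotientGroup.mk 1⟩
    omega
  -- `T` is a non-trivial `2`-group
  have hTeven : Even (Nat.card (T : Subgroup G)) := by
    obtain ⟨k, hk⟩ := (T.isPGroup').exists_card_eq
    rcases Nat.eq_zero_or_pos k with rfl | hkpos
    · exfalso
      apply hnc
      rw [pow_zero] at hk
      haveI : Subsingleton (T : Subgroup G) := (Nat.card_eq_one_iff_unique.mp hk).1
      exact isCyclic_of_subsingleton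
    · rw [hk]
      exact (Nat.even_pow' hkpos.ne').mpr even_two
  have hTpos : 0 < Nat.card (T : Subgroup G) := Nat.card_pos
  have hodd : Odd (Fintype.card (G ⧸ H)) := by
    rw [hcardX]
    exact hTeven.add_one
  have h3c : 3 ≤ Fintype.card (G ⧸ H) := by
    rw [hcardX]
    obtain ⟨k, hk⟩ := hTeven
    omega
  -- the action is faithful
  let φ : G →* Equiv.Perm (G ⧸ H) := MulAction.toPermHom G (G ⧸ H)
  have hφ : ∀ (g : G) (x : G ⧸ H), φ g x = g • x := fun g x => rfl
  obtain ⟨x₂, hx₂0, hx₂1⟩ := Cfsg.Agent.Lib.helper2.Sharp3.exists_third h3c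
    (QuotientGroup.mk 1 : G ⧸ H) (QuotientGroup.mk g₀)
  have hφinj : Function.Injective φ := by
    rw [injective_iff_map_eq_one]
    intro g hg
    apply hfix3 g (QuotientGroup.mk 1) (QuotientGroup.mk g₀) x₂ hx₁.symm hx₂0.symm hx₂1.symm
    · rw [← hφ, hg]; rfl
    · rw [← hφ, hg]; rfl
    · rw [← hφ, hg]; rfl
  have h3t' : ∀ a b c a' b' c' : G ⧸ H, a ≠ b → a ≠ c → b ≠ c → a' ≠ b' → a' ≠ c' → b' ≠ c' →
      ∃ p ∈ φ.range, p a = a' ∧ p b = b' ∧ p c = c' := by
    intro a b c a' b' c' hab hac hbc hab' hac' hbc'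
    obtain ⟨g, h1, h2, h3⟩ := h3t a b c a' b' c' hab hac hbc hab' hac' hbc'
    exact ⟨φ g, ⟨g, rfl⟩, h1, h2, h3⟩
  have hsh' : ∀ p ∈ φ.range, ∀ a b c : G ⧸ H, a ≠ b → a ≠ c → b ≠ c → p a = a → p b = b →
      p c = c → p = 1 := by
    rintro p ⟨g, rfl⟩ a b c hab hac hbc h1 h2 h3
    rw [hfix3 g a b c hab hac hbc h1 h2 h3, map_one]
  obtain ⟨F, _, _, _, hcF, ⟨e2⟩⟩ :=
    Cfsg.Agent.Lib.helper2.Sharp3.sharp3_main φ.range hodd h3c h3t' hsh'
  obtain ⟨e3⟩ := sl2_equiv_psl2 F
  refine ⟨F, inferInstance, inferInstance, ?_, ⟨(MonoidHom.ofInjective hφinj).trans (e2.trans e3)⟩⟩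
  omega

end Cfsg.Agent.S1230
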