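import Cfsg.Statements.S1011
import Mathlib
import Cfsg.Agent.Lib.helper3.Simple504
import Cfsg.Agent.S1230
import Cfsg.Agent.Lib.helper2.Transport

set_option linter.style.haveILetI false

set_option autoImplicit false
open Cfsg

namespace Cfsg.Agent.S1011

/-- A simple group of order 504 is isomorphic to the projective special linear group of dimension 2 over the field with 8 elements. -/
theorem result {G : Type*} [Group G] [Finite G] [IsSimpleGroup G] (h : Nat.card G = 504) {F : Type*} [Field F] [Fintype F] (hF : Fintype.card F = 8) : Nonempty (G ≃* Matrix.ProjectiveSpecialLinearGroup (Fin 2) F) := by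
  classical
  obtain ⟨T⟩ : Nonempty (Sylow 2 G) := inferInstance
  have hT := Cfsg.Agent.Lib.helper3.S504.card_syl2 h T
  obtain ⟨hnc, hnn⟩ := Cfsg.Agent.Lib.helper3.S504.syl2_facts h T
  obtain ⟨F', _, _, hcF', ⟨e⟩⟩ := Cfsg.Agent.S1230.result T hnc hnn
    (fun t ht => Cfsg.Agent.Lib.helper3.S504.invol_cent h t ht)
  have h1 : Nat.card T = 8 := hT
  have hc8 : Fintype.card F' = Fintype.card F := by rw [hcF', h1, hF]
  exact ⟨e.trans (Cfsg.Agent.Lib.helper2.Transport.pslCongr (FiniteField.ringEquivOfCardEq hc8))⟩

end Cfsg.Agent.S1011
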