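import Cfsg.Statements.S1020
import Mathlib
import Cfsg.Agent.Lib.helper3.UniqGlue2
import Cfsg.Agent.Lib.helper2.SLCard
import Cfsg.Agent.Lib.helper2.Transport

set_option linter.style.haveILetI false

set_option autoImplicit false
open Cfsg

namespace Cfsg.Agent.S1020

/-- A simple group of order 2448 is isomorphic to the projective special linear group of dimension 2 over the field with 17 elements. -/
theorem result {G : Type*} [Group G] [Finite G] [IsSimpleGroup G] (h : Nat.card G = 2448) {F : Type*} [Field F] [Fintype F] (hF : Fintype.card F = 17) : Nonempty (G ≃* Matrix.ProjectiveSpecialLinearGroup (Fin 2) F) := by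
  haveI : Fact (Nat.Prime 17) := ⟨by norm_num⟩
  have eF : ZMod 17 ≃+* F := ZMod.ringEquivOfPrime F (by norm_num) hF
  have hcard : Nat.card (Matrix.ProjectiveSpecialLinearGroup (Fin 2) (ZMod 17)) = 2448 := by
    have h1 := Cfsg.Agent.Lib.helper2.SLCard.card_PSL (ZMod 17) 2 (by norm_num)
    rw [Fin.prod_univ_two, ZMod.card] at h1
    have e1 : Nat.gcd 2 (17 - 1) = 2 := by decide
    have e2 : (17 ^ 2 - 17 ^ ((0 : Fin 2) : ℕ)) * (17 ^ 2 - 17 ^ ((1 : Fin 2) : ℕ)) = 78336 := by
      norm_num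
    have e3 : (17 - 1 : ℕ) = 16 := by norm_num
    rw [e1, e2, e3] at h1
    linarith
  haveI hfin : Finite (Matrix.ProjectiveSpecialLinearGroup (Fin 2) (ZMod 17)) :=
    Nat.finite_of_card_ne_zero (by rw [hcard]; norm_num)
  haveI hs : IsSimpleGroup (Matrix.ProjectiveSpecialLinearGroup (Fin 2) (ZMod 17)) :=
    Matrix.ProjectiveSpecialLinearGroup.rank_two_simple
      (by rw [Nat.card_eq_fintype_card, ZMod.card]; norm_num)
  obtain ⟨e1⟩ := Cfsg.Agent.Lib.helper3.UG.iso17 h
  obtain ⟨e2⟩ := Cfsg.Agent.Lib.helper3.UG.iso17 hcard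
  exact ⟨(e1.trans e2.symm).trans (Cfsg.Agent.Lib.helper2.Transport.pslCongr eF)⟩

end Cfsg.Agent.S1020
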