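import Cfsg.Statements.S1249
import Cfsg.Agent.Lib.helper9.StrEmb

set_option autoImplicit false
open Cfsg

namespace Cfsg.Agent.S1249

open Subgroup Cfsg.Agent.Lib.helper9 in
theorem aux {G : Type*} [Group G] [Finite G] {p : ℕ} [Fact p.Prime] (P Q : Sylow p G)
    (A : Subgroup G) (hAQ : A ≤ Q) (hA : Cfsg.IsStronglyClosed A (P : Subgroup G)) :
    Cfsg.IsStronglyClosed A (Q : Subgroup G) := by
  obtain ⟨hAP, hsc⟩ := hA
  obtain ⟨k, hk⟩ := MulAction.exists_smul_eq G Q P
  -- k Q k⁻¹ = P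
  have h1 : A.map (MulAut.conj k).toMonoidHom ≤ A := by
    rintro _ ⟨a, ha, rfl⟩
    have h2 := sylow_smul_mem' k Q P hk a (hAQ ha)
    exact hsc a ha k h2
  have h3 : A.map (MulAut.conj k).toMonoidHom = A := by
    apply Subgroup.eq_of_le_of_card_ge h1
    rw [Subgroup.card_map_of_injective (MulAut.conj k).injective]
  refine ⟨hAQ, ?_⟩
  intro x hx g hg
  have h4 := sylow_smul_mem' k Q P hk _ hg
  have h5 : k * g * x * (k * g)⁻¹ ∈ A := by
    apply hsc x hx (k * g)
    have : k * g * x * (k * g)⁻¹ = k * (g * x * g⁻¹) * k⁻¹ := by group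
    rw [this]; exact h4
  rw [← h3] at h5
  obtain ⟨b, hb, hb'⟩ := h5
  simp only [MulEquiv.coe_toMonoidHom, MulAut.conj_apply] at hb'
  have : g * x * g⁻¹ = b := by
    have e1 : k * g * x * (k * g)⁻¹ = k * (g * x * g⁻¹) * k⁻¹ := by group
    rw [e1] at hb'
    have := congrArg (fun t => k⁻¹ * t * k) hb'
    beta_reduce at this
    have e2 : k⁻¹ * (k * b * k⁻¹) * k = b := by group
    have e3 : k⁻¹ * (k * (g * x * g⁻¹) * k⁻¹) * k = g * x * g⁻¹ := by group
    rw [e2, e3] at this
    exact this.symm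
  rw [this]; exact hb

/-- Let P and Q be Sylow p-subgroups of the finite group G both containing the subgroup A. If A is strongly closed in P, then A is strongly closed in Q. -/
theorem result {G : Type*} [Group G] [Finite G] {p : ℕ} [Fact p.Prime] (P Q : Sylow p G) (A : Subgroup G) (hAQ : A ≤ Q) (hA : Cfsg.IsStronglyClosed A (P : Subgroup G)) : Cfsg.IsStronglyClosed A (Q : Subgroup G) := by
  exact aux P Q A hAQ hA

end Cfsg.Agent.S1249
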