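import Cfsg.Statements.S1250
import Cfsg.Agent.Lib.helper9.StrEmb

set_option autoImplicit false
open Cfsg

namespace Cfsg.Agent.S1250

open Subgroup Cfsg.Agent.Lib.helper9 in
theorem aux {G : Type*} [Group G] [Finite G] {p : ℕ} [Fact p.Prime] (S : Sylow p G)
    (A : Subgroup G) (hA : Cfsg.IsStronglyClosed A (S : Subgroup G)) (N : Subgroup G) [N.Normal] :
    Cfsg.IsStronglyClosed (A.map (QuotientGroup.mk' N))
      ((S : Subgroup G).map (QuotientGroup.mk' N)) := by
  obtain ⟨hAS, hsc⟩ := hA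
  refine ⟨Subgroup.map_mono hAS, ?_⟩
  rintro _ ⟨a, ha, rfl⟩ gb hgb
  obtain ⟨g, rfl⟩ := QuotientGroup.mk'_surjective N gb
  have h1 : g * a * g⁻¹ ∈ (S : Subgroup G) ⊔ N := by
    have h2 : QuotientGroup.mk' N (g * a * g⁻¹) ∈ (S : Subgroup G).map (QuotientGroup.mk' N) := by
      simpa using hgb
    have h3 : g * a * g⁻¹ ∈ ((S : Subgroup G).map (QuotientGroup.mk' N)).comap
        (QuotientGroup.mk' N) := h2
    rw [Subgroup.comap_map_eq, QuotientGroup.ker_mk'] at h3
    exact h3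
  have hp : IsPGroup p ((zpowers a).map (MulAut.conj g).toMonoidHom) :=
    (S.2.to_le (zpowers_le.mpr (hAS ha))).map _
  have hle : (zpowers a).map (MulAut.conj g).toMonoidHom ≤ (S : Subgroup G) ⊔ N := by
    rw [MonoidHom.map_zpowers, zpowers_le]
    simpa using h1
  obtain ⟨h, hh, hc⟩ := conj_mem_sylow_of_le ((S : Subgroup G) ⊔ N) S le_sup_left _ hle hp
  obtain ⟨s, hs, n, hn, rfl⟩ := Subgroup.mem_sup_of_normal_right.mp hh
  have h4 : s * n * (g * a * g⁻¹) * (s * n)⁻¹ ∈ (S : Subgroup G) :=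
    hc _ ⟨a, mem_zpowers a, rfl⟩
  have h5 : n * g * a * (n * g)⁻¹ ∈ (S : Subgroup G) := by
    have := mul_mem (mul_mem (inv_mem hs) h4) hs
    have e : s⁻¹ * (s * n * (g * a * g⁻¹) * (s * n)⁻¹) * s = n * g * a * (n * g)⁻¹ := by group
    rw [e] at this; exact this
  have h6 := hsc a ha (n * g) h5
  refine ⟨n * g * a * (n * g)⁻¹, h6, ?_⟩
  have hn1 : QuotientGroup.mk' N n = 1 := by
    rw [← MonoidHom.mem_ker, QuotientGroup.ker_mk']; exact hn
  simp only [map_mul, map_inv, hn1, one_mul]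

/-- Let S be a Sylow p-subgroup of the finite group G, A ≤ S strongly closed in S, and N a normal subgroup. Then the image of A in G ⧸ N is strongly closed in the image of S (which is a Sylow p-subgroup of G ⧸ N). -/
theorem result {G : Type*} [Group G] [Finite G] {p : ℕ} [Fact p.Prime] (S : Sylow p G) (A : Subgroup G) (hA : Cfsg.IsStronglyClosed A (S : Subgroup G)) (N : Subgroup G) [N.Normal] : Cfsg.IsStronglyClosed (A.map (QuotientGroup.mk' N)) ((S : Subgroup G).map (QuotientGroup.mk' N)) := by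
  exact aux S A hA N

end Cfsg.Agent.S1250
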