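import Cfsg.Statements.S1251
import Mathlib
import Cfsg.Agent.Lib.helper16.ZStar3
import Cfsg.Agent.Lib.helper9.PPrimeCore

set_option autoImplicit false
open Cfsg

namespace Cfsg.Agent.S1251

/-- a subgroup of a finite group mapped into itself by conjugation by `y` is also mapped into
itself by conjugation by `y⁻¹` -/
theorem conj_back {G : Type*} [Group G] [Finite G] (A : Subgroup G) (y : G)
    (h : ∀ x ∈ A, y * x * y⁻¹ ∈ A) : ∀ x ∈ A, y⁻¹ * x * y ∈ A := by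
  have key : ∀ n : ℕ, ∀ x ∈ A, y ^ n * x * (y ^ n)⁻¹ ∈ A := by
    intro n
    induction n with
    | zero => intro x hx; simpa using hx
    | succ n ih =>
      intro x hx
      have h1 := h _ (ih x hx)
      have e : y * (y ^ n * x * (y ^ n)⁻¹) * y⁻¹ = y ^ (n + 1) * x * (y ^ (n + 1))⁻¹ := by
        rw [pow_succ']; group
      rw [e] at h1; exact h1
  intro x hx
  have hpos : 0 < orderOf y := orderOf_pos y
  have h1 := key (orderOf y - 1) x hx
  have e0 : y ^ (orderOf y - 1) = y⁻¹ := by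
    rw [eq_inv_iff_mul_eq_one, ← pow_succ, Nat.sub_add_cancel hpos, pow_orderOf_eq_one]
  rw [e0, inv_inv] at h1; exact h1

/-- Let S be a Sylow 2-subgroup of the finite group G and A ≤ S strongly closed in S. If H is a subgroup normalized by A with no nontrivial normal subgroup of odd order and A ∩ H = 1, then A ≤ C_G(H). -/
theorem result {G : Type*} [Group G] [Finite G] (S : Sylow 2 G) (A : Subgroup G) (hA : Cfsg.IsStronglyClosed A (S : Subgroup G)) (H : Subgroup G) (hAH : A ≤ Subgroup.normalizer (H : Set G)) (hO : Cfsg.oddCore ↥H = ⊥) (hdisj : A ⊓ H = ⊥) : A ≤ Subgroup.centralizer (H : Set G) := by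
  obtain ⟨hAS, hcl⟩ := hA
  intro a ha
  rw [Subgroup.mem_centralizer_iff]
  intro h hh
  have hza : Subgroup.zpowers a ≤ A := by rw [Subgroup.zpowers_le]; exact ha
  have hzN : Subgroup.zpowers a ≤ Subgroup.normalizer (H : Set G) := hza.trans hAH
  obtain ⟨Y, hY⟩ : ∃ Y : Subgroup G, Y = H ⊔ Subgroup.zpowers a := ⟨_, rfl⟩
  have hHY : H ≤ Y := by rw [hY]; exact le_sup_left
  have hzY : Subgroup.zpowers a ≤ Y := by rw [hY]; exact le_sup_right
  have haY : a ∈ Y := hzY (Subgroup.mem_zpowers a)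
  have hYN : Y ≤ Subgroup.normalizer (H : Set G) := by
    rw [hY]; exact sup_le Subgroup.le_normalizer hzN
  have hYA : Y ≤ H ⊔ A := by rw [hY]; exact sup_le_sup_left hza H
  -- commutators of `Y` with powers of `a` lie in `H`
  have hdec : ∀ g ∈ Y, ∀ q ∈ Subgroup.zpowers a, g * q * g⁻¹ * q⁻¹ ∈ H := by
    intro g hg q hq
    have hg' : g ∈ ((H ⊔ Subgroup.zpowers a : Subgroup G) : Set G) := by rw [← hY]; exact hg
    rw [Subgroup.coe_mul_of_right_le_normalizer_left H _ hzN] at hg'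
    obtain ⟨h1, hh1, z, hz, rfl⟩ := Set.mem_mul.mp hg'
    have hzq : z * q = q * z := by
      obtain ⟨i, rfl⟩ := Subgroup.mem_zpowers_iff.mp hz
      obtain ⟨j, rfl⟩ := Subgroup.mem_zpowers_iff.mp hq
      rw [← zpow_add, ← zpow_add, add_comm]
    have hqN := hzN hq
    have h2 : q * h1⁻¹ * q⁻¹ ∈ H :=
      (Subgroup.mem_normalizer_iff.mp hqN h1⁻¹).mp (H.inv_mem hh1)
    have e : h1 * z * q * (h1 * z)⁻¹ * q⁻¹ = h1 * (q * h1⁻¹ * q⁻¹) := by
      rw [mul_assoc h1 z q, hzq]; group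
    rw [e]; exact H.mul_mem hh1 h2
  -- a Sylow 2-subgroup of `Y` containing `a`
  have h2A : IsPGroup 2 A := S.isPGroup'.to_le hAS
  obtain ⟨a', ha'⟩ : ∃ a' : ↥Y, a' = ⟨a, haY⟩ := ⟨_, rfl⟩
  have h2AY : IsPGroup 2 (A.comap Y.subtype) :=
    h2A.comap_of_injective Y.subtype Y.subtype_injective
  have hza'A : Subgroup.zpowers a' ≤ A.comap Y.subtype := by
    rw [Subgroup.zpowers_le, Subgroup.mem_comap, ha']; exact ha
  obtain ⟨T, hT⟩ := (h2AY.to_le hza'A).exists_le_sylow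
  -- conjugating `T` and `A` into `S`
  have hbeta : ∃ c ∈ H, ∃ y : G, (∀ x ∈ T, y * (c * (x : G) * c⁻¹) * y⁻¹ ∈ (S : Subgroup G)) ∧
      (∀ x ∈ A, y * x * y⁻¹ ∈ (S : Subgroup G)) := by
    obtain ⟨N, hN⟩ : ∃ N : Subgroup G, N = Subgroup.normalizer (H : Set G) := ⟨_, rfl⟩
    have hHN : H ≤ N := by rw [hN]; exact Subgroup.le_normalizer
    have hAN : A ≤ N := by rw [hN]; exact hAH
    have hYN' : Y ≤ N := by rw [hN]; exact hYN
    have hnorm : (H.subgroupOf N).Normal :=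
      (Subgroup.normal_subgroupOf_iff_le_normalizer hHN).mpr (by rw [hN])
    have h2AN : IsPGroup 2 (A.subgroupOf N) :=
      h2A.comap_of_injective N.subtype N.subtype_injective
    obtain ⟨S1, hS1⟩ := h2AN.exists_le_sylow
    have h2TN : IsPGroup 2 (((T : Subgroup ↥Y).map Y.subtype).subgroupOf N) :=
      (T.isPGroup'.map Y.subtype).comap_of_injective N.subtype N.subtype_injective
    have hTle : ((T : Subgroup ↥Y).map Y.subtype).subgroupOf N ≤
        (S1 : Subgroup ↥N) ⊔ H.subgroupOf N := by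
      have h1 : (T : Subgroup ↥Y).map Y.subtype ≤ H ⊔ A := by
        refine le_trans ?_ hYA
        rintro _ ⟨x, -, rfl⟩
        exact x.2
      have h2 : ((T : Subgroup ↥Y).map Y.subtype).subgroupOf N ≤ (H ⊔ A).subgroupOf N :=
        Subgroup.comap_mono h1
      rw [Subgroup.subgroupOf_sup hHN hAN] at h2
      exact h2.trans (by rw [sup_comm]; exact sup_le_sup_right hS1 _)
    obtain ⟨c, hc, hcx⟩ := Cfsg.Agent.Lib.helper16.ZStar.conj_into S1 (H.subgroupOf N) _ h2TN hTle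
    have h2S1 : IsPGroup 2 ((S1 : Subgroup ↥N).map N.subtype) := S1.isPGroup'.map N.subtype
    obtain ⟨y, -, hy⟩ := Cfsg.Agent.Lib.helper16.ZStar.conj_into S ⊤ _ h2S1
      (le_top.trans le_sup_right)
    refine ⟨(c : G), hc, y, fun x hx => ?_, fun x hx => ?_⟩
    · have hxN : (x : G) ∈ N := hYN' x.2
      have h3 := hcx ⟨(x : G), hxN⟩ (by
        show (x : G) ∈ (T : Subgroup ↥Y).map Y.subtype
        exact ⟨x, hx, rfl⟩)
      exact hy _ ⟨_, h3, rfl⟩
    · have hxN : x ∈ N := hAN hx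
      have h3 : (⟨x, hxN⟩ : ↥N) ∈ (S1 : Subgroup ↥N) := hS1 (by
        show x ∈ A
        exact hx)
      exact hy _ ⟨_, h3, rfl⟩
  obtain ⟨c, hc, y, hyT, hyA⟩ := hbeta
  have hyA' : ∀ x ∈ A, y * x * y⁻¹ ∈ A := fun x hx => hcl x hx y (hyA x hx)
  have hyA'' := conj_back A y hyA'
  -- the powers of `a` are isolated in `T`
  have hiso : ∀ q ∈ Subgroup.zpowers a', ∀ g : ↥Y, g * q * g⁻¹ ∈ (T : Subgroup ↥Y) →
      g * q * g⁻¹ = q := by
    intro q hq g hg
    have hqA : (q : G) ∈ A := hza'A hq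
    have hqz : (q : G) ∈ Subgroup.zpowers a := by
      obtain ⟨i, rfl⟩ := Subgroup.mem_zpowers_iff.mp hq
      rw [ha']
      exact ⟨i, by simp⟩
    have hqT : q ∈ (T : Subgroup ↥Y) := hT hq
    have r1 : y * (c * (q : G) * c⁻¹) * y⁻¹ ∈ A := by
      have h1 := hyT q hqT
      have e : y * (c * (q : G) * c⁻¹) * y⁻¹ = (y * c) * (q : G) * (y * c)⁻¹ := by group
      rw [e] at h1 ⊢
      exact hcl _ hqA _ h1
    have r2 : y * (c * ((g : G) * (q : G) * (g : G)⁻¹) * c⁻¹) * y⁻¹ ∈ A := by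
      have h1 := hyT _ hg
      have e : y * (c * ((g * q * g⁻¹ : ↥Y) : G) * c⁻¹) * y⁻¹
          = (y * c * (g : G)) * (q : G) * (y * c * (g : G))⁻¹ := by
        push_cast; group
      have e' : y * (c * ((g : G) * (q : G) * (g : G)⁻¹) * c⁻¹) * y⁻¹
          = (y * c * (g : G)) * (q : G) * (y * c * (g : G))⁻¹ := by group
      rw [e] at h1
      rw [e']
      exact hcl _ hqA _ h1
    have r3 := hyA'' _ (A.mul_mem r2 (A.inv_mem r1))
    have e3 : y⁻¹ * (y * (c * ((g : G) * (q : G) * (g : G)⁻¹) * c⁻¹) * y⁻¹ *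
        (y * (c * (q : G) * c⁻¹) * y⁻¹)⁻¹) * y
        = c * ((g : G) * (q : G) * (g : G)⁻¹ * (q : G)⁻¹) * c⁻¹ := by group
    rw [e3] at r3
    have r4 : c * ((g : G) * (q : G) * (g : G)⁻¹ * (q : G)⁻¹) * c⁻¹ ∈ H :=
      H.mul_mem (H.mul_mem hc (hdec _ g.2 _ hqz)) (H.inv_mem hc)
    have r5 : c * ((g : G) * (q : G) * (g : G)⁻¹ * (q : G)⁻¹) * c⁻¹ ∈ A ⊓ H := ⟨r3, r4⟩
    rw [hdisj, Subgroup.mem_bot] at r5
    have r6 : (g : G) * (q : G) * (g : G)⁻¹ * (q : G)⁻¹ = 1 := by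
      have : (g : G) * (q : G) * (g : G)⁻¹ * (q : G)⁻¹
          = c⁻¹ * (c * ((g : G) * (q : G) * (g : G)⁻¹ * (q : G)⁻¹) * c⁻¹) * c := by group
      rw [this, r5]; group
    apply Subtype.ext
    push_cast
    exact mul_inv_eq_one.mp r6
  -- apply the Z*-theorem in `Y`
  have hz := Cfsg.Agent.Lib.helper16.ZStar.iso_central T (Subgroup.zpowers a') hT hiso a'
    (Subgroup.mem_zpowers a') ⟨h, hHY hh⟩
  have hnormY : (H.subgroupOf Y).Normal :=
    (Subgroup.normal_subgroupOf_iff_le_normalizer hHY).mpr hYN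
  have := Cfsg.Agent.Lib.helper9.ppc_normal 2 ↥Y
  obtain ⟨K, hK⟩ : ∃ K : Subgroup ↥Y, K = Cfsg.pPrimeCore 2 ↥Y ⊓ H.subgroupOf Y := ⟨_, rfl⟩
  have hKn : K.Normal := by rw [hK]; infer_instance
  have hKc : (Nat.card K).Coprime 2 := by
    have h1 : Nat.card K ∣ Nat.card (Cfsg.pPrimeCore 2 ↥Y) :=
      Subgroup.card_dvd_of_le (by rw [hK]; exact inf_le_left)
    exact Nat.Coprime.coprime_dvd_left h1 (Cfsg.Agent.Lib.helper9.pPrimeCore_coprime 2 ↥Y)
  have hKH : K.comap (Subgroup.inclusion hHY) ≤ Cfsg.pPrimeCore 2 ↥H := by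
    apply Cfsg.Agent.Lib.helper9.le_pPrimeCore (hKn.comap _)
    exact Nat.Coprime.coprime_dvd_left
      (Subgroup.card_comap_dvd_of_injective K _ (Subgroup.inclusion_injective hHY)) hKc
  have hO' : Cfsg.pPrimeCore 2 ↥H = ⊥ := hO
  rw [hO'] at hKH
  have haN := hAH ha
  have hw : a * h * a⁻¹ * h⁻¹ ∈ H :=
    H.mul_mem ((Subgroup.mem_normalizer_iff.mp haN h).mp hh) (H.inv_mem hh)
  have hwK : (⟨a * h * a⁻¹ * h⁻¹, hw⟩ : ↥H) ∈ K.comap (Subgroup.inclusion hHY) := by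
    rw [Subgroup.mem_comap, hK]
    refine ⟨?_, ?_⟩
    · have e : Subgroup.inclusion hHY (⟨a * h * a⁻¹ * h⁻¹, hw⟩ : ↥H)
          = a' * ⟨h, hHY hh⟩ * a'⁻¹ * (⟨h, hHY hh⟩ : ↥Y)⁻¹ := by
        apply Subtype.ext
        rw [ha']
        rfl
      rw [e]; exact hz
    · show a * h * a⁻¹ * h⁻¹ ∈ H
      exact hw
  have hw1 := hKH hwK
  rw [Subgroup.mem_bot] at hw1
  have hw2 : a * h * a⁻¹ * h⁻¹ = 1 := congrArg Subtype.val hw1
  have hw3 : a * h * a⁻¹ = h := mul_inv_eq_one.mp hw2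
  have hw4 : a * h = h * a := mul_inv_eq_iff_eq_mul.mp hw3
  exact hw4.symm

end Cfsg.Agent.S1251
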