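import Cfsg.Statements.S1292
import Cfsg.Agent.Lib.helper7.Local4

set_option autoImplicit false
open Cfsg

namespace Cfsg.Agent.S1292

/-- Let G be a finite group such that F*(C_G(t)) = O_2(C_G(t)) for every involution t. Then F*(N_G(T)) = O_2(N_G(T)) for every nontrivial 2-subgroup T of G. -/
theorem result {G : Type*} [Group G] [Finite G] (h : ∀ t : G, orderOf t = 2 → Cfsg.generalizedFittingSubgroup ↥(Subgroup.centralizer ({t} : Set G)) = Cfsg.pCore 2 ↥(Subgroup.centralizer ({t} : Set G))) (T : Subgroup G) (hT : IsPGroup 2 ↥T) (hT1 : T ≠ ⊥) : Cfsg.generalizedFittingSubgroup ↥(Subgroup.normalizer (T : Set G)) = Cfsg.pCore 2 ↥(Subgroup.normalizer (T : Set G)) := by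
  apply Cfsg.Agent.Lib.helper7.fsP_iff.mp
  apply Cfsg.Agent.Lib.helper7.fsP_normalizer_of_centralizers _ T hT hT1
  intro t ht
  exact Cfsg.Agent.Lib.helper7.fsP_iff.mpr (h t ht)

end Cfsg.Agent.S1292
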