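import Cfsg.Statements.S1339
import Mathlib
import Cfsg.Agent.Lib.helper7.Local3

set_option autoImplicit false
open Cfsg

namespace Cfsg.Agent.S1339

theorem eq_one_of_ne_zero {F : Type*} [Field F] [Fintype F] (hF : Fintype.card F = 2) (x : F)
    (hx : x ≠ 0) : x = 1 := by
  have h := FiniteField.pow_card_sub_one_eq_one x hx
  rw [hF] at h
  simpa using h

theorem one_add_one_zero {F : Type*} [Field F] [Fintype F] (hF : Fintype.card F = 2) :
    (1 : F) + 1 = 0 := by
  by_contra h
  have h1 := eq_one_of_ne_zero hF _ h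
  exact one_ne_zero (α := F) (by linear_combination h1)

theorem mul_E {F : Type*} [Field F] {n : ℕ} (G : Matrix (Fin n) (Fin n) F) (i j k l : Fin n) :
    (G * Matrix.single i j (1 : F)) k l = if l = j then G k i else 0 := by
  rw [Matrix.mul_apply]
  by_cases h : l = j
  · rw [if_pos h, Finset.sum_eq_single i]
    · rw [Matrix.single_apply, if_pos ⟨rfl, h.symm⟩, mul_one]
    · intro m _ hm
      rw [Matrix.single_apply, if_neg (fun hh => hm hh.1.symm), mul_zero]
    · intro hh; exact absurd (Finset.mem_univ _) hh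
  · rw [if_neg h]
    apply Finset.sum_eq_zero
    intro m _
    rw [Matrix.single_apply, if_neg (fun hh => h hh.2.symm), mul_zero]

theorem E_mul {F : Type*} [Field F] {n : ℕ} (G : Matrix (Fin n) (Fin n) F) (i j k l : Fin n) :
    (Matrix.single i j (1 : F) * G) k l = if k = i then G j l else 0 := by
  rw [Matrix.mul_apply]
  by_cases h : k = i
  · rw [if_pos h, Finset.sum_eq_single j]
    · rw [Matrix.single_apply, if_pos ⟨h.symm, rfl⟩, one_mul]
    · intro m _ hm
      rw [Matrix.single_apply, if_neg (fun hh => hm hh.2.symm), zero_mul]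
    · intro hh; exact absurd (Finset.mem_univ _) hh
  · rw [if_neg h]
    apply Finset.sum_eq_zero
    intro m _
    rw [Matrix.single_apply, if_neg (fun hh => h hh.1.symm), zero_mul]

theorem comm_iff {F : Type*} [Field F] {n : ℕ} (G : Matrix (Fin n) (Fin n) F) (i l : Fin n) :
    G * Matrix.transvection i l (1 : F) = Matrix.transvection i l (1 : F) * G ↔
      ∀ k l' : Fin n, (if l' = l then G k i else 0) = (if k = i then G l l' else 0) := by
  unfold Matrix.transvection
  rw [mul_add, add_mul, mul_one, one_mul, add_right_inj]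
  constructor
  · intro h k l'
    have h' := congrFun (congrFun h k) l'
    rw [mul_E, E_mul] at h'
    exact h'
  · intro h
    ext k l'
    rw [mul_E, E_mul]
    exact h k l'

/-- elements of `A` all of whose rows other than row `i` are rows of the identity -/
def rowSub {F : Type*} [Field F] {n : ℕ} (i : Fin n)
    (A : Subgroup (Matrix.SpecialLinearGroup (Fin n) F)) : Subgroup ↥A where
  carrier := {a | ∀ k l, k ≠ i →
    ((a : Matrix.SpecialLinearGroup (Fin n) F) : Matrix (Fin n) (Fin n) F) k l =
      (1 : Matrix (Fin n) (Fin n) F) k l}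
  mul_mem' := by
    intro a b ha hb k l hk
    have hcoe : (((a * b : ↥A) : Matrix.SpecialLinearGroup (Fin n) F) :
        Matrix (Fin n) (Fin n) F) =
        ((a : Matrix.SpecialLinearGroup (Fin n) F) : Matrix (Fin n) (Fin n) F) *
        ((b : Matrix.SpecialLinearGroup (Fin n) F) : Matrix (Fin n) (Fin n) F) := rfl
    rw [hcoe, Matrix.mul_apply]
    have hs : ∑ m, ((a : Matrix.SpecialLinearGroup (Fin n) F) : Matrix (Fin n) (Fin n) F) k m *
        ((b : Matrix.SpecialLinearGroup (Fin n) F) : Matrix (Fin n) (Fin n) F) m l =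
        ∑ m, (1 : Matrix (Fin n) (Fin n) F) k m *
        ((b : Matrix.SpecialLinearGroup (Fin n) F) : Matrix (Fin n) (Fin n) F) m l :=
      Finset.sum_congr rfl (fun m _ => by rw [ha k m hk])
    rw [hs, ← Matrix.mul_apply, Matrix.one_mul]
    exact hb k l hk
  one_mem' := by
    intro k l hk
    rfl
  inv_mem' := by
    intro a ha k l hk
    have hmul : ((a : Matrix.SpecialLinearGroup (Fin n) F) : Matrix (Fin n) (Fin n) F) *
        (((a⁻¹ : ↥A) : Matrix.SpecialLinearGroup (Fin n) F) : Matrix (Fin n) (Fin n) F) = 1 := by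
      have h1 : a * a⁻¹ = 1 := mul_inv_cancel a
      exact congrArg (fun x : ↥A =>
        ((x : Matrix.SpecialLinearGroup (Fin n) F) : Matrix (Fin n) (Fin n) F)) h1
    have hs : ∑ m, ((a : Matrix.SpecialLinearGroup (Fin n) F) : Matrix (Fin n) (Fin n) F) k m *
        (((a⁻¹ : ↥A) : Matrix.SpecialLinearGroup (Fin n) F) : Matrix (Fin n) (Fin n) F) m l =
        ∑ m, (1 : Matrix (Fin n) (Fin n) F) k m *
        (((a⁻¹ : ↥A) : Matrix.SpecialLinearGroup (Fin n) F) : Matrix (Fin n) (Fin n) F) m l :=
      Finset.sum_congr rfl (fun m _ => by rw [ha k m hk])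
    rw [← Matrix.mul_apply, ← Matrix.mul_apply, hmul, Matrix.one_mul] at hs
    exact hs.symm

theorem mem_rowSub {F : Type*} [Field F] {n : ℕ} (i : Fin n)
    (A : Subgroup (Matrix.SpecialLinearGroup (Fin n) F)) (a : ↥A) :
    a ∈ rowSub i A ↔ ∀ k l, k ≠ i →
    ((a : Matrix.SpecialLinearGroup (Fin n) F) : Matrix (Fin n) (Fin n) F) k l =
      (1 : Matrix (Fin n) (Fin n) F) k l := Iff.rfl


/-- Let F be a field with 2 elements, n ≥ 3, and t ∈ SL(n, F) a transvection (t = 1 + E_{ij}, i ≠ j). Then the generalized Fitting subgroup of C(t) is O_2(C(t)). -/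
theorem result {F : Type*} [Field F] [Fintype F] [DecidableEq F] (hF : Fintype.card F = 2) (n : ℕ) (hn : 3 ≤ n) (i j : Fin n) (hij : i ≠ j) (t : Matrix.SpecialLinearGroup (Fin n) F) (ht : (t : Matrix (Fin n) (Fin n) F) = Matrix.transvection i j 1) : Cfsg.generalizedFittingSubgroup ↥(Subgroup.centralizer ({t} : Set (Matrix.SpecialLinearGroup (Fin n) F))) = Cfsg.pCore 2 ↥(Subgroup.centralizer ({t} : Set (Matrix.SpecialLinearGroup (Fin n) F))) := by
  classical
  haveI : Fact (Nat.Prime 2) := ⟨Nat.prime_two⟩
  haveI : Finite (Matrix.SpecialLinearGroup (Fin n) F) :=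
    Finite.of_injective (fun g => (g : Matrix (Fin n) (Fin n) F)) Subtype.val_injective
  have hx1 := eq_one_of_ne_zero hF
  have h2 := one_add_one_zero hF
  have hcol : ∀ g : Matrix.SpecialLinearGroup (Fin n) F,
      g ∈ Subgroup.centralizer ({t} : Set (Matrix.SpecialLinearGroup (Fin n) F)) →
      ∀ k, (g : Matrix (Fin n) (Fin n) F) k i = (1 : Matrix (Fin n) (Fin n) F) k i := by
    intro g hg k
    have hgt : t * g = g * t := Subgroup.mem_centralizer_iff.mp hg t (Set.mem_singleton t)
    have hm : (g : Matrix (Fin n) (Fin n) F) * Matrix.transvection i j 1 =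
        Matrix.transvection i j 1 * (g : Matrix (Fin n) (Fin n) F) := by
      rw [← ht]
      exact (congrArg (fun x : Matrix.SpecialLinearGroup (Fin n) F =>
        (x : Matrix (Fin n) (Fin n) F)) hgt).symm
    rw [comm_iff] at hm
    have hij' : (g : Matrix (Fin n) (Fin n) F) i i = (g : Matrix (Fin n) (Fin n) F) j j := by
      have h' := hm i j
      rw [if_pos rfl, if_pos rfl] at h'
      exact h'
    have hki : ∀ k, (g : Matrix (Fin n) (Fin n) F) k i =
        if k = i then (g : Matrix (Fin n) (Fin n) F) j j else 0 := by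
      intro k
      have h' := hm k j
      rw [if_pos rfl] at h'
      exact h'
    have hii : (g : Matrix (Fin n) (Fin n) F) i i ≠ 0 := by
      intro h0
      have hz : ∀ k, (g : Matrix (Fin n) (Fin n) F) k i = 0 := by
        intro k
        rw [hki k]
        by_cases hk : k = i
        · rw [if_pos hk, ← hij', h0]
        · rw [if_neg hk]
      have hdet := Matrix.det_eq_zero_of_column_eq_zero i hz
      rw [g.det_coe] at hdet
      exact one_ne_zero hdet
    rw [hki k, Matrix.one_apply]
    by_cases hk : k = i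
    · rw [if_pos hk, if_pos hk, ← hij']
      exact hx1 _ hii
    · rw [if_neg hk, if_neg hk]
  obtain ⟨N, hNdef⟩ : ∃ N, N = rowSub i
      (Subgroup.centralizer ({t} : Set (Matrix.SpecialLinearGroup (Fin n) F))) := ⟨_, rfl⟩
  have hmemN : ∀ a : ↥(Subgroup.centralizer ({t} : Set (Matrix.SpecialLinearGroup (Fin n) F))),
      a ∈ N ↔ ∀ k l, k ≠ i →
      ((a : Matrix.SpecialLinearGroup (Fin n) F) : Matrix (Fin n) (Fin n) F) k l =
        (1 : Matrix (Fin n) (Fin n) F) k l := by
    intro a; rw [hNdef]; exact mem_rowSub i _ a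
  have hNn : N.Normal := by
    constructor
    intro g hg a
    rw [hmemN] at hg ⊢
    intro k l hk
    have hcoe : (((a * g * a⁻¹ :
        ↥(Subgroup.centralizer ({t} : Set (Matrix.SpecialLinearGroup (Fin n) F)))) :
        Matrix.SpecialLinearGroup (Fin n) F) : Matrix (Fin n) (Fin n) F) =
        ((a : Matrix.SpecialLinearGroup (Fin n) F) : Matrix (Fin n) (Fin n) F) *
        ((g : Matrix.SpecialLinearGroup (Fin n) F) : Matrix (Fin n) (Fin n) F) *
        (((a⁻¹ : ↥(Subgroup.centralizer ({t} : Set (Matrix.SpecialLinearGroup (Fin n) F)))) :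
          Matrix.SpecialLinearGroup (Fin n) F) : Matrix (Fin n) (Fin n) F) := rfl
    have hinv : ((a : Matrix.SpecialLinearGroup (Fin n) F) : Matrix (Fin n) (Fin n) F) *
        (((a⁻¹ : ↥(Subgroup.centralizer ({t} : Set (Matrix.SpecialLinearGroup (Fin n) F)))) :
          Matrix.SpecialLinearGroup (Fin n) F) : Matrix (Fin n) (Fin n) F) = 1 := by
      have h1 : a * a⁻¹ = 1 := mul_inv_cancel a
      exact congrArg (fun x : ↥(Subgroup.centralizer
        ({t} : Set (Matrix.SpecialLinearGroup (Fin n) F))) =>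
        ((x : Matrix.SpecialLinearGroup (Fin n) F) : Matrix (Fin n) (Fin n) F)) h1
    have hrow : ∀ l', (((a : Matrix.SpecialLinearGroup (Fin n) F) : Matrix (Fin n) (Fin n) F) *
        ((g : Matrix.SpecialLinearGroup (Fin n) F) : Matrix (Fin n) (Fin n) F)) k l' =
        ((a : Matrix.SpecialLinearGroup (Fin n) F) : Matrix (Fin n) (Fin n) F) k l' := by
      intro l'
      rw [Matrix.mul_apply]
      have hs : ∑ m, ((a : Matrix.SpecialLinearGroup (Fin n) F) : Matrix (Fin n) (Fin n) F) k m *
          ((g : Matrix.SpecialLinearGroup (Fin n) F) : Matrix (Fin n) (Fin n) F) m l' =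
          ∑ m, ((a : Matrix.SpecialLinearGroup (Fin n) F) : Matrix (Fin n) (Fin n) F) k m *
          (1 : Matrix (Fin n) (Fin n) F) m l' := by
        apply Finset.sum_congr rfl
        intro m _
        by_cases hm : m = i
        · rw [hm, hcol a.1 a.2 k, Matrix.one_apply_ne hk, zero_mul, zero_mul]
        · rw [hg m l' hm]
      rw [hs, ← Matrix.mul_apply, Matrix.mul_one]
    rw [hcoe, Matrix.mul_apply]
    have hs2 : ∑ m, (((a : Matrix.SpecialLinearGroup (Fin n) F) : Matrix (Fin n) (Fin n) F) *
        ((g : Matrix.SpecialLinearGroup (Fin n) F) : Matrix (Fin n) (Fin n) F)) k m *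
        (((a⁻¹ : ↥(Subgroup.centralizer ({t} : Set (Matrix.SpecialLinearGroup (Fin n) F)))) :
          Matrix.SpecialLinearGroup (Fin n) F) : Matrix (Fin n) (Fin n) F) m l =
        ∑ m, ((a : Matrix.SpecialLinearGroup (Fin n) F) : Matrix (Fin n) (Fin n) F) k m *
        (((a⁻¹ : ↥(Subgroup.centralizer ({t} : Set (Matrix.SpecialLinearGroup (Fin n) F)))) :
          Matrix.SpecialLinearGroup (Fin n) F) : Matrix (Fin n) (Fin n) F) m l :=
      Finset.sum_congr rfl (fun m _ => by rw [hrow m])
    rw [hs2, ← Matrix.mul_apply, hinv]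
  have hN2 : IsPGroup 2 ↥N := by
    intro g
    refine ⟨1, ?_⟩
    rw [pow_one]
    have hrows := (hmemN g.1).mp g.2
    have hGii : ((g.1 : Matrix.SpecialLinearGroup (Fin n) F) : Matrix (Fin n) (Fin n) F) i i = 1 := by
      rw [hcol g.1.1 g.1.2 i, Matrix.one_apply_eq]
    have hM : ((g.1 : Matrix.SpecialLinearGroup (Fin n) F) : Matrix (Fin n) (Fin n) F) *
        ((g.1 : Matrix.SpecialLinearGroup (Fin n) F) : Matrix (Fin n) (Fin n) F) = 1 := by
      ext k l
      rw [Matrix.mul_apply]
      by_cases hk : k = i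
      · rw [hk, ← Finset.add_sum_erase Finset.univ _ (Finset.mem_univ i)]
        have hs : ∑ m ∈ Finset.univ.erase i,
            ((g.1 : Matrix.SpecialLinearGroup (Fin n) F) : Matrix (Fin n) (Fin n) F) i m *
            ((g.1 : Matrix.SpecialLinearGroup (Fin n) F) : Matrix (Fin n) (Fin n) F) m l =
            ∑ m ∈ Finset.univ.erase i,
            ((g.1 : Matrix.SpecialLinearGroup (Fin n) F) : Matrix (Fin n) (Fin n) F) i m *
            (1 : Matrix (Fin n) (Fin n) F) m l := by
          apply Finset.sum_congr rfl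
          intro m hm
          rw [hrows m l (Finset.ne_of_mem_erase hm)]
        rw [hs, hGii, one_mul]
        by_cases hl : l = i
        · rw [hl, hGii, Finset.sum_eq_zero, add_zero, Matrix.one_apply_eq]
          intro m hm
          rw [Matrix.one_apply_ne (Finset.ne_of_mem_erase hm), mul_zero]
        · rw [Finset.sum_eq_single l, Matrix.one_apply_eq, mul_one,
            Matrix.one_apply_ne (Ne.symm hl)]
          · have h3 : ((g.1 : Matrix.SpecialLinearGroup (Fin n) F) : Matrix (Fin n) (Fin n) F) i l +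
                ((g.1 : Matrix.SpecialLinearGroup (Fin n) F) : Matrix (Fin n) (Fin n) F) i l =
                (1 + 1) * ((g.1 : Matrix.SpecialLinearGroup (Fin n) F) : Matrix (Fin n) (Fin n) F) i l := by
              ring
            rw [h3, h2, zero_mul]
          · intro m _ hml
            rw [Matrix.one_apply_ne hml, mul_zero]
          · intro hh
            exact absurd (Finset.mem_erase.mpr ⟨hl, Finset.mem_univ _⟩) hh
      · have hs : ∑ m, ((g.1 : Matrix.SpecialLinearGroup (Fin n) F) : Matrix (Fin n) (Fin n) F) k m *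
            ((g.1 : Matrix.SpecialLinearGroup (Fin n) F) : Matrix (Fin n) (Fin n) F) m l =
            ∑ m, (1 : Matrix (Fin n) (Fin n) F) k m *
            ((g.1 : Matrix.SpecialLinearGroup (Fin n) F) : Matrix (Fin n) (Fin n) F) m l :=
          Finset.sum_congr rfl (fun m _ => by rw [hrows k m hk])
        rw [hs, ← Matrix.mul_apply, Matrix.one_mul]
        exact hrows k l hk
    have hA : g.1 * g.1 = 1 := Subtype.ext (Subtype.ext hM)
    apply Subtype.ext
    show g.1 ^ 2 = 1
    rw [pow_two]; exact hA
  have hNle : (N : Set ↥(Subgroup.centralizer ({t} : Set (Matrix.SpecialLinearGroup (Fin n) F)))) ⊆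
      Cfsg.pCore 2 ↥(Subgroup.centralizer ({t} : Set (Matrix.SpecialLinearGroup (Fin n) F))) := by
    have hle : N ≤ Cfsg.pCore 2 ↥(Subgroup.centralizer
        ({t} : Set (Matrix.SpecialLinearGroup (Fin n) F))) := le_sSup ⟨hNn, hN2⟩
    exact hle
  have hcent : Subgroup.centralizer (N : Set ↥(Subgroup.centralizer
      ({t} : Set (Matrix.SpecialLinearGroup (Fin n) F)))) ≤ N := by
    intro a ha
    rw [hmemN]
    intro k l hk
    have hdet : (Matrix.transvection i k (1 : F)).det = 1 :=
      Matrix.det_transvection_of_ne i k (Ne.symm hk) 1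
    have hT1 : ∀ k', Matrix.transvection i j (1 : F) k' i = (1 : Matrix (Fin n) (Fin n) F) k' i := by
      intro k'
      unfold Matrix.transvection
      rw [Matrix.add_apply, Matrix.single_apply, if_neg (fun h => hij h.2.symm), add_zero]
    have hT2 : ∀ l', Matrix.transvection i j (1 : F) k l' = (1 : Matrix (Fin n) (Fin n) F) k l' := by
      intro l'
      unfold Matrix.transvection
      rw [Matrix.add_apply, Matrix.single_apply, if_neg (fun h => hk h.1.symm), add_zero]
    obtain ⟨τ, hτ⟩ : ∃ τ : Matrix.SpecialLinearGroup (Fin n) F,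
        (τ : Matrix (Fin n) (Fin n) F) = Matrix.transvection i k (1 : F) := ⟨⟨_, hdet⟩, rfl⟩
    have hτA : τ ∈ Subgroup.centralizer ({t} : Set (Matrix.SpecialLinearGroup (Fin n) F)) := by
      refine Subgroup.mem_centralizer_iff.mpr ?_
      intro h hh
      rw [Set.mem_singleton_iff] at hh
      rw [hh]
      apply Subtype.ext
      show (t : Matrix (Fin n) (Fin n) F) * (τ : Matrix (Fin n) (Fin n) F) =
        (τ : Matrix (Fin n) (Fin n) F) * (t : Matrix (Fin n) (Fin n) F)
      rw [hτ, comm_iff, ht]
      intro k' l'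
      rw [hT1 k', hT2 l']
      by_cases h1 : l' = k
      · by_cases h2' : k' = i
        · rw [if_pos h1, if_pos h2', h1, h2', Matrix.one_apply_eq, Matrix.one_apply_eq]
        · rw [if_pos h1, if_neg h2', Matrix.one_apply_ne h2']
      · by_cases h2' : k' = i
        · rw [if_neg h1, if_pos h2', Matrix.one_apply_ne (fun h => h1 h.symm)]
        · rw [if_neg h1, if_neg h2']
    have hτN : (⟨τ, hτA⟩ :
        ↥(Subgroup.centralizer ({t} : Set (Matrix.SpecialLinearGroup (Fin n) F)))) ∈ N := by
      refine (hmemN _).mpr ?_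
      intro k' l' hk'
      show (τ : Matrix (Fin n) (Fin n) F) k' l' = _
      rw [hτ]
      unfold Matrix.transvection
      rw [Matrix.add_apply, Matrix.single_apply, if_neg (fun h => hk' h.1.symm), add_zero]
    have hc := Subgroup.mem_centralizer_iff.mp ha _ hτN
    have hcm0 : ((a : Matrix.SpecialLinearGroup (Fin n) F) : Matrix (Fin n) (Fin n) F) *
        (τ : Matrix (Fin n) (Fin n) F) = (τ : Matrix (Fin n) (Fin n) F) *
        ((a : Matrix.SpecialLinearGroup (Fin n) F) : Matrix (Fin n) (Fin n) F) :=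
      (congrArg (fun x : ↥(Subgroup.centralizer
        ({t} : Set (Matrix.SpecialLinearGroup (Fin n) F))) =>
        ((x : Matrix.SpecialLinearGroup (Fin n) F) : Matrix (Fin n) (Fin n) F)) hc).symm
    have hcm : ((a : Matrix.SpecialLinearGroup (Fin n) F) : Matrix (Fin n) (Fin n) F) *
        Matrix.transvection i k (1 : F) = Matrix.transvection i k (1 : F) *
        ((a : Matrix.SpecialLinearGroup (Fin n) F) : Matrix (Fin n) (Fin n) F) := by
      rw [← hτ]; exact hcm0
    rw [comm_iff] at hcm
    have h3 := hcm i l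
    rw [if_pos rfl] at h3
    rw [← h3, hcol a.1 a.2 i, Matrix.one_apply_eq, Matrix.one_apply]
    by_cases h : l = k
    · rw [if_pos h, if_pos h.symm]
    · rw [if_neg h, if_neg (fun h' => h h'.symm)]
  have hC : IsPGroup 2 ↥(Subgroup.centralizer (N : Set ↥(Subgroup.centralizer
      ({t} : Set (Matrix.SpecialLinearGroup (Fin n) F))))) := hN2.to_le hcent
  have h1 := Cfsg.Agent.Lib.helper7.fsP_of_centralizer (p := 2)
    (N : Set ↥(Subgroup.centralizer ({t} : Set (Matrix.SpecialLinearGroup (Fin n) F))))
    hNle (hC.to_subgroup _)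
  exact Cfsg.Agent.Lib.helper7.fsP_iff.mp h1

end Cfsg.Agent.S1339
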