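import Mathlib
import Cfsg.Statements.S1340
import Cfsg.Agent.Lib.helper13.SLSimple
import Cfsg.Agent.Lib.helper7.QS
import Cfsg.Agent.Lib.helper9.PPrimeCore

set_option autoImplicit false
open Cfsg

namespace Cfsg.Agent.S1340

/-- A nontrivial homomorphic image of a quasisimple group is quasisimple. -/
theorem qs_image {L Q : Type*} [Group L] [Group Q] (hL : Cfsg.IsQuasisimple L) (g : L →* Q)
    (hg : Function.Surjective g) [Nontrivial Q] : Cfsg.IsQuasisimple Q := by
  rw [Cfsg.Agent.Lib.helper7.qs_iff] at hL ⊢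
  obtain ⟨hp, -, hN⟩ := hL
  refine ⟨?_, inferInstance, ?_⟩
  · have := Subgroup.map_commutator (⊤ : Subgroup L) ⊤ g
    rw [← commutator_def, hp] at this
    have ht : (⊤ : Subgroup L).map g = ⊤ := Subgroup.map_top_of_surjective _ hg
    rw [ht] at this
    rw [commutator_def, ← this]
  · intro N hNn
    rcases hN (N.comap g) (hNn.comap _) with ht | hle
    · left
      rw [← Subgroup.map_comap_eq_self_of_surjective hg N, ht]
      exact Subgroup.map_top_of_surjective _ hg
    · right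
      intro y hy
      rw [Subgroup.mem_center_iff]
      intro q
      obtain ⟨x, rfl⟩ := hg y
      obtain ⟨l, rfl⟩ := hg q
      have hx : x ∈ Subgroup.center L := hle hy
      rw [← map_mul, ← map_mul, Subgroup.mem_center_iff.1 hx l]

theorem abs_component {G L : Type*} [Group G] [Finite G] [Group L] (hL : Cfsg.IsQuasisimple L)
    (t : G) (ι : L →* G) (h1 : ∀ a, ι a * t = t * ι a)
    (h2 : ∀ c : G, c * t = t * c → ∀ a, ∃ a', c * ι a * c⁻¹ = ι a')
    (h3 : ∃ a, orderOf (ι a) = 2) :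
    Cfsg.HasComponent (↥(Subgroup.centralizer ({t} : Set G)) ⧸
      Cfsg.oddCore ↥(Subgroup.centralizer ({t} : Set G))) := by
  set C := Subgroup.centralizer ({t} : Set G) with hC
  have hmem : ∀ a, ι a ∈ C := by
    intro a
    rw [hC, Subgroup.mem_centralizer_iff]
    intro h hh
    rw [Set.mem_singleton_iff] at hh
    rw [hh]
    exact (h1 a).symm
  let ι' : L →* C := ι.codRestrict C hmem
  let f : L →* C ⧸ Cfsg.oddCore C := (QuotientGroup.mk' (Cfsg.oddCore C)).comp ι'
  refine ⟨f.range, ?_, ?_⟩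
  · apply Subgroup.Normal.isSubnormal
    constructor
    intro x hx q
    obtain ⟨a, rfl⟩ := hx
    obtain ⟨c, rfl⟩ := QuotientGroup.mk_surjective q
    have hc : (c : G) * t = t * (c : G) := by
      have := Subgroup.mem_centralizer_iff.1 c.2 t (Set.mem_singleton t)
      exact this.symm
    obtain ⟨a', ha'⟩ := h2 (c : G) hc a
    refine ⟨a', ?_⟩
    show (QuotientGroup.mk (ι' a') : C ⧸ Cfsg.oddCore C) =
      QuotientGroup.mk c * QuotientGroup.mk (ι' a) * (QuotientGroup.mk c)⁻¹
    rw [← QuotientGroup.mk_inv, ← QuotientGroup.mk_mul, ← QuotientGroup.mk_mul]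
    congr 1
    apply Subtype.ext
    show ι a' = (c : G) * ι a * (c : G)⁻¹
    exact ha'.symm
  · obtain ⟨a, ha⟩ := h3
    have hne : f a ≠ 1 := by
      intro h
      have h' : ι' a ∈ Cfsg.oddCore C := by
        have : (QuotientGroup.mk (ι' a) : C ⧸ Cfsg.oddCore C) = 1 := h
        exact (QuotientGroup.eq_one_iff _).1 this
      have hcop := Cfsg.Agent.Lib.helper9.pPrimeCore_coprime 2 C
      have hord : orderOf (ι' a) = 2 := by
        rw [← Subgroup.orderOf_coe]
        exact ha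
      have hd := orderOf_dvd_natCard (⟨ι' a, h'⟩ : Cfsg.oddCore C)
      rw [Subgroup.orderOf_mk, hord] at hd
      have : Nat.gcd (Nat.card (Cfsg.pPrimeCore 2 C)) 2 = 2 := Nat.gcd_eq_right hd
      rw [Nat.Coprime] at hcop
      omega
    have : Nontrivial f.range := ⟨⟨⟨f a, a, rfl⟩, 1, fun h => hne (congrArg Subtype.val h)⟩⟩
    exact qs_image hL f.rangeRestrict f.rangeRestrict_surjective

section mat

theorem two_ne_zero_of_odd {F : Type*} [Field F] [Fintype F] (hF : Odd (Fintype.card F)) :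
    (2 : F) ≠ 0 := by
  intro h
  have h2 : addOrderOf (1 : F) = 2 :=
    addOrderOf_eq_prime (by rw [two_nsmul, one_add_one_eq_two]; exact h) one_ne_zero
  have hd := addOrderOf_dvd_card (x := (1 : F))
  rw [h2] at hd
  obtain ⟨k, hk⟩ := hF
  omega

theorem exists_sq_ne_one' {F : Type*} [Field F] (hF : 4 ≤ Nat.card F) :
    ∃ a : F, a ≠ 0 ∧ a ^ 2 ≠ 1 := by
  have : Finite F := (Nat.card_pos_iff.1 (by omega)).2
  obtain ⟨x, hx⟩ : IsCyclic Fˣ := by infer_instance
  refine ⟨x, Units.ne_zero x, fun h ↦ ?_⟩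
  grw [Nat.card_eq_card_units_add_one F, ← orderOf_eq_card_of_forall_mem_zpowers hx,
    orderOf_le_of_pow_eq_one zero_lt_two (Units.ext <| by simpa using h)] at hF
  omega

theorem sl_qs {F : Type*} [Field F] [Fintype F] (m : ℕ) (hm : 2 ≤ m)
    (h : m = 2 → 4 ≤ Fintype.card F) :
    Cfsg.IsQuasisimple (Matrix.SpecialLinearGroup (Fin m) F) := by
  rcases Nat.lt_or_ge m 3 with h3 | h3
  · have hm2 : m = 2 := by omega
    subst hm2
    have hF : 4 ≤ Nat.card F := by rw [Nat.card_eq_fintype_card]; exact h rfl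
    obtain ⟨a, ha, hasq⟩ := exists_sq_ne_one' hF
    exact ⟨⟨Matrix.SL2.commutator_eq_top ha hasq⟩,
      Matrix.ProjectiveSpecialLinearGroup.rank_two_simple hF⟩
  · have hc : 3 ≤ Fintype.card (Fin m) := by simpa using h3
    exact ⟨⟨Cfsg.Agent.Lib.helper13.SLSimple.commutator_eq_top hc⟩,
      Cfsg.Agent.Lib.helper13.SLSimple.PSL_simple hc⟩

variable (F : Type*) [Field F] (m : ℕ)

/-- reindexing from block form to `Fin (1 + m)` -/
noncomputable def Phi :
    Matrix (Fin 1 ⊕ Fin m) (Fin 1 ⊕ Fin m) F ≃ₐ[F] Matrix (Fin (1 + m)) (Fin (1 + m)) F :=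
  Matrix.reindexAlgEquiv F F finSumFinEquiv

/-- the block embedding `A ↦ diag(1, A)` -/
def beta : Matrix (Fin m) (Fin m) F →* Matrix (Fin 1 ⊕ Fin m) (Fin 1 ⊕ Fin m) F where
  toFun A := Matrix.fromBlocks 1 0 0 A
  map_one' := Matrix.fromBlocks_one
  map_mul' A B := by simp [Matrix.fromBlocks_multiply]

/-- the matrix `diag(-1, 1)` in block form -/
def Dm : Matrix (Fin 1 ⊕ Fin m) (Fin 1 ⊕ Fin m) F := Matrix.fromBlocks (-1) 0 0 1

theorem Dm_sq : Dm F m * Dm F m = 1 := by
  simp [Dm, Matrix.fromBlocks_multiply]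

/-- the involution `diag(-1, 1, …, 1)` -/
noncomputable def tInv : Matrix.GeneralLinearGroup (Fin (1 + m)) F where
  val := Phi F m (Dm F m)
  inv := Phi F m (Dm F m)
  val_inv := by rw [← map_mul, Dm_sq, map_one]
  inv_val := by rw [← map_mul, Dm_sq, map_one]

/-- the embedding of `SL_m` into `GL_{1+m}` -/
noncomputable def iota0 : Matrix.SpecialLinearGroup (Fin m) F →* Matrix.GeneralLinearGroup (Fin (1 + m)) F :=
  (Units.map (((Phi F m).toRingEquiv.toMulEquiv.toMonoidHom).comp (beta F m))).comp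
    Matrix.SpecialLinearGroup.toGL

theorem iota0_val (A : Matrix.SpecialLinearGroup (Fin m) F) :
    ((iota0 F m A : Matrix.GeneralLinearGroup (Fin (1 + m)) F) : Matrix (Fin (1 + m)) (Fin (1 + m)) F)
      = Phi F m (Matrix.fromBlocks 1 0 0 (A : Matrix (Fin m) (Fin m) F)) := rfl

theorem iota0_comm (A : Matrix.SpecialLinearGroup (Fin m) F) :
    iota0 F m A * tInv F m = tInv F m * iota0 F m A := by
  apply Units.ext
  show Phi F m (Matrix.fromBlocks 1 0 0 (A : Matrix (Fin m) (Fin m) F)) * Phi F m (Dm F m)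
    = Phi F m (Dm F m) * Phi F m (Matrix.fromBlocks 1 0 0 (A : Matrix (Fin m) (Fin m) F))
  rw [← map_mul, ← map_mul]
  congr 1
  simp [Dm, Matrix.fromBlocks_multiply]

variable {F m}

theorem block_diag (h2 : (2 : F) ≠ 0) (X : Matrix (Fin 1 ⊕ Fin m) (Fin 1 ⊕ Fin m) F)
    (h : X * Dm F m = Dm F m * X) : ∃ A D', X = Matrix.fromBlocks A 0 0 D' := by
  obtain ⟨A, B, C, D', rfl⟩ : ∃ A B C D', X = Matrix.fromBlocks A B C D' :=
    ⟨_, _, _, _, (Matrix.fromBlocks_toBlocks X).symm⟩
  simp only [Dm, Matrix.fromBlocks_multiply, Matrix.fromBlocks_inj] at h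
  obtain ⟨-, hB, hC, -⟩ := h
  have hB0 : B = 0 := by
    ext i j
    have := congrFun (congrFun hB i) j
    simp at this
    have h' : 2 * B i j = 0 := by linear_combination this
    rcases mul_eq_zero.1 h' with h'' | h''
    · exact absurd h'' h2
    · exact h''
  have hC0 : C = 0 := by
    ext i j
    have := congrFun (congrFun hC i) j
    simp at this
    have h' : 2 * C i j = 0 := by linear_combination -this
    rcases mul_eq_zero.1 h' with h'' | h''
    · exact absurd h'' h2
    · exact h''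
  exact ⟨A, D', by rw [hB0, hC0]⟩

theorem iota0_normal (h2 : (2 : F) ≠ 0) (c : Matrix.GeneralLinearGroup (Fin (1 + m)) F)
    (hc : c * tInv F m = tInv F m * c) (A : Matrix.SpecialLinearGroup (Fin m) F) :
    ∃ A', c * iota0 F m A * c⁻¹ = iota0 F m A' := by
  set X := (Phi F m).symm (c : Matrix (Fin (1 + m)) (Fin (1 + m)) F) with hX
  set Y := (Phi F m).symm ((c⁻¹ : Matrix.GeneralLinearGroup (Fin (1 + m)) F) :
    Matrix (Fin (1 + m)) (Fin (1 + m)) F) with hY
  have hPX : Phi F m X = (c : Matrix (Fin (1 + m)) (Fin (1 + m)) F) := by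
    rw [hX, AlgEquiv.apply_symm_apply]
  have hPY : Phi F m Y = ((c⁻¹ : Matrix.GeneralLinearGroup (Fin (1 + m)) F) :
      Matrix (Fin (1 + m)) (Fin (1 + m)) F) := by
    rw [hY, AlgEquiv.apply_symm_apply]
  have hXD : X * Dm F m = Dm F m * X := by
    apply (Phi F m).injective
    rw [map_mul, map_mul, hPX]
    exact congrArg Units.val hc
  have hc' : c⁻¹ * tInv F m = tInv F m * c⁻¹ := by
    have : Commute c (tInv F m) := hc
    exact this.inv_left.eq
  have hYD : Y * Dm F m = Dm F m * Y := by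
    apply (Phi F m).injective
    rw [map_mul, map_mul, hPY]
    exact congrArg Units.val hc'
  have hXY : X * Y = 1 := by
    apply (Phi F m).injective
    rw [map_mul, hPX, hPY, map_one]
    exact c.val_inv
  obtain ⟨X1, X2, hXb⟩ := block_diag h2 X hXD
  obtain ⟨Y1, Y2, hYb⟩ := block_diag h2 Y hYD
  rw [hXb, hYb, Matrix.fromBlocks_multiply, ← Matrix.fromBlocks_one, Matrix.fromBlocks_inj] at hXY
  simp only [Matrix.mul_zero, Matrix.zero_mul, add_zero, zero_add, true_and] at hXY
  obtain ⟨h11, h22⟩ := hXY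
  have hdet : (X2 * (A : Matrix (Fin m) (Fin m) F) * Y2).det = 1 := by
    rw [Matrix.det_mul, Matrix.det_mul, A.2, mul_one, ← Matrix.det_mul, h22, Matrix.det_one]
  refine ⟨⟨X2 * (A : Matrix (Fin m) (Fin m) F) * Y2, hdet⟩, ?_⟩
  apply Units.ext
  show (c : Matrix (Fin (1 + m)) (Fin (1 + m)) F) *
      Phi F m (Matrix.fromBlocks 1 0 0 (A : Matrix (Fin m) (Fin m) F)) *
      ((c⁻¹ : Matrix.GeneralLinearGroup (Fin (1 + m)) F) : Matrix (Fin (1 + m)) (Fin (1 + m)) F)
    = Phi F m (Matrix.fromBlocks 1 0 0 (X2 * (A : Matrix (Fin m) (Fin m) F) * Y2))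
  rw [← hPX, ← hPY, ← map_mul, ← map_mul, hXb, hYb]
  congr 1
  simp [Matrix.fromBlocks_multiply, h11]


variable (F m) in
theorem tInv_order (h2 : (2 : F) ≠ 0) : orderOf (tInv F m) = 2 := by
  apply orderOf_eq_prime
  · apply Units.ext
    rw [pow_two]
    show Phi F m (Dm F m) * Phi F m (Dm F m) = 1
    rw [← map_mul, Dm_sq, map_one]
  · intro h
    have h' : Phi F m (Dm F m) = 1 := congrArg Units.val h
    rw [← map_one (Phi F m)] at h'
    have h'' := (Phi F m).injective h'
    rw [Dm, ← Matrix.fromBlocks_one, Matrix.fromBlocks_inj] at h''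
    have := congrFun (congrFun h''.1 0) 0
    simp at this
    exact h2 (by linear_combination (-1 : F) * this)

theorem tInv_not_center (h2 : (2 : F) ≠ 0) (hm : 0 < m) :
    tInv F m ∉ Subgroup.center (Matrix.GeneralLinearGroup (Fin (1 + m)) F) := by
  intro hc
  rw [Subgroup.mem_center_iff] at hc
  let E : Matrix (Fin 1) (Fin m) F := fun _ _ => 1
  let g : Matrix.GeneralLinearGroup (Fin (1 + m)) F :=
    ⟨Phi F m (Matrix.fromBlocks 1 E 0 1), Phi F m (Matrix.fromBlocks 1 (-E) 0 1),
      by rw [← map_mul]; simp [Matrix.fromBlocks_multiply],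
      by rw [← map_mul]; simp [Matrix.fromBlocks_multiply]⟩
  have hg := hc g
  have h' : Matrix.fromBlocks 1 E 0 1 * Dm F m = Dm F m * Matrix.fromBlocks 1 E 0 1 := by
    apply (Phi F m).injective
    rw [map_mul, map_mul]
    exact congrArg Units.val hg
  obtain ⟨A, D', hb⟩ := block_diag h2 _ h'
  rw [Matrix.fromBlocks_inj] at hb
  have := congrFun (congrFun hb.2.1 0) ⟨0, hm⟩
  simp [E] at this

/-- diagonal entries `(-1, -1, 1, …, 1)` -/
def dvec (F : Type*) [Field F] (k : ℕ) : Fin (k + 2) → F :=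
  Fin.cons (-1) (Fin.cons (-1) (fun _ => 1))

theorem dvec_sq (F : Type*) [Field F] (k : ℕ) (i : Fin (k + 2)) : dvec F k i * dvec F k i = 1 := by
  refine Fin.cases ?_ (fun j => ?_) i
  · simp [dvec]
  · refine Fin.cases ?_ (fun l => ?_) j
    · simp [dvec]
    · simp [dvec]

theorem dvec_prod (F : Type*) [Field F] (k : ℕ) : ∏ i, dvec F k i = 1 := by
  simp [dvec, Fin.prod_univ_succ]

/-- an involution of `SL_{k+2}` -/
def aInv (F : Type*) [Field F] (k : ℕ) : Matrix.SpecialLinearGroup (Fin (k + 2)) F :=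
  ⟨Matrix.diagonal (dvec F k), by rw [Matrix.det_diagonal, dvec_prod]⟩

theorem iota0_aInv_order {F : Type*} [Field F] (k : ℕ) (h2 : (2 : F) ≠ 0) :
    orderOf (iota0 F (k + 2) (aInv F k)) = 2 := by
  apply orderOf_eq_prime
  · rw [← map_pow]
    have : aInv F k ^ 2 = 1 := by
      apply Subtype.ext
      rw [pow_two]
      show Matrix.diagonal (dvec F k) * Matrix.diagonal (dvec F k) = 1
      rw [Matrix.diagonal_mul_diagonal]
      have : (fun i => dvec F k i * dvec F k i) = fun _ => 1 := funext (dvec_sq F k)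
      rw [this, Matrix.diagonal_one]
    rw [this, map_one]
  · intro h
    have h' : Phi F (k + 2) (Matrix.fromBlocks 1 0 0 (Matrix.diagonal (dvec F k))) = 1 :=
      congrArg Units.val h
    rw [← map_one (Phi F (k + 2))] at h'
    have h'' := (Phi F (k + 2)).injective h'
    rw [← Matrix.fromBlocks_one, Matrix.fromBlocks_inj] at h''
    have := congrFun (congrFun h''.2.2.2 0) 0
    simp [dvec] at this
    exact h2 (by linear_combination (-1 : F) * this)

end mat

/-- Let F be a finite field of odd order and n ≥ 3 with (n, |F|) ≠ (3, 3). Then GL(n, F) has a non-central involution t such that C(t) / O(C(t)) has a component. -/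
theorem result {F : Type*} [Field F] [Fintype F] [DecidableEq F] (hF : Odd (Fintype.card F)) (n : ℕ) (hn : 3 ≤ n) (h33 : ¬ (n = 3 ∧ Fintype.card F = 3)) : ∃ t : Matrix.GeneralLinearGroup (Fin n) F, orderOf t = 2 ∧ t ∉ Subgroup.center (Matrix.GeneralLinearGroup (Fin n) F) ∧ Cfsg.HasComponent (↥(Subgroup.centralizer ({t} : Set (Matrix.GeneralLinearGroup (Fin n) F))) ⧸ Cfsg.oddCore ↥(Subgroup.centralizer ({t} : Set (Matrix.GeneralLinearGroup (Fin n) F)))) := by
  obtain ⟨k, rfl⟩ : ∃ k, n = 1 + (k + 2) := ⟨n - 3, by omega⟩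
  have h2 := two_ne_zero_of_odd hF
  refine ⟨tInv F (k + 2), tInv_order F (k + 2) h2, tInv_not_center h2 (by omega), ?_⟩
  have hqs : Cfsg.IsQuasisimple (Matrix.SpecialLinearGroup (Fin (k + 2)) F) := by
    apply sl_qs (k + 2) (by omega)
    intro hk
    have h3 : Fintype.card F ≠ 3 := fun h => h33 ⟨by omega, h⟩
    have h1 : 1 < Fintype.card F := Fintype.one_lt_card
    obtain ⟨j, hj⟩ := hF
    omega
  exact abs_component hqs (tInv F (k + 2)) (iota0 F (k + 2)) (iota0_comm F (k + 2))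
    (fun c hc A => iota0_normal h2 c hc A) ⟨aInv F k, iota0_aInv_order k h2⟩

end Cfsg.Agent.S1340
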