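import Cfsg.Statements.S1454

import Mathlib
import Cfsg.Agent.Lib.helper8.S1454T
import Cfsg.Agent.Lib.helper8.S1454T1
import Cfsg.Agent.Lib.helper21.S1454T2
import Cfsg.Agent.Lib.helper14.S1454T3b
set_option autoImplicit false
open Cfsg

namespace Cfsg.Agent.S1454

/-- Let G be a finite group, p an odd prime, R a narrow p-subgroup and A a solvable subgroup of odd order normalizing R with A ∩ C_G(R) = 1. Then [A, A] ≤ O_p(A) and the index of O_p(A) in A is coprime to p; if R has an elementary abelian subgroup of order p ^ 3 then the order of every element of A of order coprime to p divides p − 1; and if the order of A is a prime not dividing p(p − 1), then 2·#A divides p + 1, and if in addition [R, A] = R and R is non-abelian then #R = p ^ 3. -/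
theorem result {G : Type*} [Group G] [Finite G] (p : ℕ) [Fact p.Prime] (hp : p ≠ 2) (R A : Subgroup G) (hR : IsPGroup p R) (hRn : Cfsg.IsNarrow p R)
    (hA : (A ≤ Subgroup.normalizer (R : Set G))) (hAs : Group.IsSolvable A) (hAodd : Odd (Nat.card A)) (hfaith : A ⊓ Subgroup.centralizer (R : Set G) = ⊥) :
    (commutator ↥A ≤ Cfsg.pCore p ↥A ∧ ((Cfsg.pCore p ↥A).index).Coprime p) ∧
      (¬ Cfsg.PRankLE p 2 R → ∀ a ∈ A, (orderOf a).Coprime p → orderOf a ∣ p - 1) ∧
      ((Nat.card A).Prime → ¬ Nat.card A ∣ p * (p - 1) →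
        2 * Nat.card A ∣ p + 1 ∧ (⁅R, A⁆ = R → ¬ IsMulCommutative R → Nat.card R = p ^ 3)) := by

  have hpp : p.Prime := Fact.out
  refine ⟨?_, ?_, ?_⟩
  · apply Cfsg.Agent.Lib.helper8.S1454T.part_one_wrap p
    intro g hg hcop
    have h1 : (g : G) ∈ ⁅A, A⁆ := by
      have hle : (commutator ↥A).map A.subtype ≤ ⁅A, A⁆ := by
        rw [commutator_def, Subgroup.map_commutator]
        exact Subgroup.commutator_mono (Subgroup.map_subtype_le _) (Subgroup.map_subtype_le _)
      exact hle ⟨g, hg, rfl⟩
    have h2 := Cfsg.Agent.Lib.helper8.S1454T1.part_one_core p hp R A hR hRn hA hAs hAodd hfaith (g : G) h1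
      (by rwa [Subgroup.orderOf_coe])
    exact Subtype.ext h2
  · intro hr3 a ha hcop
    exact Cfsg.Agent.Lib.helper21.S1454T2.part_two p hp R A hR hRn hA hAs hAodd hfaith hr3 a ha hcop
  · intro hq hq1
    have hr2 : Cfsg.PRankLE p 2 R := by
      by_contra hr3
      have hne : A ≠ ⊥ := by
        intro h
        rw [h, Subgroup.card_bot] at hq
        exact Nat.not_prime_one hq
      obtain ⟨a, ha1⟩ := (Subgroup.ne_bot_iff_exists_ne_one.mp hne)
      have haA : (a : G) ∈ A := a.2
      have ha1' : (a : G) ≠ 1 := fun h => ha1 (Subtype.ext h)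
      have hord : orderOf (a : G) = Nat.card A := by
        have h := Subgroup.orderOf_dvd_natCard A haA
        rcases (Nat.dvd_prime hq).mp h with h1 | h1
        · exact absurd (orderOf_eq_one_iff.mp h1) ha1'
        · exact h1
      have hcop : (orderOf (a : G)).Coprime p := by
        rw [hord]
        refine (Nat.coprime_primes hq hpp).mpr ?_
        intro h
        exact hq1 (h ▸ Dvd.intro _ rfl)
      have h3 := Cfsg.Agent.Lib.helper21.S1454T2.part_two p hp R A hR hRn hA hAs hAodd hfaith hr3 (a : G) haA hcop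
      rw [hord] at h3
      exact hq1 (Dvd.dvd.mul_left h3 p)
    exact ⟨Cfsg.Agent.Lib.helper8.S1454T.part_three_a p hp R A hR hr2 hA hAodd hfaith hq hq1,
      fun hRA hnc => Cfsg.Agent.Lib.helper14.S1454T3b.part_three_b p hp R A hR hr2 hA hAodd hfaith hq hq1 hRA hnc⟩

end Cfsg.Agent.S1454
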