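import Cfsg.Statements.S3634
import Mathlib

set_option autoImplicit false
open Cfsg

namespace Cfsg.Agent.S3634

section frob
variable {F A : Type*} [Group F] [CommGroup A]

theorem conj_pow' (h x : F) (i : ℕ) : (h⁻¹ * x * h) ^ i = h⁻¹ * x ^ i * h := by
  induction i with
  | zero => simp
  | succ n ih => rw [pow_succ, ih, pow_succ]; group

/-- the norm of a fixed-point-free automorphism of finite order is trivial -/
theorem norm_eq_one (φ : F →* MulAut A) (y : F) (r : ℕ) (hyr : y ^ r = 1)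
    (hf : ∀ a : A, φ y a = a → a = 1) (a : A) :
    ∏ i ∈ Finset.range r, φ (y ^ i) a = 1 := by
  apply hf
  rw [map_prod]
  have h1 : ∀ i, φ y (φ (y ^ i) a) = φ (y ^ (i + 1)) a := by
    intro i
    rw [pow_succ', map_mul]; rfl
  simp_rw [h1]
  have h2 := Finset.prod_range_succ' (fun i => φ (y ^ i) a) r
  have h3 := Finset.prod_range_succ (fun i => φ (y ^ i) a) r
  rw [h3] at h2
  simp only [hyr, pow_zero] at h2
  exact (mul_right_cancel h2).symm

/-- A group `Q` normalised by a fixed-point-free element `x` of prime order, both acting on an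
abelian group `A` of coprime order with `x` fixed-point-free on `A`: then `Q` acts trivially. -/
theorem frob_act [Finite A] (φ : F →* MulAut A)
    (Q : Subgroup F) [Finite Q] (hcop : (Nat.card A).Coprime (Nat.card Q))
    (x : F) (r : ℕ) (hr : r.Prime) (hxr : x ^ r = 1)
    (hxQ : x ∈ Subgroup.normalizer (Q : Set F))
    (hfQ : ∀ u ∈ Q, x * u = u * x → u = 1)
    (hfA : ∀ a : A, φ x a = a → a = 1) :
    ∀ u ∈ Q, ∀ a : A, φ u a = a := by
  classical
  let _ : Fintype Q := Fintype.ofFinite Q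
  set S : A → A := fun a => ∏ u : Q, φ (u : F) a with hS
  have hSinv : ∀ a, ∀ v ∈ Q, φ v (S a) = S a := by
    intro a v hv
    simp only [hS, map_prod]
    have : ∀ u : Q, φ v (φ (u : F) a) = φ (((⟨v, hv⟩ : Q) * u : Q) : F) a := by
      intro u
      rw [Subgroup.coe_mul, map_mul]; rfl
    simp_rw [this]
    exact Equiv.prod_comp (Equiv.mulLeft (⟨v, hv⟩ : Q)) (fun u : Q => φ (u : F) a)
  have hNinv : ∀ g ∈ Subgroup.normalizer (Q : Set F), ∀ b : A, (∀ v ∈ Q, φ v b = b) →
      ∀ v ∈ Q, φ v (φ g b) = φ g b := by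
    intro g hg b hb v hv
    have h1 : g⁻¹ * v * g ∈ Q := (Subgroup.mem_normalizer_iff''.mp hg v).mp hv
    have h2 : v * g = g * (g⁻¹ * v * g) := by group
    calc φ v (φ g b) = φ (v * g) b := by rw [map_mul]; rfl
      _ = φ (g * (g⁻¹ * v * g)) b := by rw [h2]
      _ = φ g (φ (g⁻¹ * v * g) b) := by rw [map_mul]; rfl
      _ = φ g b := by rw [hb _ h1]
  have hkey : ∀ g ∈ Subgroup.normalizer (Q : Set F), (∀ u ∈ Q, g * u = u * g → u = 1) →
      ∀ a : A, ∏ h : Q, φ ((h : F)⁻¹ * g * h) a = φ g (S a) := by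
    intro g hg hfg a
    have hc : ∀ h : Q, g⁻¹ * (h : F)⁻¹ * g * h ∈ Q := by
      intro h
      have h1 : g⁻¹ * (h : F)⁻¹ * g ∈ Q :=
        (Subgroup.mem_normalizer_iff''.mp hg _).mp (Q.inv_mem h.2)
      exact Q.mul_mem h1 h.2
    let c : Q → Q := fun h => ⟨g⁻¹ * (h : F)⁻¹ * g * h, hc h⟩
    have hcinj : Function.Injective c := by
      intro h h' hh
      have h1 : g⁻¹ * (h : F)⁻¹ * g * h = g⁻¹ * (h' : F)⁻¹ * g * h' := congrArg Subtype.val hh
      have h3 : (h : F)⁻¹ * g * h = (h' : F)⁻¹ * g * h' := by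
        have := congrArg (fun t => g * t) h1
        simpa [mul_assoc] using this
      have h2 : g * ((h' : F) * (h : F)⁻¹) = ((h' : F) * (h : F)⁻¹) * g := by
        calc g * ((h' : F) * (h : F)⁻¹)
            = (h' : F) * ((h' : F)⁻¹ * g * h') * (h : F)⁻¹ := by group
          _ = (h' : F) * ((h : F)⁻¹ * g * h) * (h : F)⁻¹ := by rw [h3]
          _ = ((h' : F) * (h : F)⁻¹) * g := by group
      have h4 := hfg _ (Q.mul_mem h'.2 (Q.inv_mem h.2)) h2
      have h5 : (h' : F) = h := by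
        rw [mul_inv_eq_one] at h4; exact h4
      exact Subtype.ext h5.symm
    have hcbij : Function.Bijective c := Finite.injective_iff_bijective.mp hcinj
    have h5 : ∀ h : Q, φ ((h : F)⁻¹ * g * h) a = φ g (φ ((c h : Q) : F) a) := by
      intro h
      have : (h : F)⁻¹ * g * h = g * (g⁻¹ * (h : F)⁻¹ * g * h) := by group
      rw [this, map_mul]; rfl
    simp_rw [h5]
    rw [← map_prod]
    congr 1
    exact hcbij.prod_comp (fun u : Q => φ (u : F) a)
  have hxi_norm : ∀ i : ℕ, x ^ i ∈ Subgroup.normalizer (Q : Set F) :=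
    fun i => Subgroup.pow_mem _ hxQ i
  have hxi_fpf : ∀ i : ℕ, 0 < i → i < r → ∀ u ∈ Q, x ^ i * u = u * x ^ i → u = 1 := by
    intro i hi0 hir u hu hcomm
    apply hfQ u hu
    have hcop' : Nat.Coprime i r :=
      ((hr.coprime_iff_not_dvd).mpr (Nat.not_dvd_of_pos_of_lt hi0 hir)).symm
    obtain ⟨m, -, hm⟩ := Nat.exists_mul_mod_eq_one_of_coprime hcop' hr.one_lt
    have hx : (x ^ i) ^ m = x := by
      rw [← pow_mul, pow_eq_pow_mod (i * m) hxr, hm, pow_one]
    have hc : Commute (x ^ i) u := hcomm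
    have := hc.pow_left m
    rw [hx] at this
    exact this
  intro v hv a
  have hone : ∀ h : Q, ∏ i ∈ Finset.range r, φ (((h : F)⁻¹ * x * h) ^ i) a = 1 := by
    intro h
    apply norm_eq_one
    · rw [conj_pow', hxr]; group
    · intro b hb
      have e : φ x (φ (h : F) b) = φ (h : F) b := by
        have := congrArg (φ (h : F)) hb
        rw [← MulAut.mul_apply, ← map_mul] at this
        have h' : (h : F) * ((h : F)⁻¹ * x * h) = x * h := by group
        rw [h', map_mul] at this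
        exact this
      have := hfA _ e
      exact (map_eq_one_iff _ (φ (h : F)).injective).mp this
  have hsum : ∏ h : Q, ∏ i ∈ Finset.range r, φ (((h : F)⁻¹ * x * h) ^ i) a = 1 :=
    Finset.prod_eq_one (fun h _ => hone h)
  rw [Finset.prod_comm] at hsum
  simp_rw [conj_pow'] at hsum
  obtain ⟨r', rfl⟩ : ∃ r', r = r' + 1 := ⟨r - 1, by have := hr.pos; omega⟩
  rw [Finset.prod_range_succ'] at hsum
  have e0 : ∏ h : Q, φ ((h : F)⁻¹ * x ^ 0 * h) a = a ^ Nat.card Q := by
    simp [Nat.card_eq_fintype_card]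
  have e1 : ∀ i ∈ Finset.range r', ∏ h : Q, φ ((h : F)⁻¹ * x ^ (i + 1) * h) a
      = φ (x ^ (i + 1)) (S a) := fun i hi =>
    hkey _ (hxi_norm _) (hxi_fpf (i + 1) (by omega) (by simpa using hi)) a
  rw [Finset.prod_congr rfl e1, e0] at hsum
  have hT : φ v (∏ i ∈ Finset.range r', φ (x ^ (i + 1)) (S a))
      = ∏ i ∈ Finset.range r', φ (x ^ (i + 1)) (S a) := by
    rw [map_prod]
    exact Finset.prod_congr rfl (fun i _ => hNinv _ (hxi_norm _) _ (hSinv a) v hv)
  have hpow : a ^ Nat.card Q = (∏ i ∈ Finset.range r', φ (x ^ (i + 1)) (S a))⁻¹ :=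
    eq_inv_of_mul_eq_one_right hsum
  have h6 : (φ v a) ^ Nat.card Q = a ^ Nat.card Q := by
    rw [← map_pow, hpow, map_inv, hT]
  exact (powCoprime hcop).injective h6

end frob

theorem exists_orderOf_mul {G : Type*} [Group G] [Finite G] {a b : G} (hab : Commute a b)
    {p q : ℕ} (hp : p.Prime) (hq : q.Prime) (hpq : p ≠ q) (ha : p ∣ orderOf a)
    (hb : q ∣ orderOf b) : ∃ x : G, orderOf x = p * q := by
  refine ⟨a ^ (orderOf a / p) * b ^ (orderOf b / q), ?_⟩
  have h1 : orderOf (a ^ (orderOf a / p)) = p := orderOf_pow_orderOf_div (orderOf_pos a).ne' ha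
  have h2 : orderOf (b ^ (orderOf b / q)) = q := orderOf_pow_orderOf_div (orderOf_pos b).ne' hb
  have h3 := (hab.pow_pow (orderOf a / p) (orderOf b / q)).orderOf_mul_eq_mul_orderOf_of_coprime
    (by rw [h1, h2]; exact (Nat.coprime_primes hp hq).mpr hpq)
  rw [h3, h1, h2]

theorem pgroup_dvd_orderOf {G : Type*} [Group G] {p : ℕ} (hp : p.Prime) {H : Subgroup G}
    (hH : IsPGroup p H) {a : G} (ha : a ∈ H) (ha1 : a ≠ 1) : p ∣ orderOf a := by
  have := Fact.mk hp
  obtain ⟨k, hk⟩ := (IsPGroup.iff_orderOf.mp hH) ⟨a, ha⟩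
  rw [Subgroup.orderOf_mk] at hk
  have hk0 : k ≠ 0 := by
    rintro rfl
    rw [pow_zero, orderOf_eq_one_iff] at hk
    exact ha1 hk
  rw [hk]
  exact dvd_pow_self p hk0

/-- The case of a normal `p`-subgroup. -/
theorem normal_case {G : Type*} [Group G] [Finite G] (P M : Subgroup G) [P.Normal] [M.Normal]
    (p q r : ℕ) (hp : p.Prime) (hq : q.Prime) (hr : r.Prime) (hpq : p ≠ q) (hpr : p ≠ r)
    (hqr : q ≠ r) (hP : IsPGroup p P) (hP1 : P ≠ ⊥) (hqM : q ∣ Nat.card M) (hrG : r ∣ M.index) :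
    (∃ x : G, orderOf x = p * q) ∨ (∃ x : G, orderOf x = p * r) ∨ (∃ x : G, orderOf x = q * r) := by
  by_contra hcon
  push Not at hcon
  obtain ⟨hn1, hn2, hn3⟩ := hcon
  have := Fact.mk hp
  have := Fact.mk hq
  have := Fact.mk hr
  let A : Subgroup G := P ⊓ Subgroup.centralizer (P : Set G)
  have hAn : A.Normal := Subgroup.normal_inf_normal _ _
  have hAcomm : ∀ a b : A, a * b = b * a := by
    intro a b
    ext
    have h1 := Subgroup.mem_centralizer_iff.mp a.2.2 (b : G) b.2.1
    exact h1.symm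
  have hApg : IsPGroup p A := hP.to_le inf_le_left
  have hA1 : ∃ a ∈ A, a ≠ 1 := by
    have : Nontrivial P := (Subgroup.nontrivial_iff_ne_bot P).mpr hP1
    have := hP.center_nontrivial
    obtain ⟨z, hz⟩ := exists_ne (1 : Subgroup.center P)
    refine ⟨((z : P) : G), ⟨(z : P).2, ?_⟩, ?_⟩
    · show ((z : P) : G) ∈ Subgroup.centralizer (P : Set G)
      rw [Subgroup.mem_centralizer_iff]
      intro h hh
      have := Subgroup.mem_center_iff.mp z.2 ⟨h, hh⟩
      exact congrArg Subtype.val this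
    · intro h
      apply hz
      ext
      exact h
  obtain ⟨a0, ha0A, ha01⟩ := hA1
  -- the Sylow q-subgroup
  obtain ⟨Q₀⟩ : Nonempty (Sylow q M) := inferInstance
  let Q : Subgroup G := (Q₀ : Subgroup M).map M.subtype
  have hfr : Subgroup.normalizer (Q : Set G) ⊔ M = ⊤ := Sylow.normalizer_sup_eq_top Q₀
  have hQpg : IsPGroup q Q := Q₀.2.map M.subtype
  have hQ1 : ∃ u ∈ Q, u ≠ 1 := by
    have h1 : (Q₀ : Subgroup M) ≠ ⊥ := Q₀.ne_bot_of_dvd_card hqM
    obtain ⟨u, hu⟩ := (Subgroup.ne_bot_iff_exists_ne_one).mp h1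
    refine ⟨((u : M) : G), Subgroup.mem_map_of_mem _ u.2, ?_⟩
    intro h
    apply hu
    ext
    simpa using h
  obtain ⟨u0, hu0Q, hu01⟩ := hQ1
  -- an element of order r normalising Q
  have hr1 : r ∣ Nat.card (Subgroup.normalizer (Q : Set G)) := by
    have h1 : M.relIndex (Subgroup.normalizer (Q : Set G)) = M.index := by
      rw [← Subgroup.relIndex_sup_right, hfr, Subgroup.relIndex_top_right]
    rw [← h1] at hrG
    exact hrG.trans (Subgroup.relIndex_dvd_card _ _)
  obtain ⟨x₀, hx₀⟩ := exists_prime_orderOf_dvd_card' r hr1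
  have hx : orderOf (x₀ : G) = r := by rw [Subgroup.orderOf_coe, hx₀]
  have hxr : (x₀ : G) ^ r = 1 := by rw [← hx]; exact pow_orderOf_eq_one _
  -- coprimality
  have hcop : (Nat.card A).Coprime (Nat.card Q) := by
    obtain ⟨k, hk⟩ := IsPGroup.iff_card.mp hApg
    obtain ⟨j, hj⟩ := IsPGroup.iff_card.mp hQpg
    rw [hk, hj]
    exact Nat.Coprime.pow _ _ ((Nat.coprime_primes hp hq).mpr hpq)
  let _ : CommGroup A := { (inferInstance : Group A) with mul_comm := hAcomm }
  have key := frob_act (F := G) (A := A) (MulAut.conjNormal (H := A)) Q hcop (x₀ : G) r hr hxr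
    x₀.2 ?_ ?_ u0 hu0Q ⟨a0, ha0A⟩
  · have h1 : u0 * a0 * u0⁻¹ = a0 := by
      have := congrArg Subtype.val key
      rwa [MulAut.conjNormal_apply] at this
    have h2 : Commute a0 u0 := by
      show a0 * u0 = u0 * a0
      calc a0 * u0 = (u0 * a0 * u0⁻¹) * u0 := by rw [h1]
        _ = u0 * a0 := by group
    obtain ⟨y, hy⟩ := exists_orderOf_mul h2 hp hq hpq (pgroup_dvd_orderOf hp hApg ha0A ha01)
      (pgroup_dvd_orderOf hq hQpg hu0Q hu01)
    exact hn1 y hy
  · intro u hu hcomm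
    by_contra hu1
    have h2 : Commute u (x₀ : G) := hcomm.symm
    obtain ⟨y, hy⟩ := exists_orderOf_mul h2 hq hr hqr (pgroup_dvd_orderOf hq hQpg hu hu1)
      (by rw [hx])
    exact hn3 y hy
  · intro a ha
    by_contra ha1
    have h1 : (x₀ : G) * a * (x₀ : G)⁻¹ = a := by
      have := congrArg Subtype.val ha
      rwa [MulAut.conjNormal_apply] at this
    have h2 : Commute (a : G) (x₀ : G) := by
      show (a : G) * x₀ = x₀ * a
      nth_rewrite 1 [← h1]; group
    have ha1' : (a : G) ≠ 1 := fun h => ha1 (Subtype.ext h)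
    obtain ⟨y, hy⟩ := exists_orderOf_mul h2 hp hr hpr (pgroup_dvd_orderOf hp hApg a.2 ha1')
      (by rw [hx])
    exact hn2 y hy

/-- Let G be a finite group with normal subgroups K ≤ M, and let p, q, r be distinct primes with p dividing the order of K, q dividing the order of M/K and r dividing the order of G/M. Then p, q, r are not pairwise non-adjacent in the prime graph of G: G has an element of order pq, pr or qr. -/
theorem result {G : Type*} [Group G] [Finite G] (K M : Subgroup G) [K.Normal] [M.Normal] (hKM : K ≤ M)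
    (p q r : ℕ) (hp : p.Prime) (hq : q.Prime) (hr : r.Prime) (hpq : p ≠ q) (hpr : p ≠ r) (hqr : q ≠ r)
    (hpK : p ∣ Nat.card ↥K) (hqM : q ∣ Nat.card ↥M / Nat.card ↥K) (hrG : r ∣ Nat.card G / Nat.card ↥M) :
    (∃ x : G, orderOf x = p * q) ∨ (∃ x : G, orderOf x = p * r) ∨ (∃ x : G, orderOf x = q * r) := by
  have := Fact.mk hp
  obtain ⟨P₀⟩ : Nonempty (Sylow p K) := inferInstance
  let P : Subgroup G := (P₀ : Subgroup K).map K.subtype
  have hfr : Subgroup.normalizer (P : Set G) ⊔ K = ⊤ := Sylow.normalizer_sup_eq_top P₀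
  let N : Subgroup G := Subgroup.normalizer (P : Set G)
  have hPN : P ≤ N := Subgroup.le_normalizer
  have hPpg : IsPGroup p P := P₀.2.map K.subtype
  have hP1 : P ≠ ⊥ := by
    have h1 : (P₀ : Subgroup K) ≠ ⊥ := P₀.ne_bot_of_dvd_card hpK
    intro h
    exact h1 ((Subgroup.map_eq_bot_iff_of_injective _ K.subtype_injective).mp h)
  have hPn : (P.subgroupOf N).Normal := Subgroup.normal_in_normalizer
  have h1 : IsPGroup p (P.subgroupOf N) := hPpg.comap_subtype
  have h2 : P.subgroupOf N ≠ ⊥ := by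
    rw [Ne, Subgroup.subgroupOf_eq_bot, disjoint_iff, inf_of_le_left hPN]; exact hP1
  -- indices
  have hcKM : Nat.card M / Nat.card K = K.relIndex M := by
    have e1 : Nat.card (K.subgroupOf M) = Nat.card K :=
      Nat.card_congr (Subgroup.subgroupOfEquivOfLe hKM).toEquiv
    have e2 := Subgroup.card_mul_index (K.subgroupOf M)
    rw [e1] at e2
    rw [← e2]
    exact Nat.mul_div_cancel_left _ Nat.card_pos
  have hcM : Nat.card G / Nat.card M = M.index := by
    rw [← Subgroup.card_mul_index M]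
    exact Nat.mul_div_cancel_left _ Nat.card_pos
  rw [hcKM] at hqM
  rw [hcM] at hrG
  have hded : (M ⊓ N) ⊔ K = M := by
    apply le_antisymm (sup_le inf_le_left hKM)
    intro m hm
    have hm' : m ∈ (↑(N ⊔ K) : Set G) := by
      show m ∈ N ⊔ K
      rw [hfr]; trivial
    rw [Subgroup.mul_normal] at hm'
    obtain ⟨n, hn, k, hk, rfl⟩ := Set.mem_mul.mp hm'
    have hnM : n ∈ M := by
      have := M.mul_mem hm (M.inv_mem (hKM hk))
      simpa using this
    exact Subgroup.mul_mem_sup ⟨hnM, hn⟩ hk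
  have h3 : q ∣ Nat.card (M.subgroupOf N) := by
    have e1 : K.relIndex (M ⊓ N) = K.relIndex M := by
      rw [← Subgroup.relIndex_sup_right, hded]
    have e2 : Nat.card (M.subgroupOf N) = Nat.card (M ⊓ N : Subgroup G) := by
      rw [← Subgroup.inf_subgroupOf_right]
      exact Nat.card_congr (Subgroup.subgroupOfEquivOfLe inf_le_right).toEquiv
    rw [e2]
    rw [← e1] at hqM
    exact hqM.trans (Subgroup.relIndex_dvd_card _ _)
  have h4 : r ∣ (M.subgroupOf N).index := by
    have e1 : M.relIndex N = M.index := by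
      have : N ⊔ M = ⊤ := by
        apply top_le_iff.mp
        rw [← hfr]
        exact sup_le_sup_left hKM _
      rw [← Subgroup.relIndex_sup_right, this, Subgroup.relIndex_top_right]
    show r ∣ M.relIndex N
    rw [e1]; exact hrG
  rcases normal_case (P.subgroupOf N) (M.subgroupOf N) p q r hp hq hr hpq hpr hqr h1 h2 h3 h4
    with ⟨x, hx⟩ | ⟨x, hx⟩ | ⟨x, hx⟩
  · exact Or.inl ⟨x, by rw [Subgroup.orderOf_coe, hx]⟩
  · exact Or.inr (Or.inl ⟨x, by rw [Subgroup.orderOf_coe, hx]⟩)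
  · exact Or.inr (Or.inr ⟨x, by rw [Subgroup.orderOf_coe, hx]⟩)

end Cfsg.Agent.S3634
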