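import Cfsg.Statements.S3633
import Cfsg.Agent.S3634
import Mathlib

set_option autoImplicit false
open Cfsg

namespace Cfsg.Agent.S3633

universe u

/-- A nontrivial finite solvable group has a nontrivial abelian normal subgroup
(same argument as in helper1's Schur-Zassenhaus library). -/
theorem exists_normal_abelian_ne_bot (H : Type u) [Group H] [Finite H] [Group.IsSolvable H]
    [Nontrivial H] : ∃ A : Subgroup H, A.Normal ∧ IsMulCommutative A ∧ A ≠ ⊥ := by
  obtain ⟨A, -, hAmin⟩ := Finite.exists_le_minimal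
    (p := fun A : Subgroup H => A.Normal ∧ A ≠ ⊥) (a := ⊤) ⟨inferInstance, top_ne_bot⟩
  obtain ⟨⟨hAnorm, hAbot⟩, hAmin'⟩ := hAmin
  have := hAnorm
  refine ⟨A, hAnorm, ?_, hAbot⟩
  rw [← Subgroup.commutator_self_eq_bot_iff]
  by_contra hne
  have hle : A ≤ ⁅A, A⁆ := hAmin' ⟨inferInstance, hne⟩ (Subgroup.commutator_le_left A A)
  have heq : ⁅A, A⁆ = A := le_antisymm (Subgroup.commutator_le_left A A) hle
  rw [← Subgroup.map_subtype_commutator] at heq
  have htop : commutator A = ⊤ := by
    apply Subgroup.map_injective A.subtype_injective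
    rw [heq, ← MonoidHom.range_eq_map, Subgroup.range_subtype]
  haveI : Nontrivial A := (Subgroup.nontrivial_iff_ne_bot A).mpr hAbot
  exact (ne_of_lt (Group.IsSolvable.commutator_lt_top_of_nontrivial A)) htop

open scoped IsMulCommutative in
theorem exists_normal_pgroup_ne_bot (H : Type u) [Group H] [Finite H] [Group.IsSolvable H]
    [Nontrivial H] : ∃ p : ℕ, p.Prime ∧ ∃ P : Subgroup H, P.Normal ∧ IsPGroup p P ∧ P ≠ ⊥ := by
  obtain ⟨A, hAn, hAc, hAbot⟩ := exists_normal_abelian_ne_bot H
  have := hAn
  have := hAc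
  have hcard : Nat.card A ≠ 1 := fun h => hAbot (Subgroup.card_eq_one.mp h)
  have hp : (Nat.card A).minFac.Prime := Nat.minFac_prime hcard
  haveI : Fact (Nat.card A).minFac.Prime := ⟨hp⟩
  have hdvd : (Nat.card A).minFac ∣ Nat.card A := Nat.minFac_dvd _
  let S : Sylow (Nat.card A).minFac A := default
  have hSn : (S : Subgroup A).Normal := inferInstance
  have hSchar : (S : Subgroup A).Characteristic := Sylow.characteristic_of_normal S hSn
  refine ⟨(Nat.card A).minFac, hp, (S : Subgroup A).map A.subtype,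
    ConjAct.normal_of_characteristic_of_normal, S.isPGroup'.map _, ?_⟩
  intro h
  rw [Subgroup.map_eq_bot_iff_of_injective _ A.subtype_injective] at h
  exact S.ne_bot_of_dvd_card hdvd h

theorem exists_orderOf_of_dvd {G : Type*} [Group G] [Finite G] {m : ℕ} {y : G}
    (h : m ∣ orderOf y) : ∃ x : G, orderOf x = m :=
  ⟨y ^ (orderOf y / m), orderOf_pow_orderOf_div (orderOf_pos y).ne' h⟩

theorem lift_order {G : Type*} [Group G] [Finite G] (N : Subgroup G) [N.Normal] {m : ℕ}
    (h : ∃ x : G ⧸ N, orderOf x = m) : ∃ x : G, orderOf x = m := by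
  obtain ⟨x, hx⟩ := h
  obtain ⟨y, rfl⟩ := QuotientGroup.mk_surjective x
  exact exists_orderOf_of_dvd (hx ▸ orderOf_map_dvd (QuotientGroup.mk' N) y)

/-- A normal subgroup `A` of a finite solvable group with `p ∣ |A|` and `q, r ∣ |K/A|`. -/
theorem chain_case (K : Type u) [Group K] [Finite K] [Group.IsSolvable K]
    (p q r : ℕ) (hp : p.Prime) (hq : q.Prime) (hr : r.Prime) (hpq : p ≠ q) (hpr : p ≠ r)
    (hqr : q ≠ r) :
    ∀ n : ℕ, ∀ A : Subgroup K, A.Normal → A.index = n → p ∣ Nat.card A → q ∣ A.index →
      r ∣ A.index →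
      (∃ x : K, orderOf x = p * q) ∨ (∃ x : K, orderOf x = p * r) ∨
        (∃ x : K, orderOf x = q * r) := by
  intro n
  induction n using Nat.strong_induction_on with
  | _ n ih =>
    intro A hA hAn hpA hqA hrA
    have := hA
    haveI : Nontrivial (K ⧸ A) := by
      rw [← Finite.one_lt_card_iff_nontrivial, ← Subgroup.index_eq_card]
      have h0 : A.index ≠ 0 := Subgroup.index_ne_zero_of_finite
      have := Nat.le_of_dvd (Nat.pos_of_ne_zero h0) hqA
      have := hq.two_le
      omega
    obtain ⟨t, ht, B', hB'n, hB'pg, hB'1⟩ := exists_normal_pgroup_ne_bot (K ⧸ A)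
    have := hB'n
    have := Fact.mk ht
    let B : Subgroup K := B'.comap (QuotientGroup.mk' A)
    have hBn : B.Normal := inferInstance
    have hAB : A ≤ B := QuotientGroup.le_comap_mk' A B'
    have hBidx : B.index = B'.index :=
      Subgroup.index_comap_of_surjective B' (QuotientGroup.mk'_surjective A)
    have hcard : A.index = Nat.card B' * B.index := by
      rw [hBidx, Subgroup.card_mul_index, Subgroup.index_eq_card]
    obtain ⟨k, hk⟩ := IsPGroup.iff_card.mp hB'pg
    have hB'card : 1 < Nat.card B' := (Subgroup.one_lt_card_iff_ne_bot _).mpr hB'1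
    have hB0 : 0 < B.index := Nat.pos_of_ne_zero Subgroup.index_ne_zero_of_finite
    have hlt : B.index < n := by
      rw [← hAn, hcard]
      nlinarith
    have hpB : p ∣ Nat.card B := hpA.trans (Subgroup.card_dvd_of_le hAB)
    have hA0 : 0 < Nat.card A := Nat.card_pos
    have hBA : Nat.card B / Nat.card A = Nat.card B' := by
      have e1 := Subgroup.card_mul_index A
      have e2 := Subgroup.card_mul_index B
      rw [hcard, ← e2, ← mul_assoc] at e1
      have e3 : Nat.card A * Nat.card B' = Nat.card B := Nat.eq_of_mul_eq_mul_right hB0 e1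
      rw [← e3]
      exact Nat.mul_div_cancel_left _ hA0
    have hKB : Nat.card K / Nat.card B = B.index := by
      rw [← Subgroup.card_mul_index B]
      exact Nat.mul_div_cancel_left _ Nat.card_pos
    have key : ∀ s : ℕ, s.Prime → s ∣ A.index → ¬ s ∣ B.index → s = t ∧ s ∣ Nat.card B' := by
      intro s hs hsA hsB
      rw [hcard] at hsA
      have h1 := (hs.dvd_mul.mp hsA).resolve_right hsB
      refine ⟨?_, h1⟩
      rw [hk] at h1
      exact (Nat.prime_dvd_prime_iff_eq hs ht).mp (hs.dvd_of_dvd_pow h1)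
    by_cases hqB : q ∣ B.index
    · by_cases hrB : r ∣ B.index
      · exact ih B.index hlt B hBn rfl hpB hqB hrB
      · obtain ⟨-, h1⟩ := key r hr hrA hrB
        rcases Cfsg.Agent.S3634.result A B hAB p r q hp hr hq hpr hpq hqr.symm hpA
          (by rw [hBA]; exact h1) (by rw [hKB]; exact hqB) with h | h | h
        · exact Or.inr (Or.inl h)
        · exact Or.inl h
        · obtain ⟨x, hx⟩ := h
          exact Or.inr (Or.inr ⟨x, by rw [hx, mul_comm]⟩)
    · obtain ⟨hqt, h1⟩ := key q hq hqA hqB
      have hrB : r ∣ B.index := by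
        by_contra hrB
        obtain ⟨hrt, -⟩ := key r hr hrA hrB
        exact hqr (hqt.trans hrt.symm)
      exact Cfsg.Agent.S3634.result A B hAB p q r hp hq hr hpq hpr hqr hpA
        (by rw [hBA]; exact h1) (by rw [hKB]; exact hrB)

/-- Lucido's lemma: three distinct primes dividing the order of a finite solvable group are
never pairwise non-adjacent in its prime graph. -/
theorem lucido (n : ℕ) : ∀ (K : Type u) [Group K] [Finite K] [Group.IsSolvable K],
    Nat.card K = n → ∀ (p q r : ℕ), p.Prime → q.Prime → r.Prime → p ≠ q → p ≠ r → q ≠ r →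
    p ∣ Nat.card K → q ∣ Nat.card K → r ∣ Nat.card K →
    (∃ x : K, orderOf x = p * q) ∨ (∃ x : K, orderOf x = p * r) ∨
      (∃ x : K, orderOf x = q * r) := by
  induction n using Nat.strong_induction_on with
  | _ n ih =>
    intro K _ _ _ hn p q r hp hq hr hpq hpr hqr hpK hqK hrK
    haveI : Nontrivial K := by
      rw [← Finite.one_lt_card_iff_nontrivial]
      have := Nat.le_of_dvd Nat.card_pos hpK
      have := hp.two_le
      omega
    obtain ⟨t, ht, A, hAn, hApg, hA1⟩ := exists_normal_pgroup_ne_bot K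
    have := hAn
    have := Fact.mk ht
    obtain ⟨k, hk⟩ := IsPGroup.iff_card.mp hApg
    have hcard : Nat.card A * A.index = Nat.card K := Subgroup.card_mul_index A
    have hAcard : 1 < Nat.card A := (Subgroup.one_lt_card_iff_ne_bot _).mpr hA1
    have hA0 : 0 < A.index := Nat.pos_of_ne_zero Subgroup.index_ne_zero_of_finite
    have hlt : Nat.card (K ⧸ A) < n := by
      rw [← Subgroup.index_eq_card, ← hn, ← hcard]
      nlinarith
    have key : ∀ s : ℕ, s.Prime → s ∣ Nat.card K → ¬ s ∣ A.index → s = t := by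
      intro s hs hsK hsA
      rw [← hcard, hk] at hsK
      have := (hs.dvd_mul.mp hsK).resolve_right hsA
      exact (Nat.prime_dvd_prime_iff_eq hs ht).mp (hs.dvd_of_dvd_pow this)
    have key2 : ∀ s : ℕ, s.Prime → s ∣ Nat.card K → s ≠ t → s ∣ A.index := by
      intro s hs hsK hst
      by_contra h
      exact hst (key s hs hsK h)
    have htA : t ∣ Nat.card A := by
      rw [hk]
      have : k ≠ 0 := by
        rintro rfl
        rw [pow_zero] at hk
        omega
      exact dvd_pow_self t this
    by_cases hpi : p ∣ A.index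
    · by_cases hqi : q ∣ A.index
      · by_cases hri : r ∣ A.index
        · rw [Subgroup.index_eq_card] at hpi hqi hri
          rcases ih _ hlt (K ⧸ A) rfl p q r hp hq hr hpq hpr hqr hpi hqi hri with h | h | h
          · exact Or.inl (lift_order A h)
          · exact Or.inr (Or.inl (lift_order A h))
          · exact Or.inr (Or.inr (lift_order A h))
        · have hrt := key r hr hrK hri
          subst hrt
          rcases chain_case K r p q hr hp hq hpr.symm hqr.symm hpq _ A hAn rfl htA hpi hqi
            with h | h | h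
          · obtain ⟨x, hx⟩ := h
            exact Or.inr (Or.inl ⟨x, by rw [hx, mul_comm]⟩)
          · obtain ⟨x, hx⟩ := h
            exact Or.inr (Or.inr ⟨x, by rw [hx, mul_comm]⟩)
          · exact Or.inl h
      · have hqt := key q hq hqK hqi
        subst hqt
        have hri : r ∣ A.index := key2 r hr hrK hqr.symm
        rcases chain_case K q p r hq hp hr hpq.symm hqr hpr _ A hAn rfl htA hpi hri
          with h | h | h
        · obtain ⟨x, hx⟩ := h
          exact Or.inl ⟨x, by rw [hx, mul_comm]⟩
        · exact Or.inr (Or.inr h)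
        · exact Or.inr (Or.inl h)
    · have hpt := key p hp hpK hpi
      subst hpt
      have hqi : q ∣ A.index := key2 q hq hqK hpq.symm
      have hri : r ∣ A.index := key2 r hr hrK hpr.symm
      exact chain_case K p q r hp hq hr hpq hpr hqr _ A hAn rfl htA hqi hri

/-- Let G be a finite group and ρ a set of at least three prime divisors of the order of G that are pairwise non-adjacent in the prime graph (no element of order rs for distinct r, s ∈ ρ). Then at most one prime of ρ divides the order of any given solvable normal subgroup of G; in particular G is not solvable. -/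
theorem result {G : Type*} [Group G] [Finite G] (ρ : Finset ℕ) (hρ : 3 ≤ ρ.card) (hc : ((∀ r ∈ ρ, r.Prime ∧ r ∣ Nat.card G) ∧ (∀ r ∈ ρ, ∀ s ∈ ρ, r ≠ s → ¬ ∃ x : G, orderOf x = r * s)))
    (K : Subgroup G) [K.Normal] (hK : Group.IsSolvable ↥K) :
    (∀ r ∈ ρ, ∀ s ∈ ρ, r ∣ Nat.card ↥K → s ∣ Nat.card ↥K → r = s) ∧ ¬ Group.IsSolvable G := by
  obtain ⟨hc1, hc2⟩ := hc
  have hno : ∀ (H : Subgroup G), Group.IsSolvable H → ∀ p ∈ ρ, ∀ q ∈ ρ, ∀ r ∈ ρ, p ≠ q → p ≠ r →
      q ≠ r → p ∣ Nat.card H → q ∣ Nat.card H → r ∣ Nat.card H → False := by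
    intro H hH p hp q hq r hr hpq hpr hqr hpH hqH hrH
    have := hH
    rcases lucido _ H rfl p q r (hc1 p hp).1 (hc1 q hq).1 (hc1 r hr).1 hpq hpr hqr hpH hqH hrH
      with ⟨x, hx⟩ | ⟨x, hx⟩ | ⟨x, hx⟩
    · exact hc2 p hp q hq hpq ⟨x, by rw [Subgroup.orderOf_coe, hx]⟩
    · exact hc2 p hp r hr hpr ⟨x, by rw [Subgroup.orderOf_coe, hx]⟩
    · exact hc2 q hq r hr hqr ⟨x, by rw [Subgroup.orderOf_coe, hx]⟩
  constructor
  · intro r hr s hs hrK hsK
    by_contra hrs
    obtain ⟨t, ht, htr, hts⟩ : ∃ t ∈ ρ, t ≠ r ∧ t ≠ s := by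
      by_contra hcon
      push Not at hcon
      have hsub : ρ ⊆ {r, s} := by
        intro t ht
        by_cases h : t = r
        · simp [h]
        · simp [hcon t ht h]
      have h1 := Finset.card_le_card hsub
      have h2 : ({r, s} : Finset ℕ).card ≤ 2 := Finset.card_le_two
      omega
    by_cases htK : t ∣ Nat.card K
    · exact hno K hK r hr s hs t ht hrs (Ne.symm htr) (Ne.symm hts) hrK hsK htK
    · haveI := Fact.mk (hc1 t ht).1
      obtain ⟨y, hy⟩ := exists_prime_orderOf_dvd_card' t (hc1 t ht).2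
      let H : Subgroup G :=
        (Subgroup.zpowers (QuotientGroup.mk' K y)).comap (QuotientGroup.mk' K)
      have hKH : K ≤ H := QuotientGroup.le_comap_mk' K _
      have hyH : y ∈ H := Subgroup.mem_comap.mpr (Subgroup.mem_zpowers _)
      have hHsol : Group.IsSolvable H := by
        haveI : Group.IsSolvable (Subgroup.zpowers (QuotientGroup.mk' K y)) :=
          Group.isSolvable_of_comm (fun a b => mul_comm' a b)
        apply Group.isSolvable_of_ker_le_range (Subgroup.inclusion hKH)
          ((QuotientGroup.mk' K).subgroupComap (Subgroup.zpowers (QuotientGroup.mk' K y)))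
        intro h hh
        rw [MonoidHom.mem_ker] at hh
        have h1 : (QuotientGroup.mk' K) (h : G) = 1 := congrArg Subtype.val hh
        have h2 : (h : G) ∈ K := by
          rwa [QuotientGroup.mk'_apply, QuotientGroup.eq_one_iff] at h1
        exact ⟨⟨h, h2⟩, rfl⟩
      have htH : t ∣ Nat.card H := by
        have := orderOf_dvd_natCard (⟨y, hyH⟩ : H)
        rwa [Subgroup.orderOf_mk, hy] at this
      exact hno H hHsol r hr s hs t ht hrs (Ne.symm htr) (Ne.symm hts)
        (hrK.trans (Subgroup.card_dvd_of_le hKH)) (hsK.trans (Subgroup.card_dvd_of_le hKH)) htH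
  · intro hG
    obtain ⟨p, q, r, hp, hq, hr, hpq, hpr, hqr⟩ := Finset.two_lt_card_iff.mp hρ
    rcases lucido _ G rfl p q r (hc1 p hp).1 (hc1 q hq).1 (hc1 r hr).1 hpq hpr hqr
      (hc1 p hp).2 (hc1 q hq).2 (hc1 r hr).2 with h | h | h
    · exact hc2 p hp q hq hpq h
    · exact hc2 p hp r hr hpr h
    · exact hc2 q hq r hr hqr h

end Cfsg.Agent.S3633
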