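import Cfsg.Statements.S1475

import Cfsg.Agent.S3633
set_option autoImplicit false
open Cfsg

namespace Cfsg.Agent.S1475

theorem not_isPrimePow_mul {p q : ℕ} (hp : p.Prime) (hq : q.Prime) (hpq : p ≠ q) :
    ¬ IsPrimePow (p * q) := by
  intro h
  rw [isPrimePow_iff_unique_prime_dvd] at h
  obtain ⟨r, -, hr⟩ := h
  have h1 := hr p ⟨hp, dvd_mul_right p q⟩
  have h2 := hr q ⟨hq, dvd_mul_left q p⟩
  exact hpq (h1.trans h2.symm)

/-- Let G be a finite solvable group such that the order of every element is a prime power (1 included). Then at most two distinct primes divide the order of G. -/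
theorem result {G : Type*} [Group G] [Finite G] [Group.IsSolvable G] (h : ∀ g : G, IsPrimePow (orderOf g) ∨ g = 1) :
    (Nat.card G).primeFactors.card ≤ 2 := by

    by_contra hcon
    have h3 : 2 < (Nat.card G).primeFactors.card := by omega
    rw [Finset.two_lt_card_iff] at h3
    obtain ⟨p, q, r, hp, hq, hr, hpq, hpr, hqr⟩ := h3
    have hp' := Nat.prime_of_mem_primeFactors hp
    have hq' := Nat.prime_of_mem_primeFactors hq
    have hr' := Nat.prime_of_mem_primeFactors hr
    have key : ∀ (a b : ℕ), a.Prime → b.Prime → a ≠ b → ¬ ∃ x : G, orderOf x = a * b := by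
      rintro a b ha hb hab ⟨x, hx⟩
      rcases h x with h1 | h1
      · rw [hx] at h1
        exact not_isPrimePow_mul ha hb hab h1
      · rw [h1, orderOf_one] at hx
        have := ha.two_le
        have := hb.two_le
        nlinarith
    rcases Cfsg.Agent.S3633.lucido _ G rfl p q r hp' hq' hr' hpq hpr hqr
      (Nat.dvd_of_mem_primeFactors hp) (Nat.dvd_of_mem_primeFactors hq)
      (Nat.dvd_of_mem_primeFactors hr) with h1 | h1 | h1
    · exact key p q hp' hq' hpq h1
    · exact key p r hp' hr' hpr h1
    · exact key q r hq' hr' hqr h1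

end Cfsg.Agent.S1475
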