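import Cfsg.Statements.S1690
import Cfsg.Agent.Lib.helper9.CE1690C0a
import Cfsg.Agent.Lib.helper9.CE1690C0b
import Cfsg.Agent.Lib.helper9.CE1690C1a
import Cfsg.Agent.Lib.helper9.CE1690C1b
import Cfsg.Agent.Lib.helper9.CE1690C2a
import Cfsg.Agent.Lib.helper9.CE1690C2b
import Cfsg.Agent.Lib.helper9.CE1690C3a
import Cfsg.Agent.Lib.helper9.CE1690C3b
import Cfsg.Agent.Lib.helper9.CE1690C4a
import Cfsg.Agent.Lib.helper9.CE1690C4b
import Cfsg.Agent.Lib.helper9.CE1690C5a
import Cfsg.Agent.Lib.helper9.CE1690C5b
import Cfsg.Agent.Lib.helper9.CE1690C6a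
import Cfsg.Agent.Lib.helper9.CE1690C6b
import Cfsg.Agent.Lib.helper9.CE1690C7a
import Cfsg.Agent.Lib.helper9.CE1690C7b
import Cfsg.Agent.Lib.helper9.CE1690C8a
import Cfsg.Agent.Lib.helper9.CE1690C8b
import Cfsg.Agent.Lib.helper9.CE1690C9a
import Cfsg.Agent.Lib.helper9.CE1690C9b
import Cfsg.Agent.Lib.helper9.CE1690C10a
import Cfsg.Agent.Lib.helper9.CE1690C10b
import Cfsg.Agent.Lib.helper9.CE1690C11a
import Cfsg.Agent.Lib.helper9.CE1690C11b

set_option autoImplicit false
open Cfsg

namespace Cfsg.Agent.S1690

open Cfsg.Agent.Lib.helper9.CE Cfsg.Agent.Lib.helper9.CE1690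
open Cfsg.Spor
open Cfsg.Spor.Fi24 (Gen)

/-- the generators of the subgroup -/
abbrev S0 : Set (FreeGroup Gen) := {Cfsg.Spor.Fi24.a, Cfsg.Spor.Fi24.b, Cfsg.Spor.Fi24.c, Cfsg.Spor.Fi24.d, Cfsg.Spor.Fi24.e, Cfsg.Spor.Fi24.f, Cfsg.Spor.Fi24.g, Cfsg.Spor.Fi24.h, Cfsg.Spor.Fi24.i, Cfsg.Spor.Fi24.j, Cfsg.Spor.Fi24.l}

theorem hS1 : ∀ s ∈ S0, ∃ L ∈ SW, s = FreeGroup.mk L := by
  intro s hs
  rcases hs with rfl | rfl | rfl | rfl | rfl | rfl | rfl | rfl | rfl | rfl | rfl
  · exact ⟨[(Gen.a, true)], by decide, rfl⟩
  · exact ⟨[(Gen.b, true)], by decide, rfl⟩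
  · exact ⟨[(Gen.c, true)], by decide, rfl⟩
  · exact ⟨[(Gen.d, true)], by decide, rfl⟩
  · exact ⟨[(Gen.e, true)], by decide, rfl⟩
  · exact ⟨[(Gen.f, true)], by decide, rfl⟩
  · exact ⟨[(Gen.g, true)], by decide, rfl⟩
  · exact ⟨[(Gen.h, true)], by decide, rfl⟩
  · exact ⟨[(Gen.i, true)], by decide, rfl⟩
  · exact ⟨[(Gen.j, true)], by decide, rfl⟩
  · exact ⟨[(Gen.l, true)], by decide, rfl⟩

theorem hS2 : ∀ L ∈ SW, FreeGroup.mk L ∈ S0 := by
  intro L hL
  simp only [SW, List.mem_cons, List.mem_nil_iff, or_false] at hL
  rcases hL with rfl | rfl | rfl | rfl | rfl | rfl | rfl | rfl | rfl | rfl | rfl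
  · exact Or.inl rfl
  · exact Or.inr (Or.inl rfl)
  · exact Or.inr (Or.inr (Or.inl rfl))
  · exact Or.inr (Or.inr (Or.inr (Or.inl rfl)))
  · exact Or.inr (Or.inr (Or.inr (Or.inr (Or.inl rfl))))
  · exact Or.inr (Or.inr (Or.inr (Or.inr (Or.inr (Or.inl rfl)))))
  · exact Or.inr (Or.inr (Or.inr (Or.inr (Or.inr (Or.inr (Or.inl rfl))))))
  · exact Or.inr (Or.inr (Or.inr (Or.inr (Or.inr (Or.inr (Or.inr (Or.inl rfl)))))))
  · exact Or.inr (Or.inr (Or.inr (Or.inr (Or.inr (Or.inr (Or.inr (Or.inr (Or.inl rfl))))))))
  · exact Or.inr (Or.inr (Or.inr (Or.inr (Or.inr (Or.inr (Or.inr (Or.inr (Or.inr (Or.inl rfl)))))))))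
  · exact Or.inr (Or.inr (Or.inr (Or.inr (Or.inr (Or.inr (Or.inr (Or.inr (Or.inr (Or.inr (rfl))))))))))

theorem hperm : ∀ x : Gen, ∀ i, i < D.n → D.permK x i = true := by
  intro x i hi
  cases x
  · exact (allRange_join (allRange_spec hperm_l_0) (allRange_join (allRange_spec hperm_l_1) (allRange_join (allRange_spec hperm_l_2) (allRange_join (allRange_spec hperm_l_3) (allRange_join (allRange_spec hperm_l_4) (allRange_spec hperm_l_5)))))) i (Nat.zero_le _) hi
  · exact (allRange_join (allRange_spec hperm_k_0) (allRange_join (allRange_spec hperm_k_1) (allRange_join (allRange_spec hperm_k_2) (allRange_join (allRange_spec hperm_k_3) (allRange_join (allRange_spec hperm_k_4) (allRange_spec hperm_k_5)))))) i (Nat.zero_le _) hi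
  · exact (allRange_join (allRange_spec hperm_a_0) (allRange_join (allRange_spec hperm_a_1) (allRange_join (allRange_spec hperm_a_2) (allRange_join (allRange_spec hperm_a_3) (allRange_join (allRange_spec hperm_a_4) (allRange_spec hperm_a_5)))))) i (Nat.zero_le _) hi
  · exact (allRange_join (allRange_spec hperm_b_0) (allRange_join (allRange_spec hperm_b_1) (allRange_join (allRange_spec hperm_b_2) (allRange_join (allRange_spec hperm_b_3) (allRange_join (allRange_spec hperm_b_4) (allRange_spec hperm_b_5)))))) i (Nat.zero_le _) hi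
  · exact (allRange_join (allRange_spec hperm_c_0) (allRange_join (allRange_spec hperm_c_1) (allRange_join (allRange_spec hperm_c_2) (allRange_join (allRange_spec hperm_c_3) (allRange_join (allRange_spec hperm_c_4) (allRange_spec hperm_c_5)))))) i (Nat.zero_le _) hi
  · exact (allRange_join (allRange_spec hperm_d_0) (allRange_join (allRange_spec hperm_d_1) (allRange_join (allRange_spec hperm_d_2) (allRange_join (allRange_spec hperm_d_3) (allRange_join (allRange_spec hperm_d_4) (allRange_spec hperm_d_5)))))) i (Nat.zero_le _) hi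
  · exact (allRange_join (allRange_spec hperm_e_0) (allRange_join (allRange_spec hperm_e_1) (allRange_join (allRange_spec hperm_e_2) (allRange_join (allRange_spec hperm_e_3) (allRange_join (allRange_spec hperm_e_4) (allRange_spec hperm_e_5)))))) i (Nat.zero_le _) hi
  · exact (allRange_join (allRange_spec hperm_f_0) (allRange_join (allRange_spec hperm_f_1) (allRange_join (allRange_spec hperm_f_2) (allRange_join (allRange_spec hperm_f_3) (allRange_join (allRange_spec hperm_f_4) (allRange_spec hperm_f_5)))))) i (Nat.zero_le _) hi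
  · exact (allRange_join (allRange_spec hperm_g_0) (allRange_join (allRange_spec hperm_g_1) (allRange_join (allRange_spec hperm_g_2) (allRange_join (allRange_spec hperm_g_3) (allRange_join (allRange_spec hperm_g_4) (allRange_spec hperm_g_5)))))) i (Nat.zero_le _) hi
  · exact (allRange_join (allRange_spec hperm_j_0) (allRange_join (allRange_spec hperm_j_1) (allRange_join (allRange_spec hperm_j_2) (allRange_join (allRange_spec hperm_j_3) (allRange_join (allRange_spec hperm_j_4) (allRange_spec hperm_j_5)))))) i (Nat.zero_le _) hi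
  · exact (allRange_join (allRange_spec hperm_h_0) (allRange_join (allRange_spec hperm_h_1) (allRange_join (allRange_spec hperm_h_2) (allRange_join (allRange_spec hperm_h_3) (allRange_join (allRange_spec hperm_h_4) (allRange_spec hperm_h_5)))))) i (Nat.zero_le _) hi
  · exact (allRange_join (allRange_spec hperm_i_0) (allRange_join (allRange_spec hperm_i_1) (allRange_join (allRange_spec hperm_i_2) (allRange_join (allRange_spec hperm_i_3) (allRange_join (allRange_spec hperm_i_4) (allRange_spec hperm_i_5)))))) i (Nat.zero_le _) hi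

theorem hfin : ∀ x : Gen, ∀ i, i < D.n → D.finK x i = true := by
  intro x i hi
  cases x
  · exact (allRange_join (allRange_spec hfin_l_0) (allRange_join (allRange_spec hfin_l_1) (allRange_join (allRange_spec hfin_l_2) (allRange_join (allRange_spec hfin_l_3) (allRange_join (allRange_spec hfin_l_4) (allRange_spec hfin_l_5)))))) i (Nat.zero_le _) hi
  · exact (allRange_join (allRange_spec hfin_k_0) (allRange_join (allRange_spec hfin_k_1) (allRange_join (allRange_spec hfin_k_2) (allRange_join (allRange_spec hfin_k_3) (allRange_join (allRange_spec hfin_k_4) (allRange_spec hfin_k_5)))))) i (Nat.zero_le _) hi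
  · exact (allRange_join (allRange_spec hfin_a_0) (allRange_join (allRange_spec hfin_a_1) (allRange_join (allRange_spec hfin_a_2) (allRange_join (allRange_spec hfin_a_3) (allRange_join (allRange_spec hfin_a_4) (allRange_spec hfin_a_5)))))) i (Nat.zero_le _) hi
  · exact (allRange_join (allRange_spec hfin_b_0) (allRange_join (allRange_spec hfin_b_1) (allRange_join (allRange_spec hfin_b_2) (allRange_join (allRange_spec hfin_b_3) (allRange_join (allRange_spec hfin_b_4) (allRange_spec hfin_b_5)))))) i (Nat.zero_le _) hi
  · exact (allRange_join (allRange_spec hfin_c_0) (allRange_join (allRange_spec hfin_c_1) (allRange_join (allRange_spec hfin_c_2) (allRange_join (allRange_spec hfin_c_3) (allRange_join (allRange_spec hfin_c_4) (allRange_spec hfin_c_5)))))) i (Nat.zero_le _) hi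
  · exact (allRange_join (allRange_spec hfin_d_0) (allRange_join (allRange_spec hfin_d_1) (allRange_join (allRange_spec hfin_d_2) (allRange_join (allRange_spec hfin_d_3) (allRange_join (allRange_spec hfin_d_4) (allRange_spec hfin_d_5)))))) i (Nat.zero_le _) hi
  · exact (allRange_join (allRange_spec hfin_e_0) (allRange_join (allRange_spec hfin_e_1) (allRange_join (allRange_spec hfin_e_2) (allRange_join (allRange_spec hfin_e_3) (allRange_join (allRange_spec hfin_e_4) (allRange_spec hfin_e_5)))))) i (Nat.zero_le _) hi
  · exact (allRange_join (allRange_spec hfin_f_0) (allRange_join (allRange_spec hfin_f_1) (allRange_join (allRange_spec hfin_f_2) (allRange_join (allRange_spec hfin_f_3) (allRange_join (allRange_spec hfin_f_4) (allRange_spec hfin_f_5)))))) i (Nat.zero_le _) hi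
  · exact (allRange_join (allRange_spec hfin_g_0) (allRange_join (allRange_spec hfin_g_1) (allRange_join (allRange_spec hfin_g_2) (allRange_join (allRange_spec hfin_g_3) (allRange_join (allRange_spec hfin_g_4) (allRange_spec hfin_g_5)))))) i (Nat.zero_le _) hi
  · exact (allRange_join (allRange_spec hfin_j_0) (allRange_join (allRange_spec hfin_j_1) (allRange_join (allRange_spec hfin_j_2) (allRange_join (allRange_spec hfin_j_3) (allRange_join (allRange_spec hfin_j_4) (allRange_spec hfin_j_5)))))) i (Nat.zero_le _) hi
  · exact (allRange_join (allRange_spec hfin_h_0) (allRange_join (allRange_spec hfin_h_1) (allRange_join (allRange_spec hfin_h_2) (allRange_join (allRange_spec hfin_h_3) (allRange_join (allRange_spec hfin_h_4) (allRange_spec hfin_h_5)))))) i (Nat.zero_le _) hi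
  · exact (allRange_join (allRange_spec hfin_i_0) (allRange_join (allRange_spec hfin_i_1) (allRange_join (allRange_spec hfin_i_2) (allRange_join (allRange_spec hfin_i_3) (allRange_join (allRange_spec hfin_i_4) (allRange_spec hfin_i_5)))))) i (Nat.zero_le _) hi

set_option maxRecDepth 100000 in
theorem hrel : ∀ L ∈ RW, ∀ i, 0 ≤ i → i < D.n → D.walk L i = i :=
  (D.rels_join (D.relsK_spec hrel_0) (D.rels_join (D.relsK_spec hrel_1) (D.rels_join (D.relsK_spec hrel_2) (D.rels_join (D.relsK_spec hrel_3) (D.rels_join (D.relsK_spec hrel_4) (D.rels_join (D.relsK_spec hrel_5) (D.rels_join (D.relsK_spec hrel_6) (D.rels_join (D.relsK_spec hrel_7) (D.rels_join (D.relsK_spec hrel_8) (D.rels_join (D.relsK_spec hrel_9) (D.rels_join (D.relsK_spec hrel_10) (D.rels_join (D.relsK_spec hrel_11) (D.rels_join (D.relsK_spec hrel_12) (D.rels_join (D.relsK_spec hrel_13) (D.rels_join (D.relsK_spec hrel_14) (D.rels_join (D.relsK_spec hrel_15) (D.rels_join (D.relsK_spec hrel_16) (D.rels_join (D.relsK_spec hrel_17) (D.rels_join (D.relsK_spec hrel_18) (D.rels_join (D.relsK_spec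 hrel_19) (D.rels_join (D.relsK_spec hrel_20) (D.rels_join (D.relsK_spec hrel_21) (D.rels_join (D.relsK_spec hrel_22) (D.rels_join (D.relsK_spec hrel_23) (D.rels_join (D.relsK_spec hrel_24) (D.rels_join (D.relsK_spec hrel_25) (D.rels_join (D.relsK_spec hrel_26) (D.rels_join (D.relsK_spec hrel_27) (D.rels_join (D.relsK_spec hrel_28) (D.rels_join (D.relsK_spec hrel_29) (D.rels_join (D.relsK_spec hrel_30) (D.rels_join (D.relsK_spec hrel_31) (D.rels_join (D.relsK_spec hrel_32) (D.rels_join (D.relsK_spec hrel_33) (D.rels_join (D.relsK_spec hrel_34) (D.rels_join (D.relsK_spec hrel_35) (D.rels_join (D.relsK_spec hrel_36) (D.rels_join (D.relsK_spec hrel_37) (D.rels_join (D.relsK_spec hrel_38) (D.rels_join (D.relsK_spec hrel_39) (D.rels_join (D.relsK_spec hrel_40) (D.rels_join (D.relsK_spec hrel_41) (D.rels_join (D.relsK_spec hrel_42) (D.rels_join (D.relsK_spec hrel_43) (D.rels_join (D.relsK_spec hrel_44) (D.rels_join (D.relsK_spec hrel_45) (D.rels_join (D.relsK_spec hrel_46) (D.rels_join (D.relsK_spec hrel_47) (D.rels_join (D.relsK_spec hrel_48) (D.rels_join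 (D.relsK_spec hrel_49) (D.rels_join (D.relsK_spec hrel_50) (D.rels_join (D.relsK_spec hrel_51) (D.rels_join (D.relsK_spec hrel_52) (D.rels_join (D.relsK_spec hrel_53) (D.rels_join (D.relsK_spec hrel_54) (D.rels_join (D.relsK_spec hrel_55) (D.rels_join (D.relsK_spec hrel_56) (D.rels_join (D.relsK_spec hrel_57) (D.rels_join (D.relsK_spec hrel_58) (D.rels_join (D.relsK_spec hrel_59) (D.rels_join (D.relsK_spec hrel_60) (D.rels_join (D.relsK_spec hrel_61) (D.rels_join (D.relsK_spec hrel_62) (D.rels_join (D.relsK_spec hrel_63) (D.rels_join (D.relsK_spec hrel_64) (D.rels_join (D.relsK_spec hrel_65) (D.rels_join (D.relsK_spec hrel_66) (D.rels_join (D.relsK_spec hrel_67) (D.rels_join (D.relsK_spec hrel_68) (D.rels_join (D.relsK_spec hrel_69) (D.rels_join (D.relsK_spec hrel_70) (D.rels_join (D.relsK_spec hrel_71) (D.rels_join (D.relsK_spec hrel_72) (D.rels_join (D.relsK_spec hrel_73) (D.rels_join (D.relsK_spec hrel_74) (D.rels_join (D.relsK_spec hrel_75) (D.rels_join (D.relsK_spec hrel_76) (D.rels_join (D.relsK_spec hrel_77) (D.rels_join (D.relsK_spec hrel_78)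 (D.rels_join (D.relsK_spec hrel_79) (D.rels_join (D.relsK_spec hrel_80) (D.rels_join (D.relsK_spec hrel_81) (D.rels_join (D.relsK_spec hrel_82) (D.rels_join (D.relsK_spec hrel_83) (D.rels_join (D.relsK_spec hrel_84) (D.rels_join (D.relsK_spec hrel_85) (D.rels_join (D.relsK_spec hrel_86) (D.rels_join (D.relsK_spec hrel_87) (D.rels_join (D.relsK_spec hrel_88) (D.rels_join (D.relsK_spec hrel_89) (D.rels_join (D.relsK_spec hrel_90) (D.rels_join (D.relsK_spec hrel_91) (D.rels_join (D.relsK_spec hrel_92) (D.rels_join (D.relsK_spec hrel_93) (D.rels_join (D.relsK_spec hrel_94) (D.rels_join (D.relsK_spec hrel_95) (D.rels_join (D.relsK_spec hrel_96) (D.rels_join (D.relsK_spec hrel_97) (D.rels_join (D.relsK_spec hrel_98) (D.rels_join (D.relsK_spec hrel_99) (D.rels_join (D.relsK_spec hrel_100) (D.rels_join (D.relsK_spec hrel_101) (D.rels_join (D.relsK_spec hrel_102) (D.rels_join (D.relsK_spec hrel_103) (D.rels_join (D.relsK_spec hrel_104) (D.rels_join (D.relsK_spec hrel_105) (D.rels_join (D.relsK_spec hrel_106) (D.rels_join (D.relsK_spec hrel_107) (D.rels_join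 (D.relsK_spec hrel_108) (D.rels_join (D.relsK_spec hrel_109) (D.rels_join (D.relsK_spec hrel_110) (D.rels_join (D.relsK_spec hrel_111) (D.rels_join (D.relsK_spec hrel_112) (D.rels_join (D.relsK_spec hrel_113) (D.rels_join (D.relsK_spec hrel_114) (D.rels_join (D.relsK_spec hrel_115) (D.rels_join (D.relsK_spec hrel_116) (D.rels_join (D.relsK_spec hrel_117) (D.rels_join (D.relsK_spec hrel_118) (D.rels_join (D.relsK_spec hrel_119) (D.rels_join (D.relsK_spec hrel_120) (D.rels_join (D.relsK_spec hrel_121) (D.rels_join (D.relsK_spec hrel_122) (D.rels_join (D.relsK_spec hrel_123) (D.rels_join (D.relsK_spec hrel_124) (D.rels_join (D.relsK_spec hrel_125) (D.rels_join (D.relsK_spec hrel_126) (D.rels_join (D.relsK_spec hrel_127) (D.rels_join (D.relsK_spec hrel_128) (D.rels_join (D.relsK_spec hrel_129) (D.rels_join (D.relsK_spec hrel_130) (D.rels_join (D.relsK_spec hrel_131) (D.rels_join (D.relsK_spec hrel_132) (D.rels_join (D.relsK_spec hrel_133) (D.rels_join (D.relsK_spec hrel_134) (D.rels_join (D.relsK_spec hrel_135) (D.rels_join (D.relsK_spec hrel_136)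 (D.rels_join (D.relsK_spec hrel_137) (D.rels_join (D.relsK_spec hrel_138) (D.rels_join (D.relsK_spec hrel_139) (D.rels_join (D.relsK_spec hrel_140) (D.rels_join (D.relsK_spec hrel_141) (D.rels_join (D.relsK_spec hrel_142) (D.rels_join (D.relsK_spec hrel_143) (D.rels_join (D.relsK_spec hrel_144) (D.rels_join (D.relsK_spec hrel_145) (D.rels_join (D.relsK_spec hrel_146) (D.rels_join (D.relsK_spec hrel_147) (D.rels_join (D.relsK_spec hrel_148) (D.rels_join (D.relsK_spec hrel_149) (D.rels_join (D.relsK_spec hrel_150) (D.rels_join (D.relsK_spec hrel_151) (D.rels_join (D.relsK_spec hrel_152) (D.rels_join (D.relsK_spec hrel_153) (D.rels_join (D.relsK_spec hrel_154) (D.rels_join (D.relsK_spec hrel_155) (D.rels_join (D.relsK_spec hrel_156) (D.rels_join (D.relsK_spec hrel_157) (D.rels_join (D.relsK_spec hrel_158) (D.rels_join (D.relsK_spec hrel_159) (D.rels_join (D.relsK_spec hrel_160) (D.rels_join (D.relsK_spec hrel_161) (D.rels_join (D.relsK_spec hrel_162) (D.rels_join (D.relsK_spec hrel_163) (D.rels_join (D.relsK_spec hrel_164) (D.rels_join (D.relsK_spec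 hrel_165) (D.rels_join (D.relsK_spec hrel_166) (D.rels_join (D.relsK_spec hrel_167) (D.rels_join (D.relsK_spec hrel_168) (D.rels_join (D.relsK_spec hrel_169) (D.rels_join (D.relsK_spec hrel_170) (D.rels_join (D.relsK_spec hrel_171) (D.rels_join (D.relsK_spec hrel_172) (D.rels_join (D.relsK_spec hrel_173) (D.rels_join (D.relsK_spec hrel_174) (D.rels_join (D.relsK_spec hrel_175) (D.rels_join (D.relsK_spec hrel_176) (D.rels_join (D.relsK_spec hrel_177) (D.rels_join (D.relsK_spec hrel_178) (D.rels_join (D.relsK_spec hrel_179) (D.rels_join (D.relsK_spec hrel_180) (D.rels_join (D.relsK_spec hrel_181) (D.rels_join (D.relsK_spec hrel_182) (D.rels_join (D.relsK_spec hrel_183) (D.rels_join (D.relsK_spec hrel_184) (D.rels_join (D.relsK_spec hrel_185) (D.rels_join (D.relsK_spec hrel_186) (D.rels_join (D.relsK_spec hrel_187) (D.rels_join (D.relsK_spec hrel_188) (D.rels_join (D.relsK_spec hrel_189) (D.rels_join (D.relsK_spec hrel_190) (D.rels_join (D.relsK_spec hrel_191) (D.rels_join (D.relsK_spec hrel_192) (D.rels_join (D.relsK_spec hrel_193) (D.rels_join (D.relsK_spec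 hrel_194) (D.rels_join (D.relsK_spec hrel_195) (D.rels_join (D.relsK_spec hrel_196) (D.rels_join (D.relsK_spec hrel_197) (D.rels_join (D.relsK_spec hrel_198) (D.rels_join (D.relsK_spec hrel_199) (D.rels_join (D.relsK_spec hrel_200) (D.rels_join (D.relsK_spec hrel_201) (D.rels_join (D.relsK_spec hrel_202) (D.rels_join (D.relsK_spec hrel_203) (D.rels_join (D.relsK_spec hrel_204) (D.rels_join (D.relsK_spec hrel_205) (D.rels_join (D.relsK_spec hrel_206) (D.rels_join (D.relsK_spec hrel_207) (D.rels_join (D.relsK_spec hrel_208) (D.rels_join (D.relsK_spec hrel_209) (D.rels_join (D.relsK_spec hrel_210) (D.rels_join (D.relsK_spec hrel_211) (D.rels_join (D.relsK_spec hrel_212) (D.rels_join (D.relsK_spec hrel_213) (D.rels_join (D.relsK_spec hrel_214) (D.rels_join (D.relsK_spec hrel_215) (D.rels_join (D.relsK_spec hrel_216) (D.rels_join (D.relsK_spec hrel_217) (D.rels_join (D.relsK_spec hrel_218) (D.rels_join (D.relsK_spec hrel_219) (D.rels_join (D.relsK_spec hrel_220) (D.rels_join (D.relsK_spec hrel_221) (D.rels_join (D.relsK_spec hrel_222) (D.rels_join (D.relsK_spec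 hrel_223) (D.rels_join (D.relsK_spec hrel_224) (D.rels_join (D.relsK_spec hrel_225) (D.rels_join (D.relsK_spec hrel_226) (D.rels_join (D.relsK_spec hrel_227) (D.rels_join (D.relsK_spec hrel_228) (D.rels_join (D.relsK_spec hrel_229) (D.rels_join (D.relsK_spec hrel_230) (D.rels_join (D.relsK_spec hrel_231) (D.rels_join (D.relsK_spec hrel_232) (D.rels_join (D.relsK_spec hrel_233) (D.rels_join (D.relsK_spec hrel_234) (D.rels_join (D.relsK_spec hrel_235) (D.rels_join (D.relsK_spec hrel_236) (D.rels_join (D.relsK_spec hrel_237) (D.rels_join (D.relsK_spec hrel_238) (D.rels_join (D.relsK_spec hrel_239) (D.rels_join (D.relsK_spec hrel_240) (D.rels_join (D.relsK_spec hrel_241) (D.rels_join (D.relsK_spec hrel_242) (D.rels_join (D.relsK_spec hrel_243) (D.rels_join (D.relsK_spec hrel_244) (D.rels_join (D.relsK_spec hrel_245) (D.rels_join (D.relsK_spec hrel_246) (D.rels_join (D.relsK_spec hrel_247) (D.rels_join (D.relsK_spec hrel_248) (D.rels_join (D.relsK_spec hrel_249) (D.rels_join (D.relsK_spec hrel_250) (D.rels_join (D.relsK_spec hrel_251) (D.rels_join (D.relsK_spec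 hrel_252) (D.rels_join (D.relsK_spec hrel_253) (D.rels_join (D.relsK_spec hrel_254) (D.rels_join (D.relsK_spec hrel_255) (D.rels_join (D.relsK_spec hrel_256) (D.rels_join (D.relsK_spec hrel_257) (D.rels_join (D.relsK_spec hrel_258) (D.rels_join (D.relsK_spec hrel_259) (D.rels_join (D.relsK_spec hrel_260) (D.rels_join (D.relsK_spec hrel_261) (D.rels_join (D.relsK_spec hrel_262) (D.rels_join (D.relsK_spec hrel_263) (D.rels_join (D.relsK_spec hrel_264) (D.rels_join (D.relsK_spec hrel_265) (D.rels_join (D.relsK_spec hrel_266) (D.rels_join (D.relsK_spec hrel_267) (D.rels_join (D.relsK_spec hrel_268) (D.rels_join (D.relsK_spec hrel_269) (D.rels_join (D.relsK_spec hrel_270) (D.rels_join (D.relsK_spec hrel_271) (D.rels_join (D.relsK_spec hrel_272) (D.rels_join (D.relsK_spec hrel_273) (D.rels_join (D.relsK_spec hrel_274) (D.rels_join (D.relsK_spec hrel_275) (D.rels_join (D.relsK_spec hrel_276) (D.rels_join (D.relsK_spec hrel_277) (D.rels_join (D.relsK_spec hrel_278) (D.rels_join (D.relsK_spec hrel_279) (D.rels_join (D.relsK_spec hrel_280) (D.rels_join (D.relsK_spec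 hrel_281) (D.rels_join (D.relsK_spec hrel_282) (D.rels_join (D.relsK_spec hrel_283) (D.rels_join (D.relsK_spec hrel_284) (D.rels_join (D.relsK_spec hrel_285) (D.rels_join (D.relsK_spec hrel_286) (D.rels_join (D.relsK_spec hrel_287) (D.rels_join (D.relsK_spec hrel_288) (D.rels_join (D.relsK_spec hrel_289) (D.rels_join (D.relsK_spec hrel_290) (D.rels_join (D.relsK_spec hrel_291) (D.rels_join (D.relsK_spec hrel_292) (D.rels_join (D.relsK_spec hrel_293) (D.rels_join (D.relsK_spec hrel_294) (D.rels_join (D.relsK_spec hrel_295) (D.rels_join (D.relsK_spec hrel_296) (D.rels_join (D.relsK_spec hrel_297) (D.rels_join (D.relsK_spec hrel_298) (D.rels_join (D.relsK_spec hrel_299) (D.rels_join (D.relsK_spec hrel_300) (D.rels_join (D.relsK_spec hrel_301) (D.rels_join (D.relsK_spec hrel_302) (D.rels_join (D.relsK_spec hrel_303) (D.rels_join (D.relsK_spec hrel_304) (D.rels_join (D.relsK_spec hrel_305) (D.rels_join (D.relsK_spec hrel_306) (D.rels_join (D.relsK_spec hrel_307) (D.rels_join (D.relsK_spec hrel_308) (D.rels_join (D.relsK_spec hrel_309) (D.rels_join (D.relsK_spec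 hrel_310) (D.rels_join (D.relsK_spec hrel_311) (D.rels_join (D.relsK_spec hrel_312) (D.rels_join (D.relsK_spec hrel_313) (D.rels_join (D.relsK_spec hrel_314) (D.rels_join (D.relsK_spec hrel_315) (D.rels_join (D.relsK_spec hrel_316) (D.rels_join (D.relsK_spec hrel_317) (D.rels_join (D.relsK_spec hrel_318) (D.rels_join (D.relsK_spec hrel_319) (D.rels_join (D.relsK_spec hrel_320) (D.rels_join (D.relsK_spec hrel_321) (D.rels_join (D.relsK_spec hrel_322) (D.rels_join (D.relsK_spec hrel_323) (D.rels_join (D.relsK_spec hrel_324) (D.rels_join (D.relsK_spec hrel_325) (D.rels_join (D.relsK_spec hrel_326) (D.rels_join (D.relsK_spec hrel_327) (D.rels_join (D.relsK_spec hrel_328) (D.rels_join (D.relsK_spec hrel_329) (D.rels_join (D.relsK_spec hrel_330) (D.rels_join (D.relsK_spec hrel_331) (D.rels_join (D.relsK_spec hrel_332) (D.rels_join (D.relsK_spec hrel_333) (D.rels_join (D.relsK_spec hrel_334) (D.rels_join (D.relsK_spec hrel_335) (D.rels_join (D.relsK_spec hrel_336) (D.rels_join (D.relsK_spec hrel_337) (D.rels_join (D.relsK_spec hrel_338) (D.rels_join (D.relsK_spec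 hrel_339) (D.rels_join (D.relsK_spec hrel_340) (D.rels_join (D.relsK_spec hrel_341) (D.rels_join (D.relsK_spec hrel_342) (D.rels_join (D.relsK_spec hrel_343) (D.rels_join (D.relsK_spec hrel_344) (D.rels_join (D.relsK_spec hrel_345) (D.rels_join (D.relsK_spec hrel_346) (D.rels_join (D.relsK_spec hrel_347) (D.rels_join (D.relsK_spec hrel_348) (D.rels_join (D.relsK_spec hrel_349) (D.rels_join (D.relsK_spec hrel_350) (D.rels_join (D.relsK_spec hrel_351) (D.rels_join (D.relsK_spec hrel_352) (D.rels_join (D.relsK_spec hrel_353) (D.rels_join (D.relsK_spec hrel_354) (D.rels_join (D.relsK_spec hrel_355) (D.rels_join (D.relsK_spec hrel_356) (D.rels_join (D.relsK_spec hrel_357) (D.rels_join (D.relsK_spec hrel_358) (D.rels_join (D.relsK_spec hrel_359) (D.rels_join (D.relsK_spec hrel_360) (D.rels_join (D.relsK_spec hrel_361) (D.rels_join (D.relsK_spec hrel_362) (D.rels_join (D.relsK_spec hrel_363) (D.rels_join (D.relsK_spec hrel_364) (D.rels_join (D.relsK_spec hrel_365) (D.rels_join (D.relsK_spec hrel_366) (D.rels_join (D.relsK_spec hrel_367) (D.rels_join (D.relsK_spec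 hrel_368) (D.rels_join (D.relsK_spec hrel_369) (D.rels_join (D.relsK_spec hrel_370) (D.rels_join (D.relsK_spec hrel_371) (D.rels_join (D.relsK_spec hrel_372) (D.rels_join (D.relsK_spec hrel_373) (D.rels_join (D.relsK_spec hrel_374) (D.rels_join (D.relsK_spec hrel_375) (D.rels_join (D.relsK_spec hrel_376) (D.rels_join (D.relsK_spec hrel_377) (D.rels_join (D.relsK_spec hrel_378) (D.rels_join (D.relsK_spec hrel_379) (D.rels_join (D.relsK_spec hrel_380) (D.rels_join (D.relsK_spec hrel_381) (D.rels_join (D.relsK_spec hrel_382) (D.rels_join (D.relsK_spec hrel_383) (D.rels_join (D.relsK_spec hrel_384) (D.rels_join (D.relsK_spec hrel_385) (D.rels_join (D.relsK_spec hrel_386) (D.rels_join (D.relsK_spec hrel_387) (D.rels_join (D.relsK_spec hrel_388) (D.rels_join (D.relsK_spec hrel_389) (D.rels_join (D.relsK_spec hrel_390) (D.rels_join (D.relsK_spec hrel_391) (D.rels_join (D.relsK_spec hrel_392) (D.rels_join (D.relsK_spec hrel_393) (D.rels_join (D.relsK_spec hrel_394) (D.rels_join (D.relsK_spec hrel_395) (D.rels_join (D.relsK_spec hrel_396) (D.rels_join (D.relsK_spec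 hrel_397) (D.rels_join (D.relsK_spec hrel_398) (D.rels_join (D.relsK_spec hrel_399) (D.rels_join (D.relsK_spec hrel_400) (D.rels_join (D.relsK_spec hrel_401) (D.rels_join (D.relsK_spec hrel_402) (D.rels_join (D.relsK_spec hrel_403) (D.rels_join (D.relsK_spec hrel_404) (D.rels_join (D.relsK_spec hrel_405) (D.rels_join (D.relsK_spec hrel_406) (D.rels_join (D.relsK_spec hrel_407) (D.rels_join (D.relsK_spec hrel_408) (D.rels_join (D.relsK_spec hrel_409) (D.rels_join (D.relsK_spec hrel_410) (D.rels_join (D.relsK_spec hrel_411) (D.rels_join (D.relsK_spec hrel_412) (D.rels_join (D.relsK_spec hrel_413) (D.rels_join (D.relsK_spec hrel_414) (D.rels_join (D.relsK_spec hrel_415) (D.rels_join (D.relsK_spec hrel_416) (D.rels_join (D.relsK_spec hrel_417) (D.rels_join (D.relsK_spec hrel_418) (D.rels_join (D.relsK_spec hrel_419) (D.rels_join (D.relsK_spec hrel_420) (D.rels_join (D.relsK_spec hrel_421) (D.rels_join (D.relsK_spec hrel_422) (D.rels_join (D.relsK_spec hrel_423) (D.rels_join (D.relsK_spec hrel_424) (D.rels_join (D.relsK_spec hrel_425) (D.rels_join (D.relsK_spec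 hrel_426) (D.rels_join (D.relsK_spec hrel_427) (D.rels_join (D.relsK_spec hrel_428) (D.rels_join (D.relsK_spec hrel_429) (D.rels_join (D.relsK_spec hrel_430) (D.rels_join (D.relsK_spec hrel_431) (D.rels_join (D.relsK_spec hrel_432) (D.rels_join (D.relsK_spec hrel_433) (D.rels_join (D.relsK_spec hrel_434) (D.rels_join (D.relsK_spec hrel_435) (D.rels_join (D.relsK_spec hrel_436) (D.rels_join (D.relsK_spec hrel_437) (D.rels_join (D.relsK_spec hrel_438) (D.rels_join (D.relsK_spec hrel_439) (D.rels_join (D.relsK_spec hrel_440) (D.rels_join (D.relsK_spec hrel_441) (D.rels_join (D.relsK_spec hrel_442) (D.rels_join (D.relsK_spec hrel_443) (D.rels_join (D.relsK_spec hrel_444) (D.rels_join (D.relsK_spec hrel_445) (D.rels_join (D.relsK_spec hrel_446) (D.rels_join (D.relsK_spec hrel_447) (D.rels_join (D.relsK_spec hrel_448) (D.rels_join (D.relsK_spec hrel_449) (D.rels_join (D.relsK_spec hrel_450) (D.rels_join (D.relsK_spec hrel_451) (D.rels_join (D.relsK_spec hrel_452) (D.rels_join (D.relsK_spec hrel_453) (D.rels_join (D.relsK_spec hrel_454) (D.rels_join (D.relsK_spec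 hrel_455) (D.rels_join (D.relsK_spec hrel_456) (D.rels_join (D.relsK_spec hrel_457) (D.rels_join (D.relsK_spec hrel_458) (D.rels_join (D.relsK_spec hrel_459) (D.rels_join (D.relsK_spec hrel_460) (D.rels_join (D.relsK_spec hrel_461) (D.rels_join (D.relsK_spec hrel_462) (D.rels_join (D.relsK_spec hrel_463) (D.rels_join (D.relsK_spec hrel_464) (D.rels_join (D.relsK_spec hrel_465) (D.rels_join (D.relsK_spec hrel_466) (D.rels_join (D.relsK_spec hrel_467) (D.rels_join (D.relsK_spec hrel_468) (D.rels_join (D.relsK_spec hrel_469) (D.relsK_spec hrel_470)))))))))))))))))))))))))))))))))))))))))))))))))))))))))))))))))))))))))))))))))))))))))))))))))))))))))))))))))))))))))))))))))))))))))))))))))))))))))))))))))))))))))))))))))))))))))))))))))))))))))))))))))))))))))))))))))))))))))))))))))))))))))))))))))))))))))))))))))))))))))))))))))))))))))))))))))))))))))))))))))))))))))))))))))))))))))))))))))))))))))))))))))))))))))))))))))))))))))))))))))))))))))))))))))))))))))))))))))))))))))))))))))))))))))))))))))))))))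

set_option maxRecDepth 100000 in
theorem cert : Cert D rels S0 SW WT where
  hn := by decide
  hperm := hperm
  hlift := cox_lift Fi24.edges Fi24.extra nl EW hnl hE (D.perm hperm) (fun L hL =>
    D.lift_mk_eq_one hperm L (fun i hi => hrel L (hRW ▸ hL) i (Nat.zero_le _) hi))
  hS1 := hS1
  hsub := D.subK_spec hsubK
  hdec := hdec
  hm := hm
  hWT := hWTeq ▸ mkWT_spec rels S0 _ RWP TW SW hinv
    (fun wp hwp => hRW1 wp.1 (hRWP ▸ List.mem_map_of_mem hwp)) hS2
  hpi0 := hpi0
  htree := (allRange_join (allRange_spec htree_0) (allRange_join (allRange_spec htree_1) (allRange_join (allRange_spec htree_2) (allRange_join (allRange_spec htree_3) (allRange_join (allRange_spec htree_4) (allRange_join (allRange_spec htree_5) (allRange_join (allRange_spec htree_6) (allRange_join (allRange_spec htree_7) (allRange_join (allRange_spec htree_8) (allRange_spec htree_9))))))))))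
  hrn0 := hrn0
  hrn := fun i hi => (allRange_join (allRange_spec hrnK_0) (allRange_join (allRange_spec hrnK_1) (allRange_join (allRange_spec hrnK_2) (allRange_join (allRange_spec hrnK_3) (allRange_join (allRange_spec hrnK_4) (allRange_spec hrnK_5)))))) i (Nat.zero_le _) hi
  hfact := fun id hid => (allRange_join (allRange_spec hfact_0) (allRange_join (allRange_spec hfact_1) (allRange_join (allRange_spec hfact_2) (allRange_join (allRange_spec hfact_3) (allRange_join (allRange_spec hfact_4) (allRange_join (allRange_spec hfact_5) (allRange_join (allRange_spec hfact_6) (allRange_join (allRange_spec hfact_7) (allRange_join (allRange_spec hfact_8) (allRange_join (allRange_spec hfact_9) (allRange_join (allRange_spec hfact_10) (allRange_join (allRange_spec hfact_11) (allRange_join (allRange_spec hfact_12) (allRange_join (allRange_spec hfact_13) (allRange_join (allRange_spec hfact_14) (allRange_join (allRange_spec hfact_15) (allRange_join (allRange_spec hfact_16) (allRange_join (allRange_spec hfact_17) (allRange_join (allRange_spec hfact_18) (allRange_join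 (allRange_spec hfact_19) (allRange_join (allRange_spec hfact_20) (allRange_join (allRange_spec hfact_21) (allRange_join (allRange_spec hfact_22) (allRange_join (allRange_spec hfact_23) (allRange_join (allRange_spec hfact_24) (allRange_join (allRange_spec hfact_25) (allRange_join (allRange_spec hfact_26) (allRange_join (allRange_spec hfact_27) (allRange_join (allRange_spec hfact_28) (allRange_join (allRange_spec hfact_29) (allRange_join (allRange_spec hfact_30) (allRange_join (allRange_spec hfact_31) (allRange_join (allRange_spec hfact_32) (allRange_join (allRange_spec hfact_33) (allRange_join (allRange_spec hfact_34) (allRange_join (allRange_spec hfact_35) (allRange_join (allRange_spec hfact_36) (allRange_join (allRange_spec hfact_37) (allRange_join (allRange_spec hfact_38) (allRange_join (allRange_spec hfact_39) (allRange_join (allRange_spec hfact_40) (allRange_join (allRange_spec hfact_41) (allRange_join (allRange_spec hfact_42) (allRange_join (allRange_spec hfact_43) (allRange_join (allRange_spec hfact_44) (allRange_join (allRange_spec hfact_45)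 (allRange_join (allRange_spec hfact_46) (allRange_join (allRange_spec hfact_47) (allRange_join (allRange_spec hfact_48) (allRange_join (allRange_spec hfact_49) (allRange_join (allRange_spec hfact_50) (allRange_join (allRange_spec hfact_51) (allRange_join (allRange_spec hfact_52) (allRange_join (allRange_spec hfact_53) (allRange_join (allRange_spec hfact_54) (allRange_join (allRange_spec hfact_55) (allRange_join (allRange_spec hfact_56) (allRange_join (allRange_spec hfact_57) (allRange_join (allRange_spec hfact_58) (allRange_join (allRange_spec hfact_59) (allRange_join (allRange_spec hfact_60) (allRange_join (allRange_spec hfact_61) (allRange_join (allRange_spec hfact_62) (allRange_join (allRange_spec hfact_63) (allRange_join (allRange_spec hfact_64) (allRange_join (allRange_spec hfact_65) (allRange_join (allRange_spec hfact_66) (allRange_join (allRange_spec hfact_67) (allRange_join (allRange_spec hfact_68) (allRange_join (allRange_spec hfact_69) (allRange_join (allRange_spec hfact_70) (allRange_join (allRange_spec hfact_71) (allRange_join (allRange_spec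 hfact_72) (allRange_join (allRange_spec hfact_73) (allRange_join (allRange_spec hfact_74) (allRange_join (allRange_spec hfact_75) (allRange_join (allRange_spec hfact_76) (allRange_join (allRange_spec hfact_77) (allRange_join (allRange_spec hfact_78) (allRange_join (allRange_spec hfact_79) (allRange_join (allRange_spec hfact_80) (allRange_join (allRange_spec hfact_81) (allRange_join (allRange_spec hfact_82) (allRange_join (allRange_spec hfact_83) (allRange_join (allRange_spec hfact_84) (allRange_join (allRange_spec hfact_85) (allRange_join (allRange_spec hfact_86) (allRange_join (allRange_spec hfact_87) (allRange_join (allRange_spec hfact_88) (allRange_join (allRange_spec hfact_89) (allRange_join (allRange_spec hfact_90) (allRange_join (allRange_spec hfact_91) (allRange_join (allRange_spec hfact_92) (allRange_join (allRange_spec hfact_93) (allRange_join (allRange_spec hfact_94) (allRange_join (allRange_spec hfact_95) (allRange_join (allRange_spec hfact_96) (allRange_join (allRange_spec hfact_97) (allRange_join (allRange_spec hfact_98) (allRange_join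 (allRange_spec hfact_99) (allRange_join (allRange_spec hfact_100) (allRange_join (allRange_spec hfact_101) (allRange_join (allRange_spec hfact_102) (allRange_join (allRange_spec hfact_103) (allRange_join (allRange_spec hfact_104) (allRange_join (allRange_spec hfact_105) (allRange_join (allRange_spec hfact_106) (allRange_join (allRange_spec hfact_107) (allRange_join (allRange_spec hfact_108) (allRange_join (allRange_spec hfact_109) (allRange_join (allRange_spec hfact_110) (allRange_join (allRange_spec hfact_111) (allRange_join (allRange_spec hfact_112) (allRange_join (allRange_spec hfact_113) (allRange_join (allRange_spec hfact_114) (allRange_join (allRange_spec hfact_115) (allRange_join (allRange_spec hfact_116) (allRange_join (allRange_spec hfact_117) (allRange_join (allRange_spec hfact_118) (allRange_join (allRange_spec hfact_119) (allRange_join (allRange_spec hfact_120) (allRange_join (allRange_spec hfact_121) (allRange_join (allRange_spec hfact_122) (allRange_join (allRange_spec hfact_123) (allRange_join (allRange_spec hfact_124) (allRange_join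 (allRange_spec hfact_125) (allRange_join (allRange_spec hfact_126) (allRange_join (allRange_spec hfact_127) (allRange_join (allRange_spec hfact_128) (allRange_join (allRange_spec hfact_129) (allRange_join (allRange_spec hfact_130) (allRange_join (allRange_spec hfact_131) (allRange_join (allRange_spec hfact_132) (allRange_join (allRange_spec hfact_133) (allRange_join (allRange_spec hfact_134) (allRange_join (allRange_spec hfact_135) (allRange_join (allRange_spec hfact_136) (allRange_join (allRange_spec hfact_137) (allRange_join (allRange_spec hfact_138) (allRange_join (allRange_spec hfact_139) (allRange_join (allRange_spec hfact_140) (allRange_join (allRange_spec hfact_141) (allRange_join (allRange_spec hfact_142) (allRange_join (allRange_spec hfact_143) (allRange_join (allRange_spec hfact_144) (allRange_join (allRange_spec hfact_145) (allRange_join (allRange_spec hfact_146) (allRange_join (allRange_spec hfact_147) (allRange_join (allRange_spec hfact_148) (allRange_join (allRange_spec hfact_149) (allRange_join (allRange_spec hfact_150) (allRange_join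 (allRange_spec hfact_151) (allRange_join (allRange_spec hfact_152) (allRange_join (allRange_spec hfact_153) (allRange_join (allRange_spec hfact_154) (allRange_join (allRange_spec hfact_155) (allRange_join (allRange_spec hfact_156) (allRange_join (allRange_spec hfact_157) (allRange_join (allRange_spec hfact_158) (allRange_join (allRange_spec hfact_159) (allRange_join (allRange_spec hfact_160) (allRange_join (allRange_spec hfact_161) (allRange_join (allRange_spec hfact_162) (allRange_join (allRange_spec hfact_163) (allRange_join (allRange_spec hfact_164) (allRange_join (allRange_spec hfact_165) (allRange_join (allRange_spec hfact_166) (allRange_join (allRange_spec hfact_167) (allRange_join (allRange_spec hfact_168) (allRange_join (allRange_spec hfact_169) (allRange_join (allRange_spec hfact_170) (allRange_join (allRange_spec hfact_171) (allRange_join (allRange_spec hfact_172) (allRange_join (allRange_spec hfact_173) (allRange_join (allRange_spec hfact_174) (allRange_join (allRange_spec hfact_175) (allRange_join (allRange_spec hfact_176) (allRange_join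 (allRange_spec hfact_177) (allRange_join (allRange_spec hfact_178) (allRange_join (allRange_spec hfact_179) (allRange_join (allRange_spec hfact_180) (allRange_join (allRange_spec hfact_181) (allRange_join (allRange_spec hfact_182) (allRange_join (allRange_spec hfact_183) (allRange_join (allRange_spec hfact_184) (allRange_join (allRange_spec hfact_185) (allRange_join (allRange_spec hfact_186) (allRange_join (allRange_spec hfact_187) (allRange_join (allRange_spec hfact_188) (allRange_join (allRange_spec hfact_189) (allRange_join (allRange_spec hfact_190) (allRange_join (allRange_spec hfact_191) (allRange_join (allRange_spec hfact_192) (allRange_join (allRange_spec hfact_193) (allRange_join (allRange_spec hfact_194) (allRange_join (allRange_spec hfact_195) (allRange_join (allRange_spec hfact_196) (allRange_join (allRange_spec hfact_197) (allRange_join (allRange_spec hfact_198) (allRange_spec hfact_199))))))))))))))))))))))))))))))))))))))))))))))))))))))))))))))))))))))))))))))))))))))))))))))))))))))))))))))))))))))))))))))))))))))))))))))))))))))))))))))))))))))))))))))))))))))))))))))))))))))))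 id (Nat.zero_le _) hid
  hfin := hfin

/-- In the presented group Fi₂₄ = Fi₂₄′:2, the subgroup generated by the images of a, b, c, d, e, f, g, h, i, j and l (every generator but k) has index 306936. -/
theorem result : (((Subgroup.closure ({Cfsg.Spor.Fi24.a, Cfsg.Spor.Fi24.b, Cfsg.Spor.Fi24.c, Cfsg.Spor.Fi24.d, Cfsg.Spor.Fi24.e, Cfsg.Spor.Fi24.f, Cfsg.Spor.Fi24.g, Cfsg.Spor.Fi24.h, Cfsg.Spor.Fi24.i, Cfsg.Spor.Fi24.j, Cfsg.Spor.Fi24.l} : Set (FreeGroup Cfsg.Spor.Fi24.Gen))).map (PresentedGroup.mk (Cfsg.Spor.coxRelators Cfsg.Spor.Fi24.edges ∪ {r | r ∈ Cfsg.Spor.Fi24.extra})))).index = 306936 := by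
  exact cert.index

end Cfsg.Agent.S1690
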