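import Cfsg.Statements.S1692
import Cfsg.Agent.Lib.helper9.CE1692C0
import Cfsg.Agent.Lib.helper9.CE1692C1
import Cfsg.Agent.Lib.helper9.CE1692C2
import Cfsg.Agent.Lib.helper9.CE1692C3
import Cfsg.Agent.Lib.helper9.CE1692C4
import Cfsg.Agent.Lib.helper9.CE1692C5
import Cfsg.Agent.Lib.helper9.CE1692C6
import Cfsg.Agent.Lib.helper9.CE1692C7

set_option autoImplicit false
open Cfsg

namespace Cfsg.Agent.S1692

open Cfsg.Agent.Lib.helper9.CE Cfsg.Agent.Lib.helper9.CE1692
open Cfsg.Spor
open Cfsg.Spor.ON (Gen)

/-- the generators of the subgroup -/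
abbrev S0 : Set (FreeGroup Gen) := {Cfsg.Spor.ON.a, Cfsg.Spor.ON.b, Cfsg.Spor.ON.c, Cfsg.Spor.ON.d, Cfsg.Spor.ON.e, Cfsg.Spor.ON.f}

theorem hS1 : ∀ s ∈ S0, ∃ L ∈ SW, s = FreeGroup.mk L := by
  intro s hs
  rcases hs with rfl | rfl | rfl | rfl | rfl | rfl
  · exact ⟨[(Gen.a, true)], by decide, rfl⟩
  · exact ⟨[(Gen.b, true)], by decide, rfl⟩
  · exact ⟨[(Gen.c, true)], by decide, rfl⟩
  · exact ⟨[(Gen.d, true)], by decide, rfl⟩
  · exact ⟨[(Gen.e, true)], by decide, rfl⟩
  · exact ⟨[(Gen.f, true)], by decide, rfl⟩

theorem hS2 : ∀ L ∈ SW, FreeGroup.mk L ∈ S0 := by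
  intro L hL
  simp only [SW, List.mem_cons, List.mem_nil_iff, or_false] at hL
  rcases hL with rfl | rfl | rfl | rfl | rfl | rfl
  · exact Or.inl rfl
  · exact Or.inr (Or.inl rfl)
  · exact Or.inr (Or.inr (Or.inl rfl))
  · exact Or.inr (Or.inr (Or.inr (Or.inl rfl)))
  · exact Or.inr (Or.inr (Or.inr (Or.inr (Or.inl rfl))))
  · exact Or.inr (Or.inr (Or.inr (Or.inr (Or.inr (rfl)))))

theorem hperm : ∀ x : Gen, ∀ i, i < D.n → D.permK x i = true := by
  intro x i hi
  cases x
  · exact allRange_spec hperm_g i (Nat.zero_le _) hi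
  · exact allRange_spec hperm_a i (Nat.zero_le _) hi
  · exact allRange_spec hperm_b i (Nat.zero_le _) hi
  · exact allRange_spec hperm_c i (Nat.zero_le _) hi
  · exact allRange_spec hperm_d i (Nat.zero_le _) hi
  · exact allRange_spec hperm_e i (Nat.zero_le _) hi
  · exact allRange_spec hperm_f i (Nat.zero_le _) hi

theorem hfin : ∀ x : Gen, ∀ i, i < D.n → D.finK x i = true := by
  intro x i hi
  cases x
  · exact allRange_spec hfin_g i (Nat.zero_le _) hi
  · exact allRange_spec hfin_a i (Nat.zero_le _) hi
  · exact allRange_spec hfin_b i (Nat.zero_le _) hi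
  · exact allRange_spec hfin_c i (Nat.zero_le _) hi
  · exact allRange_spec hfin_d i (Nat.zero_le _) hi
  · exact allRange_spec hfin_e i (Nat.zero_le _) hi
  · exact allRange_spec hfin_f i (Nat.zero_le _) hi

theorem hrel : ∀ L ∈ RW, ∀ i, 0 ≤ i → i < D.n → D.walk L i = i :=
  (D.rels_join (D.relsK_spec hrel_0) (D.rels_join (D.relsK_spec hrel_1) (D.rels_join (D.relsK_spec hrel_2) (D.rels_join (D.relsK_spec hrel_3) (D.rels_join (D.relsK_spec hrel_4) (D.rels_join (D.relsK_spec hrel_5) (D.rels_join (D.relsK_spec hrel_6) (D.rels_join (D.relsK_spec hrel_7) (D.rels_join (D.relsK_spec hrel_8) (D.rels_join (D.relsK_spec hrel_9) (D.rels_join (D.relsK_spec hrel_10) (D.rels_join (D.relsK_spec hrel_11) (D.rels_join (D.relsK_spec hrel_12) (D.rels_join (D.relsK_spec hrel_13) (D.rels_join (D.relsK_spec hrel_14) (D.rels_join (D.relsK_spec hrel_15) (D.rels_join (D.relsK_spec hrel_16) (D.rels_join (D.relsK_spec hrel_17) (D.rels_join (D.relsK_spec hrel_18) (D.rels_join (D.relsK_spec hrel_19) (D.rels_join (D.relsK_spec hrel_20) (D.rels_join (D.relsK_spec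 hrel_21) (D.rels_join (D.relsK_spec hrel_22) (D.rels_join (D.relsK_spec hrel_23) (D.rels_join (D.relsK_spec hrel_24) (D.rels_join (D.relsK_spec hrel_25) (D.rels_join (D.relsK_spec hrel_26) (D.rels_join (D.relsK_spec hrel_27) (D.rels_join (D.relsK_spec hrel_28) (D.rels_join (D.relsK_spec hrel_29) (D.rels_join (D.relsK_spec hrel_30) (D.rels_join (D.relsK_spec hrel_31) (D.rels_join (D.relsK_spec hrel_32) (D.rels_join (D.relsK_spec hrel_33) (D.rels_join (D.relsK_spec hrel_34) (D.rels_join (D.relsK_spec hrel_35) (D.rels_join (D.relsK_spec hrel_36) (D.rels_join (D.relsK_spec hrel_37) (D.rels_join (D.relsK_spec hrel_38) (D.rels_join (D.relsK_spec hrel_39) (D.rels_join (D.relsK_spec hrel_40) (D.rels_join (D.relsK_spec hrel_41) (D.rels_join (D.relsK_spec hrel_42) (D.rels_join (D.relsK_spec hrel_43) (D.rels_join (D.relsK_spec hrel_44) (D.rels_join (D.relsK_spec hrel_45) (D.rels_join (D.relsK_spec hrel_46) (D.rels_join (D.relsK_spec hrel_47) (D.rels_join (D.relsK_spec hrel_48) (D.rels_join (D.relsK_spec hrel_49) (D.rels_join (D.relsK_spec hrel_50)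 (D.relsK_spec hrel_51))))))))))))))))))))))))))))))))))))))))))))))))))))

theorem cert : Cert D rels S0 SW WT where
  hn := by decide
  hperm := hperm
  hlift := cox_lift ON.edges ON.extra nl EW hnl hE (D.perm hperm) (fun L hL =>
    D.lift_mk_eq_one hperm L (fun i hi => hrel L (hRW ▸ hL) i (Nat.zero_le _) hi))
  hS1 := hS1
  hsub := D.subK_spec hsubK
  hdec := hdec
  hm := hm
  hWT := hWTeq ▸ mkWT_spec rels S0 _ RWP TW SW hinv
    (fun wp hwp => hRW1 wp.1 (hRWP ▸ List.mem_map_of_mem hwp)) hS2
  hpi0 := hpi0
  htree := (allRange_join (allRange_spec htree_0) (allRange_join (allRange_spec htree_1) (allRange_join (allRange_spec htree_2) (allRange_join (allRange_spec htree_3) (allRange_join (allRange_spec htree_4) (allRange_spec htree_5))))))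
  hrn0 := hrn0
  hrn := fun i hi => allRange_spec hrnK i (Nat.zero_le _) hi
  hfact := fun id hid => (allRange_join (allRange_spec hfact_0) (allRange_join (allRange_spec hfact_1) (allRange_join (allRange_spec hfact_2) (allRange_join (allRange_spec hfact_3) (allRange_join (allRange_spec hfact_4) (allRange_join (allRange_spec hfact_5) (allRange_join (allRange_spec hfact_6) (allRange_join (allRange_spec hfact_7) (allRange_join (allRange_spec hfact_8) (allRange_join (allRange_spec hfact_9) (allRange_join (allRange_spec hfact_10) (allRange_join (allRange_spec hfact_11) (allRange_join (allRange_spec hfact_12) (allRange_join (allRange_spec hfact_13) (allRange_join (allRange_spec hfact_14) (allRange_join (allRange_spec hfact_15) (allRange_join (allRange_spec hfact_16) (allRange_join (allRange_spec hfact_17) (allRange_join (allRange_spec hfact_18) (allRange_join (allRange_spec hfact_19) (allRange_join (allRange_spec hfact_20) (allRange_join (allRange_spec hfact_21) (allRange_join (allRange_spec hfact_22) (allRange_join (allRange_spec hfact_23)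 (allRange_join (allRange_spec hfact_24) (allRange_join (allRange_spec hfact_25) (allRange_join (allRange_spec hfact_26) (allRange_join (allRange_spec hfact_27) (allRange_join (allRange_spec hfact_28) (allRange_join (allRange_spec hfact_29) (allRange_join (allRange_spec hfact_30) (allRange_join (allRange_spec hfact_31) (allRange_join (allRange_spec hfact_32) (allRange_join (allRange_spec hfact_33) (allRange_join (allRange_spec hfact_34) (allRange_join (allRange_spec hfact_35) (allRange_join (allRange_spec hfact_36) (allRange_join (allRange_spec hfact_37) (allRange_join (allRange_spec hfact_38) (allRange_join (allRange_spec hfact_39) (allRange_join (allRange_spec hfact_40) (allRange_join (allRange_spec hfact_41) (allRange_join (allRange_spec hfact_42) (allRange_join (allRange_spec hfact_43) (allRange_join (allRange_spec hfact_44) (allRange_join (allRange_spec hfact_45) (allRange_join (allRange_spec hfact_46) (allRange_join (allRange_spec hfact_47) (allRange_join (allRange_spec hfact_48) (allRange_join (allRange_spec hfact_49) (allRange_join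 (allRange_spec hfact_50) (allRange_join (allRange_spec hfact_51) (allRange_join (allRange_spec hfact_52) (allRange_join (allRange_spec hfact_53) (allRange_join (allRange_spec hfact_54) (allRange_join (allRange_spec hfact_55) (allRange_join (allRange_spec hfact_56) (allRange_join (allRange_spec hfact_57) (allRange_join (allRange_spec hfact_58) (allRange_join (allRange_spec hfact_59) (allRange_join (allRange_spec hfact_60) (allRange_join (allRange_spec hfact_61) (allRange_join (allRange_spec hfact_62) (allRange_join (allRange_spec hfact_63) (allRange_join (allRange_spec hfact_64) (allRange_join (allRange_spec hfact_65) (allRange_join (allRange_spec hfact_66) (allRange_join (allRange_spec hfact_67) (allRange_join (allRange_spec hfact_68) (allRange_join (allRange_spec hfact_69) (allRange_join (allRange_spec hfact_70) (allRange_spec hfact_71)))))))))))))))))))))))))))))))))))))))))))))))))))))))))))))))))))))))) id (Nat.zero_le _) hid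
  hfin := hfin

/-- In the presented O'Nan group (generators g, a, b, c, d, e, f), the subgroup generated by the images of a, …, f has index 122760. -/
theorem result : (((Subgroup.closure ({Cfsg.Spor.ON.a, Cfsg.Spor.ON.b, Cfsg.Spor.ON.c, Cfsg.Spor.ON.d, Cfsg.Spor.ON.e, Cfsg.Spor.ON.f} : Set (FreeGroup Cfsg.Spor.ON.Gen))).map (PresentedGroup.mk (Cfsg.Spor.coxRelators Cfsg.Spor.ON.edges ∪ {r | r ∈ Cfsg.Spor.ON.extra})))).index = 122760 := by
  exact cert.index

end Cfsg.Agent.S1692
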