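import Mathlib
import Cfsg.Statements.S1897
import Cfsg.Agent.Lib.helper17.SL25
import Cfsg.Agent.Lib.helper17.U33
import Cfsg.Agent.Lib.helper17.U32

set_option autoImplicit false
open Cfsg

namespace Cfsg.Agent.S1897

open Cfsg.Agent.Lib.helper17.SL25 (M2 enc enc_one enc_mul enc_injective enc_det)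
open Cfsg.Agent.Lib.helper17.SL33
open Cfsg.Agent.Lib.helper17.U33

/-- the homomorphism `SL(2,7) → SU(3,3)`, as a table indexed by the four entries -/
def tab4 : List (List (List (List (M3 F9)))) :=
  [[[[1, 1, 1, 1, 1, 1, 1],
      [1, 1, 1, 1, 1, 1, 1],
      [1, 1, 1, 1, 1, 1, 1],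
      [1, 1, 1, 1, 1, 1, 1],
      [1, 1, 1, 1, 1, 1, 1],
      [1, 1, 1, 1, 1, 1, 1],
      [1, 1, 1, 1, 1, 1, 1]],
    [[1, 1, 1, 1, 1, 1, 1],
      [1, 1, 1, 1, 1, 1, 1],
      [1, 1, 1, 1, 1, 1, 1],
      [1, 1, 1, 1, 1, 1, 1],
      [1, 1, 1, 1, 1, 1, 1],
      [1, 1, 1, 1, 1, 1, 1],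
      [⟨⟨0, 0⟩, ⟨0, 1⟩, ⟨0, 0⟩, ⟨0, 2⟩, ⟨0, 0⟩, ⟨0, 0⟩, ⟨0, 0⟩, ⟨0, 0⟩, ⟨2, 0⟩⟩, ⟨⟨0, 1⟩, ⟨2, 1⟩, ⟨0, 2⟩, ⟨1, 0⟩, ⟨0, 1⟩, ⟨2, 1⟩, ⟨2, 2⟩, ⟨1, 0⟩, ⟨0, 1⟩⟩, ⟨⟨2, 0⟩, ⟨1, 0⟩, ⟨1, 1⟩, ⟨1, 2⟩, ⟨2, 0⟩, ⟨0, 2⟩, ⟨1, 0⟩, ⟨2, 1⟩, ⟨0, 2⟩⟩, ⟨⟨1, 1⟩, ⟨1, 0⟩, ⟨1, 0⟩, ⟨1, 0⟩, ⟨1, 1⟩, ⟨1, 0⟩, ⟨0, 1⟩, ⟨0, 1⟩, ⟨2, 1⟩⟩, ⟨⟨1, 2⟩, ⟨2, 0⟩, ⟨2, 0⟩, ⟨2, 0⟩, ⟨1, 2⟩, ⟨1, 0⟩, ⟨0, 1⟩, ⟨0, 2⟩, ⟨2, 2⟩⟩, ⟨⟨2, 0⟩, ⟨2, 0⟩, ⟨2, 1⟩, ⟨2, 2⟩, ⟨2, 0⟩, ⟨0, 1⟩, ⟨2, 0⟩, ⟨2, 2⟩, ⟨0, 1⟩⟩, ⟨⟨0, 2⟩, ⟨1, 1⟩, ⟨0, 2⟩, ⟨2, 0⟩, ⟨0, 2⟩, ⟨2, 2⟩, ⟨1, 2⟩, ⟨1, 0⟩, ⟨0, 2⟩⟩]],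
    [[1, 1, 1, 1, 1, 1, 1],
      [1, 1, 1, 1, 1, 1, 1],
      [1, 1, 1, 1, 1, 1, 1],
      [⟨⟨0, 0⟩, ⟨0, 0⟩, ⟨0, 2⟩, ⟨0, 0⟩, ⟨2, 0⟩, ⟨0, 0⟩, ⟨0, 1⟩, ⟨0, 0⟩, ⟨0, 0⟩⟩, ⟨⟨0, 1⟩, ⟨2, 2⟩, ⟨1, 0⟩, ⟨0, 2⟩, ⟨0, 1⟩, ⟨2, 1⟩, ⟨2, 1⟩, ⟨1, 0⟩, ⟨0, 1⟩⟩, ⟨⟨2, 0⟩, ⟨1, 0⟩, ⟨1, 2⟩, ⟨1, 1⟩, ⟨0, 2⟩, ⟨0, 2⟩, ⟨1, 0⟩, ⟨2, 1⟩, ⟨2, 0⟩⟩, ⟨⟨1, 1⟩, ⟨0, 1⟩, ⟨1, 0⟩, ⟨1, 0⟩, ⟨2, 1⟩, ⟨1, 0⟩, ⟨1, 0⟩, ⟨0, 1⟩, ⟨1, 1⟩⟩, ⟨⟨1, 2⟩, ⟨0, 1⟩, ⟨2, 0⟩, ⟨2, 0⟩, ⟨2, 2⟩, ⟨1, 0⟩, ⟨2, 0⟩, ⟨0, 2⟩, ⟨1, 2⟩⟩, ⟨⟨2, 0⟩, ⟨2, 0⟩, ⟨2, 2⟩, ⟨2, 1⟩, ⟨0, 1⟩, ⟨0, 1⟩, ⟨2, 0⟩, ⟨2, 2⟩, ⟨2, 0⟩⟩, ⟨⟨0, 2⟩, ⟨1, 2⟩,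 ⟨2, 0⟩, ⟨0, 2⟩, ⟨0, 2⟩, ⟨2, 2⟩, ⟨1, 1⟩, ⟨1, 0⟩, ⟨0, 2⟩⟩],
      [1, 1, 1, 1, 1, 1, 1],
      [1, 1, 1, 1, 1, 1, 1],
      [1, 1, 1, 1, 1, 1, 1]],
    [[1, 1, 1, 1, 1, 1, 1],
      [1, 1, 1, 1, 1, 1, 1],
      [⟨⟨2, 0⟩, ⟨0, 0⟩, ⟨0, 0⟩, ⟨0, 0⟩, ⟨0, 0⟩, ⟨1, 0⟩, ⟨0, 0⟩, ⟨1, 0⟩, ⟨0, 0⟩⟩, ⟨⟨0, 2⟩, ⟨1, 2⟩, ⟨0, 2⟩, ⟨0, 2⟩, ⟨0, 2⟩, ⟨1, 2⟩, ⟨1, 2⟩, ⟨0, 2⟩, ⟨0, 2⟩⟩, ⟨⟨0, 1⟩, ⟨2, 0⟩, ⟨2, 1⟩, ⟨2, 1⟩, ⟨2, 0⟩, ⟨0, 1⟩, ⟨2, 0⟩, ⟨1, 2⟩, ⟨2, 0⟩⟩, ⟨⟨2, 2⟩, ⟨0, 1⟩, ⟨2, 0⟩, ⟨2, 0⟩, ⟨1, 2⟩, ⟨0, 1⟩, ⟨0, 1⟩, ⟨0, 2⟩, ⟨1, 2⟩⟩, ⟨⟨2, 1⟩, ⟨0, 1⟩, ⟨1, 0⟩, ⟨1, 0⟩, ⟨1, 1⟩, ⟨0, 2⟩,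 ⟨0, 1⟩, ⟨0, 1⟩, ⟨1, 1⟩⟩, ⟨⟨0, 2⟩, ⟨1, 0⟩, ⟨1, 1⟩, ⟨1, 1⟩, ⟨2, 0⟩, ⟨0, 2⟩, ⟨1, 0⟩, ⟨1, 1⟩, ⟨2, 0⟩⟩, ⟨⟨0, 1⟩, ⟨2, 2⟩, ⟨0, 2⟩, ⟨0, 2⟩, ⟨0, 1⟩, ⟨1, 1⟩, ⟨2, 2⟩, ⟨0, 1⟩, ⟨0, 1⟩⟩],
      [1, 1, 1, 1, 1, 1, 1],
      [1, 1, 1, 1, 1, 1, 1],
      [1, 1, 1, 1, 1, 1, 1],
      [1, 1, 1, 1, 1, 1, 1]],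
    [[1, 1, 1, 1, 1, 1, 1],
      [1, 1, 1, 1, 1, 1, 1],
      [1, 1, 1, 1, 1, 1, 1],
      [1, 1, 1, 1, 1, 1, 1],
      [1, 1, 1, 1, 1, 1, 1],
      [⟨⟨2, 0⟩, ⟨0, 0⟩, ⟨0, 0⟩, ⟨0, 0⟩, ⟨0, 0⟩, ⟨1, 0⟩, ⟨0, 0⟩, ⟨1, 0⟩, ⟨0, 0⟩⟩, ⟨⟨0, 1⟩, ⟨2, 2⟩, ⟨0, 2⟩, ⟨0, 2⟩, ⟨0, 1⟩, ⟨1, 1⟩, ⟨2, 2⟩, ⟨0, 1⟩, ⟨0, 1⟩⟩, ⟨⟨0, 2⟩, ⟨1, 0⟩, ⟨1, 1⟩, ⟨1, 1⟩, ⟨2, 0⟩, ⟨0, 2⟩, ⟨1, 0⟩, ⟨1, 1⟩, ⟨2, 0⟩⟩, ⟨⟨2, 1⟩, ⟨0, 1⟩, ⟨1, 0⟩, ⟨1, 0⟩, ⟨1, 1⟩, ⟨0, 2⟩, ⟨0, 1⟩, ⟨0, 1⟩, ⟨1, 1⟩⟩, ⟨⟨2, 2⟩, ⟨0, 1⟩, ⟨2, 0⟩, ⟨2, 0⟩, ⟨1, 2⟩, ⟨0, 1⟩, ⟨0, 1⟩, ⟨0, 2⟩, ⟨1, 2⟩⟩, ⟨⟨0, 1⟩, ⟨2, 0⟩, ⟨2, 1⟩, ⟨2, 1⟩,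 ⟨2, 0⟩, ⟨0, 1⟩, ⟨2, 0⟩, ⟨1, 2⟩, ⟨2, 0⟩⟩, ⟨⟨0, 2⟩, ⟨1, 2⟩, ⟨0, 2⟩, ⟨0, 2⟩, ⟨0, 2⟩, ⟨1, 2⟩, ⟨1, 2⟩, ⟨0, 2⟩, ⟨0, 2⟩⟩],
      [1, 1, 1, 1, 1, 1, 1]],
    [[1, 1, 1, 1, 1, 1, 1],
      [1, 1, 1, 1, 1, 1, 1],
      [1, 1, 1, 1, 1, 1, 1],
      [1, 1, 1, 1, 1, 1, 1],
      [⟨⟨0, 0⟩, ⟨0, 0⟩, ⟨0, 2⟩, ⟨0, 0⟩, ⟨2, 0⟩, ⟨0, 0⟩, ⟨0, 1⟩, ⟨0, 0⟩, ⟨0, 0⟩⟩, ⟨⟨0, 2⟩, ⟨1, 2⟩, ⟨2, 0⟩, ⟨0, 2⟩, ⟨0, 2⟩, ⟨2, 2⟩, ⟨1, 1⟩, ⟨1, 0⟩, ⟨0, 2⟩⟩, ⟨⟨2, 0⟩, ⟨2, 0⟩, ⟨2, 2⟩, ⟨2, 1⟩, ⟨0, 1⟩, ⟨0, 1⟩, ⟨2, 0⟩, ⟨2, 2⟩, ⟨2, 0⟩⟩, ⟨⟨1, 2⟩, ⟨0, 1⟩, ⟨2, 0⟩, ⟨2, 0⟩, ⟨2, 2⟩, ⟨1, 0⟩, ⟨2, 0⟩, ⟨0, 2⟩,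 ⟨1, 2⟩⟩, ⟨⟨1, 1⟩, ⟨0, 1⟩, ⟨1, 0⟩, ⟨1, 0⟩, ⟨2, 1⟩, ⟨1, 0⟩, ⟨1, 0⟩, ⟨0, 1⟩, ⟨1, 1⟩⟩, ⟨⟨2, 0⟩, ⟨1, 0⟩, ⟨1, 2⟩, ⟨1, 1⟩, ⟨0, 2⟩, ⟨0, 2⟩, ⟨1, 0⟩, ⟨2, 1⟩, ⟨2, 0⟩⟩, ⟨⟨0, 1⟩, ⟨2, 2⟩, ⟨1, 0⟩, ⟨0, 2⟩, ⟨0, 1⟩, ⟨2, 1⟩, ⟨2, 1⟩, ⟨1, 0⟩, ⟨0, 1⟩⟩],
      [1, 1, 1, 1, 1, 1, 1],
      [1, 1, 1, 1, 1, 1, 1]],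
    [[1, 1, 1, 1, 1, 1, 1],
      [⟨⟨0, 0⟩, ⟨0, 1⟩, ⟨0, 0⟩, ⟨0, 2⟩, ⟨0, 0⟩, ⟨0, 0⟩, ⟨0, 0⟩, ⟨0, 0⟩, ⟨2, 0⟩⟩, ⟨⟨0, 2⟩, ⟨1, 1⟩, ⟨0, 2⟩, ⟨2, 0⟩, ⟨0, 2⟩, ⟨2, 2⟩, ⟨1, 2⟩, ⟨1, 0⟩, ⟨0, 2⟩⟩, ⟨⟨2, 0⟩, ⟨2, 0⟩, ⟨2, 1⟩, ⟨2, 2⟩, ⟨2, 0⟩, ⟨0, 1⟩, ⟨2, 0⟩, ⟨2, 2⟩, ⟨0, 1⟩⟩, ⟨⟨1, 2⟩, ⟨2, 0⟩, ⟨2, 0⟩, ⟨2, 0⟩, ⟨1, 2⟩, ⟨1, 0⟩, ⟨0, 1⟩, ⟨0, 2⟩, ⟨2, 2⟩⟩, ⟨⟨1, 1⟩, ⟨1, 0⟩, ⟨1, 0⟩, ⟨1, 0⟩, ⟨1, 1⟩, ⟨1, 0⟩, ⟨0, 1⟩, ⟨0, 1⟩, ⟨2, 1⟩⟩, ⟨⟨2, 0⟩, ⟨1, 0⟩, ⟨1, 1⟩, ⟨1, 2⟩, ⟨2, 0⟩, ⟨0, 2⟩, ⟨1, 0⟩, ⟨2, 1⟩, ⟨0, 2⟩⟩, ⟨⟨0, 1⟩, ⟨2, 1⟩, ⟨0, 2⟩, ⟨1, 0⟩, ⟨0, 1⟩, ⟨2, 1⟩, ⟨2, 2⟩, ⟨1, 0⟩, ⟨0, 1⟩⟩],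
      [1, 1, 1, 1, 1, 1, 1],
      [1, 1, 1, 1, 1, 1, 1],
      [1, 1, 1, 1, 1, 1, 1],
      [1, 1, 1, 1, 1, 1, 1],
      [1, 1, 1, 1, 1, 1, 1]]],
  [[[1, ⟨⟨1, 0⟩, ⟨0, 0⟩, ⟨0, 0⟩, ⟨0, 0⟩, ⟨1, 0⟩, ⟨0, 0⟩, ⟨0, 0⟩, ⟨0, 0⟩, ⟨1, 0⟩⟩, 1, 1, 1, 1, 1],
      [1, ⟨⟨1, 1⟩, ⟨2, 0⟩, ⟨0, 1⟩, ⟨1, 0⟩, ⟨0, 1⟩, ⟨1, 2⟩, ⟨0, 2⟩, ⟨1, 2⟩, ⟨0, 2⟩⟩, 1, 1, 1, 1, 1],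
      [1, ⟨⟨0, 2⟩, ⟨0, 2⟩, ⟨2, 2⟩, ⟨0, 1⟩, ⟨1, 1⟩, ⟨0, 1⟩, ⟨1, 1⟩, ⟨0, 1⟩, ⟨0, 1⟩⟩, 1, 1, 1, 1, 1],
      [1, ⟨⟨0, 2⟩, ⟨2, 1⟩, ⟨2, 0⟩, ⟨1, 2⟩, ⟨0, 1⟩, ⟨2, 0⟩, ⟨1, 0⟩, ⟨2, 0⟩, ⟨1, 2⟩⟩, 1, 1, 1, 1, 1],
      [1, ⟨⟨0, 1⟩, ⟨1, 1⟩, ⟨1, 0⟩, ⟨2, 2⟩, ⟨0, 2⟩, ⟨2, 0⟩, ⟨2, 0⟩, ⟨2, 0⟩, ⟨1, 1⟩⟩, 1, 1, 1, 1, 1],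
      [1, ⟨⟨0, 1⟩, ⟨0, 2⟩, ⟨1, 2⟩, ⟨0, 1⟩, ⟨1, 2⟩, ⟨0, 2⟩, ⟨2, 1⟩, ⟨0, 2⟩, ⟨0, 2⟩⟩, 1, 1, 1, 1, 1],
      [1, ⟨⟨1, 2⟩, ⟨1, 0⟩, ⟨0, 1⟩, ⟨2, 0⟩, ⟨0, 2⟩, ⟨1, 1⟩, ⟨0, 2⟩, ⟨1, 1⟩, ⟨0, 1⟩⟩, 1, 1, 1, 1, 1]],
    [[1, ⟨⟨0, 2⟩, ⟨1, 0⟩, ⟨1, 2⟩, ⟨2, 0⟩, ⟨1, 2⟩, ⟨2, 0⟩, ⟨2, 1⟩, ⟨2, 0⟩, ⟨0, 1⟩⟩, 1, 1, 1, 1, 1],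
      [1, 1, ⟨⟨1, 1⟩, ⟨0, 1⟩, ⟨2, 0⟩, ⟨0, 0⟩, ⟨1, 2⟩, ⟨2, 2⟩, ⟨2, 2⟩, ⟨0, 1⟩, ⟨2, 0⟩⟩, 1, 1, 1, 1],
      [1, 1, 1, ⟨⟨1, 1⟩, ⟨0, 2⟩, ⟨0, 2⟩, ⟨2, 1⟩, ⟨2, 0⟩, ⟨2, 0⟩, ⟨0, 0⟩, ⟨2, 1⟩, ⟨1, 2⟩⟩, 1, 1, 1],
      [1, 1, 1, 1, ⟨⟨1, 1⟩, ⟨1, 1⟩, ⟨0, 0⟩, ⟨0, 0⟩, ⟨0, 0⟩, ⟨0, 2⟩, ⟨1, 1⟩, ⟨2, 2⟩, ⟨0, 0⟩⟩, 1, 1],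
      [1, 1, 1, 1, 1, ⟨⟨2, 0⟩, ⟨1, 1⟩, ⟨0, 1⟩, ⟨0, 1⟩, ⟨2, 1⟩, ⟨1, 0⟩, ⟨2, 1⟩, ⟨0, 0⟩, ⟨2, 2⟩⟩, 1],
      [1, 1, 1, 1, 1, 1, ⟨⟨1, 0⟩, ⟨1, 1⟩, ⟨2, 0⟩, ⟨1, 2⟩, ⟨0, 0⟩, ⟨1, 2⟩, ⟨2, 0⟩, ⟨1, 1⟩, ⟨1, 0⟩⟩],
      [⟨⟨0, 1⟩, ⟨2, 0⟩, ⟨1, 1⟩, ⟨1, 2⟩, ⟨0, 1⟩, ⟨1, 0⟩, ⟨0, 1⟩, ⟨2, 1⟩, ⟨0, 1⟩⟩, 1, 1, 1, 1, 1, 1]],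
    [[1, ⟨⟨1, 2⟩, ⟨0, 2⟩, ⟨2, 0⟩, ⟨0, 1⟩, ⟨0, 1⟩, ⟨1, 1⟩, ⟨1, 0⟩, ⟨1, 1⟩, ⟨0, 2⟩⟩, 1, 1, 1, 1, 1],
      [1, 1, 1, ⟨⟨2, 0⟩, ⟨0, 2⟩, ⟨2, 1⟩, ⟨1, 1⟩, ⟨1, 2⟩, ⟨0, 0⟩, ⟨0, 2⟩, ⟨1, 0⟩, ⟨1, 1⟩⟩, 1, 1, 1],
      [1, 1, 1, 1, 1, ⟨⟨2, 1⟩, ⟨0, 1⟩, ⟨0, 1⟩, ⟨0, 0⟩, ⟨2, 2⟩, ⟨1, 1⟩, ⟨1, 1⟩, ⟨2, 0⟩, ⟨2, 0⟩⟩, 1],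
      [⟨⟨0, 1⟩, ⟨0, 1⟩, ⟨1, 2⟩, ⟨1, 1⟩, ⟨0, 1⟩, ⟨1, 0⟩, ⟨2, 0⟩, ⟨2, 1⟩, ⟨0, 1⟩⟩, 1, 1, 1, 1, 1, 1],
      [1, 1, ⟨⟨1, 2⟩, ⟨1, 2⟩, ⟨0, 0⟩, ⟨1, 0⟩, ⟨2, 0⟩, ⟨2, 1⟩, ⟨0, 1⟩, ⟨0, 2⟩, ⟨1, 1⟩⟩, 1, 1, 1, 1],
      [1, 1, 1, 1, ⟨⟨0, 0⟩, ⟨1, 0⟩, ⟨0, 0⟩, ⟨2, 1⟩, ⟨0, 0⟩, ⟨1, 2⟩, ⟨1, 1⟩, ⟨0, 0⟩, ⟨1, 1⟩⟩, 1, 1],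
      [1, 1, 1, 1, 1, 1, ⟨⟨0, 0⟩, ⟨1, 1⟩, ⟨1, 2⟩, ⟨1, 2⟩, ⟨1, 0⟩, ⟨0, 1⟩, ⟨1, 1⟩, ⟨0, 2⟩, ⟨1, 0⟩⟩]],
    [[1, ⟨⟨0, 2⟩, ⟨1, 1⟩, ⟨0, 1⟩, ⟨2, 2⟩, ⟨0, 1⟩, ⟨0, 1⟩, ⟨0, 2⟩, ⟨0, 1⟩, ⟨1, 1⟩⟩, 1, 1, 1, 1, 1],
      [1, 1, 1, 1, ⟨⟨0, 0⟩, ⟨2, 1⟩, ⟨1, 1⟩, ⟨0, 0⟩, ⟨1, 2⟩, ⟨1, 1⟩, ⟨2, 0⟩, ⟨0, 0⟩, ⟨0, 0⟩⟩, 1, 1],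
      [⟨⟨0, 2⟩, ⟨0, 1⟩, ⟨2, 1⟩, ⟨2, 1⟩, ⟨0, 2⟩, ⟨0, 2⟩, ⟨0, 1⟩, ⟨1, 2⟩, ⟨0, 2⟩⟩, 1, 1, 1, 1, 1, 1],
      [1, 1, 1, ⟨⟨1, 1⟩, ⟨0, 0⟩, ⟨2, 1⟩, ⟨0, 2⟩, ⟨1, 2⟩, ⟨2, 0⟩, ⟨0, 2⟩, ⟨2, 1⟩, ⟨2, 0⟩⟩, 1, 1, 1],
      [1, 1, 1, 1, 1, 1, ⟨⟨1, 0⟩, ⟨1, 0⟩, ⟨2, 2⟩, ⟨1, 0⟩, ⟨1, 0⟩, ⟨1, 1⟩, ⟨2, 1⟩, ⟨1, 2⟩, ⟨0, 0⟩⟩],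
      [1, 1, ⟨⟨2, 0⟩, ⟨1, 2⟩, ⟨2, 0⟩, ⟨1, 0⟩, ⟨1, 2⟩, ⟨1, 0⟩, ⟨2, 2⟩, ⟨0, 0⟩, ⟨1, 1⟩⟩, 1, 1, 1, 1],
      [1, 1, 1, 1, 1, ⟨⟨2, 1⟩, ⟨1, 1⟩, ⟨0, 0⟩, ⟨0, 1⟩, ⟨2, 0⟩, ⟨1, 1⟩, ⟨0, 1⟩, ⟨2, 0⟩, ⟨2, 2⟩⟩, 1]],
    [[1, ⟨⟨0, 1⟩, ⟨2, 1⟩, ⟨0, 1⟩, ⟨1, 2⟩, ⟨0, 2⟩, ⟨0, 2⟩, ⟨0, 2⟩, ⟨0, 2⟩, ⟨1, 2⟩⟩, 1, 1, 1, 1, 1],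
      [1, 1, 1, 1, 1, ⟨⟨2, 2⟩, ⟨2, 1⟩, ⟨0, 0⟩, ⟨0, 1⟩, ⟨2, 0⟩, ⟨1, 2⟩, ⟨0, 1⟩, ⟨2, 0⟩, ⟨2, 1⟩⟩, 1],
      [1, 1, ⟨⟨2, 0⟩, ⟨2, 2⟩, ⟨1, 0⟩, ⟨2, 0⟩, ⟨1, 1⟩, ⟨1, 0⟩, ⟨1, 2⟩, ⟨0, 0⟩, ⟨1, 2⟩⟩, 1, 1, 1, 1],
      [1, 1, 1, 1, 1, 1, ⟨⟨1, 0⟩, ⟨2, 0⟩, ⟨1, 2⟩, ⟨2, 0⟩, ⟨1, 0⟩, ⟨1, 2⟩, ⟨1, 1⟩, ⟨1, 1⟩, ⟨0, 0⟩⟩],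
      [1, 1, 1, ⟨⟨1, 2⟩, ⟨0, 0⟩, ⟨1, 1⟩, ⟨0, 2⟩, ⟨1, 1⟩, ⟨2, 0⟩, ⟨0, 2⟩, ⟨2, 2⟩, ⟨2, 0⟩⟩, 1, 1, 1],
      [⟨⟨0, 1⟩, ⟨0, 1⟩, ⟨1, 1⟩, ⟨1, 1⟩, ⟨0, 1⟩, ⟨0, 1⟩, ⟨0, 1⟩, ⟨1, 1⟩, ⟨0, 1⟩⟩, 1, 1, 1, 1, 1, 1],
      [1, 1, 1, 1, ⟨⟨0, 0⟩, ⟨1, 1⟩, ⟨2, 1⟩, ⟨0, 0⟩, ⟨1, 1⟩, ⟨1, 2⟩, ⟨1, 0⟩, ⟨0, 0⟩, ⟨0, 0⟩⟩, 1, 1]],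
    [[1, ⟨⟨1, 1⟩, ⟨0, 2⟩, ⟨1, 0⟩, ⟨0, 1⟩, ⟨0, 2⟩, ⟨1, 2⟩, ⟨2, 0⟩, ⟨1, 2⟩, ⟨0, 1⟩⟩, 1, 1, 1, 1, 1],
      [1, 1, 1, 1, 1, 1, ⟨⟨0, 0⟩, ⟨2, 1⟩, ⟨2, 2⟩, ⟨2, 2⟩, ⟨1, 0⟩, ⟨0, 2⟩, ⟨2, 1⟩, ⟨0, 1⟩, ⟨1, 0⟩⟩],
      [1, 1, 1, 1, ⟨⟨0, 0⟩, ⟨2, 0⟩, ⟨0, 0⟩, ⟨1, 1⟩, ⟨0, 0⟩, ⟨1, 1⟩, ⟨2, 1⟩, ⟨0, 0⟩, ⟨1, 2⟩⟩, 1, 1],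
      [1, 1, ⟨⟨1, 1⟩, ⟨2, 2⟩, ⟨0, 0⟩, ⟨2, 0⟩, ⟨2, 0⟩, ⟨2, 2⟩, ⟨0, 1⟩, ⟨0, 1⟩, ⟨1, 2⟩⟩, 1, 1, 1, 1],
      [⟨⟨0, 2⟩, ⟨0, 1⟩, ⟨2, 2⟩, ⟨2, 1⟩, ⟨0, 2⟩, ⟨1, 0⟩, ⟨1, 0⟩, ⟨2, 2⟩, ⟨0, 2⟩⟩, 1, 1, 1, 1, 1, 1],
      [1, 1, 1, 1, 1, ⟨⟨2, 2⟩, ⟨0, 1⟩, ⟨0, 1⟩, ⟨0, 0⟩, ⟨2, 1⟩, ⟨1, 2⟩, ⟨2, 1⟩, ⟨2, 0⟩, ⟨2, 0⟩⟩, 1],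
      [1, 1, 1, ⟨⟨2, 0⟩, ⟨0, 2⟩, ⟨1, 1⟩, ⟨2, 1⟩, ⟨1, 1⟩, ⟨0, 0⟩, ⟨0, 2⟩, ⟨1, 0⟩, ⟨1, 2⟩⟩, 1, 1, 1]],
    [[1, ⟨⟨0, 1⟩, ⟨2, 0⟩, ⟨2, 2⟩, ⟨1, 0⟩, ⟨1, 1⟩, ⟨2, 0⟩, ⟨1, 1⟩, ⟨2, 0⟩, ⟨0, 2⟩⟩, 1, 1, 1, 1, 1],
      [⟨⟨0, 2⟩, ⟨1, 0⟩, ⟨2, 1⟩, ⟨2, 2⟩, ⟨0, 2⟩, ⟨1, 0⟩, ⟨0, 1⟩, ⟨2, 2⟩, ⟨0, 2⟩⟩, 1, 1, 1, 1, 1, 1],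
      [1, 1, 1, 1, 1, 1, ⟨⟨1, 0⟩, ⟨2, 1⟩, ⟨1, 0⟩, ⟨2, 2⟩, ⟨0, 0⟩, ⟨1, 1⟩, ⟨1, 0⟩, ⟨1, 2⟩, ⟨1, 0⟩⟩],
      [1, 1, 1, 1, 1, ⟨⟨2, 0⟩, ⟨2, 1⟩, ⟨0, 1⟩, ⟨0, 1⟩, ⟨2, 2⟩, ⟨1, 0⟩, ⟨1, 1⟩, ⟨0, 0⟩, ⟨2, 1⟩⟩, 1],
      [1, 1, 1, 1, ⟨⟨1, 2⟩, ⟨2, 1⟩, ⟨0, 0⟩, ⟨0, 0⟩, ⟨0, 0⟩, ⟨0, 1⟩, ⟨2, 1⟩, ⟨2, 1⟩, ⟨0, 0⟩⟩, 1, 1],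
      [1, 1, 1, ⟨⟨1, 2⟩, ⟨0, 2⟩, ⟨0, 2⟩, ⟨1, 1⟩, ⟨2, 0⟩, ⟨2, 0⟩, ⟨0, 0⟩, ⟨2, 2⟩, ⟨1, 1⟩⟩, 1, 1, 1],
      [1, 1, ⟨⟨1, 2⟩, ⟨0, 1⟩, ⟨1, 0⟩, ⟨0, 0⟩, ⟨1, 1⟩, ⟨2, 1⟩, ⟨1, 2⟩, ⟨0, 2⟩, ⟨2, 0⟩⟩, 1, 1, 1, 1]]],
  [[[1, 1, 1, 1, ⟨⟨0, 0⟩, ⟨0, 0⟩, ⟨0, 1⟩, ⟨0, 1⟩, ⟨0, 0⟩, ⟨0, 0⟩, ⟨0, 0⟩, ⟨2, 0⟩, ⟨0, 0⟩⟩, 1, 1],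
      [1, 1, 1, 1, ⟨⟨2, 1⟩, ⟨2, 0⟩, ⟨2, 0⟩, ⟨1, 0⟩, ⟨1, 0⟩, ⟨1, 2⟩, ⟨0, 2⟩, ⟨2, 2⟩, ⟨0, 2⟩⟩, 1, 1],
      [1, 1, 1, 1, ⟨⟨0, 2⟩, ⟨0, 2⟩, ⟨2, 1⟩, ⟨2, 0⟩, ⟨2, 1⟩, ⟨0, 1⟩, ⟨1, 1⟩, ⟨0, 1⟩, ⟨1, 0⟩⟩, 1, 1],
      [1, 1, 1, 1, ⟨⟨1, 0⟩, ⟨2, 1⟩, ⟨2, 0⟩, ⟨1, 1⟩, ⟨0, 1⟩, ⟨2, 0⟩, ⟨1, 0⟩, ⟨0, 1⟩, ⟨2, 2⟩⟩, 1, 1],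
      [1, 1, 1, 1, ⟨⟨1, 0⟩, ⟨1, 1⟩, ⟨1, 0⟩, ⟨2, 1⟩, ⟨0, 2⟩, ⟨2, 0⟩, ⟨2, 0⟩, ⟨0, 2⟩, ⟨2, 1⟩⟩, 1, 1],
      [1, 1, 1, 1, ⟨⟨0, 1⟩, ⟨0, 2⟩, ⟨1, 1⟩, ⟨1, 0⟩, ⟨2, 2⟩, ⟨0, 2⟩, ⟨2, 1⟩, ⟨0, 2⟩, ⟨1, 0⟩⟩, 1, 1],
      [1, 1, 1, 1, ⟨⟨2, 2⟩, ⟨1, 0⟩, ⟨1, 0⟩, ⟨2, 0⟩, ⟨1, 0⟩, ⟨1, 1⟩, ⟨0, 2⟩, ⟨2, 1⟩, ⟨0, 1⟩⟩, 1, 1]],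
    [[1, 1, 1, 1, ⟨⟨1, 0⟩, ⟨1, 0⟩, ⟨1, 1⟩, ⟨2, 0⟩, ⟨2, 2⟩, ⟨2, 0⟩, ⟨2, 1⟩, ⟨0, 1⟩, ⟨0, 1⟩⟩, 1, 1],
      [1, ⟨⟨1, 1⟩, ⟨0, 0⟩, ⟨1, 1⟩, ⟨0, 2⟩, ⟨1, 2⟩, ⟨0, 1⟩, ⟨1, 0⟩, ⟨2, 2⟩, ⟨2, 0⟩⟩, 1, 1, 1, 1, 1],
      [1, 1, 1, 1, 1, ⟨⟨1, 0⟩, ⟨1, 2⟩, ⟨0, 2⟩, ⟨1, 1⟩, ⟨0, 0⟩, ⟨2, 1⟩, ⟨0, 1⟩, ⟨2, 2⟩, ⟨1, 0⟩⟩, 1],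
      [1, 1, ⟨⟨0, 1⟩, ⟨0, 0⟩, ⟨0, 0⟩, ⟨0, 0⟩, ⟨2, 1⟩, ⟨2, 2⟩, ⟨0, 0⟩, ⟨2, 2⟩, ⟨2, 1⟩⟩, 1, 1, 1, 1],
      [1, 1, 1, 1, 1, 1, ⟨⟨2, 0⟩, ⟨0, 2⟩, ⟨2, 2⟩, ⟨1, 2⟩, ⟨2, 2⟩, ⟨0, 0⟩, ⟨0, 2⟩, ⟨1, 0⟩, ⟨2, 1⟩⟩],
      [1, 1, 1, ⟨⟨2, 1⟩, ⟨2, 1⟩, ⟨0, 0⟩, ⟨0, 1⟩, ⟨0, 2⟩, ⟨1, 1⟩, ⟨1, 0⟩, ⟨2, 0⟩, ⟨2, 1⟩⟩, 1, 1, 1],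
      [⟨⟨2, 0⟩, ⟨2, 1⟩, ⟨2, 0⟩, ⟨2, 0⟩, ⟨2, 0⟩, ⟨2, 1⟩, ⟨2, 2⟩, ⟨0, 2⟩, ⟨0, 2⟩⟩, 1, 1, 1, 1, 1, 1]],
    [[1, 1, 1, 1, ⟨⟨2, 2⟩, ⟨0, 2⟩, ⟨2, 0⟩, ⟨1, 0⟩, ⟨0, 1⟩, ⟨1, 1⟩, ⟨1, 0⟩, ⟨2, 1⟩, ⟨1, 0⟩⟩, 1, 1],
      [1, 1, 1, 1, 1, ⟨⟨0, 0⟩, ⟨2, 2⟩, ⟨1, 1⟩, ⟨2, 1⟩, ⟨1, 0⟩, ⟨1, 0⟩, ⟨1, 2⟩, ⟨1, 0⟩, ⟨1, 0⟩⟩, 1],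
      [1, 1, 1, 1, 1, 1, ⟨⟨2, 2⟩, ⟨0, 0⟩, ⟨1, 2⟩, ⟨0, 2⟩, ⟨2, 1⟩, ⟨2, 0⟩, ⟨0, 2⟩, ⟨1, 2⟩, ⟨2, 0⟩⟩],
      [⟨⟨2, 0⟩, ⟨2, 2⟩, ⟨2, 0⟩, ⟨2, 0⟩, ⟨0, 2⟩, ⟨2, 1⟩, ⟨2, 1⟩, ⟨0, 2⟩, ⟨2, 0⟩⟩, 1, 1, 1, 1, 1, 1],
      [1, ⟨⟨1, 2⟩, ⟨2, 0⟩, ⟨0, 2⟩, ⟨2, 1⟩, ⟨2, 0⟩, ⟨0, 2⟩, ⟨0, 0⟩, ⟨2, 1⟩, ⟨1, 1⟩⟩, 1, 1, 1, 1, 1],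
      [1, 1, ⟨⟨2, 1⟩, ⟨1, 2⟩, ⟨0, 0⟩, ⟨2, 1⟩, ⟨2, 1⟩, ⟨0, 0⟩, ⟨0, 0⟩, ⟨0, 0⟩, ⟨0, 1⟩⟩, 1, 1, 1, 1],
      [1, 1, 1, ⟨⟨0, 2⟩, ⟨2, 1⟩, ⟨0, 1⟩, ⟨0, 1⟩, ⟨2, 1⟩, ⟨0, 2⟩, ⟨2, 1⟩, ⟨0, 0⟩, ⟨2, 1⟩⟩, 1, 1, 1]],
    [[1, 1, 1, 1, ⟨⟨0, 2⟩, ⟨1, 1⟩, ⟨2, 0⟩, ⟨2, 1⟩, ⟨1, 0⟩, ⟨0, 1⟩, ⟨0, 2⟩, ⟨0, 1⟩, ⟨2, 1⟩⟩, 1, 1],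
      [1, 1, ⟨⟨2, 2⟩, ⟨0, 0⟩, ⟨1, 1⟩, ⟨0, 0⟩, ⟨0, 2⟩, ⟨0, 0⟩, ⟨2, 2⟩, ⟨0, 0⟩, ⟨2, 2⟩⟩, 1, 1, 1, 1],
      [⟨⟨0, 1⟩, ⟨1, 2⟩, ⟨1, 0⟩, ⟨1, 0⟩, ⟨2, 0⟩, ⟨1, 2⟩, ⟨1, 2⟩, ⟨0, 1⟩, ⟨2, 0⟩⟩, 1, 1, 1, 1, 1, 1],
      [1, 1, 1, 1, 1, ⟨⟨1, 0⟩, ⟨0, 1⟩, ⟨1, 1⟩, ⟨0, 2⟩, ⟨1, 0⟩, ⟨2, 1⟩, ⟨1, 2⟩, ⟨2, 2⟩, ⟨0, 0⟩⟩, 1],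
      [1, 1, 1, ⟨⟨2, 2⟩, ⟨2, 0⟩, ⟨0, 1⟩, ⟨0, 0⟩, ⟨2, 2⟩, ⟨1, 2⟩, ⟨1, 1⟩, ⟨2, 0⟩, ⟨0, 1⟩⟩, 1, 1, 1],
      [1, ⟨⟨2, 0⟩, ⟨2, 0⟩, ⟨1, 1⟩, ⟨2, 1⟩, ⟨1, 2⟩, ⟨0, 0⟩, ⟨1, 0⟩, ⟨1, 0⟩, ⟨1, 1⟩⟩, 1, 1, 1, 1, 1],
      [1, 1, 1, 1, 1, 1, ⟨⟨2, 2⟩, ⟨0, 2⟩, ⟨0, 2⟩, ⟨1, 2⟩, ⟨2, 0⟩, ⟨2, 0⟩, ⟨0, 0⟩, ⟨1, 2⟩, ⟨2, 1⟩⟩]],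
    [[1, 1, 1, 1, ⟨⟨0, 1⟩, ⟨2, 1⟩, ⟨1, 0⟩, ⟨1, 1⟩, ⟨1, 0⟩, ⟨0, 2⟩, ⟨0, 2⟩, ⟨0, 2⟩, ⟨2, 2⟩⟩, 1, 1],
      [1, 1, 1, 1, 1, 1, ⟨⟨2, 1⟩, ⟨0, 2⟩, ⟨0, 2⟩, ⟨2, 2⟩, ⟨2, 0⟩, ⟨2, 0⟩, ⟨0, 0⟩, ⟨1, 1⟩, ⟨2, 2⟩⟩],
      [1, ⟨⟨2, 0⟩, ⟨1, 0⟩, ⟨2, 1⟩, ⟨1, 1⟩, ⟨1, 1⟩, ⟨0, 0⟩, ⟨2, 0⟩, ⟨1, 0⟩, ⟨1, 2⟩⟩, 1, 1, 1, 1, 1],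
      [1, 1, 1, ⟨⟨2, 1⟩, ⟨1, 0⟩, ⟨0, 1⟩, ⟨0, 0⟩, ⟨2, 1⟩, ⟨1, 1⟩, ⟨2, 1⟩, ⟨2, 0⟩, ⟨0, 2⟩⟩, 1, 1, 1],
      [1, 1, 1, 1, 1, ⟨⟨1, 0⟩, ⟨0, 1⟩, ⟨2, 1⟩, ⟨0, 2⟩, ⟨1, 0⟩, ⟨2, 2⟩, ⟨2, 2⟩, ⟨2, 1⟩, ⟨0, 0⟩⟩, 1],
      [⟨⟨0, 2⟩, ⟨2, 2⟩, ⟨2, 0⟩, ⟨2, 0⟩, ⟨2, 0⟩, ⟨1, 1⟩, ⟨2, 2⟩, ⟨0, 2⟩, ⟨2, 0⟩⟩, 1, 1, 1, 1, 1, 1],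
      [1, 1, ⟨⟨2, 1⟩, ⟨0, 0⟩, ⟨2, 1⟩, ⟨0, 0⟩, ⟨0, 1⟩, ⟨0, 0⟩, ⟨1, 2⟩, ⟨0, 0⟩, ⟨2, 1⟩⟩, 1, 1, 1, 1]],
    [[1, 1, 1, 1, ⟨⟨2, 1⟩, ⟨0, 2⟩, ⟨1, 0⟩, ⟨2, 0⟩, ⟨0, 2⟩, ⟨1, 2⟩, ⟨2, 0⟩, ⟨2, 2⟩, ⟨1, 0⟩⟩, 1, 1],
      [1, 1, 1, ⟨⟨0, 1⟩, ⟨1, 1⟩, ⟨0, 1⟩, ⟨0, 1⟩, ⟨2, 2⟩, ⟨0, 1⟩, ⟨1, 1⟩, ⟨0, 0⟩, ⟨2, 2⟩⟩, 1, 1, 1],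
      [1, 1, ⟨⟨2, 2⟩, ⟨2, 2⟩, ⟨0, 0⟩, ⟨1, 1⟩, ⟨2, 2⟩, ⟨0, 0⟩, ⟨0, 0⟩, ⟨0, 0⟩, ⟨0, 2⟩⟩, 1, 1, 1, 1],
      [1, ⟨⟨1, 1⟩, ⟨1, 0⟩, ⟨0, 2⟩, ⟨1, 1⟩, ⟨2, 0⟩, ⟨0, 1⟩, ⟨0, 0⟩, ⟨2, 2⟩, ⟨1, 2⟩⟩, 1, 1, 1, 1, 1],
      [⟨⟨2, 0⟩, ⟨1, 2⟩, ⟨1, 0⟩, ⟨1, 0⟩, ⟨0, 1⟩, ⟨2, 2⟩, ⟨1, 1⟩, ⟨0, 1⟩, ⟨2, 0⟩⟩, 1, 1, 1, 1, 1, 1],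
      [1, 1, 1, 1, 1, 1, ⟨⟨2, 1⟩, ⟨0, 0⟩, ⟨2, 2⟩, ⟨0, 2⟩, ⟨2, 2⟩, ⟨2, 0⟩, ⟨0, 2⟩, ⟨1, 1⟩, ⟨2, 0⟩⟩],
      [1, 1, 1, 1, 1, ⟨⟨0, 0⟩, ⟨1, 2⟩, ⟨2, 1⟩, ⟨1, 1⟩, ⟨1, 0⟩, ⟨1, 0⟩, ⟨2, 2⟩, ⟨1, 0⟩, ⟨1, 0⟩⟩, 1]],
    [[1, 1, 1, 1, ⟨⟨1, 0⟩, ⟨2, 0⟩, ⟨2, 1⟩, ⟨1, 0⟩, ⟨2, 1⟩, ⟨2, 0⟩, ⟨1, 1⟩, ⟨0, 2⟩, ⟨0, 2⟩⟩, 1, 1],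
      [⟨⟨2, 0⟩, ⟨1, 1⟩, ⟨1, 0⟩, ⟨1, 0⟩, ⟨2, 0⟩, ⟨2, 2⟩, ⟨1, 2⟩, ⟨0, 1⟩, ⟨0, 1⟩⟩, 1, 1, 1, 1, 1, 1],
      [1, 1, 1, ⟨⟨2, 2⟩, ⟨1, 1⟩, ⟨0, 0⟩, ⟨0, 1⟩, ⟨0, 1⟩, ⟨1, 2⟩, ⟨2, 0⟩, ⟨2, 0⟩, ⟨2, 2⟩⟩, 1, 1, 1],
      [1, 1, 1, 1, 1, 1, ⟨⟨2, 0⟩, ⟨0, 2⟩, ⟨1, 2⟩, ⟨2, 2⟩, ⟨2, 1⟩, ⟨0, 0⟩, ⟨0, 2⟩, ⟨1, 0⟩, ⟨2, 2⟩⟩],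
      [1, 1, ⟨⟨0, 2⟩, ⟨0, 0⟩, ⟨0, 0⟩, ⟨0, 0⟩, ⟨2, 2⟩, ⟨2, 1⟩, ⟨0, 0⟩, ⟨2, 1⟩, ⟨2, 2⟩⟩, 1, 1, 1, 1],
      [1, 1, 1, 1, 1, ⟨⟨1, 0⟩, ⟨2, 2⟩, ⟨0, 2⟩, ⟨2, 1⟩, ⟨0, 0⟩, ⟨2, 2⟩, ⟨0, 1⟩, ⟨2, 1⟩, ⟨1, 0⟩⟩, 1],
      [1, ⟨⟨1, 2⟩, ⟨0, 0⟩, ⟨2, 1⟩, ⟨0, 2⟩, ⟨1, 1⟩, ⟨0, 2⟩, ⟨2, 0⟩, ⟨2, 1⟩, ⟨2, 0⟩⟩, 1, 1, 1, 1, 1]]],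
  [[[1, 1, 1, 1, 1, ⟨⟨0, 0⟩, ⟨0, 2⟩, ⟨0, 0⟩, ⟨0, 0⟩, ⟨0, 0⟩, ⟨2, 0⟩, ⟨0, 2⟩, ⟨0, 0⟩, ⟨0, 0⟩⟩, 1],
      [1, 1, 1, 1, 1, ⟨⟨2, 2⟩, ⟨1, 0⟩, ⟨0, 1⟩, ⟨2, 0⟩, ⟨1, 0⟩, ⟨2, 1⟩, ⟨2, 0⟩, ⟨1, 1⟩, ⟨0, 1⟩⟩, 1],
      [1, 1, 1, 1, 1, ⟨⟨0, 1⟩, ⟨2, 0⟩, ⟨1, 2⟩, ⟨0, 1⟩, ⟨2, 2⟩, ⟨0, 2⟩, ⟨2, 2⟩, ⟨0, 2⟩, ⟨1, 0⟩⟩, 1],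
      [1, 1, 1, 1, 1, ⟨⟨1, 0⟩, ⟨1, 2⟩, ⟨1, 0⟩, ⟨2, 2⟩, ⟨0, 2⟩, ⟨0, 2⟩, ⟨2, 0⟩, ⟨2, 0⟩, ⟨2, 1⟩⟩, 1],
      [1, 1, 1, 1, 1, ⟨⟨1, 0⟩, ⟨2, 2⟩, ⟨2, 0⟩, ⟨1, 2⟩, ⟨0, 1⟩, ⟨0, 1⟩, ⟨1, 0⟩, ⟨2, 0⟩, ⟨2, 2⟩⟩, 1],
      [1, 1, 1, 1, 1, ⟨⟨0, 2⟩, ⟨1, 0⟩, ⟨2, 2⟩, ⟨0, 1⟩, ⟨2, 1⟩, ⟨0, 1⟩, ⟨1, 2⟩, ⟨0, 1⟩, ⟨1, 0⟩⟩, 1],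
      [1, 1, 1, 1, 1, ⟨⟨2, 1⟩, ⟨2, 0⟩, ⟨0, 1⟩, ⟨1, 0⟩, ⟨1, 0⟩, ⟨2, 2⟩, ⟨1, 0⟩, ⟨1, 2⟩, ⟨0, 2⟩⟩, 1]],
    [[1, 1, 1, 1, 1, ⟨⟨1, 0⟩, ⟨2, 0⟩, ⟨2, 2⟩, ⟨1, 0⟩, ⟨2, 1⟩, ⟨0, 2⟩, ⟨1, 2⟩, ⟨2, 0⟩, ⟨0, 2⟩⟩, 1],
      [1, 1, 1, ⟨⟨0, 1⟩, ⟨0, 1⟩, ⟨2, 1⟩, ⟨0, 2⟩, ⟨0, 2⟩, ⟨2, 1⟩, ⟨1, 2⟩, ⟨2, 1⟩, ⟨0, 0⟩⟩, 1, 1, 1],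
      [1, ⟨⟨1, 1⟩, ⟨1, 2⟩, ⟨0, 0⟩, ⟨0, 1⟩, ⟨2, 0⟩, ⟨2, 1⟩, ⟨0, 1⟩, ⟨2, 0⟩, ⟨1, 2⟩⟩, 1, 1, 1, 1, 1],
      [1, 1, 1, 1, 1, 1, ⟨⟨1, 2⟩, ⟨0, 0⟩, ⟨1, 2⟩, ⟨1, 2⟩, ⟨0, 0⟩, ⟨2, 1⟩, ⟨0, 0⟩, ⟨0, 1⟩, ⟨0, 0⟩⟩],
      [1, 1, 1, 1, ⟨⟨0, 0⟩, ⟨1, 1⟩, ⟨2, 2⟩, ⟨1, 2⟩, ⟨1, 0⟩, ⟨1, 0⟩, ⟨2, 1⟩, ⟨1, 0⟩, ⟨1, 0⟩⟩, 1, 1],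
      [1, 1, ⟨⟨2, 1⟩, ⟨0, 2⟩, ⟨2, 0⟩, ⟨1, 2⟩, ⟨0, 2⟩, ⟨2, 0⟩, ⟨0, 0⟩, ⟨1, 1⟩, ⟨2, 1⟩⟩, 1, 1, 1, 1],
      [⟨⟨1, 1⟩, ⟨2, 0⟩, ⟨0, 2⟩, ⟨2, 0⟩, ⟨1, 1⟩, ⟨0, 1⟩, ⟨2, 0⟩, ⟨1, 0⟩, ⟨2, 1⟩⟩, 1, 1, 1, 1, 1, 1]],
    [[1, 1, 1, 1, 1, ⟨⟨2, 1⟩, ⟨1, 0⟩, ⟨1, 0⟩, ⟨0, 1⟩, ⟨0, 2⟩, ⟨2, 2⟩, ⟨2, 0⟩, ⟨1, 2⟩, ⟨1, 0⟩⟩, 1],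
      [1, ⟨⟨2, 0⟩, ⟨2, 2⟩, ⟨0, 1⟩, ⟨0, 1⟩, ⟨1, 2⟩, ⟨1, 0⟩, ⟨1, 2⟩, ⟨0, 0⟩, ⟨1, 1⟩⟩, 1, 1, 1, 1, 1],
      [1, 1, 1, 1, ⟨⟨1, 0⟩, ⟨0, 1⟩, ⟨1, 2⟩, ⟨0, 2⟩, ⟨1, 0⟩, ⟨1, 1⟩, ⟨1, 1⟩, ⟨1, 2⟩, ⟨0, 0⟩⟩, 1, 1],
      [⟨⟨1, 1⟩, ⟨2, 0⟩, ⟨2, 0⟩, ⟨0, 2⟩, ⟨2, 1⟩, ⟨0, 1⟩, ⟨2, 0⟩, ⟨1, 0⟩, ⟨1, 1⟩⟩, 1, 1, 1, 1, 1, 1],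
      [1, 1, 1, ⟨⟨0, 2⟩, ⟨2, 2⟩, ⟨0, 2⟩, ⟨1, 1⟩, ⟨0, 0⟩, ⟨2, 2⟩, ⟨0, 1⟩, ⟨2, 2⟩, ⟨0, 1⟩⟩, 1, 1, 1],
      [1, 1, 1, 1, 1, 1, ⟨⟨0, 0⟩, ⟨2, 2⟩, ⟨1, 2⟩, ⟨1, 0⟩, ⟨0, 0⟩, ⟨0, 0⟩, ⟨0, 0⟩, ⟨1, 1⟩, ⟨1, 2⟩⟩],
      [1, 1, ⟨⟨0, 2⟩, ⟨0, 2⟩, ⟨1, 2⟩, ⟨1, 2⟩, ⟨2, 1⟩, ⟨0, 0⟩, ⟨0, 2⟩, ⟨0, 2⟩, ⟨2, 1⟩⟩, 1, 1, 1, 1]],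
    [[1, 1, 1, 1, 1, ⟨⟨0, 1⟩, ⟨2, 2⟩, ⟨0, 1⟩, ⟨1, 2⟩, ⟨1, 0⟩, ⟨0, 2⟩, ⟨2, 0⟩, ⟨0, 2⟩, ⟨2, 2⟩⟩, 1],
      [1, 1, 1, 1, 1, 1, ⟨⟨0, 0⟩, ⟨0, 0⟩, ⟨2, 0⟩, ⟨2, 2⟩, ⟨1, 1⟩, ⟨0, 0⟩, ⟨1, 2⟩, ⟨1, 2⟩, ⟨0, 0⟩⟩],
      [⟨⟨2, 2⟩, ⟨1, 0⟩, ⟨0, 2⟩, ⟨0, 2⟩, ⟨1, 2⟩, ⟨0, 2⟩, ⟨1, 0⟩, ⟨0, 1⟩, ⟨1, 2⟩⟩, 1, 1, 1, 1, 1, 1],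
      [1, ⟨⟨1, 1⟩, ⟨0, 1⟩, ⟨0, 1⟩, ⟨0, 0⟩, ⟨1, 2⟩, ⟨2, 1⟩, ⟨1, 2⟩, ⟨2, 0⟩, ⟨2, 0⟩⟩, 1, 1, 1, 1, 1],
      [1, 1, ⟨⟨2, 2⟩, ⟨0, 0⟩, ⟨2, 2⟩, ⟨1, 0⟩, ⟨2, 2⟩, ⟨2, 0⟩, ⟨0, 2⟩, ⟨1, 2⟩, ⟨0, 1⟩⟩, 1, 1, 1, 1],
      [1, 1, 1, ⟨⟨0, 0⟩, ⟨2, 2⟩, ⟨2, 1⟩, ⟨1, 1⟩, ⟨0, 2⟩, ⟨1, 0⟩, ⟨1, 2⟩, ⟨1, 0⟩, ⟨0, 1⟩⟩, 1, 1, 1],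
      [1, 1, 1, 1, ⟨⟨1, 0⟩, ⟨1, 1⟩, ⟨0, 2⟩, ⟨1, 2⟩, ⟨0, 0⟩, ⟨1, 1⟩, ⟨0, 1⟩, ⟨1, 2⟩, ⟨1, 0⟩⟩, 1, 1]],
    [[1, 1, 1, 1, 1, ⟨⟨0, 2⟩, ⟨1, 2⟩, ⟨0, 1⟩, ⟨2, 2⟩, ⟨1, 0⟩, ⟨0, 1⟩, ⟨1, 0⟩, ⟨0, 1⟩, ⟨2, 1⟩⟩, 1],
      [1, 1, 1, 1, ⟨⟨1, 0⟩, ⟨2, 1⟩, ⟨0, 2⟩, ⟨2, 2⟩, ⟨0, 0⟩, ⟨1, 2⟩, ⟨0, 1⟩, ⟨1, 1⟩, ⟨1, 0⟩⟩, 1, 1],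
      [1, 1, 1, ⟨⟨0, 0⟩, ⟨1, 2⟩, ⟨1, 1⟩, ⟨2, 1⟩, ⟨0, 1⟩, ⟨1, 0⟩, ⟨2, 2⟩, ⟨1, 0⟩, ⟨0, 2⟩⟩, 1, 1, 1],
      [1, 1, ⟨⟨2, 1⟩, ⟨0, 0⟩, ⟨1, 2⟩, ⟨2, 0⟩, ⟨2, 1⟩, ⟨2, 0⟩, ⟨0, 2⟩, ⟨1, 1⟩, ⟨0, 2⟩⟩, 1, 1, 1, 1],
      [1, ⟨⟨1, 2⟩, ⟨0, 1⟩, ⟨0, 1⟩, ⟨0, 0⟩, ⟨1, 1⟩, ⟨2, 2⟩, ⟨2, 2⟩, ⟨2, 0⟩, ⟨2, 0⟩⟩, 1, 1, 1, 1, 1],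
      [⟨⟨2, 1⟩, ⟨2, 0⟩, ⟨0, 2⟩, ⟨0, 2⟩, ⟨1, 1⟩, ⟨0, 1⟩, ⟨2, 0⟩, ⟨0, 2⟩, ⟨1, 1⟩⟩, 1, 1, 1, 1, 1, 1],
      [1, 1, 1, 1, 1, 1, ⟨⟨0, 0⟩, ⟨0, 0⟩, ⟨1, 0⟩, ⟨1, 2⟩, ⟨1, 2⟩, ⟨0, 0⟩, ⟨2, 2⟩, ⟨1, 1⟩, ⟨0, 0⟩⟩]],
    [[1, 1, 1, 1, 1, ⟨⟨2, 2⟩, ⟨2, 0⟩, ⟨2, 0⟩, ⟨0, 1⟩, ⟨0, 1⟩, ⟨2, 1⟩, ⟨1, 0⟩, ⟨1, 1⟩, ⟨1, 0⟩⟩, 1],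
      [1, 1, ⟨⟨0, 1⟩, ⟨0, 2⟩, ⟨2, 2⟩, ⟨2, 2⟩, ⟨2, 2⟩, ⟨0, 0⟩, ⟨0, 2⟩, ⟨0, 1⟩, ⟨2, 2⟩⟩, 1, 1, 1, 1],
      [1, 1, 1, 1, 1, 1, ⟨⟨0, 0⟩, ⟨1, 2⟩, ⟨2, 2⟩, ⟨2, 0⟩, ⟨0, 0⟩, ⟨0, 0⟩, ⟨0, 0⟩, ⟨1, 2⟩, ⟨1, 1⟩⟩],
      [1, 1, 1, ⟨⟨0, 1⟩, ⟨1, 2⟩, ⟨0, 2⟩, ⟨2, 1⟩, ⟨0, 0⟩, ⟨2, 1⟩, ⟨0, 1⟩, ⟨2, 1⟩, ⟨0, 2⟩⟩, 1, 1, 1],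
      [⟨⟨1, 2⟩, ⟨1, 0⟩, ⟨1, 0⟩, ⟨0, 2⟩, ⟨2, 2⟩, ⟨0, 2⟩, ⟨1, 0⟩, ⟨1, 0⟩, ⟨1, 2⟩⟩, 1, 1, 1, 1, 1, 1],
      [1, 1, 1, 1, ⟨⟨1, 0⟩, ⟨0, 1⟩, ⟨2, 2⟩, ⟨0, 2⟩, ⟨1, 0⟩, ⟨1, 2⟩, ⟨2, 1⟩, ⟨1, 1⟩, ⟨0, 0⟩⟩, 1, 1],
      [1, ⟨⟨2, 0⟩, ⟨1, 2⟩, ⟨0, 1⟩, ⟨0, 1⟩, ⟨1, 1⟩, ⟨1, 0⟩, ⟨2, 2⟩, ⟨0, 0⟩, ⟨1, 2⟩⟩, 1, 1, 1, 1, 1]],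
    [[1, 1, 1, 1, 1, ⟨⟨1, 0⟩, ⟨1, 0⟩, ⟨1, 2⟩, ⟨2, 0⟩, ⟨2, 2⟩, ⟨0, 1⟩, ⟨2, 2⟩, ⟨2, 0⟩, ⟨0, 1⟩⟩, 1],
      [⟨⟨1, 2⟩, ⟨1, 0⟩, ⟨0, 2⟩, ⟨1, 0⟩, ⟨1, 2⟩, ⟨0, 2⟩, ⟨1, 0⟩, ⟨1, 0⟩, ⟨2, 2⟩⟩, 1, 1, 1, 1, 1, 1],
      [1, 1, ⟨⟨2, 2⟩, ⟨0, 2⟩, ⟨1, 0⟩, ⟨2, 2⟩, ⟨0, 1⟩, ⟨2, 0⟩, ⟨0, 0⟩, ⟨1, 2⟩, ⟨2, 2⟩⟩, 1, 1, 1, 1],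
      [1, 1, 1, 1, ⟨⟨0, 0⟩, ⟨2, 1⟩, ⟨1, 2⟩, ⟨2, 2⟩, ⟨1, 0⟩, ⟨1, 0⟩, ⟨1, 1⟩, ⟨1, 0⟩, ⟨1, 0⟩⟩, 1, 1],
      [1, 1, 1, 1, 1, 1, ⟨⟨1, 1⟩, ⟨0, 0⟩, ⟨2, 2⟩, ⟨2, 2⟩, ⟨0, 0⟩, ⟨2, 2⟩, ⟨0, 0⟩, ⟨0, 2⟩, ⟨0, 0⟩⟩],
      [1, ⟨⟨1, 2⟩, ⟨2, 2⟩, ⟨0, 0⟩, ⟨0, 1⟩, ⟨2, 0⟩, ⟨2, 2⟩, ⟨0, 1⟩, ⟨2, 0⟩, ⟨1, 1⟩⟩, 1, 1, 1, 1, 1],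
      [1, 1, 1, ⟨⟨0, 2⟩, ⟨0, 1⟩, ⟨1, 1⟩, ⟨0, 2⟩, ⟨0, 1⟩, ⟨2, 2⟩, ⟨2, 2⟩, ⟨2, 2⟩, ⟨0, 0⟩⟩, 1, 1, 1]]],
  [[[1, 1, ⟨⟨0, 0⟩, ⟨0, 2⟩, ⟨0, 0⟩, ⟨0, 0⟩, ⟨0, 0⟩, ⟨2, 0⟩, ⟨0, 2⟩, ⟨0, 0⟩, ⟨0, 0⟩⟩, 1, 1, 1, 1],
      [1, 1, ⟨⟨2, 1⟩, ⟨2, 0⟩, ⟨0, 1⟩, ⟨1, 0⟩, ⟨1, 0⟩, ⟨2, 2⟩, ⟨1, 0⟩, ⟨1, 2⟩, ⟨0, 2⟩⟩, 1, 1, 1, 1],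
      [1, 1, ⟨⟨0, 2⟩, ⟨1, 0⟩, ⟨2, 2⟩, ⟨0, 1⟩, ⟨2, 1⟩, ⟨0, 1⟩, ⟨1, 2⟩, ⟨0, 1⟩, ⟨1, 0⟩⟩, 1, 1, 1, 1],
      [1, 1, ⟨⟨1, 0⟩, ⟨2, 2⟩, ⟨2, 0⟩, ⟨1, 2⟩, ⟨0, 1⟩, ⟨0, 1⟩, ⟨1, 0⟩, ⟨2, 0⟩, ⟨2, 2⟩⟩, 1, 1, 1, 1],
      [1, 1, ⟨⟨1, 0⟩, ⟨1, 2⟩, ⟨1, 0⟩, ⟨2, 2⟩, ⟨0, 2⟩, ⟨0, 2⟩, ⟨2, 0⟩, ⟨2, 0⟩, ⟨2, 1⟩⟩, 1, 1, 1, 1],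
      [1, 1, ⟨⟨0, 1⟩, ⟨2, 0⟩, ⟨1, 2⟩, ⟨0, 1⟩, ⟨2, 2⟩, ⟨0, 2⟩, ⟨2, 2⟩, ⟨0, 2⟩, ⟨1, 0⟩⟩, 1, 1, 1, 1],
      [1, 1, ⟨⟨2, 2⟩, ⟨1, 0⟩, ⟨0, 1⟩, ⟨2, 0⟩, ⟨1, 0⟩, ⟨2, 1⟩, ⟨2, 0⟩, ⟨1, 1⟩, ⟨0, 1⟩⟩, 1, 1, 1, 1]],
    [[1, 1, ⟨⟨1, 0⟩, ⟨1, 0⟩, ⟨1, 2⟩, ⟨2, 0⟩, ⟨2, 2⟩, ⟨0, 1⟩, ⟨2, 2⟩, ⟨2, 0⟩, ⟨0, 1⟩⟩, 1, 1, 1, 1],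
      [1, 1, 1, 1, ⟨⟨0, 2⟩, ⟨0, 1⟩, ⟨1, 1⟩, ⟨0, 2⟩, ⟨0, 1⟩, ⟨2, 2⟩, ⟨2, 2⟩, ⟨2, 2⟩, ⟨0, 0⟩⟩, 1, 1],
      [1, 1, 1, 1, 1, 1, ⟨⟨1, 2⟩, ⟨2, 2⟩, ⟨0, 0⟩, ⟨0, 1⟩, ⟨2, 0⟩, ⟨2, 2⟩, ⟨0, 1⟩, ⟨2, 0⟩, ⟨1, 1⟩⟩],
      [1, ⟨⟨1, 1⟩, ⟨0, 0⟩, ⟨2, 2⟩, ⟨2, 2⟩, ⟨0, 0⟩, ⟨2, 2⟩, ⟨0, 0⟩, ⟨0, 2⟩, ⟨0, 0⟩⟩, 1, 1, 1, 1, 1],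
      [1, 1, 1, ⟨⟨0, 0⟩, ⟨2, 1⟩, ⟨1, 2⟩, ⟨2, 2⟩, ⟨1, 0⟩, ⟨1, 0⟩, ⟨1, 1⟩, ⟨1, 0⟩, ⟨1, 0⟩⟩, 1, 1, 1],
      [1, 1, 1, 1, 1, ⟨⟨2, 2⟩, ⟨0, 2⟩, ⟨1, 0⟩, ⟨2, 2⟩, ⟨0, 1⟩, ⟨2, 0⟩, ⟨0, 0⟩, ⟨1, 2⟩, ⟨2, 2⟩⟩, 1],
      [⟨⟨1, 2⟩, ⟨1, 0⟩, ⟨0, 2⟩, ⟨1, 0⟩, ⟨1, 2⟩, ⟨0, 2⟩, ⟨1, 0⟩, ⟨1, 0⟩, ⟨2, 2⟩⟩, 1, 1, 1, 1, 1, 1]],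
    [[1, 1, ⟨⟨2, 2⟩, ⟨2, 0⟩, ⟨2, 0⟩, ⟨0, 1⟩, ⟨0, 1⟩, ⟨2, 1⟩, ⟨1, 0⟩, ⟨1, 1⟩, ⟨1, 0⟩⟩, 1, 1, 1, 1],
      [1, 1, 1, 1, 1, 1, ⟨⟨2, 0⟩, ⟨1, 2⟩, ⟨0, 1⟩, ⟨0, 1⟩, ⟨1, 1⟩, ⟨1, 0⟩, ⟨2, 2⟩, ⟨0, 0⟩, ⟨1, 2⟩⟩],
      [1, 1, 1, ⟨⟨1, 0⟩, ⟨0, 1⟩, ⟨2, 2⟩, ⟨0, 2⟩, ⟨1, 0⟩, ⟨1, 2⟩, ⟨2, 1⟩, ⟨1, 1⟩, ⟨0, 0⟩⟩, 1, 1, 1],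
      [⟨⟨1, 2⟩, ⟨1, 0⟩, ⟨1, 0⟩, ⟨0, 2⟩, ⟨2, 2⟩, ⟨0, 2⟩, ⟨1, 0⟩, ⟨1, 0⟩, ⟨1, 2⟩⟩, 1, 1, 1, 1, 1, 1],
      [1, 1, 1, 1, ⟨⟨0, 1⟩, ⟨1, 2⟩, ⟨0, 2⟩, ⟨2, 1⟩, ⟨0, 0⟩, ⟨2, 1⟩, ⟨0, 1⟩, ⟨2, 1⟩, ⟨0, 2⟩⟩, 1, 1],
      [1, ⟨⟨0, 0⟩, ⟨1, 2⟩, ⟨2, 2⟩, ⟨2, 0⟩, ⟨0, 0⟩, ⟨0, 0⟩, ⟨0, 0⟩, ⟨1, 2⟩, ⟨1, 1⟩⟩, 1, 1, 1, 1, 1],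
      [1, 1, 1, 1, 1, ⟨⟨0, 1⟩, ⟨0, 2⟩, ⟨2, 2⟩, ⟨2, 2⟩, ⟨2, 2⟩, ⟨0, 0⟩, ⟨0, 2⟩, ⟨0, 1⟩, ⟨2, 2⟩⟩, 1]],
    [[1, 1, ⟨⟨0, 2⟩, ⟨1, 2⟩, ⟨0, 1⟩, ⟨2, 2⟩, ⟨1, 0⟩, ⟨0, 1⟩, ⟨1, 0⟩, ⟨0, 1⟩, ⟨2, 1⟩⟩, 1, 1, 1, 1],
      [1, ⟨⟨0, 0⟩, ⟨0, 0⟩, ⟨1, 0⟩, ⟨1, 2⟩, ⟨1, 2⟩, ⟨0, 0⟩, ⟨2, 2⟩, ⟨1, 1⟩, ⟨0, 0⟩⟩, 1, 1, 1, 1, 1],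
      [⟨⟨2, 1⟩, ⟨2, 0⟩, ⟨0, 2⟩, ⟨0, 2⟩, ⟨1, 1⟩, ⟨0, 1⟩, ⟨2, 0⟩, ⟨0, 2⟩, ⟨1, 1⟩⟩, 1, 1, 1, 1, 1, 1],
      [1, 1, 1, 1, 1, 1, ⟨⟨1, 2⟩, ⟨0, 1⟩, ⟨0, 1⟩, ⟨0, 0⟩, ⟨1, 1⟩, ⟨2, 2⟩, ⟨2, 2⟩, ⟨2, 0⟩, ⟨2, 0⟩⟩],
      [1, 1, 1, 1, 1, ⟨⟨2, 1⟩, ⟨0, 0⟩, ⟨1, 2⟩, ⟨2, 0⟩, ⟨2, 1⟩, ⟨2, 0⟩, ⟨0, 2⟩, ⟨1, 1⟩, ⟨0, 2⟩⟩, 1],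
      [1, 1, 1, 1, ⟨⟨0, 0⟩, ⟨1, 2⟩, ⟨1, 1⟩, ⟨2, 1⟩, ⟨0, 1⟩, ⟨1, 0⟩, ⟨2, 2⟩, ⟨1, 0⟩, ⟨0, 2⟩⟩, 1, 1],
      [1, 1, 1, ⟨⟨1, 0⟩, ⟨2, 1⟩, ⟨0, 2⟩, ⟨2, 2⟩, ⟨0, 0⟩, ⟨1, 2⟩, ⟨0, 1⟩, ⟨1, 1⟩, ⟨1, 0⟩⟩, 1, 1, 1]],
    [[1, 1, ⟨⟨0, 1⟩, ⟨2, 2⟩, ⟨0, 1⟩, ⟨1, 2⟩, ⟨1, 0⟩, ⟨0, 2⟩, ⟨2, 0⟩, ⟨0, 2⟩, ⟨2, 2⟩⟩, 1, 1, 1, 1],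
      [1, 1, 1, ⟨⟨1, 0⟩, ⟨1, 1⟩, ⟨0, 2⟩, ⟨1, 2⟩, ⟨0, 0⟩, ⟨1, 1⟩, ⟨0, 1⟩, ⟨1, 2⟩, ⟨1, 0⟩⟩, 1, 1, 1],
      [1, 1, 1, 1, ⟨⟨0, 0⟩, ⟨2, 2⟩, ⟨2, 1⟩, ⟨1, 1⟩, ⟨0, 2⟩, ⟨1, 0⟩, ⟨1, 2⟩, ⟨1, 0⟩, ⟨0, 1⟩⟩, 1, 1],
      [1, 1, 1, 1, 1, ⟨⟨2, 2⟩, ⟨0, 0⟩, ⟨2, 2⟩, ⟨1, 0⟩, ⟨2, 2⟩, ⟨2, 0⟩, ⟨0, 2⟩, ⟨1, 2⟩, ⟨0, 1⟩⟩, 1],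
      [1, 1, 1, 1, 1, 1, ⟨⟨1, 1⟩, ⟨0, 1⟩, ⟨0, 1⟩, ⟨0, 0⟩, ⟨1, 2⟩, ⟨2, 1⟩, ⟨1, 2⟩, ⟨2, 0⟩, ⟨2, 0⟩⟩],
      [⟨⟨2, 2⟩, ⟨1, 0⟩, ⟨0, 2⟩, ⟨0, 2⟩, ⟨1, 2⟩, ⟨0, 2⟩, ⟨1, 0⟩, ⟨0, 1⟩, ⟨1, 2⟩⟩, 1, 1, 1, 1, 1, 1],
      [1, ⟨⟨0, 0⟩, ⟨0, 0⟩, ⟨2, 0⟩, ⟨2, 2⟩, ⟨1, 1⟩, ⟨0, 0⟩, ⟨1, 2⟩, ⟨1, 2⟩, ⟨0, 0⟩⟩, 1, 1, 1, 1, 1]],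
    [[1, 1, ⟨⟨2, 1⟩, ⟨1, 0⟩, ⟨1, 0⟩, ⟨0, 1⟩, ⟨0, 2⟩, ⟨2, 2⟩, ⟨2, 0⟩, ⟨1, 2⟩, ⟨1, 0⟩⟩, 1, 1, 1, 1],
      [1, 1, 1, 1, 1, ⟨⟨0, 2⟩, ⟨0, 2⟩, ⟨1, 2⟩, ⟨1, 2⟩, ⟨2, 1⟩, ⟨0, 0⟩, ⟨0, 2⟩, ⟨0, 2⟩, ⟨2, 1⟩⟩, 1],
      [1, ⟨⟨0, 0⟩, ⟨2, 2⟩, ⟨1, 2⟩, ⟨1, 0⟩, ⟨0, 0⟩, ⟨0, 0⟩, ⟨0, 0⟩, ⟨1, 1⟩, ⟨1, 2⟩⟩, 1, 1, 1, 1, 1],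
      [1, 1, 1, 1, ⟨⟨0, 2⟩, ⟨2, 2⟩, ⟨0, 2⟩, ⟨1, 1⟩, ⟨0, 0⟩, ⟨2, 2⟩, ⟨0, 1⟩, ⟨2, 2⟩, ⟨0, 1⟩⟩, 1, 1],
      [⟨⟨1, 1⟩, ⟨2, 0⟩, ⟨2, 0⟩, ⟨0, 2⟩, ⟨2, 1⟩, ⟨0, 1⟩, ⟨2, 0⟩, ⟨1, 0⟩, ⟨1, 1⟩⟩, 1, 1, 1, 1, 1, 1],
      [1, 1, 1, ⟨⟨1, 0⟩, ⟨0, 1⟩, ⟨1, 2⟩, ⟨0, 2⟩, ⟨1, 0⟩, ⟨1, 1⟩, ⟨1, 1⟩, ⟨1, 2⟩, ⟨0, 0⟩⟩, 1, 1, 1],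
      [1, 1, 1, 1, 1, 1, ⟨⟨2, 0⟩, ⟨2, 2⟩, ⟨0, 1⟩, ⟨0, 1⟩, ⟨1, 2⟩, ⟨1, 0⟩, ⟨1, 2⟩, ⟨0, 0⟩, ⟨1, 1⟩⟩]],
    [[1, 1, ⟨⟨1, 0⟩, ⟨2, 0⟩, ⟨2, 2⟩, ⟨1, 0⟩, ⟨2, 1⟩, ⟨0, 2⟩, ⟨1, 2⟩, ⟨2, 0⟩, ⟨0, 2⟩⟩, 1, 1, 1, 1],
      [⟨⟨1, 1⟩, ⟨2, 0⟩, ⟨0, 2⟩, ⟨2, 0⟩, ⟨1, 1⟩, ⟨0, 1⟩, ⟨2, 0⟩, ⟨1, 0⟩, ⟨2, 1⟩⟩, 1, 1, 1, 1, 1, 1],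
      [1, 1, 1, 1, 1, ⟨⟨2, 1⟩, ⟨0, 2⟩, ⟨2, 0⟩, ⟨1, 2⟩, ⟨0, 2⟩, ⟨2, 0⟩, ⟨0, 0⟩, ⟨1, 1⟩, ⟨2, 1⟩⟩, 1],
      [1, 1, 1, ⟨⟨0, 0⟩, ⟨1, 1⟩, ⟨2, 2⟩, ⟨1, 2⟩, ⟨1, 0⟩, ⟨1, 0⟩, ⟨2, 1⟩, ⟨1, 0⟩, ⟨1, 0⟩⟩, 1, 1, 1],
      [1, ⟨⟨1, 2⟩, ⟨0, 0⟩, ⟨1, 2⟩, ⟨1, 2⟩, ⟨0, 0⟩, ⟨2, 1⟩, ⟨0, 0⟩, ⟨0, 1⟩, ⟨0, 0⟩⟩, 1, 1, 1, 1, 1],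
      [1, 1, 1, 1, 1, 1, ⟨⟨1, 1⟩, ⟨1, 2⟩, ⟨0, 0⟩, ⟨0, 1⟩, ⟨2, 0⟩, ⟨2, 1⟩, ⟨0, 1⟩, ⟨2, 0⟩, ⟨1, 2⟩⟩],
      [1, 1, 1, 1, ⟨⟨0, 1⟩, ⟨0, 1⟩, ⟨2, 1⟩, ⟨0, 2⟩, ⟨0, 2⟩, ⟨2, 1⟩, ⟨1, 2⟩, ⟨2, 1⟩, ⟨0, 0⟩⟩, 1, 1]]],
  [[[1, 1, 1, ⟨⟨0, 0⟩, ⟨0, 0⟩, ⟨0, 1⟩, ⟨0, 1⟩, ⟨0, 0⟩, ⟨0, 0⟩, ⟨0, 0⟩, ⟨2, 0⟩, ⟨0, 0⟩⟩, 1, 1, 1],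
      [1, 1, 1, ⟨⟨2, 2⟩, ⟨1, 0⟩, ⟨1, 0⟩, ⟨2, 0⟩, ⟨1, 0⟩, ⟨1, 1⟩, ⟨0, 2⟩, ⟨2, 1⟩, ⟨0, 1⟩⟩, 1, 1, 1],
      [1, 1, 1, ⟨⟨0, 1⟩, ⟨0, 2⟩, ⟨1, 1⟩, ⟨1, 0⟩, ⟨2, 2⟩, ⟨0, 2⟩, ⟨2, 1⟩, ⟨0, 2⟩, ⟨1, 0⟩⟩, 1, 1, 1],
      [1, 1, 1, ⟨⟨1, 0⟩, ⟨1, 1⟩, ⟨1, 0⟩, ⟨2, 1⟩, ⟨0, 2⟩, ⟨2, 0⟩, ⟨2, 0⟩, ⟨0, 2⟩, ⟨2, 1⟩⟩, 1, 1, 1],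
      [1, 1, 1, ⟨⟨1, 0⟩, ⟨2, 1⟩, ⟨2, 0⟩, ⟨1, 1⟩, ⟨0, 1⟩, ⟨2, 0⟩, ⟨1, 0⟩, ⟨0, 1⟩, ⟨2, 2⟩⟩, 1, 1, 1],
      [1, 1, 1, ⟨⟨0, 2⟩, ⟨0, 2⟩, ⟨2, 1⟩, ⟨2, 0⟩, ⟨2, 1⟩, ⟨0, 1⟩, ⟨1, 1⟩, ⟨0, 1⟩, ⟨1, 0⟩⟩, 1, 1, 1],
      [1, 1, 1, ⟨⟨2, 1⟩, ⟨2, 0⟩, ⟨2, 0⟩, ⟨1, 0⟩, ⟨1, 0⟩, ⟨1, 2⟩, ⟨0, 2⟩, ⟨2, 2⟩, ⟨0, 2⟩⟩, 1, 1, 1]],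
    [[1, 1, 1, ⟨⟨1, 0⟩, ⟨2, 0⟩, ⟨2, 1⟩, ⟨1, 0⟩, ⟨2, 1⟩, ⟨2, 0⟩, ⟨1, 1⟩, ⟨0, 2⟩, ⟨0, 2⟩⟩, 1, 1, 1],
      [1, 1, 1, 1, 1, 1, ⟨⟨1, 2⟩, ⟨0, 0⟩, ⟨2, 1⟩, ⟨0, 2⟩, ⟨1, 1⟩, ⟨0, 2⟩, ⟨2, 0⟩, ⟨2, 1⟩, ⟨2, 0⟩⟩],
      [1, 1, ⟨⟨1, 0⟩, ⟨2, 2⟩, ⟨0, 2⟩, ⟨2, 1⟩, ⟨0, 0⟩, ⟨2, 2⟩, ⟨0, 1⟩, ⟨2, 1⟩, ⟨1, 0⟩⟩, 1, 1, 1, 1],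
      [1, 1, 1, 1, 1, ⟨⟨0, 2⟩, ⟨0, 0⟩, ⟨0, 0⟩, ⟨0, 0⟩, ⟨2, 2⟩, ⟨2, 1⟩, ⟨0, 0⟩, ⟨2, 1⟩, ⟨2, 2⟩⟩, 1],
      [1, ⟨⟨2, 0⟩, ⟨0, 2⟩, ⟨1, 2⟩, ⟨2, 2⟩, ⟨2, 1⟩, ⟨0, 0⟩, ⟨0, 2⟩, ⟨1, 0⟩, ⟨2, 2⟩⟩, 1, 1, 1, 1, 1],
      [1, 1, 1, 1, ⟨⟨2, 2⟩, ⟨1, 1⟩, ⟨0, 0⟩, ⟨0, 1⟩, ⟨0, 1⟩, ⟨1, 2⟩, ⟨2, 0⟩, ⟨2, 0⟩, ⟨2, 2⟩⟩, 1, 1],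
      [⟨⟨2, 0⟩, ⟨1, 1⟩, ⟨1, 0⟩, ⟨1, 0⟩, ⟨2, 0⟩, ⟨2, 2⟩, ⟨1, 2⟩, ⟨0, 1⟩, ⟨0, 1⟩⟩, 1, 1, 1, 1, 1, 1]],
    [[1, 1, 1, ⟨⟨2, 1⟩, ⟨0, 2⟩, ⟨1, 0⟩, ⟨2, 0⟩, ⟨0, 2⟩, ⟨1, 2⟩, ⟨2, 0⟩, ⟨2, 2⟩, ⟨1, 0⟩⟩, 1, 1, 1],
      [1, 1, ⟨⟨0, 0⟩, ⟨1, 2⟩, ⟨2, 1⟩, ⟨1, 1⟩, ⟨1, 0⟩, ⟨1, 0⟩, ⟨2, 2⟩, ⟨1, 0⟩, ⟨1, 0⟩⟩, 1, 1, 1, 1],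
      [1, ⟨⟨2, 1⟩, ⟨0, 0⟩, ⟨2, 2⟩, ⟨0, 2⟩, ⟨2, 2⟩, ⟨2, 0⟩, ⟨0, 2⟩, ⟨1, 1⟩, ⟨2, 0⟩⟩, 1, 1, 1, 1, 1],
      [⟨⟨2, 0⟩, ⟨1, 2⟩, ⟨1, 0⟩, ⟨1, 0⟩, ⟨0, 1⟩, ⟨2, 2⟩, ⟨1, 1⟩, ⟨0, 1⟩, ⟨2, 0⟩⟩, 1, 1, 1, 1, 1, 1],
      [1, 1, 1, 1, 1, 1, ⟨⟨1, 1⟩, ⟨1, 0⟩, ⟨0, 2⟩, ⟨1, 1⟩, ⟨2, 0⟩, ⟨0, 1⟩, ⟨0, 0⟩, ⟨2, 2⟩, ⟨1, 2⟩⟩],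
      [1, 1, 1, 1, 1, ⟨⟨2, 2⟩, ⟨2, 2⟩, ⟨0, 0⟩, ⟨1, 1⟩, ⟨2, 2⟩, ⟨0, 0⟩, ⟨0, 0⟩, ⟨0, 0⟩, ⟨0, 2⟩⟩, 1],
      [1, 1, 1, 1, ⟨⟨0, 1⟩, ⟨1, 1⟩, ⟨0, 1⟩, ⟨0, 1⟩, ⟨2, 2⟩, ⟨0, 1⟩, ⟨1, 1⟩, ⟨0, 0⟩, ⟨2, 2⟩⟩, 1, 1]],
    [[1, 1, 1, ⟨⟨0, 1⟩, ⟨2, 1⟩, ⟨1, 0⟩, ⟨1, 1⟩, ⟨1, 0⟩, ⟨0, 2⟩, ⟨0, 2⟩, ⟨0, 2⟩, ⟨2, 2⟩⟩, 1, 1, 1],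
      [1, 1, 1, 1, 1, ⟨⟨2, 1⟩, ⟨0, 0⟩, ⟨2, 1⟩, ⟨0, 0⟩, ⟨0, 1⟩, ⟨0, 0⟩, ⟨1, 2⟩, ⟨0, 0⟩, ⟨2, 1⟩⟩, 1],
      [⟨⟨0, 2⟩, ⟨2, 2⟩, ⟨2, 0⟩, ⟨2, 0⟩, ⟨2, 0⟩, ⟨1, 1⟩, ⟨2, 2⟩, ⟨0, 2⟩, ⟨2, 0⟩⟩, 1, 1, 1, 1, 1, 1],
      [1, 1, ⟨⟨1, 0⟩, ⟨0, 1⟩, ⟨2, 1⟩, ⟨0, 2⟩, ⟨1, 0⟩, ⟨2, 2⟩, ⟨2, 2⟩, ⟨2, 1⟩, ⟨0, 0⟩⟩, 1, 1, 1, 1],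
      [1, 1, 1, 1, ⟨⟨2, 1⟩, ⟨1, 0⟩, ⟨0, 1⟩, ⟨0, 0⟩, ⟨2, 1⟩, ⟨1, 1⟩, ⟨2, 1⟩, ⟨2, 0⟩, ⟨0, 2⟩⟩, 1, 1],
      [1, 1, 1, 1, 1, 1, ⟨⟨2, 0⟩, ⟨1, 0⟩, ⟨2, 1⟩, ⟨1, 1⟩, ⟨1, 1⟩, ⟨0, 0⟩, ⟨2, 0⟩, ⟨1, 0⟩, ⟨1, 2⟩⟩],
      [1, ⟨⟨2, 1⟩, ⟨0, 2⟩, ⟨0, 2⟩, ⟨2, 2⟩, ⟨2, 0⟩, ⟨2, 0⟩, ⟨0, 0⟩, ⟨1, 1⟩, ⟨2, 2⟩⟩, 1, 1, 1, 1, 1]],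
    [[1, 1, 1, ⟨⟨0, 2⟩, ⟨1, 1⟩, ⟨2, 0⟩, ⟨2, 1⟩, ⟨1, 0⟩, ⟨0, 1⟩, ⟨0, 2⟩, ⟨0, 1⟩, ⟨2, 1⟩⟩, 1, 1, 1],
      [1, ⟨⟨2, 2⟩, ⟨0, 2⟩, ⟨0, 2⟩, ⟨1, 2⟩, ⟨2, 0⟩, ⟨2, 0⟩, ⟨0, 0⟩, ⟨1, 2⟩, ⟨2, 1⟩⟩, 1, 1, 1, 1, 1],
      [1, 1, 1, 1, 1, 1, ⟨⟨2, 0⟩, ⟨2, 0⟩, ⟨1, 1⟩, ⟨2, 1⟩, ⟨1, 2⟩, ⟨0, 0⟩, ⟨1, 0⟩, ⟨1, 0⟩, ⟨1, 1⟩⟩],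
      [1, 1, 1, 1, ⟨⟨2, 2⟩, ⟨2, 0⟩, ⟨0, 1⟩, ⟨0, 0⟩, ⟨2, 2⟩, ⟨1, 2⟩, ⟨1, 1⟩, ⟨2, 0⟩, ⟨0, 1⟩⟩, 1, 1],
      [1, 1, ⟨⟨1, 0⟩, ⟨0, 1⟩, ⟨1, 1⟩, ⟨0, 2⟩, ⟨1, 0⟩, ⟨2, 1⟩, ⟨1, 2⟩, ⟨2, 2⟩, ⟨0, 0⟩⟩, 1, 1, 1, 1],
      [⟨⟨0, 1⟩, ⟨1, 2⟩, ⟨1, 0⟩, ⟨1, 0⟩, ⟨2, 0⟩, ⟨1, 2⟩, ⟨1, 2⟩, ⟨0, 1⟩, ⟨2, 0⟩⟩, 1, 1, 1, 1, 1, 1],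
      [1, 1, 1, 1, 1, ⟨⟨2, 2⟩, ⟨0, 0⟩, ⟨1, 1⟩, ⟨0, 0⟩, ⟨0, 2⟩, ⟨0, 0⟩, ⟨2, 2⟩, ⟨0, 0⟩, ⟨2, 2⟩⟩, 1]],
    [[1, 1, 1, ⟨⟨2, 2⟩, ⟨0, 2⟩, ⟨2, 0⟩, ⟨1, 0⟩, ⟨0, 1⟩, ⟨1, 1⟩, ⟨1, 0⟩, ⟨2, 1⟩, ⟨1, 0⟩⟩, 1, 1, 1],
      [1, 1, 1, 1, ⟨⟨0, 2⟩, ⟨2, 1⟩, ⟨0, 1⟩, ⟨0, 1⟩, ⟨2, 1⟩, ⟨0, 2⟩, ⟨2, 1⟩, ⟨0, 0⟩, ⟨2, 1⟩⟩, 1, 1],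
      [1, 1, 1, 1, 1, ⟨⟨2, 1⟩, ⟨1, 2⟩, ⟨0, 0⟩, ⟨2, 1⟩, ⟨2, 1⟩, ⟨0, 0⟩, ⟨0, 0⟩, ⟨0, 0⟩, ⟨0, 1⟩⟩, 1],
      [1, 1, 1, 1, 1, 1, ⟨⟨1, 2⟩, ⟨2, 0⟩, ⟨0, 2⟩, ⟨2, 1⟩, ⟨2, 0⟩, ⟨0, 2⟩, ⟨0, 0⟩, ⟨2, 1⟩, ⟨1, 1⟩⟩],
      [⟨⟨2, 0⟩, ⟨2, 2⟩, ⟨2, 0⟩, ⟨2, 0⟩, ⟨0, 2⟩, ⟨2, 1⟩, ⟨2, 1⟩, ⟨0, 2⟩, ⟨2, 0⟩⟩, 1, 1, 1, 1, 1, 1],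
      [1, ⟨⟨2, 2⟩, ⟨0, 0⟩, ⟨1, 2⟩, ⟨0, 2⟩, ⟨2, 1⟩, ⟨2, 0⟩, ⟨0, 2⟩, ⟨1, 2⟩, ⟨2, 0⟩⟩, 1, 1, 1, 1, 1],
      [1, 1, ⟨⟨0, 0⟩, ⟨2, 2⟩, ⟨1, 1⟩, ⟨2, 1⟩, ⟨1, 0⟩, ⟨1, 0⟩, ⟨1, 2⟩, ⟨1, 0⟩, ⟨1, 0⟩⟩, 1, 1, 1, 1]],
    [[1, 1, 1, ⟨⟨1, 0⟩, ⟨1, 0⟩, ⟨1, 1⟩, ⟨2, 0⟩, ⟨2, 2⟩, ⟨2, 0⟩, ⟨2, 1⟩, ⟨0, 1⟩, ⟨0, 1⟩⟩, 1, 1, 1],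
      [⟨⟨2, 0⟩, ⟨2, 1⟩, ⟨2, 0⟩, ⟨2, 0⟩, ⟨2, 0⟩, ⟨2, 1⟩, ⟨2, 2⟩, ⟨0, 2⟩, ⟨0, 2⟩⟩, 1, 1, 1, 1, 1, 1],
      [1, 1, 1, 1, ⟨⟨2, 1⟩, ⟨2, 1⟩, ⟨0, 0⟩, ⟨0, 1⟩, ⟨0, 2⟩, ⟨1, 1⟩, ⟨1, 0⟩, ⟨2, 0⟩, ⟨2, 1⟩⟩, 1, 1],
      [1, ⟨⟨2, 0⟩, ⟨0, 2⟩, ⟨2, 2⟩, ⟨1, 2⟩, ⟨2, 2⟩, ⟨0, 0⟩, ⟨0, 2⟩, ⟨1, 0⟩, ⟨2, 1⟩⟩, 1, 1, 1, 1, 1],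
      [1, 1, 1, 1, 1, ⟨⟨0, 1⟩, ⟨0, 0⟩, ⟨0, 0⟩, ⟨0, 0⟩, ⟨2, 1⟩, ⟨2, 2⟩, ⟨0, 0⟩, ⟨2, 2⟩, ⟨2, 1⟩⟩, 1],
      [1, 1, ⟨⟨1, 0⟩, ⟨1, 2⟩, ⟨0, 2⟩, ⟨1, 1⟩, ⟨0, 0⟩, ⟨2, 1⟩, ⟨0, 1⟩, ⟨2, 2⟩, ⟨1, 0⟩⟩, 1, 1, 1, 1],
      [1, 1, 1, 1, 1, 1, ⟨⟨1, 1⟩, ⟨0, 0⟩, ⟨1, 1⟩, ⟨0, 2⟩, ⟨1, 2⟩, ⟨0, 1⟩, ⟨1, 0⟩, ⟨2, 2⟩, ⟨2, 0⟩⟩]]],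
  [[[1, 1, 1, 1, 1, 1, ⟨⟨1, 0⟩, ⟨0, 0⟩, ⟨0, 0⟩, ⟨0, 0⟩, ⟨1, 0⟩, ⟨0, 0⟩, ⟨0, 0⟩, ⟨0, 0⟩, ⟨1, 0⟩⟩],
      [1, 1, 1, 1, 1, 1, ⟨⟨1, 2⟩, ⟨1, 0⟩, ⟨0, 1⟩, ⟨2, 0⟩, ⟨0, 2⟩, ⟨1, 1⟩, ⟨0, 2⟩, ⟨1, 1⟩, ⟨0, 1⟩⟩],
      [1, 1, 1, 1, 1, 1, ⟨⟨0, 1⟩, ⟨0, 2⟩, ⟨1, 2⟩, ⟨0, 1⟩, ⟨1, 2⟩, ⟨0, 2⟩, ⟨2, 1⟩, ⟨0, 2⟩, ⟨0, 2⟩⟩],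
      [1, 1, 1, 1, 1, 1, ⟨⟨0, 1⟩, ⟨1, 1⟩, ⟨1, 0⟩, ⟨2, 2⟩, ⟨0, 2⟩, ⟨2, 0⟩, ⟨2, 0⟩, ⟨2, 0⟩, ⟨1, 1⟩⟩],
      [1, 1, 1, 1, 1, 1, ⟨⟨0, 2⟩, ⟨2, 1⟩, ⟨2, 0⟩, ⟨1, 2⟩, ⟨0, 1⟩, ⟨2, 0⟩, ⟨1, 0⟩, ⟨2, 0⟩, ⟨1, 2⟩⟩],
      [1, 1, 1, 1, 1, 1, ⟨⟨0, 2⟩, ⟨0, 2⟩, ⟨2, 2⟩, ⟨0, 1⟩, ⟨1, 1⟩, ⟨0, 1⟩, ⟨1, 1⟩, ⟨0, 1⟩, ⟨0, 1⟩⟩],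
      [1, 1, 1, 1, 1, 1, ⟨⟨1, 1⟩, ⟨2, 0⟩, ⟨0, 1⟩, ⟨1, 0⟩, ⟨0, 1⟩, ⟨1, 2⟩, ⟨0, 2⟩, ⟨1, 2⟩, ⟨0, 2⟩⟩]],
    [[1, 1, 1, 1, 1, 1, ⟨⟨0, 1⟩, ⟨2, 0⟩, ⟨2, 2⟩, ⟨1, 0⟩, ⟨1, 1⟩, ⟨2, 0⟩, ⟨1, 1⟩, ⟨2, 0⟩, ⟨0, 2⟩⟩],
      [1, 1, 1, 1, 1, ⟨⟨1, 2⟩, ⟨0, 1⟩, ⟨1, 0⟩, ⟨0, 0⟩, ⟨1, 1⟩, ⟨2, 1⟩, ⟨1, 2⟩, ⟨0, 2⟩, ⟨2, 0⟩⟩, 1],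
      [1, 1, 1, 1, ⟨⟨1, 2⟩, ⟨0, 2⟩, ⟨0, 2⟩, ⟨1, 1⟩, ⟨2, 0⟩, ⟨2, 0⟩, ⟨0, 0⟩, ⟨2, 2⟩, ⟨1, 1⟩⟩, 1, 1],
      [1, 1, 1, ⟨⟨1, 2⟩, ⟨2, 1⟩, ⟨0, 0⟩, ⟨0, 0⟩, ⟨0, 0⟩, ⟨0, 1⟩, ⟨2, 1⟩, ⟨2, 1⟩, ⟨0, 0⟩⟩, 1, 1, 1],
      [1, 1, ⟨⟨2, 0⟩, ⟨2, 1⟩, ⟨0, 1⟩, ⟨0, 1⟩, ⟨2, 2⟩, ⟨1, 0⟩, ⟨1, 1⟩, ⟨0, 0⟩, ⟨2, 1⟩⟩, 1, 1, 1, 1],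
      [1, ⟨⟨1, 0⟩, ⟨2, 1⟩, ⟨1, 0⟩, ⟨2, 2⟩, ⟨0, 0⟩, ⟨1, 1⟩, ⟨1, 0⟩, ⟨1, 2⟩, ⟨1, 0⟩⟩, 1, 1, 1, 1, 1],
      [⟨⟨0, 2⟩, ⟨1, 0⟩, ⟨2, 1⟩, ⟨2, 2⟩, ⟨0, 2⟩, ⟨1, 0⟩, ⟨0, 1⟩, ⟨2, 2⟩, ⟨0, 2⟩⟩, 1, 1, 1, 1, 1, 1]],
    [[1, 1, 1, 1, 1, 1, ⟨⟨1, 1⟩, ⟨0, 2⟩, ⟨1, 0⟩, ⟨0, 1⟩, ⟨0, 2⟩, ⟨1, 2⟩, ⟨2, 0⟩, ⟨1, 2⟩, ⟨0, 1⟩⟩],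
      [1, 1, 1, 1, ⟨⟨2, 0⟩, ⟨0, 2⟩, ⟨1, 1⟩, ⟨2, 1⟩, ⟨1, 1⟩, ⟨0, 0⟩, ⟨0, 2⟩, ⟨1, 0⟩, ⟨1, 2⟩⟩, 1, 1],
      [1, 1, ⟨⟨2, 2⟩, ⟨0, 1⟩, ⟨0, 1⟩, ⟨0, 0⟩, ⟨2, 1⟩, ⟨1, 2⟩, ⟨2, 1⟩, ⟨2, 0⟩, ⟨2, 0⟩⟩, 1, 1, 1, 1],
      [⟨⟨0, 2⟩, ⟨0, 1⟩, ⟨2, 2⟩, ⟨2, 1⟩, ⟨0, 2⟩, ⟨1, 0⟩, ⟨1, 0⟩, ⟨2, 2⟩, ⟨0, 2⟩⟩, 1, 1, 1, 1, 1, 1],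
      [1, 1, 1, 1, 1, ⟨⟨1, 1⟩, ⟨2, 2⟩, ⟨0, 0⟩, ⟨2, 0⟩, ⟨2, 0⟩, ⟨2, 2⟩, ⟨0, 1⟩, ⟨0, 1⟩, ⟨1, 2⟩⟩, 1],
      [1, 1, 1, ⟨⟨0, 0⟩, ⟨2, 0⟩, ⟨0, 0⟩, ⟨1, 1⟩, ⟨0, 0⟩, ⟨1, 1⟩, ⟨2, 1⟩, ⟨0, 0⟩, ⟨1, 2⟩⟩, 1, 1, 1],
      [1, ⟨⟨0, 0⟩, ⟨2, 1⟩, ⟨2, 2⟩, ⟨2, 2⟩, ⟨1, 0⟩, ⟨0, 2⟩, ⟨2, 1⟩, ⟨0, 1⟩, ⟨1, 0⟩⟩, 1, 1, 1, 1, 1]],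
    [[1, 1, 1, 1, 1, 1, ⟨⟨0, 1⟩, ⟨2, 1⟩, ⟨0, 1⟩, ⟨1, 2⟩, ⟨0, 2⟩, ⟨0, 2⟩, ⟨0, 2⟩, ⟨0, 2⟩, ⟨1, 2⟩⟩],
      [1, 1, 1, ⟨⟨0, 0⟩, ⟨1, 1⟩, ⟨2, 1⟩, ⟨0, 0⟩, ⟨1, 1⟩, ⟨1, 2⟩, ⟨1, 0⟩, ⟨0, 0⟩, ⟨0, 0⟩⟩, 1, 1, 1],
      [⟨⟨0, 1⟩, ⟨0, 1⟩, ⟨1, 1⟩, ⟨1, 1⟩, ⟨0, 1⟩, ⟨0, 1⟩, ⟨0, 1⟩, ⟨1, 1⟩, ⟨0, 1⟩⟩, 1, 1, 1, 1, 1, 1],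
      [1, 1, 1, 1, ⟨⟨1, 2⟩, ⟨0, 0⟩, ⟨1, 1⟩, ⟨0, 2⟩, ⟨1, 1⟩, ⟨2, 0⟩, ⟨0, 2⟩, ⟨2, 2⟩, ⟨2, 0⟩⟩, 1, 1],
      [1, ⟨⟨1, 0⟩, ⟨2, 0⟩, ⟨1, 2⟩, ⟨2, 0⟩, ⟨1, 0⟩, ⟨1, 2⟩, ⟨1, 1⟩, ⟨1, 1⟩, ⟨0, 0⟩⟩, 1, 1, 1, 1, 1],
      [1, 1, 1, 1, 1, ⟨⟨2, 0⟩, ⟨2, 2⟩, ⟨1, 0⟩, ⟨2, 0⟩, ⟨1, 1⟩, ⟨1, 0⟩, ⟨1, 2⟩, ⟨0, 0⟩, ⟨1, 2⟩⟩, 1],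
      [1, 1, ⟨⟨2, 2⟩, ⟨2, 1⟩, ⟨0, 0⟩, ⟨0, 1⟩, ⟨2, 0⟩, ⟨1, 2⟩, ⟨0, 1⟩, ⟨2, 0⟩, ⟨2, 1⟩⟩, 1, 1, 1, 1]],
    [[1, 1, 1, 1, 1, 1, ⟨⟨0, 2⟩, ⟨1, 1⟩, ⟨0, 1⟩, ⟨2, 2⟩, ⟨0, 1⟩, ⟨0, 1⟩, ⟨0, 2⟩, ⟨0, 1⟩, ⟨1, 1⟩⟩],
      [1, 1, ⟨⟨2, 1⟩, ⟨1, 1⟩, ⟨0, 0⟩, ⟨0, 1⟩, ⟨2, 0⟩, ⟨1, 1⟩, ⟨0, 1⟩, ⟨2, 0⟩, ⟨2, 2⟩⟩, 1, 1, 1, 1],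
      [1, 1, 1, 1, 1, ⟨⟨2, 0⟩, ⟨1, 2⟩, ⟨2, 0⟩, ⟨1, 0⟩, ⟨1, 2⟩, ⟨1, 0⟩, ⟨2, 2⟩, ⟨0, 0⟩, ⟨1, 1⟩⟩, 1],
      [1, ⟨⟨1, 0⟩, ⟨1, 0⟩, ⟨2, 2⟩, ⟨1, 0⟩, ⟨1, 0⟩, ⟨1, 1⟩, ⟨2, 1⟩, ⟨1, 2⟩, ⟨0, 0⟩⟩, 1, 1, 1, 1, 1],
      [1, 1, 1, 1, ⟨⟨1, 1⟩, ⟨0, 0⟩, ⟨2, 1⟩, ⟨0, 2⟩, ⟨1, 2⟩, ⟨2, 0⟩, ⟨0, 2⟩, ⟨2, 1⟩, ⟨2, 0⟩⟩, 1, 1],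
      [⟨⟨0, 2⟩, ⟨0, 1⟩, ⟨2, 1⟩, ⟨2, 1⟩, ⟨0, 2⟩, ⟨0, 2⟩, ⟨0, 1⟩, ⟨1, 2⟩, ⟨0, 2⟩⟩, 1, 1, 1, 1, 1, 1],
      [1, 1, 1, ⟨⟨0, 0⟩, ⟨2, 1⟩, ⟨1, 1⟩, ⟨0, 0⟩, ⟨1, 2⟩, ⟨1, 1⟩, ⟨2, 0⟩, ⟨0, 0⟩, ⟨0, 0⟩⟩, 1, 1, 1]],
    [[1, 1, 1, 1, 1, 1, ⟨⟨1, 2⟩, ⟨0, 2⟩, ⟨2, 0⟩, ⟨0, 1⟩, ⟨0, 1⟩, ⟨1, 1⟩, ⟨1, 0⟩, ⟨1, 1⟩, ⟨0, 2⟩⟩],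
      [1, ⟨⟨0, 0⟩, ⟨1, 1⟩, ⟨1, 2⟩, ⟨1, 2⟩, ⟨1, 0⟩, ⟨0, 1⟩, ⟨1, 1⟩, ⟨0, 2⟩, ⟨1, 0⟩⟩, 1, 1, 1, 1, 1],
      [1, 1, 1, ⟨⟨0, 0⟩, ⟨1, 0⟩, ⟨0, 0⟩, ⟨2, 1⟩, ⟨0, 0⟩, ⟨1, 2⟩, ⟨1, 1⟩, ⟨0, 0⟩, ⟨1, 1⟩⟩, 1, 1, 1],
      [1, 1, 1, 1, 1, ⟨⟨1, 2⟩, ⟨1, 2⟩, ⟨0, 0⟩, ⟨1, 0⟩, ⟨2, 0⟩, ⟨2, 1⟩, ⟨0, 1⟩, ⟨0, 2⟩, ⟨1, 1⟩⟩, 1],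
      [⟨⟨0, 1⟩, ⟨0, 1⟩, ⟨1, 2⟩, ⟨1, 1⟩, ⟨0, 1⟩, ⟨1, 0⟩, ⟨2, 0⟩, ⟨2, 1⟩, ⟨0, 1⟩⟩, 1, 1, 1, 1, 1, 1],
      [1, 1, ⟨⟨2, 1⟩, ⟨0, 1⟩, ⟨0, 1⟩, ⟨0, 0⟩, ⟨2, 2⟩, ⟨1, 1⟩, ⟨1, 1⟩, ⟨2, 0⟩, ⟨2, 0⟩⟩, 1, 1, 1, 1],
      [1, 1, 1, 1, ⟨⟨2, 0⟩, ⟨0, 2⟩, ⟨2, 1⟩, ⟨1, 1⟩, ⟨1, 2⟩, ⟨0, 0⟩, ⟨0, 2⟩, ⟨1, 0⟩, ⟨1, 1⟩⟩, 1, 1]],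
    [[1, 1, 1, 1, 1, 1, ⟨⟨0, 2⟩, ⟨1, 0⟩, ⟨1, 2⟩, ⟨2, 0⟩, ⟨1, 2⟩, ⟨2, 0⟩, ⟨2, 1⟩, ⟨2, 0⟩, ⟨0, 1⟩⟩],
      [⟨⟨0, 1⟩, ⟨2, 0⟩, ⟨1, 1⟩, ⟨1, 2⟩, ⟨0, 1⟩, ⟨1, 0⟩, ⟨0, 1⟩, ⟨2, 1⟩, ⟨0, 1⟩⟩, 1, 1, 1, 1, 1, 1],
      [1, ⟨⟨1, 0⟩, ⟨1, 1⟩, ⟨2, 0⟩, ⟨1, 2⟩, ⟨0, 0⟩, ⟨1, 2⟩, ⟨2, 0⟩, ⟨1, 1⟩, ⟨1, 0⟩⟩, 1, 1, 1, 1, 1],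
      [1, 1, ⟨⟨2, 0⟩, ⟨1, 1⟩, ⟨0, 1⟩, ⟨0, 1⟩, ⟨2, 1⟩, ⟨1, 0⟩, ⟨2, 1⟩, ⟨0, 0⟩, ⟨2, 2⟩⟩, 1, 1, 1, 1],
      [1, 1, 1, ⟨⟨1, 1⟩, ⟨1, 1⟩, ⟨0, 0⟩, ⟨0, 0⟩, ⟨0, 0⟩, ⟨0, 2⟩, ⟨1, 1⟩, ⟨2, 2⟩, ⟨0, 0⟩⟩, 1, 1, 1],
      [1, 1, 1, 1, ⟨⟨1, 1⟩, ⟨0, 2⟩, ⟨0, 2⟩, ⟨2, 1⟩, ⟨2, 0⟩, ⟨2, 0⟩, ⟨0, 0⟩, ⟨2, 1⟩, ⟨1, 2⟩⟩, 1, 1],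
      [1, 1, 1, 1, 1, ⟨⟨1, 1⟩, ⟨0, 1⟩, ⟨2, 0⟩, ⟨0, 0⟩, ⟨1, 2⟩, ⟨2, 2⟩, ⟨2, 2⟩, ⟨0, 1⟩, ⟨2, 0⟩⟩, 1]]]]

/-- word lengths -/
def dep4 : List (List (List (List ℕ))) :=
  [[[[0, 0, 0, 0, 0, 0, 0],
      [0, 0, 0, 0, 0, 0, 0],
      [0, 0, 0, 0, 0, 0, 0],
      [0, 0, 0, 0, 0, 0, 0],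
      [0, 0, 0, 0, 0, 0, 0],
      [0, 0, 0, 0, 0, 0, 0],
      [0, 0, 0, 0, 0, 0, 0]],
    [[0, 0, 0, 0, 0, 0, 0],
      [0, 0, 0, 0, 0, 0, 0],
      [0, 0, 0, 0, 0, 0, 0],
      [0, 0, 0, 0, 0, 0, 0],
      [0, 0, 0, 0, 0, 0, 0],
      [0, 0, 0, 0, 0, 0, 0],
      [3, 6, 8, 7, 6, 5, 4]],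
    [[0, 0, 0, 0, 0, 0, 0],
      [0, 0, 0, 0, 0, 0, 0],
      [0, 0, 0, 0, 0, 0, 0],
      [12, 10, 11, 13, 11, 10, 10],
      [0, 0, 0, 0, 0, 0, 0],
      [0, 0, 0, 0, 0, 0, 0],
      [0, 0, 0, 0, 0, 0, 0]],
    [[0, 0, 0, 0, 0, 0, 0],
      [0, 0, 0, 0, 0, 0, 0],
      [12, 9, 11, 10, 11, 11, 8],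
      [0, 0, 0, 0, 0, 0, 0],
      [0, 0, 0, 0, 0, 0, 0],
      [0, 0, 0, 0, 0, 0, 0],
      [0, 0, 0, 0, 0, 0, 0]],
    [[0, 0, 0, 0, 0, 0, 0],
      [0, 0, 0, 0, 0, 0, 0],
      [0, 0, 0, 0, 0, 0, 0],
      [0, 0, 0, 0, 0, 0, 0],
      [0, 0, 0, 0, 0, 0, 0],
      [12, 10, 12, 11, 11, 10, 10],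
      [0, 0, 0, 0, 0, 0, 0]],
    [[0, 0, 0, 0, 0, 0, 0],
      [0, 0, 0, 0, 0, 0, 0],
      [0, 0, 0, 0, 0, 0, 0],
      [0, 0, 0, 0, 0, 0, 0],
      [10, 12, 11, 9, 11, 13, 8],
      [0, 0, 0, 0, 0, 0, 0],
      [0, 0, 0, 0, 0, 0, 0]],
    [[0, 0, 0, 0, 0, 0, 0],
      [1, 2, 3, 4, 5, 6, 4],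
      [0, 0, 0, 0, 0, 0, 0],
      [0, 0, 0, 0, 0, 0, 0],
      [0, 0, 0, 0, 0, 0, 0],
      [0, 0, 0, 0, 0, 0, 0],
      [0, 0, 0, 0, 0, 0, 0]]],
  [[[0, 0, 0, 0, 0, 0, 0],
      [0, 3, 0, 0, 0, 0, 0],
      [0, 6, 0, 0, 0, 0, 0],
      [0, 8, 0, 0, 0, 0, 0],
      [0, 7, 0, 0, 0, 0, 0],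
      [0, 6, 0, 0, 0, 0, 0],
      [0, 5, 0, 0, 0, 0, 0]],
    [[0, 1, 0, 0, 0, 0, 0],
      [0, 0, 4, 0, 0, 0, 0],
      [0, 0, 0, 7, 0, 0, 0],
      [0, 0, 0, 0, 9, 0, 0],
      [0, 0, 0, 0, 0, 8, 0],
      [0, 0, 0, 0, 0, 0, 7],
      [6, 0, 0, 0, 0, 0, 0]],
    [[0, 2, 0, 0, 0, 0, 0],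
      [0, 0, 0, 5, 0, 0, 0],
      [0, 0, 0, 0, 0, 8, 0],
      [10, 0, 0, 0, 0, 0, 0],
      [0, 0, 9, 0, 0, 0, 0],
      [0, 0, 0, 0, 8, 0, 0],
      [0, 0, 0, 0, 0, 0, 7]],
    [[0, 3, 0, 0, 0, 0, 0],
      [0, 0, 0, 0, 6, 0, 0],
      [9, 0, 0, 0, 0, 0, 0],
      [0, 0, 0, 11, 0, 0, 0],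
      [0, 0, 0, 0, 0, 0, 10],
      [0, 0, 9, 0, 0, 0, 0],
      [0, 0, 0, 0, 0, 8, 0]],
    [[0, 4, 0, 0, 0, 0, 0],
      [0, 0, 0, 0, 0, 7, 0],
      [0, 0, 10, 0, 0, 0, 0],
      [0, 0, 0, 0, 0, 0, 8],
      [0, 0, 0, 11, 0, 0, 0],
      [10, 0, 0, 0, 0, 0, 0],
      [0, 0, 0, 0, 9, 0, 0]],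
    [[0, 5, 0, 0, 0, 0, 0],
      [0, 0, 0, 0, 0, 0, 5],
      [0, 0, 0, 0, 8, 0, 0],
      [0, 0, 9, 0, 0, 0, 0],
      [12, 0, 0, 0, 0, 0, 0],
      [0, 0, 0, 0, 0, 11, 0],
      [0, 0, 0, 10, 0, 0, 0]],
    [[0, 6, 0, 0, 0, 0, 0],
      [2, 0, 0, 0, 0, 0, 0],
      [0, 0, 0, 0, 0, 0, 5],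
      [0, 0, 0, 0, 0, 8, 0],
      [0, 0, 0, 0, 10, 0, 0],
      [0, 0, 0, 9, 0, 0, 0],
      [0, 0, 8, 0, 0, 0, 0]]],
  [[[0, 0, 0, 0, 13, 0, 0],
      [0, 0, 0, 0, 7, 0, 0],
      [0, 0, 0, 0, 12, 0, 0],
      [0, 0, 0, 0, 10, 0, 0],
      [0, 0, 0, 0, 12, 0, 0],
      [0, 0, 0, 0, 10, 0, 0],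
      [0, 0, 0, 0, 11, 0, 0]],
    [[0, 0, 0, 0, 11, 0, 0],
      [0, 4, 0, 0, 0, 0, 0],
      [0, 0, 0, 0, 0, 10, 0],
      [0, 0, 7, 0, 0, 0, 0],
      [0, 0, 0, 0, 0, 0, 9],
      [0, 0, 0, 10, 0, 0, 0],
      [8, 0, 0, 0, 0, 0, 0]],
    [[0, 0, 0, 0, 11, 0, 0],
      [0, 0, 0, 0, 0, 8, 0],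
      [0, 0, 0, 0, 0, 0, 9],
      [11, 0, 0, 0, 0, 0, 0],
      [0, 9, 0, 0, 0, 0, 0],
      [0, 0, 11, 0, 0, 0, 0],
      [0, 0, 0, 12, 0, 0, 0]],
    [[0, 0, 0, 0, 12, 0, 0],
      [0, 0, 5, 0, 0, 0, 0],
      [11, 0, 0, 0, 0, 0, 0],
      [0, 0, 0, 0, 0, 8, 0],
      [0, 0, 0, 10, 0, 0, 0],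
      [0, 9, 0, 0, 0, 0, 0],
      [0, 0, 0, 0, 0, 0, 9]],
    [[0, 0, 0, 0, 12, 0, 0],
      [0, 0, 0, 0, 0, 0, 6],
      [0, 10, 0, 0, 0, 0, 0],
      [0, 0, 0, 9, 0, 0, 0],
      [0, 0, 0, 0, 0, 10, 0],
      [12, 0, 0, 0, 0, 0, 0],
      [0, 0, 11, 0, 0, 0, 0]],
    [[0, 0, 0, 0, 12, 0, 0],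
      [0, 0, 0, 6, 0, 0, 0],
      [0, 0, 12, 0, 0, 0, 0],
      [0, 9, 0, 0, 0, 0, 0],
      [11, 0, 0, 0, 0, 0, 0],
      [0, 0, 0, 0, 0, 0, 9],
      [0, 0, 0, 0, 0, 10, 0]],
    [[0, 0, 0, 0, 11, 0, 0],
      [3, 0, 0, 0, 0, 0, 0],
      [0, 0, 0, 10, 0, 0, 0],
      [0, 0, 0, 0, 0, 0, 6],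
      [0, 0, 9, 0, 0, 0, 0],
      [0, 0, 0, 0, 0, 9, 0],
      [0, 8, 0, 0, 0, 0, 0]]],
  [[[0, 0, 0, 0, 0, 11, 0],
      [0, 0, 0, 0, 0, 9, 0],
      [0, 0, 0, 0, 0, 9, 0],
      [0, 0, 0, 0, 0, 10, 0],
      [0, 0, 0, 0, 0, 12, 0],
      [0, 0, 0, 0, 0, 12, 0],
      [0, 0, 0, 0, 0, 9, 0]],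
    [[0, 0, 0, 0, 0, 9, 0],
      [0, 0, 0, 7, 0, 0, 0],
      [0, 7, 0, 0, 0, 0, 0],
      [0, 0, 0, 0, 0, 0, 8],
      [0, 0, 0, 0, 10, 0, 0],
      [0, 0, 10, 0, 0, 0, 0],
      [7, 0, 0, 0, 0, 0, 0]],
    [[0, 0, 0, 0, 0, 11, 0],
      [0, 5, 0, 0, 0, 0, 0],
      [0, 0, 0, 0, 9, 0, 0],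
      [13, 0, 0, 0, 0, 0, 0],
      [0, 0, 0, 8, 0, 0, 0],
      [0, 0, 0, 0, 0, 0, 10],
      [0, 0, 12, 0, 0, 0, 0]],
    [[0, 0, 0, 0, 0, 12, 0],
      [0, 0, 0, 0, 0, 0, 7],
      [10, 0, 0, 0, 0, 0, 0],
      [0, 11, 0, 0, 0, 0, 0],
      [0, 0, 10, 0, 0, 0, 0],
      [0, 0, 0, 12, 0, 0, 0],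
      [0, 0, 0, 0, 10, 0, 0]],
    [[0, 0, 0, 0, 0, 10, 0],
      [0, 0, 0, 0, 8, 0, 0],
      [0, 0, 0, 8, 0, 0, 0],
      [0, 0, 9, 0, 0, 0, 0],
      [0, 11, 0, 0, 0, 0, 0],
      [11, 0, 0, 0, 0, 0, 0],
      [0, 0, 0, 0, 0, 0, 8]],
    [[0, 0, 0, 0, 0, 12, 0],
      [0, 0, 6, 0, 0, 0, 0],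
      [0, 0, 0, 0, 0, 0, 6],
      [0, 0, 0, 11, 0, 0, 0],
      [9, 0, 0, 0, 0, 0, 0],
      [0, 0, 0, 0, 9, 0, 0],
      [0, 10, 0, 0, 0, 0, 0]],
    [[0, 0, 0, 0, 0, 10, 0],
      [4, 0, 0, 0, 0, 0, 0],
      [0, 0, 10, 0, 0, 0, 0],
      [0, 0, 0, 0, 12, 0, 0],
      [0, 0, 0, 0, 0, 0, 7],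
      [0, 9, 0, 0, 0, 0, 0],
      [0, 0, 0, 11, 0, 0, 0]]],
  [[[0, 0, 13, 0, 0, 0, 0],
      [0, 0, 7, 0, 0, 0, 0],
      [0, 0, 12, 0, 0, 0, 0],
      [0, 0, 10, 0, 0, 0, 0],
      [0, 0, 12, 0, 0, 0, 0],
      [0, 0, 10, 0, 0, 0, 0],
      [0, 0, 11, 0, 0, 0, 0]],
    [[0, 0, 11, 0, 0, 0, 0],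
      [0, 0, 0, 0, 9, 0, 0],
      [0, 0, 0, 0, 0, 0, 7],
      [0, 9, 0, 0, 0, 0, 0],
      [0, 0, 0, 10, 0, 0, 0],
      [0, 0, 0, 0, 0, 8, 0],
      [6, 0, 0, 0, 0, 0, 0]],
    [[0, 0, 11, 0, 0, 0, 0],
      [0, 0, 0, 0, 0, 0, 8],
      [0, 0, 0, 9, 0, 0, 0],
      [11, 0, 0, 0, 0, 0, 0],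
      [0, 0, 0, 0, 10, 0, 0],
      [0, 8, 0, 0, 0, 0, 0],
      [0, 0, 0, 0, 0, 8, 0]],
    [[0, 0, 12, 0, 0, 0, 0],
      [0, 6, 0, 0, 0, 0, 0],
      [11, 0, 0, 0, 0, 0, 0],
      [0, 0, 0, 0, 0, 0, 9],
      [0, 0, 0, 0, 0, 11, 0],
      [0, 0, 0, 0, 9, 0, 0],
      [0, 0, 0, 10, 0, 0, 0]],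
    [[0, 0, 12, 0, 0, 0, 0],
      [0, 0, 0, 8, 0, 0, 0],
      [0, 0, 0, 0, 10, 0, 0],
      [0, 0, 0, 0, 0, 9, 0],
      [0, 0, 0, 0, 0, 0, 9],
      [11, 0, 0, 0, 0, 0, 0],
      [0, 9, 0, 0, 0, 0, 0]],
    [[0, 0, 12, 0, 0, 0, 0],
      [0, 0, 0, 0, 0, 10, 0],
      [0, 8, 0, 0, 0, 0, 0],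
      [0, 0, 0, 0, 10, 0, 0],
      [11, 0, 0, 0, 0, 0, 0],
      [0, 0, 0, 9, 0, 0, 0],
      [0, 0, 0, 0, 0, 0, 7]],
    [[0, 0, 11, 0, 0, 0, 0],
      [5, 0, 0, 0, 0, 0, 0],
      [0, 0, 0, 0, 0, 10, 0],
      [0, 0, 0, 12, 0, 0, 0],
      [0, 10, 0, 0, 0, 0, 0],
      [0, 0, 0, 0, 0, 0, 8],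
      [0, 0, 0, 0, 9, 0, 0]]],
  [[[0, 0, 0, 11, 0, 0, 0],
      [0, 0, 0, 9, 0, 0, 0],
      [0, 0, 0, 9, 0, 0, 0],
      [0, 0, 0, 10, 0, 0, 0],
      [0, 0, 0, 12, 0, 0, 0],
      [0, 0, 0, 12, 0, 0, 0],
      [0, 0, 0, 9, 0, 0, 0]],
    [[0, 0, 0, 9, 0, 0, 0],
      [0, 0, 0, 0, 0, 0, 6],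
      [0, 0, 10, 0, 0, 0, 0],
      [0, 0, 0, 0, 0, 7, 0],
      [0, 8, 0, 0, 0, 0, 0],
      [0, 0, 0, 0, 8, 0, 0],
      [5, 0, 0, 0, 0, 0, 0]],
    [[0, 0, 0, 11, 0, 0, 0],
      [0, 0, 8, 0, 0, 0, 0],
      [0, 8, 0, 0, 0, 0, 0],
      [10, 0, 0, 0, 0, 0, 0],
      [0, 0, 0, 0, 0, 0, 11],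
      [0, 0, 0, 0, 0, 11, 0],
      [0, 0, 0, 0, 8, 0, 0]],
    [[0, 0, 0, 12, 0, 0, 0],
      [0, 0, 0, 0, 0, 9, 0],
      [11, 0, 0, 0, 0, 0, 0],
      [0, 0, 8, 0, 0, 0, 0],
      [0, 0, 0, 0, 11, 0, 0],
      [0, 0, 0, 0, 0, 0, 11],
      [0, 8, 0, 0, 0, 0, 0]],
    [[0, 0, 0, 10, 0, 0, 0],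
      [0, 7, 0, 0, 0, 0, 0],
      [0, 0, 0, 0, 0, 0, 7],
      [0, 0, 0, 0, 9, 0, 0],
      [0, 0, 10, 0, 0, 0, 0],
      [10, 0, 0, 0, 0, 0, 0],
      [0, 0, 0, 0, 0, 7, 0]],
    [[0, 0, 0, 12, 0, 0, 0],
      [0, 0, 0, 0, 10, 0, 0],
      [0, 0, 0, 0, 0, 10, 0],
      [0, 0, 0, 0, 0, 0, 7],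
      [13, 0, 0, 0, 0, 0, 0],
      [0, 11, 0, 0, 0, 0, 0],
      [0, 0, 10, 0, 0, 0, 0]],
    [[0, 0, 0, 10, 0, 0, 0],
      [6, 0, 0, 0, 0, 0, 0],
      [0, 0, 0, 0, 10, 0, 0],
      [0, 8, 0, 0, 0, 0, 0],
      [0, 0, 0, 0, 0, 9, 0],
      [0, 0, 9, 0, 0, 0, 0],
      [0, 0, 0, 0, 0, 0, 6]]],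
  [[[0, 0, 0, 0, 0, 0, 2],
      [0, 0, 0, 0, 0, 0, 3],
      [0, 0, 0, 0, 0, 0, 4],
      [0, 0, 0, 0, 0, 0, 5],
      [0, 0, 0, 0, 0, 0, 6],
      [0, 0, 0, 0, 0, 0, 7],
      [0, 0, 0, 0, 0, 0, 5]],
    [[0, 0, 0, 0, 0, 0, 5],
      [0, 0, 0, 0, 0, 6, 0],
      [0, 0, 0, 0, 7, 0, 0],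
      [0, 0, 0, 8, 0, 0, 0],
      [0, 0, 9, 0, 0, 0, 0],
      [0, 7, 0, 0, 0, 0, 0],
      [4, 0, 0, 0, 0, 0, 0]],
    [[0, 0, 0, 0, 0, 0, 7],
      [0, 0, 0, 0, 8, 0, 0],
      [0, 0, 9, 0, 0, 0, 0],
      [10, 0, 0, 0, 0, 0, 0],
      [0, 0, 0, 0, 0, 11, 0],
      [0, 0, 0, 10, 0, 0, 0],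
      [0, 7, 0, 0, 0, 0, 0]],
    [[0, 0, 0, 0, 0, 0, 6],
      [0, 0, 0, 7, 0, 0, 0],
      [8, 0, 0, 0, 0, 0, 0],
      [0, 0, 0, 0, 9, 0, 0],
      [0, 10, 0, 0, 0, 0, 0],
      [0, 0, 0, 0, 0, 11, 0],
      [0, 0, 9, 0, 0, 0, 0]],
    [[0, 0, 0, 0, 0, 0, 5],
      [0, 0, 6, 0, 0, 0, 0],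
      [0, 0, 0, 0, 0, 7, 0],
      [0, 8, 0, 0, 0, 0, 0],
      [0, 0, 0, 0, 9, 0, 0],
      [10, 0, 0, 0, 0, 0, 0],
      [0, 0, 0, 8, 0, 0, 0]],
    [[0, 0, 0, 0, 0, 0, 4],
      [0, 5, 0, 0, 0, 0, 0],
      [0, 0, 0, 6, 0, 0, 0],
      [0, 0, 0, 0, 0, 7, 0],
      [8, 0, 0, 0, 0, 0, 0],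
      [0, 0, 9, 0, 0, 0, 0],
      [0, 0, 0, 0, 7, 0, 0]],
    [[0, 0, 0, 0, 0, 0, 3],
      [4, 0, 0, 0, 0, 0, 0],
      [0, 5, 0, 0, 0, 0, 0],
      [0, 0, 6, 0, 0, 0, 0],
      [0, 0, 0, 7, 0, 0, 0],
      [0, 0, 0, 0, 8, 0, 0],
      [0, 0, 0, 0, 0, 6, 0]]]]

/-- the homomorphism on encodings -/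
def look (q : M2 (ZMod 7)) : M3 F9 :=
  (((tab4.getD (@Fin.val 7 q.a) []).getD (@Fin.val 7 q.b) []).getD (@Fin.val 7 q.c) []).getD
    (@Fin.val 7 q.d) 1

/-- the word length -/
def depth (q : M2 (ZMod 7)) : ℕ :=
  (((dep4.getD (@Fin.val 7 q.a) []).getD (@Fin.val 7 q.b) []).getD (@Fin.val 7 q.c) []).getD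
    (@Fin.val 7 q.d) 0

def gS : M2 (ZMod 7) := ⟨0, 6, 1, 0⟩
def gT : M2 (ZMod 7) := ⟨1, 1, 0, 1⟩
def gSi : M2 (ZMod 7) := ⟨0, 1, 6, 0⟩
def gTi : M2 (ZMod 7) := ⟨1, 6, 0, 1⟩
def hS : M3 F9 := ⟨⟨0, 0⟩, ⟨0, 1⟩, ⟨0, 0⟩, ⟨0, 2⟩, ⟨0, 0⟩, ⟨0, 0⟩, ⟨0, 0⟩, ⟨0, 0⟩, ⟨2, 0⟩⟩
def hT : M3 F9 := ⟨⟨0, 2⟩, ⟨1, 0⟩, ⟨1, 2⟩, ⟨2, 0⟩, ⟨1, 2⟩, ⟨2, 0⟩, ⟨2, 1⟩, ⟨2, 0⟩, ⟨0, 1⟩⟩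

/-- the determinant -/
def det2 (q : M2 (ZMod 7)) : ZMod 7 := q.a * q.d - q.b * q.c

set_option maxRecDepth 100000 in
theorem gen_chk : ∀ a b c d : ZMod 7, a * d - b * c = 1 →
    look (⟨a, b, c, d⟩ * gS) = look ⟨a, b, c, d⟩ * hS ∧
    look (⟨a, b, c, d⟩ * gT) = look ⟨a, b, c, d⟩ * hT := by decide +kernel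

set_option maxRecDepth 100000 in
theorem depth_chk : ∀ a b c d : ZMod 7, a * d - b * c = 1 →
    ((⟨a, b, c, d⟩ : M2 (ZMod 7)) = 1 ∨ depth (⟨a, b, c, d⟩ * gSi) < depth ⟨a, b, c, d⟩ ∨
      depth (⟨a, b, c, d⟩ * gTi) < depth ⟨a, b, c, d⟩) := by decide +kernel

set_option maxRecDepth 100000 in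
theorem ker_chk : ∀ a b c d : ZMod 7, (a * d - b * c = 1 ∧ look ⟨a, b, c, d⟩ = 1) →
    ((⟨a, b, c, d⟩ : M2 (ZMod 7)) = 1 ∨ (⟨a, b, c, d⟩ : M2 (ZMod 7)) = ⟨6, 0, 0, 6⟩) := by
  decide +kernel

theorem look_one : look 1 = 1 ∧ look ⟨6, 0, 0, 6⟩ = 1 := by decide +kernel

set_option maxRecDepth 100000 in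
theorem cen_chk : ∀ a b c d : ZMod 7, (a * d - b * c = 1 ∧
    (⟨a, b, c, d⟩ : M2 (ZMod 7)) * gS = gS * ⟨a, b, c, d⟩ ∧
    (⟨a, b, c, d⟩ : M2 (ZMod 7)) * gT = gT * ⟨a, b, c, d⟩) →
    ((⟨a, b, c, d⟩ : M2 (ZMod 7)) = 1 ∨ (⟨a, b, c, d⟩ : M2 (ZMod 7)) = ⟨6, 0, 0, 6⟩) := by
  decide +kernel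

theorem det2_gen : det2 gS = 1 ∧ det2 gT = 1 ∧ det2 gSi = 1 ∧ det2 gTi = 1 := by decide

theorem gen_inv : gSi * gS = 1 ∧ gTi * gT = 1 := by decide

theorem m2_mul_def (p q : M2 (ZMod 7)) : p * q =
    ⟨p.a * q.a + p.b * q.c, p.a * q.b + p.b * q.d, p.c * q.a + p.d * q.c, p.c * q.b + p.d * q.d⟩ := rfl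

theorem m2_one_def : (1 : M2 (ZMod 7)) = ⟨1, 0, 0, 1⟩ := rfl

theorem m2_mul_assoc (p q r : M2 (ZMod 7)) : p * q * r = p * (q * r) := by
  obtain ⟨a, b, c, d⟩ := p
  obtain ⟨a', b', c', d'⟩ := q
  obtain ⟨a'', b'', c'', d''⟩ := r
  simp only [m2_mul_def, M2.mk.injEq]
  refine ⟨?_, ?_, ?_, ?_⟩ <;> ring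

theorem m2_mul_one (p : M2 (ZMod 7)) : p * 1 = p := by
  obtain ⟨a, b, c, d⟩ := p
  simp only [m2_mul_def, m2_one_def, M2.mk.injEq]
  refine ⟨?_, ?_, ?_, ?_⟩ <;> ring

theorem det2_mul (p q : M2 (ZMod 7)) : det2 (p * q) = det2 p * det2 q := by
  obtain ⟨a, b, c, d⟩ := p
  obtain ⟨a', b', c', d'⟩ := q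
  simp only [m2_mul_def, det2]
  ring

theorem neg_comm (q : M2 (ZMod 7)) : (⟨6, 0, 0, 6⟩ : M2 (ZMod 7)) * q = q * ⟨6, 0, 0, 6⟩ := by
  obtain ⟨a, b, c, d⟩ := q
  simp only [m2_mul_def, M2.mk.injEq]
  refine ⟨?_, ?_, ?_, ?_⟩ <;> ring

theorem m3_mul_assoc (x y z : M3 F9) : x * y * z = x * (y * z) := by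
  obtain ⟨a, b, c, d, e, f, g, h, i⟩ := x
  obtain ⟨a', b', c', d', e', f', g', h', i'⟩ := y
  obtain ⟨a'', b'', c'', d'', e'', f'', g'', h'', i''⟩ := z
  simp only [M3.mul_def, M3.mk.injEq]
  refine ⟨?_, ?_, ?_, ?_, ?_, ?_, ?_, ?_, ?_⟩ <;> ring

theorem m3_mul_one (x : M3 F9) : x * 1 = x := by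
  obtain ⟨a, b, c, d, e, f, g, h, i⟩ := x
  simp only [M3.mul_def, M3.one_def, M3.mk.injEq]
  refine ⟨?_, ?_, ?_, ?_, ?_, ?_, ?_, ?_, ?_⟩ <;> ring

theorem gen_chk' (q : M2 (ZMod 7)) (hq : det2 q = 1) :
    look (q * gS) = look q * hS ∧ look (q * gT) = look q * hT := by
  obtain ⟨a, b, c, d⟩ := q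
  exact gen_chk a b c d hq

theorem depth_chk' (q : M2 (ZMod 7)) (hq : det2 q = 1) :
    q = 1 ∨ depth (q * gSi) < depth q ∨ depth (q * gTi) < depth q := by
  obtain ⟨a, b, c, d⟩ := q
  exact depth_chk a b c d hq

theorem look_mul_aux : ∀ n : ℕ, ∀ q : M2 (ZMod 7), det2 q = 1 → depth q = n →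
    ∀ p : M2 (ZMod 7), det2 p = 1 → look (p * q) = look p * look q := by
  intro n
  induction n using Nat.strong_induction_on with
  | _ n ih =>
    intro q hq hn p hp
    rcases depth_chk' q hq with h1 | h | h
    · rw [h1, m2_mul_one, look_one.1, m3_mul_one]
    · have hd' : det2 (q * gSi) = 1 := by rw [det2_mul, hq, det2_gen.2.2.1, one_mul]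
      have hq' : q = q * gSi * gS := by rw [m2_mul_assoc, gen_inv.1, m2_mul_one]
      have h2 := ih _ (hn ▸ h) (q * gSi) hd' rfl p hp
      have hd'' : det2 (p * (q * gSi)) = 1 := by rw [det2_mul, hp, hd', one_mul]
      calc look (p * q) = look (p * (q * gSi) * gS) := by rw [m2_mul_assoc, ← hq']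
        _ = look (p * (q * gSi)) * hS := (gen_chk' _ hd'').1
        _ = look p * (look (q * gSi) * hS) := by rw [h2, m3_mul_assoc]
        _ = look p * look (q * gSi * gS) := by rw [(gen_chk' _ hd').1]
        _ = look p * look q := by rw [← hq']
    · have hd' : det2 (q * gTi) = 1 := by rw [det2_mul, hq, det2_gen.2.2.2, one_mul]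
      have hq' : q = q * gTi * gT := by rw [m2_mul_assoc, gen_inv.2, m2_mul_one]
      have h2 := ih _ (hn ▸ h) (q * gTi) hd' rfl p hp
      have hd'' : det2 (p * (q * gTi)) = 1 := by rw [det2_mul, hp, hd', one_mul]
      calc look (p * q) = look (p * (q * gTi) * gT) := by rw [m2_mul_assoc, ← hq']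
        _ = look (p * (q * gTi)) * hT := (gen_chk' _ hd'').2
        _ = look p * (look (q * gTi) * hT) := by rw [h2, m3_mul_assoc]
        _ = look p * look (q * gTi * gT) := by rw [(gen_chk' _ hd').2]
        _ = look p * look q := by rw [← hq']

theorem look_mul (p q : M2 (ZMod 7)) (hp : det2 p = 1) (hq : det2 q = 1) :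
    look (p * q) = look p * look q :=
  look_mul_aux _ q hq rfl p hp

/-- the groups -/
abbrev A7 : Type := Matrix.SpecialLinearGroup (Fin 2) (ZMod 7)
abbrev G9 : Type := Cfsg.SU 3 F9 3

theorem det2_enc (g : A7) : det2 (enc g) = 1 := enc_det g

theorem hgen_ok : det3 hS = 1 ∧ unit3 hS ∧ det3 hT = 1 ∧ unit3 hT := by decide +kernel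

theorem look_mem : ∀ n : ℕ, ∀ q : M2 (ZMod 7), det2 q = 1 → depth q = n →
    ∃ x : G9, enc3 x.1 = look q := by
  intro n
  induction n using Nat.strong_induction_on with
  | _ n ih =>
    intro q hq hn
    rcases depth_chk' q hq with h1 | h | h
    · refine ⟨1, ?_⟩
      rw [h1, look_one.1]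
      exact enc3_one
    · have hd' : det2 (q * gSi) = 1 := by rw [det2_mul, hq, det2_gen.2.2.1, one_mul]
      have hq' : q = q * gSi * gS := by rw [m2_mul_assoc, gen_inv.1, m2_mul_one]
      obtain ⟨x, hx⟩ := ih _ (hn ▸ h) (q * gSi) hd' rfl
      refine ⟨x * su3 hS hgen_ok.1 hgen_ok.2.1, ?_⟩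
      have e : enc3 (x * su3 hS hgen_ok.1 hgen_ok.2.1 : G9).1 = enc3 x.1 * hS := by
        have e1 : enc3 (x * su3 hS hgen_ok.1 hgen_ok.2.1 : G9).1 =
            enc3 x.1 * enc3 (su3 hS hgen_ok.1 hgen_ok.2.1).1 := enc3_mul x.1 _
        have e2 : enc3 (su3 hS hgen_ok.1 hgen_ok.2.1).1 = hS := enc3_dec3 hS hgen_ok.1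
        rw [e1, e2]
      rw [e, hx, ← (gen_chk' _ hd').1, ← hq']
    · have hd' : det2 (q * gTi) = 1 := by rw [det2_mul, hq, det2_gen.2.2.2, one_mul]
      have hq' : q = q * gTi * gT := by rw [m2_mul_assoc, gen_inv.2, m2_mul_one]
      obtain ⟨x, hx⟩ := ih _ (hn ▸ h) (q * gTi) hd' rfl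
      refine ⟨x * su3 hT hgen_ok.2.2.1 hgen_ok.2.2.2, ?_⟩
      have e : enc3 (x * su3 hT hgen_ok.2.2.1 hgen_ok.2.2.2 : G9).1 = enc3 x.1 * hT := by
        have e1 : enc3 (x * su3 hT hgen_ok.2.2.1 hgen_ok.2.2.2 : G9).1 =
            enc3 x.1 * enc3 (su3 hT hgen_ok.2.2.1 hgen_ok.2.2.2).1 := enc3_mul x.1 _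
        have e2 : enc3 (su3 hT hgen_ok.2.2.1 hgen_ok.2.2.2).1 = hT := enc3_dec3 hT hgen_ok.2.2.1
        rw [e1, e2]
      rw [e, hx, ← (gen_chk' _ hd').2, ← hq']

theorem look_ok (q : M2 (ZMod 7)) (hq : det2 q = 1) : det3 (look q) = 1 ∧ unit3 (look q) := by
  obtain ⟨x, hx⟩ := look_mem _ q hq rfl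
  rw [← hx]
  exact ⟨enc3_det x.1, enc3_unit x.1 x.2⟩

theorem enc3_su3 (m : M3 F9) (h1 : det3 m = 1) (h2 : unit3 m) : enc3 (su3 m h1 h2).1 = m :=
  enc3_dec3 m h1

theorem enc3_coe_one : enc3 ((1 : G9) : Matrix.SpecialLinearGroup (Fin 3) F9) = 1 := enc3_one

theorem enc3_coe_mul (x y : G9) :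
    enc3 ((x * y : G9) : Matrix.SpecialLinearGroup (Fin 3) F9) = enc3 x.1 * enc3 y.1 :=
  enc3_mul x.1 y.1

/-- the homomorphism -/
noncomputable def phi : A7 →* G9 where
  toFun g := su3 (look (enc g)) (look_ok _ (det2_enc g)).1 (look_ok _ (det2_enc g)).2
  map_one' := by
    apply Subtype.ext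
    apply enc3_injective
    rw [enc3_su3, enc3_coe_one, enc_one]
    exact look_one.1
  map_mul' g h := by
    apply Subtype.ext
    apply enc3_injective
    rw [enc3_coe_mul, enc3_su3, enc3_su3, enc3_su3, enc_mul]
    exact look_mul _ _ (det2_enc g) (det2_enc h)

theorem phi_eq_one (g : A7) : phi g = 1 ↔ look (enc g) = 1 := by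
  constructor
  · intro h
    have h2 := congrArg (fun x : G9 => enc3 x.1) h
    have h3 : enc3 (su3 (look (enc g)) (look_ok _ (det2_enc g)).1 (look_ok _ (det2_enc g)).2).1 = enc3 ((1 : G9) : Matrix.SpecialLinearGroup (Fin 3) F9) := h2
    rwa [enc3_su3, enc3_coe_one] at h3
  · intro h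
    apply Subtype.ext
    apply enc3_injective
    show enc3 (su3 (look (enc g)) (look_ok _ (det2_enc g)).1 (look_ok _ (det2_enc g)).2).1 = enc3 ((1 : G9) : Matrix.SpecialLinearGroup (Fin 3) F9)
    rw [enc3_su3, enc3_coe_one]
    exact h

def S7 : A7 := ⟨!![0, 6; 1, 0], by rw [Matrix.det_fin_two_of]; decide⟩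
def T7 : A7 := ⟨!![1, 1; 0, 1], by rw [Matrix.det_fin_two_of]; decide⟩

theorem enc_S7 : enc S7 = gS := rfl
theorem enc_T7 : enc T7 = gT := rfl

theorem mem_center_iff (g : A7) :
    g ∈ Subgroup.center A7 ↔ (enc g = 1 ∨ enc g = ⟨6, 0, 0, 6⟩) := by
  rw [Subgroup.mem_center_iff]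
  constructor
  · intro h
    have h1 := congrArg enc (h S7)
    have h2 := congrArg enc (h T7)
    rw [enc_mul, enc_mul, enc_S7] at h1
    rw [enc_mul, enc_mul, enc_T7] at h2
    have hd := det2_enc g
    obtain ⟨q, hq⟩ : ∃ q : M2 (ZMod 7), q = enc g := ⟨_, rfl⟩
    rw [← hq] at h1 h2 hd ⊢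
    obtain ⟨a, b, c, d⟩ := q
    exact cen_chk a b c d ⟨hd, h1.symm, h2.symm⟩
  · intro h y
    apply enc_injective
    rw [enc_mul, enc_mul]
    rcases h with h | h
    · rw [h, m2_mul_one]
      obtain ⟨a, b, c, d⟩ := enc y
      simp only [m2_mul_def, m2_one_def, M2.mk.injEq]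
      refine ⟨?_, ?_, ?_, ?_⟩ <;> ring
    · rw [h]
      exact (neg_comm _).symm

theorem ker_phi : phi.ker = Subgroup.center A7 := by
  ext g
  rw [MonoidHom.mem_ker, phi_eq_one, mem_center_iff]
  constructor
  · intro h
    have hd := det2_enc g
    obtain ⟨q, hq⟩ : ∃ q : M2 (ZMod 7), q = enc g := ⟨_, rfl⟩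
    rw [← hq] at h hd ⊢
    obtain ⟨a, b, c, d⟩ := q
    exact ker_chk a b c d ⟨hd, h⟩
  · rintro (h | h)
    · rw [h]
      exact look_one.1
    · rw [h]
      exact look_one.2

/-- the special linear groups over isomorphic rings are isomorphic -/
def slEquiv2 {R S : Type*} [CommRing R] [CommRing S] (e : R ≃+* S) :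
    Matrix.SpecialLinearGroup (Fin 2) R ≃* Matrix.SpecialLinearGroup (Fin 2) S where
  toFun := Matrix.SpecialLinearGroup.map e.toRingHom
  invFun := Matrix.SpecialLinearGroup.map e.symm.toRingHom
  left_inv g := by
    ext i j
    simp [Matrix.SpecialLinearGroup.map_apply_coe]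
  right_inv g := by
    ext i j
    simp [Matrix.SpecialLinearGroup.map_apply_coe]
  map_mul' g h := map_mul _ g h

instance fact7 : Fact (Nat.Prime 7) := ⟨by norm_num⟩

/-- The projective special unitary group PSU₃(3) (realised over the field with 9 elements) has a subgroup isomorphic to PSL₂(7). -/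
theorem result {F : Type*} [Field F] [Fintype F] (hF : Fintype.card F = 9)
    {K : Type*} [Field K] [Fintype K] (hK : Fintype.card K = 7) :
    ∃ H : Subgroup (Cfsg.PSU 3 F 3), Nonempty (H ≃* Matrix.ProjectiveSpecialLinearGroup (Fin 2) K) := by
  have eK : K ≃+* ZMod 7 := FiniteField.ringEquivOfCardEq (by rw [hK, ZMod.card])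
  have e0 : Matrix.ProjectiveSpecialLinearGroup (Fin 2) K ≃*
      Matrix.ProjectiveSpecialLinearGroup (Fin 2) (ZMod 7) :=
    Cfsg.Agent.Lib.helper17.U32.quotCenterEquiv (slEquiv2 eK)
  have e1 : F9 ≃+* F := FiniteField.ringEquivOfCardEq (by rw [F9.card, hF])
  have e2 : Cfsg.SU 3 F9 3 ≃* Cfsg.SU 3 F 3 := suEquiv e1 F9.three_eq_zero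
  have hc : Subgroup.center (Cfsg.SU 3 F 3) = ⊥ := center_bot_of_equiv e2.symm center_su
  have e3 : Cfsg.PSU 3 F 3 ≃* Cfsg.SU 3 F 3 :=
    (QuotientGroup.quotientMulEquivOfEq hc).trans QuotientGroup.quotientBot
  have E : G9 ≃* Cfsg.PSU 3 F 3 := e2.trans e3.symm
  have e4 : A7 ⧸ phi.ker ≃* phi.range := QuotientGroup.quotientKerEquivRange phi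
  have e5 : Matrix.ProjectiveSpecialLinearGroup (Fin 2) (ZMod 7) ≃* A7 ⧸ phi.ker :=
    QuotientGroup.quotientMulEquivOfEq ker_phi.symm
  have e6 : phi.range ≃* phi.range.map E.toMonoidHom :=
    phi.range.equivMapOfInjective E.toMonoidHom E.injective
  exact ⟨phi.range.map E.toMonoidHom, ⟨(e0.trans (e5.trans (e4.trans e6))).symm⟩⟩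

end Cfsg.Agent.S1897
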