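import Cfsg.Statements.S1921
import Cfsg.Agent.Lib.helper7.Layer
import Cfsg.Agent.Lib.helper10.LocalGlobal2
import Cfsg.Agent.Lib.helper10.ConjBasic

set_option autoImplicit false
open Cfsg

namespace Cfsg.Agent.S1921

/-- Let a be an involution of a finite group H and L a component of H with a L a⁻¹ ≠ L; put M = ⟨L, aLa⁻¹⟩ and let J be the subgroup generated by the elements x · a x a⁻¹ with x ∈ L (the diagonal). Then every element of M outside J·Z(M) generates M together with J. -/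
theorem result {H : Type*} [Group H] [Finite H] (a : H) (ha : orderOf a = 2) (L : Subgroup H) (hL : Cfsg.IsComponent L)
    (hLa : L.map (MulAut.conj a).toMonoidHom ≠ L) (x : H) (hxM : x ∈ L ⊔ L.map (MulAut.conj a).toMonoidHom)
    (hxJ : x ∉ Subgroup.closure {y : H | ∃ l ∈ L, y = l * (a * l * a⁻¹)} ⊔
      ((L ⊔ L.map (MulAut.conj a).toMonoidHom) ⊓ Subgroup.centralizer ((L ⊔ L.map (MulAut.conj a).toMonoidHom : Subgroup H) : Set H))) :
    Subgroup.closure {y : H | ∃ l ∈ L, y = l * (a * l * a⁻¹)} ⊔ Subgroup.zpowers x = L ⊔ L.map (MulAut.conj a).toMonoidHom := by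
  classical
  open scoped commutatorElement in
  open Cfsg.Agent.Lib.helper10 Cfsg.Agent.Lib.helper7 in
  obtain ⟨La, hLadef⟩ : ∃ La : Subgroup H, La = L.map (MulAut.conj a).toMonoidHom := ⟨_, rfl⟩
  obtain ⟨J, hJdef⟩ : ∃ J : Subgroup H,
      J = Subgroup.closure {y : H | ∃ l ∈ L, y = l * (a * l * a⁻¹)} := ⟨_, rfl⟩
  rw [← hJdef, ← hLadef] at hxJ ⊢
  rw [← hLadef] at hxM hLa
  have hLac : Cfsg.IsComponent La := by rw [hLadef]; exact comp_map_equiv (MulAut.conj a) hL
  have hcomm0 : ⁅L, La⁆ = ⊥ := comp_comm_of_ne hL hLac (Ne.symm hLa)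
  have hcomm : ∀ l ∈ L, ∀ m ∈ La, l * m = m * l := by
    intro l hl m hm
    have h1 : ⁅l, m⁆ ∈ ⁅L, La⁆ := Subgroup.commutator_mem_commutator hl hm
    rw [hcomm0, Subgroup.mem_bot, commutatorElement_eq_one_iff_mul_comm] at h1
    exact h1
  have hconjLa : ∀ l ∈ L, a * l * a⁻¹ ∈ La := by
    intro l hl; rw [hLadef]; exact conj_mem_map_conj L a l hl
  have hJgen : ∀ l ∈ L, l * (a * l * a⁻¹) ∈ J := by
    intro l hl; rw [hJdef]; exact Subgroup.subset_closure ⟨l, hl, rfl⟩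
  have hJM : J ≤ L ⊔ La := by
    rw [hJdef, Subgroup.closure_le]
    rintro _ ⟨l, hl, rfl⟩
    exact mul_mem ((le_sup_left : L ≤ L ⊔ La) hl) ((le_sup_right : La ≤ L ⊔ La) (hconjLa l hl))
  apply le_antisymm
  · exact sup_le hJM (Subgroup.zpowers_le.mpr hxM)
  · obtain ⟨K, hK⟩ : ∃ K : Subgroup H, K = J ⊔ Subgroup.zpowers x := ⟨_, rfl⟩
    rw [← hK]
    have hJK : J ≤ K := by rw [hK]; exact le_sup_left
    have hxK : x ∈ K := by
      rw [hK]; exact (le_sup_right : Subgroup.zpowers x ≤ _) (Subgroup.mem_zpowers x)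
    obtain ⟨l₁, hl₁, m₂, hm₂, hxe⟩ := exists_mul_of_mem_sup_of_normalizes (A := L) (B := La) (by
      intro l hl m hm
      have h1 := hcomm l hl m hm
      have e : l⁻¹ * m * l = m := by rw [mul_assoc, ← h1, inv_mul_cancel_left]
      rw [e]; exact hm) hxM
    obtain ⟨l₂, hl₂, hm₂e⟩ : ∃ l₂ ∈ L, m₂ = a * l₂ * a⁻¹ := by
      rw [hLadef] at hm₂
      obtain ⟨l₂, hl₂, rfl⟩ := hm₂
      exact ⟨l₂, hl₂, rfl⟩
    have hyK : l₁ * l₂⁻¹ ∈ K := by
      have h1 : x * (l₂ * (a * l₂ * a⁻¹))⁻¹ ∈ K :=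
        mul_mem hxK (inv_mem (hJK (hJgen l₂ hl₂)))
      have e : x * (l₂ * (a * l₂ * a⁻¹))⁻¹ = l₁ * l₂⁻¹ := by rw [hxe, hm₂e]; group
      rwa [e] at h1
    have hyL : l₁ * l₂⁻¹ ∈ L := mul_mem hl₁ (inv_mem hl₂)
    have hnorm : (K.subgroupOf L).Normal := by
      constructor
      intro k hk l
      rw [Subgroup.mem_subgroupOf] at hk ⊢
      have e : ((l * k * l⁻¹ : L) : H) =
          (l.1 * (a * l.1 * a⁻¹)) * k.1 * (l.1 * (a * l.1 * a⁻¹))⁻¹ := by
        have hc := hcomm k.1 k.2 (a * l.1 * a⁻¹) (hconjLa l.1 l.2)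
        have hmk : (a * l.1 * a⁻¹) * k.1 * (a * l.1 * a⁻¹)⁻¹ = k.1 := by
          rw [← hc, mul_inv_cancel_right]
        show l.1 * k.1 * l.1⁻¹ = _
        calc l.1 * k.1 * l.1⁻¹
            = l.1 * ((a * l.1 * a⁻¹) * k.1 * (a * l.1 * a⁻¹)⁻¹) * l.1⁻¹ := by rw [hmk]
          _ = _ := by group
      rw [e]
      exact mul_mem (mul_mem (hJK (hJgen l.1 l.2)) hk) (inv_mem (hJK (hJgen l.1 l.2)))
    have hqs := qs_normal hL.2 (K.subgroupOf L) hnorm
    have hLK : L ≤ K := by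
      rcases hqs with h | h
      · intro l hl
        have h1 : (⟨l, hl⟩ : L) ∈ K.subgroupOf L := by rw [h]; exact Subgroup.mem_top _
        exact h1
      · exfalso
        have hyc : (⟨l₁ * l₂⁻¹, hyL⟩ : L) ∈ Subgroup.center L :=
          h (by rw [Subgroup.mem_subgroupOf]; exact hyK)
        apply hxJ
        have hyZ : l₁ * l₂⁻¹ ∈ (L ⊔ La) ⊓ Subgroup.centralizer ((L ⊔ La : Subgroup H) : Set H) := by
          refine Subgroup.mem_inf.mpr ⟨(le_sup_left : L ≤ L ⊔ La) hyL, ?_⟩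
          have h1 : L ⊔ La ≤ Subgroup.centralizer ({l₁ * l₂⁻¹} : Set H) := by
            refine sup_le ?_ ?_
            · intro l hl
              rw [Subgroup.mem_centralizer_iff]
              intro y hy
              rw [Set.mem_singleton_iff] at hy
              rw [hy]
              have h2 := Subgroup.mem_center_iff.mp hyc ⟨l, hl⟩
              exact (congrArg Subtype.val h2).symm
            · intro m hm
              rw [Subgroup.mem_centralizer_iff]
              intro y hy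
              rw [Set.mem_singleton_iff] at hy
              rw [hy]
              exact hcomm _ hyL m hm
          intro z hz
          have h2 := h1 hz (l₁ * l₂⁻¹) rfl
          exact h2.symm
        have hx2 : x = (l₁ * l₂⁻¹) * (l₂ * (a * l₂ * a⁻¹)) := by rw [hxe, hm₂e]; group
        rw [hx2]
        exact mul_mem ((le_sup_right : _ ≤ J ⊔ _) hyZ) ((le_sup_left : J ≤ J ⊔ _) (hJgen l₂ hl₂))
    have hLaK : La ≤ K := by
      intro m hm
      rw [hLadef] at hm
      obtain ⟨l, hl, rfl⟩ := hm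
      have h1 : l⁻¹ * (l * (a * l * a⁻¹)) ∈ K := mul_mem (inv_mem (hLK hl)) (hJK (hJgen l hl))
      have e : l⁻¹ * (l * (a * l * a⁻¹)) = (MulAut.conj a).toMonoidHom l := by
        show l⁻¹ * (l * (a * l * a⁻¹)) = a * l * a⁻¹
        group
      rwa [e] at h1
    exact sup_le hLK hLaK

end Cfsg.Agent.S1921
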