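import Cfsg.Statements.S1922
import Cfsg.Agent.Lib.helper10.ConjBasic
import Cfsg.Agent.Lib.helper10.ConjAction

set_option autoImplicit false
open Cfsg

namespace Cfsg.Agent.S1922

section iso
open Cfsg.Agent.Lib.helper10
variable {G : Type*} [Group G]

theorem cent_le (H : Subgroup G) (z : G) (h0 : ∀ g : G, g⁻¹ * z * g ∈ H ↔ g ∈ H)
    (y : G) (hy : y * z = z * y) : y ∈ H := by
  have hzH : z ∈ H := by
    have := (h0 1).mpr (one_mem H)
    simpa using this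
  have e : y⁻¹ * z * y = z := by rw [mul_assoc, ← hy, inv_mul_cancel_left]
  exact (h0 y).mp (by rw [e]; exact hzH)

theorem fx_conj (H : Subgroup G) (z : G) (h0 : ∀ g : G, g⁻¹ * z * g ∈ H ↔ g ∈ H) (c g : G) :
    g⁻¹ * (c * z * c⁻¹) * g ∈ H ↔ c⁻¹ * g ∈ H := by
  rw [← h0 (c⁻¹ * g)]
  have e : (c⁻¹ * g)⁻¹ * z * (c⁻¹ * g) = g⁻¹ * (c * z * c⁻¹) * g := by group
  rw [e]

theorem cent_conj (H : Subgroup G) (z : G) (h0 : ∀ g : G, g⁻¹ * z * g ∈ H ↔ g ∈ H) (c e : G)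
    (he : e * (c * z * c⁻¹) = (c * z * c⁻¹) * e) : c⁻¹ * e * c ∈ H := by
  apply cent_le H z h0
  calc c⁻¹ * e * c * z = c⁻¹ * (e * (c * z * c⁻¹)) * c := by group
    _ = c⁻¹ * ((c * z * c⁻¹) * e) * c := by rw [he]
    _ = z * (c⁻¹ * e * c) := by group

theorem fx_prod (H : Subgroup G) (z : G)
    (h1 : ∀ t : G, IsConj z t → t ≠ z → t * z = z * t →
      ∀ g : G, g⁻¹ * (z * t) * g ∈ H ↔ g ∈ H)
    (c s : G) (hs : IsConj z s) (hne : s ≠ c * z * c⁻¹)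
    (hcomm : s * (c * z * c⁻¹) = (c * z * c⁻¹) * s) (g : G) :
    g⁻¹ * ((c * z * c⁻¹) * s) * g ∈ H ↔ c⁻¹ * g ∈ H := by
  have ht : IsConj z (c⁻¹ * s * c) := by
    obtain ⟨d, hd⟩ := isConj_iff.mp hs
    exact isConj_iff.mpr ⟨c⁻¹ * d, by rw [← hd]; group⟩
  have hne' : c⁻¹ * s * c ≠ z := by
    intro h; apply hne; rw [← h]; group
  have hcomm' : (c⁻¹ * s * c) * z = z * (c⁻¹ * s * c) := by
    calc (c⁻¹ * s * c) * z = c⁻¹ * (s * (c * z * c⁻¹)) * c := by group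
      _ = c⁻¹ * ((c * z * c⁻¹) * s) * c := by rw [hcomm]
      _ = z * (c⁻¹ * s * c) := by group
  have h2 := h1 _ ht hne' hcomm' (c⁻¹ * g)
  rw [← h2]
  have e : (c⁻¹ * g)⁻¹ * (z * (c⁻¹ * s * c)) * (c⁻¹ * g) = g⁻¹ * ((c * z * c⁻¹) * s) * g := by
    group
  rw [e]

theorem conj_sq (z : G) (hzz : z * z = 1) (s : G) (hs : IsConj z s) : s * s = 1 := by
  obtain ⟨c, rfl⟩ := isConj_iff.mp hs
  calc c * z * c⁻¹ * (c * z * c⁻¹) = c * (z * z) * c⁻¹ := by group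
    _ = 1 := by rw [hzz]; group

theorem odd_order [Finite G] (H : Subgroup G) (z : G) (hzz : z * z = 1)
    (h0 : ∀ g : G, g⁻¹ * z * g ∈ H ↔ g ∈ H)
    (h1 : ∀ t : G, IsConj z t → t ≠ z → t * z = z * t →
      ∀ g : G, g⁻¹ * (z * t) * g ∈ H ↔ g ∈ H)
    (c : G) (hc : c ∉ H) : Odd (orderOf ((c * z * c⁻¹) * z)) := by
  obtain ⟨x, hx⟩ : ∃ x, x = c * z * c⁻¹ := ⟨_, rfl⟩
  rw [← hx]
  have hxc : IsConj z x := isConj_iff.mpr ⟨c, hx.symm⟩
  have hxx : x * x = 1 := conj_sq z hzz x hxc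
  have hzi : z⁻¹ = z := inv_eq_of_mul_eq_one_left hzz
  have hxi : x⁻¹ = x := inv_eq_of_mul_eq_one_left hxx
  obtain ⟨r, hr⟩ : ∃ r, r = x * z := ⟨_, rfl⟩
  rw [← hr]
  by_contra hodd
  rw [Nat.not_odd_iff_even] at hodd
  obtain ⟨j, hj⟩ := hodd
  have hpos : 0 < orderOf r := orderOf_pos r
  have hj0 : j ≠ 0 := by omega
  obtain ⟨w, hw⟩ : ∃ w, w = r ^ j := ⟨_, rfl⟩
  have hw1 : w ≠ 1 := by rw [hw]; exact pow_ne_one_of_lt_orderOf hj0 (by omega)
  have hww : w * w = 1 := by rw [hw, ← pow_add, ← hj, pow_orderOf_eq_one]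
  have hwi : w⁻¹ = w := inv_eq_of_mul_eq_one_left hww
  have hzr : z * r * z⁻¹ = r⁻¹ := by
    rw [hr, mul_inv_rev, hzi, hxi]
    calc z * (x * z) * z = z * x * (z * z) := by group
      _ = z * x := by rw [hzz, mul_one]
  have hxr : x * r * x⁻¹ = r⁻¹ := by
    rw [hr, mul_inv_rev, hzi, hxi]
    calc x * (x * z) * x = (x * x) * z * x := by group
      _ = z * x := by rw [hxx, one_mul]
  have hzpow : ∀ n : ℕ, z * r ^ n * z⁻¹ = (r ^ n)⁻¹ := fun n => by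
    rw [← conj_pow, hzr, inv_pow]
  have hxpow : ∀ n : ℕ, x * r ^ n * x⁻¹ = (r ^ n)⁻¹ := fun n => by
    rw [← conj_pow, hxr, inv_pow]
  have hzw : z * w = w * z := by
    have h2 := hzpow j
    rw [← hw, hwi] at h2
    calc z * w = z * w * z⁻¹ * z := by group
      _ = w * z := by rw [h2]
  have hxw : x * w = w * x := by
    have h2 := hxpow j
    rw [← hw, hwi] at h2
    calc x * w = x * w * x⁻¹ * x := by group
      _ = w * x := by rw [h2]
  have ht : IsConj z (w * z) := by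
    rcases Nat.even_or_odd' j with ⟨i, hi | hi⟩
    · rw [isConj_iff]
      refine ⟨r ^ i, ?_⟩
      have h2 := hzpow i
      calc r ^ i * z * (r ^ i)⁻¹ = r ^ i * z * (z * r ^ i * z⁻¹) := by rw [h2]
        _ = r ^ i * (z * z) * r ^ i * z⁻¹ := by group
        _ = r ^ i * r ^ i * z := by rw [hzz, hzi, mul_one]
        _ = w * z := by rw [← pow_add, hw, hi, two_mul]
    · refine hxc.trans (isConj_iff.mpr ⟨r ^ i, ?_⟩)
      have h2 := hxpow i
      have hrz : r * z = x := by rw [hr, mul_assoc, hzz, mul_one]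
      calc r ^ i * x * (r ^ i)⁻¹ = r ^ i * x * (x * r ^ i * x⁻¹) := by rw [h2]
        _ = r ^ i * (x * x) * r ^ i * x⁻¹ := by group
        _ = r ^ i * r ^ i * x := by rw [hxx, hxi, mul_one]
        _ = r ^ i * r ^ i * (r * z) := by rw [hrz]
        _ = r ^ (i + i + 1) * z := by rw [pow_succ, pow_add]; group
        _ = w * z := by rw [hw, hi, two_mul]
  have hne : w * z ≠ z := by
    intro h
    apply hw1
    calc w = w * z * z⁻¹ := by group
      _ = 1 := by rw [h, mul_inv_cancel]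
  have hcomm : (w * z) * z = z * (w * z) := by
    rw [← mul_assoc, hzw]
  have key := h1 (w * z) ht hne hcomm
  have hzt : z * (w * z) = w := by rw [← mul_assoc, hzw, mul_assoc, hzz, mul_one]
  rw [hzt] at key
  have h3 := cent_conj H z h0 c w (by rw [← hx]; exact hxw.symm)
  exact hc ((key c).mp h3)

theorem midpoint [Finite G] (z₁ x₁ : G) (hz : z₁ * z₁ = 1) (hx : x₁ * x₁ = 1)
    (hodd : Odd (orderOf (x₁ * z₁))) :
    ∃ e : G, (e * z₁ * e⁻¹) * z₁ * (e * z₁ * e⁻¹)⁻¹ = x₁ ∧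
      ∀ y : G, y * z₁ = z₁ * y → y * x₁ = x₁ * y → y * e = e * y := by
  obtain ⟨m, hm⟩ := hodd
  obtain ⟨r, hr⟩ : ∃ r, r = x₁ * z₁ := ⟨_, rfl⟩
  rw [← hr] at hm
  have hzi : z₁⁻¹ = z₁ := inv_eq_of_mul_eq_one_left hz
  have hxi : x₁⁻¹ = x₁ := inv_eq_of_mul_eq_one_left hx
  have hzr : z₁ * r * z₁⁻¹ = r⁻¹ := by
    rw [hr, mul_inv_rev, hzi, hxi]
    calc z₁ * (x₁ * z₁) * z₁ = z₁ * x₁ * (z₁ * z₁) := by group
      _ = z₁ * x₁ := by rw [hz, mul_one]
  refine ⟨r ^ ((m + 1) ^ 2), ?_, ?_⟩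
  · obtain ⟨e, he⟩ : ∃ e, e = r ^ ((m + 1) ^ 2) := ⟨_, rfl⟩
    rw [← he]
    have hze : z₁ * e * z₁⁻¹ = e⁻¹ := by rw [he, ← conj_pow, hzr, inv_pow]
    have hze' : z₁ * e⁻¹ = e * z₁ := by
      calc z₁ * e⁻¹ = (z₁ * e * z₁⁻¹)⁻¹ * z₁ := by group
        _ = e * z₁ := by rw [hze, inv_inv]
    have hs : e * z₁ * e⁻¹ = e * e * z₁ := by rw [mul_assoc, hze', ← mul_assoc]
    have he4 : e * e * e * e = r := by
      rw [he, ← pow_add, ← pow_add, ← pow_add]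
      have h4 : (m + 1) ^ 2 + (m + 1) ^ 2 + (m + 1) ^ 2 + (m + 1) ^ 2 =
          (2 * m + 1) * (2 * m + 3) + 1 := by ring
      rw [h4, pow_succ, pow_mul, ← hm, pow_orderOf_eq_one, one_pow, one_mul]
    rw [hs]
    calc e * e * z₁ * z₁ * (e * e * z₁)⁻¹ = e * e * (z₁ * z₁) * z₁⁻¹ * e⁻¹ * e⁻¹ := by group
      _ = e * e * z₁ * e⁻¹ * e⁻¹ := by rw [hz, hzi, mul_one]
      _ = e * e * (z₁ * e⁻¹) * e⁻¹ := by group
      _ = e * e * (e * z₁) * e⁻¹ := by rw [hze']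
      _ = e * e * e * (z₁ * e⁻¹) := by group
      _ = e * e * e * (e * z₁) := by rw [hze']
      _ = e * e * e * e * z₁ := by group
      _ = x₁ := by rw [he4, hr, mul_assoc, hz, mul_one]
  · intro y hy1 hy2
    have hyr : Commute y r := by
      rw [hr]
      exact Commute.mul_right hy2 hy1
    exact (hyr.pow_right _).eq


theorem two_central [Finite G] (H : Subgroup G) (hH : H ≠ ⊤) (z : G) (hz : orderOf z = 2)
    (h0 : ∀ g : G, g⁻¹ * z * g ∈ H ↔ g ∈ H)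
    (h1 : ∀ t : G, IsConj z t → t ≠ z → t * z = z * t →
      ∀ g : G, g⁻¹ * (z * t) * g ∈ H ↔ g ∈ H) :
    ∃ P : Sylow 2 G, z ∈ (P : Subgroup G) ∧ ∀ y ∈ (P : Subgroup G), y * z = z * y := by
  classical
  have : Fact (Nat.Prime 2) := ⟨Nat.prime_two⟩
  have hzz : z * z = 1 := by rw [← pow_two, ← hz, pow_orderOf_eq_one]
  have hzi : z⁻¹ = z := inv_eq_of_mul_eq_one_left hzz
  have hzH : z ∈ H := by
    have := (h0 1).mpr (one_mem H)
    simpa using this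
  obtain ⟨g₀, hg₀⟩ : ∃ g₀, g₀ ∉ H := by
    by_contra hcon
    push Not at hcon
    exact hH (eq_top_iff.mpr fun g _ => hcon g)
  obtain ⟨x₀, hx₀⟩ : ∃ x₀, x₀ = g₀ * z * g₀⁻¹ := ⟨_, rfl⟩
  have hx₀c : IsConj z x₀ := isConj_iff.mpr ⟨g₀, hx₀.symm⟩
  have hsq : ∀ s, IsConj z s → s * s = 1 := conj_sq z hzz
  have hsi : ∀ s, IsConj z s → s⁻¹ = s := fun s hs => inv_eq_of_mul_eq_one_left (hsq s hs)
  have hx₀x₀ : x₀ * x₀ = 1 := hsq x₀ hx₀c
  obtain ⟨I, hI⟩ : ∃ I : Set G, I = {s | IsConj z s ∧ g₀⁻¹ * s ∈ H} := ⟨_, rfl⟩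
  obtain ⟨Δ, hΔ⟩ : ∃ Δ : Set G, Δ = {y | IsConj z y ∧ y ∈ H} := ⟨_, rfl⟩
  have hI1 : ∀ s ∈ I, IsConj z s := by intro s hs; rw [hI] at hs; exact hs.1
  have hI2 : ∀ s ∈ I, g₀⁻¹ * s ∈ H := by intro s hs; rw [hI] at hs; exact hs.2
  have hI3 : ∀ s ∈ I, s * g₀ ∈ H := by
    intro s hs
    have h2 := inv_mem (hI2 s hs)
    rw [mul_inv_rev, inv_inv, hsi s (hI1 s hs)] at h2
    exact h2
  have hΔc : ∀ y ∈ Δ, ∃ c ∈ H, y = c * z * c⁻¹ := by
    intro y hy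
    rw [hΔ] at hy
    obtain ⟨hy1, hy2⟩ := hy
    obtain ⟨c, rfl⟩ := isConj_iff.mp hy1
    refine ⟨c, ?_, rfl⟩
    have h2 := (fx_conj H z h0 c 1).mp (by simpa using hy2)
    have h3 : c⁻¹ ∈ H := by simpa using h2
    simpa using inv_mem h3
  have hodd : ∀ c ∈ H, Odd (orderOf (x₀ * (c * z * c⁻¹))) := by
    intro c hc
    have hc' : c⁻¹ * g₀ ∉ H := fun h => hg₀ (by
      have := mul_mem hc h
      simpa using this)
    have h2 := odd_order H z hzz h0 h1 (c⁻¹ * g₀) hc'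
    obtain ⟨a, ha⟩ : ∃ a, a = ((c⁻¹ * g₀) * z * (c⁻¹ * g₀)⁻¹) * z := ⟨_, rfl⟩
    rw [← ha] at h2
    have e : x₀ * (c * z * c⁻¹) = c * a * c⁻¹ := by rw [hx₀, ha]; group
    have e2 : orderOf (c * a * c⁻¹) = orderOf a :=
      orderOf_injective (MulAut.conj c).toMonoidHom (MulAut.conj c).injective a
    rw [e, e2]
    exact h2
  have hmid : ∀ c ∈ H, ∃ s₁, IsConj z s₁ ∧ s₁ * (c * z * c⁻¹) * s₁⁻¹ = x₀ ∧ s₁ ∈ I ∧
      ∀ s, IsConj z s → s * (c * z * c⁻¹) * s⁻¹ = x₀ → s = s₁ := by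
    intro c hc
    have hoddc := hodd c hc
    obtain ⟨z₁, hz₁⟩ : ∃ z₁, z₁ = c * z * c⁻¹ := ⟨_, rfl⟩
    rw [← hz₁] at hoddc ⊢
    have hz₁c : IsConj z z₁ := isConj_iff.mpr ⟨c, hz₁.symm⟩
    have hz₁z₁ := hsq z₁ hz₁c
    obtain ⟨e, he1, he2⟩ := midpoint z₁ x₀ hz₁z₁ hx₀x₀ hoddc
    obtain ⟨s₁, hs₁⟩ : ∃ s₁, s₁ = e * z₁ * e⁻¹ := ⟨_, rfl⟩
    rw [← hs₁] at he1
    have hs₁c : IsConj z s₁ := hz₁c.trans (isConj_iff.mpr ⟨e, hs₁.symm⟩)
    have hs₁s₁ := hsq s₁ hs₁c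
    have hs₁' : s₁ = (e * c) * z * (e * c)⁻¹ := by rw [hs₁, hz₁]; group
    refine ⟨s₁, hs₁c, he1, ?_, ?_⟩
    · rw [hI]
      refine ⟨hs₁c, ?_⟩
      have h2 : (g₀⁻¹ * s₁ * c) * z = z * (g₀⁻¹ * s₁ * c) := by
        have h3 : s₁ * (c * z * c⁻¹) * s₁⁻¹ = g₀ * z * g₀⁻¹ := by rw [← hz₁, he1, hx₀]
        calc (g₀⁻¹ * s₁ * c) * z = g₀⁻¹ * (s₁ * (c * z * c⁻¹) * s₁⁻¹) * s₁ * c := by group
          _ = g₀⁻¹ * (g₀ * z * g₀⁻¹) * s₁ * c := by rw [h3]
          _ = z * (g₀⁻¹ * s₁ * c) := by group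
      have h4 := cent_le H z h0 _ h2
      have h5 := mul_mem h4 (inv_mem hc)
      have e5 : g₀⁻¹ * s₁ * c * c⁻¹ = g₀⁻¹ * s₁ := by group
      rwa [e5] at h5
    · intro s hs hsx
      by_contra hne
      have hε1 : (s₁ * s) * z₁ = z₁ * (s₁ * s) := by
        have h3 : s₁ * x₀ * s₁⁻¹ = z₁ := by
          rw [← he1]
          calc s₁ * (s₁ * z₁ * s₁⁻¹) * s₁⁻¹ = (s₁ * s₁) * z₁ * (s₁ * s₁)⁻¹ := by group
            _ = z₁ := by rw [hs₁s₁]; group
        calc (s₁ * s) * z₁ = s₁ * (s * z₁ * s⁻¹) * s₁⁻¹ * (s₁ * s) := by group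
          _ = z₁ * (s₁ * s) := by rw [hsx, h3]
      have hε2 : (s₁ * s) * x₀ = x₀ * (s₁ * s) := by
        have h3 : s * x₀ * s⁻¹ = z₁ := by
          rw [← hsx]
          calc s * (s * z₁ * s⁻¹) * s⁻¹ = (s * s) * z₁ * (s * s)⁻¹ := by group
            _ = z₁ := by rw [hsq s hs]; group
        calc (s₁ * s) * x₀ = s₁ * (s * x₀ * s⁻¹) * s₁⁻¹ * (s₁ * s) := by group
          _ = x₀ * (s₁ * s) := by rw [h3, he1]
      have hεe := he2 (s₁ * s) hε1 hε2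
      have hεs₁ : (s₁ * s) * s₁ = s₁ * (s₁ * s) := by
        have h4 : (s₁ * s) * (e * z₁ * e⁻¹) = (e * z₁ * e⁻¹) * (s₁ * s) := by
          have hc1 : Commute (s₁ * s) e := hεe
          have hc2 : Commute (s₁ * s) z₁ := hε1
          exact ((hc1.mul_right hc2).mul_right hc1.inv_right).eq
        rw [← hs₁] at h4
        exact h4
      have hcomm : s * s₁ = s₁ * s := by
        calc s * s₁ = (s₁ * s₁) * s * s₁ := by rw [hs₁s₁, one_mul]
          _ = s₁ * ((s₁ * s) * s₁) := by group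
          _ = s₁ * (s₁ * (s₁ * s)) := by rw [hεs₁]
          _ = (s₁ * s₁) * (s₁ * s) := by group
          _ = s₁ * s := by rw [hs₁s₁, one_mul]
      have key := fx_prod H z h1 (e * c) s hs (by rw [← hs₁']; exact hne)
        (by rw [← hs₁']; exact hcomm)
      rw [← hs₁'] at key
      have hf1 : c⁻¹ * (s₁ * s) * c ∈ H :=
        cent_conj H z h0 c (s₁ * s) (by rw [← hz₁]; exact hε1)
      have hf2 : g₀⁻¹ * (s₁ * s) * g₀ ∈ H :=
        cent_conj H z h0 g₀ (s₁ * s) (by rw [← hx₀]; exact hε2)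
      have k1 := (key c).mp hf1
      have k2 := (key g₀).mp hf2
      have k3 := mul_mem (inv_mem k1) k2
      have e3 : ((e * c)⁻¹ * c)⁻¹ * ((e * c)⁻¹ * g₀) = c⁻¹ * g₀ := by group
      rw [e3] at k3
      apply hg₀
      have k4 := mul_mem hc k3
      simpa using k4
  obtain ⟨s₀, hs₀c, hs₀x, hs₀I, -⟩ := hmid 1 (one_mem H)
  have hs₀s₀ := hsq s₀ hs₀c
  have hs₀i := hsi s₀ hs₀c
  obtain ⟨e₀, he₀⟩ := isConj_iff.mp hs₀c
  have hIodd : ¬ 2 ∣ Nat.card I := by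
    apply not_dvd_card_of_unique_fixed (Subgroup.zpowers s₀) (isPGroup_zpowers_of_sq hs₀s₀) I
      ?_ s₀ hs₀I ?_ ?_
    · intro k hk s hs
      rcases mem_zpowers_of_sq hs₀s₀ hk with h | h
      · rw [h]; simpa using hs
      · rw [h, hI]
        refine ⟨(hI1 s hs).trans (isConj_iff.mpr ⟨s₀, rfl⟩), ?_⟩
        have e : g₀⁻¹ * (s₀ * s * s₀⁻¹) = (g₀⁻¹ * s₀) * (s * g₀) * (g₀⁻¹ * s₀) := by
          rw [hs₀i]; group
        rw [e]
        exact mul_mem (mul_mem (hI2 s₀ hs₀I) (hI3 s hs)) (hI2 s₀ hs₀I)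
    · intro k hk
      rcases mem_zpowers_of_sq hs₀s₀ hk with h | h
      · rw [h]; group
      · rw [h]; group
    · intro s hs hfix
      by_contra hne
      have hcomm : s * s₀ = s₀ * s := by
        have h2 := hfix s₀ (Subgroup.mem_zpowers s₀)
        calc s * s₀ = (s₀ * s * s₀⁻¹) * s₀ := by rw [h2]
          _ = s₀ * s := by group
      have key := fx_prod H z h1 e₀ s (hI1 s hs) (by rw [he₀]; exact hne)
        (by rw [he₀]; exact hcomm)
      rw [he₀] at key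
      have hf1 : (1 : G)⁻¹ * (s₀ * s) * 1 ∈ H := by
        have e : (1 : G)⁻¹ * (s₀ * s) * 1 = (s₀ * g₀) * (g₀⁻¹ * s) := by group
        rw [e]; exact mul_mem (hI3 s₀ hs₀I) (hI2 s hs)
      have hf2 : g₀⁻¹ * (s₀ * s) * g₀ ∈ H := by
        have e : g₀⁻¹ * (s₀ * s) * g₀ = (g₀⁻¹ * s₀) * (s * g₀) := by group
        rw [e]; exact mul_mem (hI2 s₀ hs₀I) (hI3 s hs)
      have k1 := (key 1).mp hf1
      have k2 := (key g₀).mp hf2
      have k3 := mul_mem (inv_mem k1) k2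
      have e3 : (e₀⁻¹ * 1)⁻¹ * (e₀⁻¹ * g₀) = g₀ := by group
      rw [e3] at k3
      exact hg₀ k3
  have hcard : Nat.card I = Nat.card Δ := by
    have hmem : ∀ s : I, s.1 * x₀ * s.1⁻¹ ∈ Δ := by
      intro s
      rw [hΔ]
      have e : s.1 * x₀ * s.1⁻¹ = (s.1 * g₀) * z * (s.1 * g₀)⁻¹ := by rw [hx₀]; group
      refine ⟨isConj_iff.mpr ⟨s.1 * g₀, e.symm⟩, ?_⟩
      rw [e]
      exact mul_mem (mul_mem (hI3 s.1 s.2) hzH) (inv_mem (hI3 s.1 s.2))
    apply Nat.card_congr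
    refine Equiv.ofBijective (fun s : I => (⟨s.1 * x₀ * s.1⁻¹, hmem s⟩ : Δ)) ⟨?_, ?_⟩
    · intro s s' hss
      have hss' : s.1 * x₀ * s.1⁻¹ = s'.1 * x₀ * s'.1⁻¹ := congrArg Subtype.val hss
      obtain ⟨c, hc, hz₁⟩ := hΔc _ (hmem s)
      obtain ⟨s₁, -, -, -, huniq⟩ := hmid c hc
      have hA : ∀ t : I, t.1 * x₀ * t.1⁻¹ = c * z * c⁻¹ → t.1 = s₁ := by
        intro t ht
        apply huniq t.1 (hI1 t.1 t.2)
        rw [← ht]
        have htt := hsq t.1 (hI1 t.1 t.2)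
        calc t.1 * (t.1 * x₀ * t.1⁻¹) * t.1⁻¹ = (t.1 * t.1) * x₀ * (t.1 * t.1)⁻¹ := by group
          _ = x₀ := by rw [htt]; group
      apply Subtype.ext
      rw [hA s hz₁, hA s' (hss' ▸ hz₁)]
    · rintro ⟨z₁, hz₁⟩
      obtain ⟨c, hc, rfl⟩ := hΔc _ hz₁
      obtain ⟨s₁, hs₁c, hs₁x, hs₁I, -⟩ := hmid c hc
      refine ⟨⟨s₁, hs₁I⟩, Subtype.ext ?_⟩
      show s₁ * x₀ * s₁⁻¹ = c * z * c⁻¹
      rw [← hs₁x]
      have h2 := hsq s₁ hs₁c
      calc s₁ * (s₁ * (c * z * c⁻¹) * s₁⁻¹) * s₁⁻¹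
          = (s₁ * s₁) * (c * z * c⁻¹) * (s₁ * s₁)⁻¹ := by group
        _ = c * z * c⁻¹ := by rw [h2]; group
  have hΔodd : ¬ 2 ∣ Nat.card Δ := hcard ▸ hIodd
  have hidx : ¬ 2 ∣ H.index := by
    rw [Subgroup.index_eq_card]
    have hK : IsPGroup 2 (Subgroup.zpowers z) := isPGroup_zpowers_of_sq hzz
    have h2 := hK.card_modEq_card_fixedPoints (G ⧸ H)
    have h3 : Nat.card (MulAction.fixedPoints (Subgroup.zpowers z) (G ⧸ H)) = 1 := by
      rw [Nat.card_eq_one_iff_unique]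
      have hfix : ∀ q : G ⧸ H, q ∈ MulAction.fixedPoints (Subgroup.zpowers z) (G ⧸ H) →
          q = ((1 : G) : G ⧸ H) := by
        intro q hq
        obtain ⟨g, rfl⟩ := QuotientGroup.mk_surjective q
        have h4 := hq ⟨z, Subgroup.mem_zpowers z⟩
        have h5 : ((z * g : G) : G ⧸ H) = (g : G ⧸ H) := h4
        rw [QuotientGroup.eq] at h5
        have h6 : g⁻¹ * z * g ∈ H := by
          have e : (z * g)⁻¹ * g = (g⁻¹ * z * g)⁻¹ := by group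
          rw [e] at h5
          exact inv_mem_iff.mp h5
        have h7 := (h0 g).mp h6
        rw [QuotientGroup.eq]
        simpa using h7
      constructor
      · constructor
        rintro ⟨a, ha⟩ ⟨b, hb⟩
        exact Subtype.ext ((hfix a ha).trans (hfix b hb).symm)
      · refine ⟨⟨((1 : G) : G ⧸ H), ?_⟩⟩
        intro k
        show ((k.1 * 1 : G) : G ⧸ H) = ((1 : G) : G ⧸ H)
        rw [QuotientGroup.eq]
        rcases mem_zpowers_of_sq hzz k.2 with h | h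
        · rw [h]; simp
        · rw [h]; simpa using hzH
    rw [h3] at h2
    intro hdvd
    have h4 : Nat.card (G ⧸ H) % 2 = 1 % 2 := h2
    omega
  obtain ⟨Q, hzQ, hQH, hQ2, hQidx⟩ :=
    exists_sylow_relIndex (Subgroup.zpowers_le.mpr hzH) (isPGroup_zpowers_of_sq hzz)
  have hQindex : ¬ 2 ∣ Q.index := by
    rw [← Subgroup.relIndex_mul_index hQH]
    exact Nat.Prime.not_dvd_mul Nat.prime_two hQidx hidx
  obtain ⟨z₁, hz₁Δ, hz₁fix⟩ := exists_fixed_of_not_dvd Q hQ2 Δ (by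
      intro k hk y hy
      rw [hΔ] at hy ⊢
      exact ⟨hy.1.trans (isConj_iff.mpr ⟨k, rfl⟩),
        mul_mem (mul_mem (hQH hk) hy.2) (inv_mem (hQH hk))⟩) hΔodd
  obtain ⟨c, hcH, rfl⟩ := hΔc z₁ hz₁Δ
  have hcomm : ∀ k ∈ Q, k * (c * z * c⁻¹) = (c * z * c⁻¹) * k := by
    intro k hk
    have h2 := hz₁fix k hk
    calc k * (c * z * c⁻¹) = k * (c * z * c⁻¹) * k⁻¹ * k := by group
      _ = (c * z * c⁻¹) * k := by rw [h2]
  have hz₁Q : c * z * c⁻¹ ∈ Q := by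
    have hnorm : Subgroup.zpowers (c * z * c⁻¹) ≤ Subgroup.normalizer (Q : Set G) := by
      rw [Subgroup.zpowers_le]
      apply Subgroup.centralizer_le_normalizer
      rw [Subgroup.mem_centralizer_iff]
      exact hcomm
    have h2 : IsPGroup 2 (Q ⊔ Subgroup.zpowers (c * z * c⁻¹) : Subgroup G) :=
      IsPGroup.to_sup_of_normal_left' hQ2
        (isPGroup_zpowers_of_sq (hsq _ (isConj_iff.mpr ⟨c, rfl⟩))) hnorm
    have h3 := (hQ2.toSylow hQindex).is_maximal' h2 le_sup_left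
    have h4 : Subgroup.zpowers (c * z * c⁻¹) ≤ Q := by
      have h5 : Subgroup.zpowers (c * z * c⁻¹) ≤ Q ⊔ Subgroup.zpowers (c * z * c⁻¹) :=
        le_sup_right
      rw [h3] at h5
      exact h5
    exact h4 (Subgroup.mem_zpowers _)
  refine ⟨c⁻¹ • hQ2.toSylow hQindex, ?_, ?_⟩
  · rw [mem_smul_sylow_iff, inv_inv]
    exact hz₁Q
  · intro y hy
    rw [mem_smul_sylow_iff, inv_inv] at hy
    have hy' : c * y * c⁻¹ ∈ Q := hy
    have h2 := hcomm _ hy'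
    calc y * z = c⁻¹ * ((c * y * c⁻¹) * (c * z * c⁻¹)) * c := by group
      _ = c⁻¹ * ((c * z * c⁻¹) * (c * y * c⁻¹)) * c := by rw [h2]
      _ = z * y := by group

end iso

/-- Let z be an involution of a finite group G and H a proper subgroup such that z lies in gHg⁻¹ exactly when g ∈ H. Then the following are equivalent: (1) for every conjugate t ≠ z of z commuting with z, the product zt lies in gHg⁻¹ exactly when g ∈ H; (2) z lies in the centre of some Sylow 2-subgroup of G, and for every conjugate t ≠ z of z commuting with z, the centralizer of zt is contained in H. -/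
theorem result {G : Type*} [Group G] [Finite G] (z : G) (hz : orderOf z = 2) (H : Subgroup G) (hH : H ≠ ⊤)
    (h0 : ∀ g : G, z ∈ H.map (MulAut.conj g).toMonoidHom ↔ g ∈ H) :
    (∀ t : G, IsConj z t → t ≠ z → t * z = z * t → ∀ g : G, z * t ∈ H.map (MulAut.conj g).toMonoidHom ↔ g ∈ H) ↔
      ((∃ P : Sylow 2 G, z ∈ (Subgroup.center ↥(P : Subgroup G)).map (P : Subgroup G).subtype) ∧
        ∀ t : G, IsConj z t → t ≠ z → t * z = z * t → Subgroup.centralizer ({z * t} : Set G) ≤ H) := by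
  classical
  open Cfsg.Agent.Lib.helper10 in
  have hconv0 : ∀ g : G, g⁻¹ * z * g ∈ H ↔ g ∈ H := fun g => by
    rw [← mem_map_conj]; exact h0 g
  have hzz : z * z = 1 := by rw [← pow_two, ← hz, pow_orderOf_eq_one]
  have hzH : z ∈ H := by
    have := (hconv0 1).mpr (one_mem H)
    simpa using this
  constructor
  · intro h1
    have h1' : ∀ t : G, IsConj z t → t ≠ z → t * z = z * t →
        ∀ g : G, g⁻¹ * (z * t) * g ∈ H ↔ g ∈ H := by
      intro t ht hne hc g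
      rw [← mem_map_conj]; exact h1 t ht hne hc g
    refine ⟨?_, ?_⟩
    · obtain ⟨P, hzP, hPc⟩ := two_central H hH z hz hconv0 h1'
      refine ⟨P, ⟨⟨z, hzP⟩, ?_, rfl⟩⟩
      exact Subgroup.mem_center_iff.mpr (fun y => Subtype.ext (hPc y.1 y.2))
    · intro t ht hne hcomm y hy
      have hy' : z * t * y = y * (z * t) := hy (z * t) rfl
      have hztH : z * t ∈ H := by
        have := (h1' t ht hne hcomm 1).mpr (one_mem H)
        simpa using this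
      apply (h1' t ht hne hcomm y).mp
      have e : y⁻¹ * (z * t) * y = z * t := by rw [mul_assoc, hy', inv_mul_cancel_left]
      rw [e]; exact hztH
  · rintro ⟨⟨P, hzP⟩, hcent⟩ t ht hne hcomm g
    have : Fact (Nat.Prime 2) := ⟨Nat.prime_two⟩
    rw [mem_map_conj]
    obtain ⟨⟨z', hz'P⟩, hz'c, hz'eq⟩ := hzP
    have hz'eq' : z' = z := hz'eq
    have hPcomm : ∀ y ∈ (P : Subgroup G), y * z = z * y := by
      intro y hy
      have h2 := Subgroup.mem_center_iff.mp hz'c ⟨y, hy⟩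
      have h3 : y * z' = z' * y := congrArg Subtype.val h2
      rw [hz'eq'] at h3
      exact h3
    have hPH : (P : Subgroup G) ≤ H := fun y hy => cent_le H z hconv0 y (hPcomm y hy)
    have htt : t * t = 1 := conj_sq z hzz t ht
    have htH : t ∈ H := cent_le H z hconv0 t hcomm
    constructor
    · intro ha
      have hzt2 : (z * t) * (z * t) = 1 := by
        calc (z * t) * (z * t) = z * (t * z) * t := by group
          _ = z * (z * t) * t := by rw [hcomm]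
          _ = (z * z) * (t * t) := by group
          _ = 1 := by rw [hzz, htt, one_mul]
      have ha2 : (g⁻¹ * (z * t) * g) * (g⁻¹ * (z * t) * g) = 1 := by
        calc (g⁻¹ * (z * t) * g) * (g⁻¹ * (z * t) * g)
            = g⁻¹ * ((z * t) * (z * t)) * g := by group
          _ = 1 := by rw [hzt2]; group
      obtain ⟨y, hyH, hy⟩ := exists_conj_le_of_relIndex (H := H) (Q := (P : Subgroup G)) P.2
        (sylow_relIndex P H hPH) (Subgroup.zpowers_le.mpr ha) (isPGroup_zpowers_of_sq ha2)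
      have hyP := hy _ (Subgroup.mem_zpowers _)
      have hc1 := hPcomm _ hyP
      have hu : g * y⁻¹ * z * y * g⁻¹ ∈ Subgroup.centralizer ({z * t} : Set G) := by
        rw [Subgroup.mem_centralizer_iff]
        intro h hh
        rw [Set.mem_singleton_iff] at hh
        rw [hh]
        calc z * t * (g * y⁻¹ * z * y * g⁻¹)
            = g * y⁻¹ * ((y * (g⁻¹ * (z * t) * g) * y⁻¹) * z) * y * g⁻¹ := by group
          _ = g * y⁻¹ * (z * (y * (g⁻¹ * (z * t) * g) * y⁻¹)) * y * g⁻¹ := by rw [hc1]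
          _ = g * y⁻¹ * z * y * g⁻¹ * (z * t) := by group
      have hu2 := hcent t ht hne hcomm hu
      have hu3 : (y * g⁻¹)⁻¹ * z * (y * g⁻¹) ∈ H := by
        have e : (y * g⁻¹)⁻¹ * z * (y * g⁻¹) = g * y⁻¹ * z * y * g⁻¹ := by group
        rw [e]; exact hu2
      have hu4 := (hconv0 _).mp hu3
      have hu5 := mul_mem (inv_mem hyH) hu4
      have e5 : y⁻¹ * (y * g⁻¹) = g⁻¹ := by group
      rw [e5] at hu5
      exact inv_mem_iff.mp hu5
    · intro hg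
      exact mul_mem (mul_mem (inv_mem hg) (mul_mem hzH htH)) hg

end Cfsg.Agent.S1922
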