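import Cfsg.Statements.S1944
import Mathlib
import Cfsg.Agent.Lib.helper9.PPrimeCore
import Cfsg.Agent.Lib.helper1.Fitting
import Cfsg.Agent.Lib.helper10.ConjBasic
import Cfsg.Agent.Lib.helper10.Trace

set_option autoImplicit false
open Cfsg

namespace Cfsg.Agent.S1944

open Cfsg.Agent.Lib.helper10

/-- The intersection of a Sylow subgroup with a normal subgroup is (the image of) a Sylow subgroup
of the normal subgroup. -/
theorem exists_sylow_map_eq_inf {G : Type*} [Group G] [Finite G] {p : ℕ} [Fact p.Prime]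
    (S : Sylow p G) (L : Subgroup G) [hLn : L.Normal] :
    ∃ D : Sylow p L, (D : Subgroup L).map L.subtype = (S : Subgroup G) ⊓ L := by
  have h0 : IsPGroup p (((S : Subgroup G) ⊓ L).subgroupOf L) :=
    (S.2.to_le inf_le_left).comap_subtype
  obtain ⟨D, hD⟩ := h0.exists_le_sylow
  refine ⟨D, ?_⟩
  obtain ⟨D', hD'⟩ : ∃ D' : Subgroup G, D' = (D : Subgroup L).map L.subtype := ⟨_, rfl⟩
  rw [← hD']
  have hD'p : IsPGroup p D' := by rw [hD']; exact D.2.map _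
  have hD'L : D' ≤ L := by rw [hD']; rintro _ ⟨y, -, rfl⟩; exact y.2
  have hle : (S : Subgroup G) ⊓ L ≤ D' := by
    intro x hx
    rw [hD']
    exact ⟨⟨x, hx.2⟩, hD (show (⟨x, hx.2⟩ : L) ∈ ((S : Subgroup G) ⊓ L).subgroupOf L from hx), rfl⟩
  obtain ⟨g, hg⟩ := exists_conj_le_sylow S D' hD'p
  have hle2 : D'.map (MulAut.conj g).toMonoidHom ≤ (S : Subgroup G) ⊓ L := by
    rw [map_conj_le_iff]
    intro x hx
    exact ⟨hg x hx, hLn.conj_mem x (hD'L hx) g⟩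
  have hcard : Nat.card D' ≤ Nat.card ((S : Subgroup G) ⊓ L : Subgroup G) := by
    rw [← Subgroup.card_map_of_injective (K := D') (conj_injective g)]
    exact Subgroup.card_le_of_le hle2
  exact (Subgroup.eq_of_le_of_card_ge hle hcard).symm

/-- `O_{p',p}(G) = O_{p'}(G) D` for a Sylow `p`-subgroup `D` of `O_{p',p}(G)`. -/
theorem pPrimePCore_eq_mul {G : Type*} [Group G] [Finite G] {p : ℕ} [Fact p.Prime]
    (D : Sylow p ↥(pPrimePCore p G)) (l : G) (hl : l ∈ pPrimePCore p G) :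
    ∃ h ∈ pPrimeCore p G, ∃ u : ↥(pPrimePCore p G), u ∈ D ∧ l = h * (u : G) := by
  let Ō := pCore p (G ⧸ pPrimeCore p G)
  let π := QuotientGroup.mk' (pPrimeCore p G)
  let ρ : ↥(pPrimePCore p G) →* ↥Ō :=
    (π.comp (pPrimePCore p G).subtype).codRestrict Ō (fun l => l.2)
  have hρ : Function.Surjective ρ := by
    rintro ⟨y, hy⟩
    obtain ⟨g, rfl⟩ := QuotientGroup.mk'_surjective _ y
    exact ⟨⟨g, hy⟩, rfl⟩
  have hOp : IsPGroup p ↥Ō := Cfsg.Agent.Lib.helper1.pCore_isPGroup p _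
  have htop : (D.mapSurjective hρ : Subgroup Ō) = ⊤ :=
    ((D.mapSurjective hρ).is_maximal' (hOp.to_subgroup ⊤) le_top).symm
  have hmem : ρ ⟨l, hl⟩ ∈ (D.mapSurjective hρ : Subgroup Ō) := by rw [htop]; trivial
  rw [Sylow.coe_mapSurjective] at hmem
  obtain ⟨u, hu, hul⟩ := hmem
  refine ⟨l * (u : G)⁻¹, ?_, u, hu, by group⟩
  have h1 : π (u : G) = π l := congrArg Subtype.val hul
  rw [← QuotientGroup.ker_mk' (pPrimeCore p G), MonoidHom.mem_ker, map_mul, map_inv]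
  show π l * (π (u : G))⁻¹ = 1
  rw [h1, mul_inv_cancel]

/-- Let S be a Sylow p-subgroup of the finite group G and suppose that the centre Z(S) lies in O_{p',p}(G). The elements of S each of which is its only G-conjugate in S form a subgroup W of Z(S); W is then a direct factor of Z(S): there is a subgroup K of Z(S) with W ∩ K = 1 and WK = Z(S). -/
theorem result {G : Type*} [Group G] [Finite G] {p : ℕ} [Fact p.Prime] (S : Sylow p G)
    (hZ : ((S : Subgroup G) ⊓ Subgroup.centralizer ((S : Subgroup G) : Set G)) ≤ Cfsg.pPrimePCore p G) :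
    ∃ W K : Subgroup G, (∀ x : G, x ∈ W ↔ (x ∈ (S : Subgroup G) ∧ ∀ g : G, g * x * g⁻¹ ∈ (S : Subgroup G) → g * x * g⁻¹ = x)) ∧
      K ≤ ((S : Subgroup G) ⊓ Subgroup.centralizer ((S : Subgroup G) : Set G)) ∧ W ⊓ K = ⊥ ∧ W ⊔ K = ((S : Subgroup G) ⊓ Subgroup.centralizer ((S : Subgroup G) : Set G)) := by
  classical
  have hp : p.Prime := Fact.out
  obtain ⟨H, hH⟩ : ∃ H : Subgroup G, H = pPrimeCore p G := ⟨_, rfl⟩
  obtain ⟨L, hL⟩ : ∃ L : Subgroup G, L = pPrimePCore p G := ⟨_, rfl⟩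
  have hHn : H.Normal := by rw [hH]; exact (Cfsg.Agent.Lib.helper9.pPrimeCore_mem p G).1
  have hHc : (Nat.card H).Coprime p := by rw [hH]; exact (Cfsg.Agent.Lib.helper9.pPrimeCore_mem p G).2
  have hLn : L.Normal := by
    rw [hL]
    exact Subgroup.Normal.comap (Cfsg.Agent.Lib.helper1.pCore_normal p _) _
  obtain ⟨P0, hP0⟩ : ∃ P0 : Subgroup G, P0 = (S : Subgroup G) ⊓ L := ⟨_, rfl⟩
  obtain ⟨N, hN⟩ : ∃ N : Subgroup G, N = Subgroup.normalizer (P0 : Set G) := ⟨_, rfl⟩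
  obtain ⟨A, hA⟩ : ∃ A : Subgroup G, A = P0 ⊓ Subgroup.centralizer (P0 : Set G) := ⟨_, rfl⟩
  obtain ⟨Z, hZdef⟩ : ∃ Z : Subgroup G, Z = (S : Subgroup G) ⊓ Subgroup.centralizer ((S : Subgroup G) : Set G) := ⟨_, rfl⟩
  rw [← hZdef] at hZ ⊢
  have hP0S : P0 ≤ (S : Subgroup G) := by rw [hP0]; exact inf_le_left
  have hP0L : P0 ≤ L := by rw [hP0]; exact inf_le_right
  -- the Sylow subgroup of L and the Frattini argument
  obtain ⟨D, hD⟩ := exists_sylow_map_eq_inf S L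
  rw [← hP0] at hD
  have hfrat : N ⊔ L = ⊤ := by
    rw [hN, ← hD]
    exact Sylow.normalizer_sup_eq_top D
  have hdecomp : ∀ g : G, ∃ n ∈ N, ∃ h ∈ H, ∃ u ∈ P0, g = n * h * u := by
    intro g
    have hg : g ∈ ((N ⊔ L : Subgroup G) : Set G) := by rw [hfrat]; trivial
    rw [Subgroup.mul_normal N L] at hg
    obtain ⟨n, hn, l, hl, rfl⟩ := Set.mem_mul.1 hg
    have hl' : l ∈ L := hl
    subst hL
    obtain ⟨h, hh, u, hu, hlu⟩ := pPrimePCore_eq_mul D l hl'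
    refine ⟨n, hn, h, by rw [hH]; exact hh, (u : G), ?_, ?_⟩
    · rw [← hD]; exact ⟨u, hu, rfl⟩
    · rw [hlu, mul_assoc]
  have hSN : (S : Subgroup G) ≤ N := by
    intro s hs
    rw [hN, Subgroup.mem_normalizer_iff]
    intro x
    rw [hP0]
    constructor
    · rintro ⟨h1, h2⟩
      exact ⟨Subgroup.mul_mem _ (Subgroup.mul_mem _ hs h1) (Subgroup.inv_mem _ hs), hLn.conj_mem x h2 s⟩
    · rintro ⟨h1, h2⟩
      have h3 : x = s⁻¹ * (s * x * s⁻¹) * s := by group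
      have h4 : x = s⁻¹ * (s * x * s⁻¹) * s⁻¹⁻¹ := by group
      refine ⟨?_, ?_⟩
      · rw [h3]
        exact Subgroup.mul_mem _ (Subgroup.mul_mem _ (Subgroup.inv_mem _ hs) h1) hs
      · rw [h4]
        exact hLn.conj_mem _ h2 s⁻¹
  have hNP0 : ∀ n ∈ N, ∀ x, x ∈ P0 ↔ n * x * n⁻¹ ∈ P0 := by
    intro n hn
    rw [hN] at hn
    exact Subgroup.mem_normalizer_iff.1 hn
  have hAmem : ∀ x, x ∈ A ↔ x ∈ P0 ∧ ∀ y ∈ P0, y * x = x * y := by
    intro x; rw [hA, Subgroup.mem_inf, Subgroup.mem_centralizer_iff]; rfl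
  have hNA : ∀ n ∈ N, ∀ a ∈ A, n * a * n⁻¹ ∈ A := by
    intro n hn a ha
    rw [hAmem] at ha ⊢
    refine ⟨(hNP0 n hn a).1 ha.1, fun y hy => ?_⟩
    have h1 : n⁻¹ * y * n⁻¹⁻¹ ∈ P0 := (hNP0 n⁻¹ (N.inv_mem hn) y).1 hy
    have h2 := ha.2 _ h1
    calc y * (n * a * n⁻¹) = n * ((n⁻¹ * y * n⁻¹⁻¹) * a) * n⁻¹ := by group
      _ = n * (a * (n⁻¹ * y * n⁻¹⁻¹)) * n⁻¹ := by rw [h2]
      _ = n * a * n⁻¹ * y := by group
  have hAcomm : IsMulCommutative ↥A := by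
    refine ⟨⟨fun a b => Subtype.ext ?_⟩⟩
    exact (((hAmem b).1 b.2).2 a ((hAmem a).1 a.2).1)
  have hAS : A ≤ (S : Subgroup G) := by rw [hA]; exact inf_le_left.trans hP0S
  have hAp : IsPGroup p A := S.2.to_le hAS
  have hidx : ¬ p ∣ (S : Subgroup G).relIndex N := sylow_relIndex S N hSN
  have hZmem : ∀ x, x ∈ Z ↔ x ∈ (S : Subgroup G) ∧ ∀ s ∈ (S : Subgroup G), s * x = x * s := by
    intro x; rw [hZdef, Subgroup.mem_inf, Subgroup.mem_centralizer_iff]; rfl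
  have hfix_iff : ∀ (n x : G), n * x * n⁻¹ = x ↔ n * x = x * n := by
    intro n x
    constructor
    · intro h
      calc n * x = n * x * n⁻¹ * n := by group
        _ = x * n := by rw [h]
    · intro h
      rw [h]; group
  have hZ' : ∀ x, x ∈ Z ↔ x ∈ A ∧ ∀ s ∈ (S : Subgroup G), s * x * s⁻¹ = x := by
    intro x
    constructor
    · intro hx
      have hx' := (hZmem x).1 hx
      refine ⟨?_, fun s hs => (hfix_iff s x).2 (hx'.2 s hs)⟩
      rw [hAmem]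
      have hxP0 : x ∈ P0 := by rw [hP0]; exact ⟨hx'.1, by rw [hL]; exact hZ hx⟩
      exact ⟨hxP0, fun y hy => hx'.2 y (hP0S hy)⟩
    · rintro ⟨hxA, hx⟩
      rw [hZmem]
      exact ⟨hAS hxA, fun s hs => (hfix_iff s x).1 (hx s hs)⟩
  obtain ⟨W, hWdef⟩ : ∃ W : Subgroup G, W = A ⊓ Subgroup.centralizer (N : Set G) := ⟨_, rfl⟩
  have hW' : ∀ x, x ∈ W ↔ x ∈ A ∧ ∀ n ∈ N, n * x * n⁻¹ = x := by
    intro x
    rw [hWdef, Subgroup.mem_inf, Subgroup.mem_centralizer_iff]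
    constructor
    · rintro ⟨h1, h2⟩
      exact ⟨h1, fun n hn => (hfix_iff n x).2 (h2 n hn)⟩
    · rintro ⟨h1, h2⟩
      exact ⟨h1, fun n hn => (hfix_iff n x).1 (h2 n hn)⟩
  obtain ⟨K, hKZ, hWK, hWKZ⟩ := trace_split A N (S : Subgroup G) Z W hSN hNA hAp hidx hZ' hW'
  refine ⟨W, K, ?_, hKZ, hWK, hWKZ⟩
  intro x
  constructor
  · intro hx
    have hx' := (hW' x).1 hx
    have hxA := (hAmem x).1 hx'.1
    refine ⟨hAS hx'.1, ?_⟩
    intro g hg
    obtain ⟨n, hn, h, hh, u, hu, rfl⟩ := hdecomp g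
    -- u centralizes x
    have h1 : u * x * u⁻¹ = x := (hfix_iff u x).2 (hxA.2 u hu)
    obtain ⟨x', hx'def⟩ : ∃ x' : G, x' = h * x * h⁻¹ := ⟨_, rfl⟩
    have h2 : n * h * u * x * (n * h * u)⁻¹ = n * x' * n⁻¹ := by
      rw [hx'def]
      calc n * h * u * x * (n * h * u)⁻¹ = n * (h * (u * x * u⁻¹) * h⁻¹) * n⁻¹ := by group
        _ = n * (h * x * h⁻¹) * n⁻¹ := by rw [h1]
    rw [h2] at hg ⊢
    -- x' ∈ P0
    have hxL : x ∈ L := hP0L hxA.1
    have hx'L : x' ∈ L := by rw [hx'def]; exact hLn.conj_mem x hxL h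
    have h3 : n * x' * n⁻¹ ∈ P0 := by
      rw [hP0]; exact ⟨hg, hLn.conj_mem x' hx'L n⟩
    have hx'P0 : x' ∈ P0 := (hNP0 n hn x').2 h3
    -- x' x⁻¹ ∈ H ∩ S
    have h4 : x' * x⁻¹ ∈ H := by
      have : x' * x⁻¹ = h * (x * h⁻¹ * x⁻¹) := by rw [hx'def]; group
      rw [this]
      exact H.mul_mem hh (hHn.conj_mem _ (H.inv_mem hh) x)
    have h5 : x' * x⁻¹ ∈ (S : Subgroup G) :=
      Subgroup.mul_mem _ (hP0S hx'P0) (Subgroup.inv_mem _ (hP0S hxA.1))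
    have h6 : x' * x⁻¹ = 1 := by
      obtain ⟨k, hk⟩ := S.2 ⟨_, h5⟩
      have hk' : (x' * x⁻¹) ^ p ^ k = 1 := by
        have := congrArg Subtype.val hk
        simpa using this
      have h7 : orderOf (x' * x⁻¹) ∣ p ^ k := orderOf_dvd_of_pow_eq_one hk'
      have h8 : orderOf (x' * x⁻¹) ∣ Nat.card H := Subgroup.orderOf_dvd_natCard H h4
      have h9 : orderOf (x' * x⁻¹) ∣ Nat.gcd (Nat.card H) (p ^ k) := Nat.dvd_gcd h8 h7
      have h10 : Nat.gcd (Nat.card H) (p ^ k) = 1 := Nat.Coprime.pow_right k hHc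
      rw [h10, Nat.dvd_one, orderOf_eq_one_iff] at h9
      exact h9
    have h7 : x' = x := by
      calc x' = x' * x⁻¹ * x := by group
        _ = x := by rw [h6, one_mul]
    rw [h7]
    exact hx'.2 n hn
  · rintro ⟨hxS, hx⟩
    have hxZ : x ∈ Z := by
      rw [hZmem]
      refine ⟨hxS, fun s hs => (hfix_iff s x).1 (hx s ?_)⟩
      exact Subgroup.mul_mem _ (Subgroup.mul_mem _ hs hxS) (Subgroup.inv_mem _ hs)
    have hxA : x ∈ A := ((hZ' x).1 hxZ).1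
    rw [hW']
    refine ⟨hxA, fun n hn => hx n ?_⟩
    exact hP0S ((hNP0 n hn x).1 ((hAmem x).1 hxA).1)

end Cfsg.Agent.S1944
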