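import Cfsg.Statements.S2065
import Cfsg.Agent.Lib.helper27.J1Out

set_option autoImplicit false
open Cfsg

namespace Cfsg.Agent.S2065

/-- The outer automorphism group of the Janko group J₁ (the group generated by two explicit 7 × 7 matrices over the integers modulo 11) is trivial: every automorphism is inner. -/
theorem result : Nat.card (Cfsg.Out ↥Cfsg.Spor.J1) = 1 := by
  rw [Nat.card_eq_one_iff_unique]
  refine ⟨⟨fun a b => ?_⟩, ⟨1⟩⟩
  induction a using QuotientGroup.induction_on with
  | H a =>
    induction b using QuotientGroup.induction_on with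
    | H b =>
      apply QuotientGroup.eq.mpr
      obtain ⟨g, hg⟩ := Cfsg.Agent.Lib.helper27.J1B.all_inner_J1 (a⁻¹ * b)
      exact ⟨g, hg.symm⟩

end Cfsg.Agent.S2065
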