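import Cfsg.Statements.S2271

import Cfsg.Agent.Lib.helper8.ClassProd3
set_option autoImplicit false
open Cfsg

namespace Cfsg.Agent.S2271

/-- Let n ≥ 5 and let a, b be non-identity permutations in the symmetric group S_n. Then the number of fixed points is not constant on the set of products a′b′ with a′ conjugate to a and b′ conjugate to b under the alternating group: there are even permutations g₁, h₁, g₂, h₂ such that (g₁ a g₁⁻¹)(h₁ b h₁⁻¹) and (g₂ a g₂⁻¹)(h₂ b h₂⁻¹) have different numbers of fixed points. -/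
theorem result (n : ℕ) (hn : 5 ≤ n) (a b : Equiv.Perm (Fin n)) (ha : a ≠ 1) (hb : b ≠ 1) :
    ∃ g₁ h₁ g₂ h₂ : Equiv.Perm (Fin n), g₁ ∈ alternatingGroup (Fin n) ∧ h₁ ∈ alternatingGroup (Fin n) ∧ g₂ ∈ alternatingGroup (Fin n) ∧ h₂ ∈ alternatingGroup (Fin n) ∧
      Nat.card (Function.fixedPoints ⇑(g₁ * a * g₁⁻¹ * (h₁ * b * h₁⁻¹))) ≠
        Nat.card (Function.fixedPoints ⇑(g₂ * a * g₂⁻¹ * (h₂ * b * h₂⁻¹))) := by

  have hc : a⁻¹ ≠ 1 := by simpa using ha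
  have fin : ∀ σ τ : Equiv.Perm (Fin n), (∀ x, σ x = x → τ x = x) → (∃ x, τ x = x ∧ σ x ≠ x) →
      Nat.card (Function.fixedPoints ⇑σ) ≠ Nat.card (Function.fixedPoints ⇑τ) := by
    intro σ τ h1 ⟨x, hx1, hx2⟩
    apply ne_of_lt
    rw [Nat.card_coe_set_eq, Nat.card_coe_set_eq]
    apply Set.ncard_lt_ncard _ (Set.toFinite _)
    refine ⟨fun y hy => ?_, fun hsup => ?_⟩
    · exact Function.mem_fixedPoints_iff.mpr (h1 y (Function.mem_fixedPoints_iff.mp hy))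
    · exact hx2 (Function.mem_fixedPoints_iff.mp (hsup (Function.mem_fixedPoints_iff.mpr hx1)))
  rcases Cfsg.Agent.Lib.helper8.h8cp_main' hn a⁻¹ b hc hb with
    ⟨k, hk, t, ht, h1, v, h2, h3⟩ | ⟨k, hk, t, ht, h1, v, h2, h3⟩
  · refine ⟨1, k, t, k, Subgroup.one_mem _, hk, ht, hk, ?_⟩
    have e0 : (1 : Equiv.Perm (Fin n)) * a * 1⁻¹ = a := by simp
    rw [e0]
    have key1 : ∀ x, (a * (k * b * k⁻¹)) x = x ↔ (k * b * k⁻¹) x = a⁻¹ x := by
      intro x; rw [Equiv.Perm.mul_apply]; exact Equiv.Perm.eq_inv_iff_eq.symm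
    have key2 : ∀ x, (t * a * t⁻¹ * (k * b * k⁻¹)) x = x ↔
        (k * b * k⁻¹) x = (t * a⁻¹ * t⁻¹) x := by
      intro x
      have e : (t * a⁻¹ * t⁻¹) = (t * a * t⁻¹)⁻¹ := by group
      rw [e, Equiv.Perm.mul_apply]; exact Equiv.Perm.eq_inv_iff_eq.symm
    apply fin
    · intro x hx; exact (key2 x).mpr (h1 x ((key1 x).mp hx))
    · exact ⟨v, (key2 v).mpr h2, fun h => h3 ((key1 v).mp h)⟩
  · refine ⟨k, 1, k, t, hk, Subgroup.one_mem _, hk, ht, ?_⟩
    have e0 : (1 : Equiv.Perm (Fin n)) * b * 1⁻¹ = b := by simp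
    rw [e0]
    have e : (k * a⁻¹ * k⁻¹) = (k * a * k⁻¹)⁻¹ := by group
    rw [e] at h1 h2 h3
    have key1 : ∀ x, (k * a * k⁻¹ * b) x = x ↔ (k * a * k⁻¹)⁻¹ x = b x := by
      intro x; rw [Equiv.Perm.mul_apply]; constructor
      · intro h; rw [Equiv.Perm.inv_eq_iff_eq]; exact h.symm
      · intro h; rw [Equiv.Perm.inv_eq_iff_eq] at h; exact h.symm
    have key2 : ∀ x, (k * a * k⁻¹ * (t * b * t⁻¹)) x = x ↔
        (k * a * k⁻¹)⁻¹ x = (t * b * t⁻¹) x := by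
      intro x; rw [Equiv.Perm.mul_apply]; constructor
      · intro h; rw [Equiv.Perm.inv_eq_iff_eq]; exact h.symm
      · intro h; rw [Equiv.Perm.inv_eq_iff_eq] at h; exact h.symm
    apply fin
    · intro x hx; exact (key2 x).mpr (h1 x ((key1 x).mp hx))
    · exact ⟨v, (key2 v).mpr h2, fun h => h3 ((key1 v).mp h)⟩

end Cfsg.Agent.S2271
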