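import Cfsg.Statements.S2277


set_option autoImplicit false
open Cfsg

namespace Cfsg.Agent.S2277

/-- three independent twisted copies of the fixed points -/
theorem core3 {V : Type*} [AddCommGroup V] [Finite V] (a y z : V →+ V)
    (hza : ∀ v, a (z v) = z (a v)) (hzy : ∀ v, y (z v) = z (y v))
    (hay : ∀ v, a (y v) = z (y (a v)))
    (hz1 : ∀ v, z v = v → v = 0) (hz2 : ∀ v, z (z v) = v → v = 0)
    (hy : Function.Injective y) (hzinj : Function.Injective z) :
    Nat.card {v : V // a v = v} ^ 3 ≤ Nat.card V := by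
  -- independence
  have key : ∀ u₀ u₁ u₂ : V, a u₀ = u₀ → a u₁ = z u₁ → a u₂ = z (z u₂) → u₀ + u₁ + u₂ = 0 →
      u₀ = 0 ∧ u₁ = 0 ∧ u₂ = 0 := by
    intro u₀ u₁ u₂ h0 h1 h2 hsum
    have e1 : u₀ + z u₁ + z (z u₂) = 0 := by
      have := congrArg a hsum
      rw [map_add, map_add, h0, h1, h2, map_zero] at this
      exact this
    have h1' : a (z u₁) = z (z u₁) := by rw [hza, h1]
    have h2' : a (z (z u₂)) = z (z (z (z u₂))) := by rw [hza, hza, h2]
    have e2 : u₀ + z (z u₁) + z (z (z (z u₂))) = 0 := by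
      have := congrArg a e1
      rw [map_add, map_add, h0, h1', h2', map_zero] at this
      exact this
    have f1 : u₁ + u₂ + z u₂ = 0 := by
      apply hz1
      rw [map_add, map_add]
      have : z u₁ + z u₂ + z (z u₂) - (u₁ + u₂ + z u₂) = 0 := by
        have : z u₁ + z u₂ + z (z u₂) - (u₁ + u₂ + z u₂) =
            (u₀ + z u₁ + z (z u₂)) - (u₀ + u₁ + u₂) := by abel
        rw [this, e1, hsum, sub_zero]
      exact sub_eq_zero.mp this
    have f2 : u₁ + u₂ + z (z u₂) = 0 := by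
      apply hz2
      rw [map_add, map_add, map_add, map_add]
      have : z (z u₁) + z (z u₂) + z (z (z (z u₂))) - (u₁ + u₂ + z (z u₂)) = 0 := by
        have : z (z u₁) + z (z u₂) + z (z (z (z u₂))) - (u₁ + u₂ + z (z u₂)) =
            (u₀ + z (z u₁) + z (z (z (z u₂)))) - (u₀ + u₁ + u₂) := by abel
        rw [this, e2, hsum, sub_zero]
      exact sub_eq_zero.mp this
    have f3 : z (z u₂) = z u₂ := by
      have : z (z u₂) - z u₂ = 0 := by
        have : z (z u₂) - z u₂ = (u₁ + u₂ + z (z u₂)) - (u₁ + u₂ + z u₂) := by abel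
        rw [this, f1, f2, sub_zero]
      exact sub_eq_zero.mp this
    have g2 : u₂ = 0 := hz1 _ (hzinj f3)
    have g1 : u₁ = 0 := by
      rw [g2, map_zero, add_zero, add_zero] at f1; exact f1
    have g0 : u₀ = 0 := by
      rw [g1, g2, add_zero, add_zero] at hsum; exact hsum
    exact ⟨g0, g1, g2⟩
  let S := {v : V // a v = v}
  let f : S × S × S → V := fun t => t.1.1 + y t.2.1.1 + y (y t.2.2.1)
  have hf : Function.Injective f := by
    rintro ⟨⟨v₀, h₀⟩, ⟨v₁, h₁⟩, ⟨v₂, h₂⟩⟩ ⟨⟨w₀, k₀⟩, ⟨w₁, k₁⟩, ⟨w₂, k₂⟩⟩ h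
    simp only [f] at h
    have hsum : (v₀ - w₀) + (y v₁ - y w₁) + (y (y v₂) - y (y w₂)) = 0 := by
      have : (v₀ - w₀) + (y v₁ - y w₁) + (y (y v₂) - y (y w₂)) =
          (v₀ + y v₁ + y (y v₂)) - (w₀ + y w₁ + y (y w₂)) := by abel
      rw [this, h, sub_self]
    have c0 : a (v₀ - w₀) = v₀ - w₀ := by rw [map_sub, h₀, k₀]
    have c1 : a (y v₁ - y w₁) = z (y v₁ - y w₁) := by
      rw [map_sub, map_sub, hay, hay, h₁, k₁]
    have c2 : a (y (y v₂) - y (y w₂)) = z (z (y (y v₂) - y (y w₂))) := by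
      rw [map_sub, map_sub, map_sub, hay, hay, hay, hay, h₂, k₂, hzy, hzy]
    obtain ⟨g0, g1, g2⟩ := key _ _ _ c0 c1 c2 hsum
    have e0 : v₀ = w₀ := sub_eq_zero.mp g0
    have e1 : v₁ = w₁ := hy (sub_eq_zero.mp g1)
    have e2 : v₂ = w₂ := hy (hy (sub_eq_zero.mp g2))
    subst e0 e1 e2
    rfl
  have := Nat.card_le_card_of_injective f hf
  rw [Nat.card_prod, Nat.card_prod] at this
  calc Nat.card S ^ 3 = Nat.card S * (Nat.card S * Nat.card S) := by ring
    _ ≤ Nat.card V := this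


universe u

section basics
variable {G : Type u} [Group G]

/-- the hypotheses -/
def Hyp (p : ℕ) (N P : Subgroup G) (C D : Set G) : Prop :=
  N.Normal ∧ IsPGroup p P ∧ (Nat.card N).Coprime p ∧ N ⊔ P = ⊤ ∧ Subgroup.closure C = P ∧
  Subgroup.closure D = P ∧
  ∀ x ∈ N, ∀ c ∈ C, ∀ d ∈ D, IsPGroup p (Subgroup.closure ({x * c * x⁻¹, d} : Set G))

theorem pow_one_of_mem [Finite G] {p : ℕ} {N : Subgroup G}
    (hN : (Nat.card N).Coprime p) (x : G) (hxN : x ∈ N) (k : ℕ) (hx : x ^ (p ^ k) = 1) : x = 1 := by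
  have h1 : orderOf x ∣ p ^ k := orderOf_dvd_of_pow_eq_one hx
  have h2 : orderOf x ∣ Nat.card N := Subgroup.orderOf_dvd_natCard N hxN
  have h3 : orderOf x = 1 := Nat.eq_one_of_dvd_coprimes (hN.pow_right k) h2 h1
  exact orderOf_eq_one_iff.mp h3

theorem elt_one [Finite G] {p : ℕ} {N P : Subgroup G} (hP : IsPGroup p P)
    (hN : (Nat.card N).Coprime p) (x : G) (hxN : x ∈ N) (hxP : x ∈ P) : x = 1 := by
  obtain ⟨k, hk⟩ := hP ⟨x, hxP⟩
  have hk' : x ^ (p ^ k) = 1 := by
    have := congrArg Subtype.val hk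
    simpa using this
  exact pow_one_of_mem hN x hxN k hk'

theorem card_eq [Finite G] {p : ℕ} {N P : Subgroup G} {C D : Set G}
    (h : Hyp p N P C D) : Nat.card N * Nat.card P = Nat.card G ∧ P.index = Nat.card N := by
  obtain ⟨hNn, hP, hcop, hsup, -, -, -⟩ := h
  have := hNn
  have hdisj : Disjoint N P := by
    rw [Subgroup.disjoint_def]
    intro x hxN hxP
    exact elt_one hP hcop x hxN hxP
  have hc : Subgroup.IsComplement' N P := by
    apply Subgroup.isComplement'_of_disjoint_and_mul_eq_univ hdisj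
    rw [← Subgroup.normal_mul, hsup, Subgroup.coe_top]
  exact ⟨hc.card_mul_card, hc.index_eq_card⟩

theorem hyp_quot [Finite G] {p : ℕ} {N P : Subgroup G} {C D : Set G}
    (h : Hyp p N P C D) (K : Subgroup G) [K.Normal] :
    Hyp p (N.map (QuotientGroup.mk' K)) (P.map (QuotientGroup.mk' K))
      ((QuotientGroup.mk' K) '' C) ((QuotientGroup.mk' K) '' D) := by
  obtain ⟨hNn, hP, hcop, hsup, hC, hD, hH⟩ := h
  refine ⟨hNn.map _ (QuotientGroup.mk'_surjective K), hP.map _,
    Nat.Coprime.coprime_dvd_left (Subgroup.card_map_dvd _ _) hcop, ?_, ?_, ?_, ?_⟩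
  · rw [← Subgroup.map_sup, hsup, Subgroup.map_top_of_surjective _ (QuotientGroup.mk'_surjective K)]
  · rw [← MonoidHom.map_closure, hC]
  · rw [← MonoidHom.map_closure, hD]
  · rintro _ ⟨x, hx, rfl⟩ _ ⟨c, hc, rfl⟩ _ ⟨d, hd, rfl⟩
    have e : ({(QuotientGroup.mk' K) x * (QuotientGroup.mk' K) c * ((QuotientGroup.mk' K) x)⁻¹,
        (QuotientGroup.mk' K) d} : Set (G ⧸ K)) = (QuotientGroup.mk' K) '' {x * c * x⁻¹, d} := by
      rw [Set.image_pair, map_mul, map_mul, map_inv]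
    rw [e, ← MonoidHom.map_closure]
    exact (hH x hx c hc d hd).map _

theorem concl_quot {N P : Subgroup G} (K : Subgroup G) [K.Normal]
    (h : ∀ g ∈ P.map (QuotientGroup.mk' K), ∀ x ∈ N.map (QuotientGroup.mk' K), g * x = x * g) :
    ∀ g ∈ P, ∀ x ∈ N, g * x * g⁻¹ * x⁻¹ ∈ K := by
  intro g hg x hx
  have h1 := h _ (Subgroup.mem_map_of_mem _ hg) _ (Subgroup.mem_map_of_mem _ hx)
  rw [← QuotientGroup.eq_one_iff]
  have h2 : ((g * x * g⁻¹ * x⁻¹ : G) : G ⧸ K) =
      (QuotientGroup.mk' K) g * (QuotientGroup.mk' K) x * ((QuotientGroup.mk' K) g)⁻¹ *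
        ((QuotientGroup.mk' K) x)⁻¹ := by
    simp
  rw [h2, h1]
  group

theorem hyp_sub [Finite G] {p : ℕ} {N P : Subgroup G} {C D : Set G}
    (h : Hyp p N P C D) (K : Subgroup G) (hKN : K ≤ N)
    (hinv : ∀ g ∈ P, ∀ k ∈ K, g * k * g⁻¹ ∈ K) :
    Hyp p (K.subgroupOf (K ⊔ P)) (P.subgroupOf (K ⊔ P))
      ((K ⊔ P).subtype ⁻¹' C) ((K ⊔ P).subtype ⁻¹' D) := by
  obtain ⟨hNn, hP, hcop, hsup, hC, hD, hH⟩ := h
  have hKle : K ≤ K ⊔ P := le_sup_left
  have hPle : P ≤ K ⊔ P := le_sup_right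
  have hCP : C ⊆ P := by rw [← hC]; exact Subgroup.subset_closure
  have hDP : D ⊆ P := by rw [← hD]; exact Subgroup.subset_closure
  have hnorm : K ⊔ P ≤ Subgroup.normalizer (K : Set G) := by
    apply sup_le Subgroup.le_normalizer
    intro g hg
    rw [Subgroup.mem_normalizer_iff]
    intro k
    constructor
    · intro hk; exact hinv g hg k hk
    · intro hk
      have := hinv g⁻¹ (P.inv_mem hg) _ hk
      have e : g⁻¹ * (g * k * g⁻¹) * g⁻¹⁻¹ = k := by group
      rwa [e] at this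
  have himg : ∀ S : Set G, S ⊆ P → (K ⊔ P).subtype '' ((K ⊔ P).subtype ⁻¹' S) = S := by
    intro S hS
    rw [Set.image_preimage_eq_inter_range]
    apply Set.inter_eq_left.mpr
    intro s hs
    exact ⟨⟨s, hPle (hS hs)⟩, rfl⟩
  have hcl : ∀ S : Set G, S ⊆ P → Subgroup.closure S = P →
      Subgroup.closure ((K ⊔ P).subtype ⁻¹' S) = P.subgroupOf (K ⊔ P) := by
    intro S hS hSP
    apply Subgroup.map_injective (K ⊔ P).subtype_injective
    rw [MonoidHom.map_closure, himg S hS, hSP, Subgroup.subgroupOf_map_subtype,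
      inf_eq_left.mpr hPle]
  refine ⟨(Subgroup.normal_subgroupOf_iff_le_normalizer hKle).mpr hnorm, hP.comap_subtype, ?_, ?_,
    hcl C hCP hC, hcl D hDP hD, ?_⟩
  · have e : Nat.card (K.subgroupOf (K ⊔ P)) = Nat.card K :=
      Nat.card_congr (Subgroup.subgroupOfEquivOfLe hKle).toEquiv
    rw [e]
    exact Nat.Coprime.coprime_dvd_left (Subgroup.card_dvd_of_le hKN) hcop
  · rw [← Subgroup.subgroupOf_sup hKle hPle, Subgroup.subgroupOf_self]
  · intro x hx c hc d hd
    have hxK : (x : G) ∈ K := Subgroup.mem_subgroupOf.mp hx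
    have hQ := hH x (hKN hxK) c hc d hd
    have e : (K ⊔ P).subtype '' ({x * c * x⁻¹, d} : Set ↥(K ⊔ P)) =
        ({(x : G) * (c : G) * (x : G)⁻¹, (d : G)} : Set G) := by
      rw [Set.image_pair]
      rfl
    have hQ' : IsPGroup p ((Subgroup.closure ({x * c * x⁻¹, d} : Set ↥(K ⊔ P))).map
        (K ⊔ P).subtype) := by
      rw [MonoidHom.map_closure, e]
      exact hQ
    exact hQ'.of_equiv ((Subgroup.closure ({x * c * x⁻¹, d} : Set ↥(K ⊔ P))).equivMapOfInjective
      _ (K ⊔ P).subtype_injective).symm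

theorem concl_sub {P : Subgroup G} (K : Subgroup G)
    (h : ∀ g ∈ P.subgroupOf (K ⊔ P), ∀ k ∈ K.subgroupOf (K ⊔ P), g * k = k * g) :
    ∀ g ∈ P, ∀ k ∈ K, g * k = k * g := by
  intro g hg k hk
  have := h ⟨g, (le_sup_right : P ≤ K ⊔ P) hg⟩ (Subgroup.mem_subgroupOf.mpr hg)
    ⟨k, (le_sup_left : K ≤ K ⊔ P) hk⟩ (Subgroup.mem_subgroupOf.mpr hk)
  exact congrArg Subtype.val this

end basics


section more
variable {G : Type u} [Group G]

theorem exists_inv_sylow [Finite G] {p : ℕ} [Fact p.Prime] {N P : Subgroup G} (hN : N.Normal)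
    (hP : IsPGroup p P) (hcop : (Nat.card N).Coprime p) (r : ℕ) [Fact r.Prime] :
    ∃ R : Subgroup G, R ≤ N ∧ (∀ g ∈ P, ∀ k ∈ R, g * k * g⁻¹ ∈ R) ∧
      Nat.card R = r ^ (Nat.card N).factorization r ∧ IsPGroup r R := by
  have := hN
  let P' : Subgroup (ConjAct G) := P.map (ConjAct.toConjAct (G := G)).toMonoidHom
  have hP' : IsPGroup p P' := hP.map _
  have hnd : ¬ p ∣ Nat.card (Sylow r ↥N) := by
    intro hdvd
    obtain ⟨S⟩ := (inferInstance : Nonempty (Sylow r ↥N))
    have h1 : Nat.card (Sylow r ↥N) ∣ Nat.card ↥N :=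
      (Sylow.card_dvd_index S).trans (Subgroup.index_dvd_card _)
    have h2 : p ∣ Nat.card ↥N := hdvd.trans h1
    have h3 := Nat.Coprime.eq_one_of_dvd hcop.symm h2
    exact (Fact.out : p.Prime).one_lt.ne' h3
  obtain ⟨R, hR⟩ := IsPGroup.nonempty_fixed_point_of_prime_not_dvd_card hP' (Sylow r ↥N) hnd
  refine ⟨(R : Subgroup ↥N).map N.subtype, Subgroup.map_subtype_le _, ?_, ?_, ?_⟩
  · rintro g hg _ ⟨k, hk, rfl⟩
    have hg' : ConjAct.toConjAct g ∈ P' := ⟨g, hg, rfl⟩
    have h1 : (ConjAct.toConjAct g) • R = R := hR ⟨ConjAct.toConjAct g, hg'⟩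
    have h2 : (ConjAct.toConjAct g) • k ∈ (R : Subgroup ↥N) := by
      have h3 : (ConjAct.toConjAct g) • k ∈ (((ConjAct.toConjAct g) • R : Sylow r ↥N) :
          Subgroup ↥N) := by
        rw [Sylow.pointwise_smul_def]
        exact Subgroup.smul_mem_pointwise_smul k _ _ hk
      rwa [h1] at h3
    refine ⟨(ConjAct.toConjAct g) • k, h2, ?_⟩
    rfl
  · have e : Nat.card ((R : Subgroup ↥N).map N.subtype) = Nat.card (R : Subgroup ↥N) :=
      Nat.card_congr ((R : Subgroup ↥N).equivMapOfInjective _ N.subtype_injective).symm.toEquiv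
    rw [e, Sylow.card_eq_multiplicity]
  · exact R.isPGroup'.map _

theorem exists_second_center {Q : Type u} [Group Q] [Finite Q] {p : ℕ} [Fact p.Prime]
    (hQ : IsPGroup p Q) (hnab : ¬ ∀ a b : Q, a * b = b * a) :
    ∃ y : Q, (∃ u : Q, y * u ≠ u * y) ∧ ∀ g u : Q, (g * y * g⁻¹ * y⁻¹) * u = u * (g * y * g⁻¹ * y⁻¹) := by
  have hnt : Nontrivial (Q ⧸ Subgroup.center Q) := by
    by_contra hcon
    rw [not_nontrivial_iff_subsingleton] at hcon
    apply hnab
    intro a b
    have ha : a ∈ Subgroup.center Q := by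
      rw [← QuotientGroup.eq_one_iff]
      exact Subsingleton.elim _ _
    exact (Subgroup.mem_center_iff.mp ha b).symm
  have hQ' : IsPGroup p (Q ⧸ Subgroup.center Q) := hQ.to_quotient _
  have hcn : Nontrivial (Subgroup.center (Q ⧸ Subgroup.center Q)) := hQ'.center_nontrivial
  obtain ⟨⟨ybar, hyc⟩, hy1⟩ := exists_ne (1 : Subgroup.center (Q ⧸ Subgroup.center Q))
  obtain ⟨y, rfl⟩ := QuotientGroup.mk_surjective ybar
  have hyn : y ∉ Subgroup.center Q := by
    intro hy
    apply hy1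
    apply Subtype.ext
    exact (QuotientGroup.eq_one_iff y).mpr hy
  refine ⟨y, ?_, ?_⟩
  · by_contra hcon
    simp only [not_exists, not_not] at hcon
    exact hyn (Subgroup.mem_center_iff.mpr (fun u => (hcon u).symm))
  · intro g u
    have hmem : g * y * g⁻¹ * y⁻¹ ∈ Subgroup.center Q := by
      rw [← QuotientGroup.eq_one_iff]
      have h1 := Subgroup.mem_center_iff.mp hyc (g : Q ⧸ Subgroup.center Q)
      have h2 : ((g * y * g⁻¹ * y⁻¹ : Q) : Q ⧸ Subgroup.center Q) =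
          (g : Q ⧸ Subgroup.center Q) * (y : Q ⧸ Subgroup.center Q) * (g : Q ⧸ Subgroup.center Q)⁻¹ *
            (y : Q ⧸ Subgroup.center Q)⁻¹ := by simp
      rw [h2, h1]
      group
    exact (Subgroup.mem_center_iff.mp hmem u).symm

end more


theorem core3_mul {M : Type*} [CommGroup M] [Finite M] (a y z : M →* M)
    (hza : ∀ v, a (z v) = z (a v)) (hzy : ∀ v, y (z v) = z (y v))
    (hay : ∀ v, a (y v) = z (y (a v)))
    (hz1 : ∀ v, z v = v → v = 1) (hz2 : ∀ v, z (z v) = v → v = 1)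
    (hy : Function.Injective y) (hzinj : Function.Injective z) :
    Nat.card {v : M // a v = v} ^ 3 ≤ Nat.card M :=
  core3 (V := Additive M) (MonoidHom.toAdditive a) (MonoidHom.toAdditive y) (MonoidHom.toAdditive z)
    hza hzy hay hz1 hz2 hy hzinj

section fin
variable {G : Type u} [Group G]

/-- fixed points of `g` in `N` -/
def fixN (N : Subgroup G) (g : G) : Subgroup G := N ⊓ Subgroup.centralizer {g}

theorem mem_fixN {N : Subgroup G} {g x : G} : x ∈ fixN N g ↔ x ∈ N ∧ g * x = x * g := by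
  simp [fixN, Subgroup.mem_centralizer_iff]


theorem claimA [Finite G] {N P : Subgroup G} (hNn : N.Normal)
    (hirr : ∀ K : Subgroup G, K ≤ N → (∀ g ∈ P, ∀ k ∈ K, g * k * g⁻¹ ∈ K) → K = ⊥ ∨ K = N)
    (hfaith : ∀ g ∈ P, (∀ x ∈ N, g * x = x * g) → g = 1)
    (z : G) (hz : z ∈ P) (hzc : ∀ u ∈ P, z * u = u * z) (hz1 : z ≠ 1) : fixN N z = ⊥ := by
  have hinv : ∀ g ∈ P, ∀ k ∈ fixN N z, g * k * g⁻¹ ∈ fixN N z := by
    intro g hg k hk
    rw [mem_fixN] at hk ⊢
    refine ⟨hNn.conj_mem k hk.1 g, ?_⟩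
    have hzg := hzc g hg
    have hzg' := hzc g⁻¹ (P.inv_mem hg)
    have hzk := hk.2
    calc z * (g * k * g⁻¹) = (z * g) * k * g⁻¹ := by group
      _ = (g * z) * k * g⁻¹ := by rw [hzg]
      _ = g * (z * k) * g⁻¹ := by group
      _ = g * (k * z) * g⁻¹ := by rw [hzk]
      _ = g * k * (z * g⁻¹) := by group
      _ = g * k * (g⁻¹ * z) := by rw [hzg']
      _ = g * k * g⁻¹ * z := by group
  rcases hirr (fixN N z) inf_le_left hinv with h | h
  · exact h
  · exfalso
    apply hz1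
    apply hfaith z hz
    intro x hx
    have : x ∈ fixN N z := by rw [h]; exact hx
    exact (mem_fixN.mp this).2

theorem claimB [Finite G] {p : ℕ} [Fact p.Prime] (hp3 : 3 ≤ p) {N P : Subgroup G} (hNn : N.Normal)
    (hP : IsPGroup p P)
    (hab : ∀ a ∈ N, ∀ b ∈ N, a * b = b * a)
    (hirr : ∀ K : Subgroup G, K ≤ N → (∀ g ∈ P, ∀ k ∈ K, g * k * g⁻¹ ∈ K) → K = ⊥ ∨ K = N)
    (hfaith : ∀ g ∈ P, (∀ x ∈ N, g * x = x * g) → g = 1)
    (c y : G) (hc : c ∈ P) (hy : y ∈ P)
    (hzc : ∀ u ∈ P, (c * y * c⁻¹ * y⁻¹) * u = u * (c * y * c⁻¹ * y⁻¹))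
    (hz1 : c * y * c⁻¹ * y⁻¹ ≠ 1) : Nat.card (fixN N c) ^ 3 ≤ Nat.card N := by
  have := hNn
  have hpp : p.Prime := Fact.out
  set z := c * y * c⁻¹ * y⁻¹ with hzdef
  have hzP : z ∈ P := P.mul_mem (P.mul_mem (P.mul_mem hc hy) (P.inv_mem hc)) (P.inv_mem hy)
  have hz2P : z * z ∈ P := P.mul_mem hzP hzP
  have hz2c : ∀ u ∈ P, (z * z) * u = u * (z * z) := by
    intro u hu
    have h := hzc u hu
    calc z * z * u = z * (z * u) := by group
      _ = z * (u * z) := by rw [h]
      _ = (z * u) * z := by group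
      _ = (u * z) * z := by rw [h]
      _ = u * (z * z) := by group
  have hz21 : z * z ≠ 1 := by
    intro h
    obtain ⟨k, hk⟩ := hP ⟨z, hzP⟩
    have hk' : z ^ (p ^ k) = 1 := by
      have := congrArg Subtype.val hk
      simpa using this
    have h1 : orderOf z ∣ p ^ k := orderOf_dvd_of_pow_eq_one hk'
    have h2 : orderOf z ∣ 2 := orderOf_dvd_of_pow_eq_one (by rw [pow_two]; exact h)
    have hcop : Nat.Coprime (p ^ k) 2 := by
      apply Nat.Coprime.pow_left
      rw [Nat.coprime_primes hpp Nat.prime_two]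
      omega
    have h3 : orderOf z = 1 := Nat.eq_one_of_dvd_coprimes hcop h1 h2
    exact hz1 (orderOf_eq_one_iff.mp h3)
  have hA1 := claimA hNn hirr hfaith z hzP hzc hz1
  have hA2 := claimA hNn hirr hfaith (z * z) hz2P hz2c hz21
  let _ : CommGroup ↥N :=
    { (inferInstance : Group ↥N) with
      mul_comm := fun a b => Subtype.ext (hab a a.2 b b.2) }
  have hzc' : z * c = c * z := hzc c hc
  have hzy' : z * y = y * z := hzc y hy
  have key := core3_mul (M := ↥N) (MulAut.conjNormal c : ↥N ≃* ↥N).toMonoidHom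
    (MulAut.conjNormal y : ↥N ≃* ↥N).toMonoidHom (MulAut.conjNormal z : ↥N ≃* ↥N).toMonoidHom
    (by
      intro v
      apply Subtype.ext
      show c * (z * v * z⁻¹) * c⁻¹ = z * (c * v * c⁻¹) * z⁻¹
      calc c * (z * v * z⁻¹) * c⁻¹ = (c * z) * v * (c * z)⁻¹ := by group
        _ = (z * c) * v * (z * c)⁻¹ := by rw [hzc']
        _ = z * (c * v * c⁻¹) * z⁻¹ := by group)
    (by
      intro v
      apply Subtype.ext
      show y * (z * v * z⁻¹) * y⁻¹ = z * (y * v * y⁻¹) * z⁻¹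
      calc y * (z * v * z⁻¹) * y⁻¹ = (y * z) * v * (y * z)⁻¹ := by group
        _ = (z * y) * v * (z * y)⁻¹ := by rw [hzy']
        _ = z * (y * v * y⁻¹) * z⁻¹ := by group)
    (by
      intro v
      apply Subtype.ext
      show c * (y * v * y⁻¹) * c⁻¹ = z * (y * (c * v * c⁻¹) * y⁻¹) * z⁻¹
      rw [hzdef]
      group)
    (by
      intro v hv
      have h1 : z * (v : G) * z⁻¹ = v := congrArg Subtype.val hv
      have h2 : (v : G) ∈ fixN N z := by
        rw [mem_fixN]
        refine ⟨v.2, ?_⟩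
        calc z * (v : G) = (z * v * z⁻¹) * z := by group
          _ = v * z := by rw [h1]
      rw [hA1, Subgroup.mem_bot] at h2
      exact Subtype.ext h2)
    (by
      intro v hv
      have h1 : z * (z * (v : G) * z⁻¹) * z⁻¹ = v := congrArg Subtype.val hv
      have h2 : (v : G) ∈ fixN N (z * z) := by
        rw [mem_fixN]
        refine ⟨v.2, ?_⟩
        calc z * z * (v : G) = (z * (z * v * z⁻¹) * z⁻¹) * (z * z) := by group
          _ = v * (z * z) := by rw [h1]
      rw [hA2, Subgroup.mem_bot] at h2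
      exact Subtype.ext h2)
    (MulAut.conjNormal y : ↥N ≃* ↥N).injective
    (MulAut.conjNormal z : ↥N ≃* ↥N).injective
  let f : fixN N c → {v : ↥N // (MulAut.conjNormal c : ↥N ≃* ↥N).toMonoidHom v = v} := fun x =>
    ⟨⟨x.1, (mem_fixN.mp x.2).1⟩, by
      apply Subtype.ext
      show c * (x : G) * c⁻¹ = x
      rw [(mem_fixN.mp x.2).2]
      group⟩
  have hf : Function.Injective f := by
    intro a b hab'
    apply Subtype.ext
    have := congrArg (fun t : {v : ↥N // (MulAut.conjNormal c : ↥N ≃* ↥N).toMonoidHom v = v} =>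
      ((t : ↥N) : G)) hab'
    exact this
  have h5 := Nat.card_le_card_of_injective f hf
  calc Nat.card (fixN N c) ^ 3
      ≤ Nat.card {v : ↥N // (MulAut.conjNormal c : ↥N ≃* ↥N).toMonoidHom v = v} ^ 3 :=
        Nat.pow_le_pow_left h5 3
    _ ≤ Nat.card N := key


theorem phi [Finite G] {p : ℕ} [Fact p.Prime] {N P : Subgroup G} {C D : Set G}
    (h : Hyp p N P C D) (c : G) (hc : c ∈ C) (d : G) (hd : d ∈ D) (x : G) (hx : x ∈ N) :
    ∃ a b, a ∈ fixN N d ∧ b ∈ fixN N c ∧ x = a * b := by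
  have hcard := card_eq h
  obtain ⟨hNn, hP, hcop, hsup, hC, hD, hH⟩ := h
  have := hNn
  have hpp : p.Prime := Fact.out
  have hcP : c ∈ P := by rw [← hC]; exact Subgroup.subset_closure hc
  have hdP : d ∈ P := by rw [← hD]; exact Subgroup.subset_closure hd
  have hidx : ¬ p ∣ P.index := by
    rw [hcard.2]
    intro hdvd
    exact hpp.one_lt.ne' (Nat.Coprime.eq_one_of_dvd hcop.symm hdvd)
  let Ps : Sylow p G := hP.toSylow hidx
  have hQ := hH x hx c hc d hd
  obtain ⟨S, hQS⟩ := hQ.exists_le_sylow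
  obtain ⟨g, hg⟩ := MulAction.exists_smul_eq G Ps S
  have hgmem : g ∈ (↑(N ⊔ P) : Set G) := by rw [hsup]; exact Subgroup.mem_top g
  rw [Subgroup.normal_mul] at hgmem
  obtain ⟨n, hn, u, hu, rfl⟩ := hgmem
  -- every element q of S satisfies n⁻¹ q n ∈ P
  have hconj : ∀ q ∈ S, n⁻¹ * q * n ∈ P := by
    intro q hq
    have hq' : q ∈ ((MulAut.conj (n * u) • Ps : Sylow p G) : Subgroup G) := by
      rw [← Sylow.smul_def, hg]; exact hq
    rw [Sylow.pointwise_smul_def, Subgroup.mem_pointwise_smul_iff_inv_smul_mem] at hq'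
    have h1 : (n * u)⁻¹ * q * (n * u) ∈ P := by
      have h2 : (MulAut.conj (n * u))⁻¹ • q = (n * u)⁻¹ * q * (n * u) := by
        rw [← map_inv, MulAut.smul_def, MulAut.conj_apply, inv_inv]
      rw [h2] at hq'
      exact (IsPGroup.mem_toSylow hP hidx).mp hq'
    have h3 : n⁻¹ * q * n = u * ((n * u)⁻¹ * q * (n * u)) * u⁻¹ := by group
    rw [h3]
    exact P.mul_mem (P.mul_mem hu h1) (P.inv_mem hu)
  have h1 := hconj d (hQS (Subgroup.subset_closure (by simp)))
  have h2 := hconj (x * c * x⁻¹) (hQS (Subgroup.subset_closure (by simp)))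
  refine ⟨n, n⁻¹ * x, ?_, ?_, by group⟩
  · rw [mem_fixN]
    refine ⟨hn, ?_⟩
    have h3 : n⁻¹ * d * n * d⁻¹ = 1 := by
      apply elt_one hP hcop
      · have : n⁻¹ * d * n * d⁻¹ = n⁻¹ * (d * n * d⁻¹) := by group
        rw [this]
        exact N.mul_mem (N.inv_mem hn) (hNn.conj_mem n hn d)
      · exact P.mul_mem h1 (P.inv_mem hdP)
    calc d * n = n * (n⁻¹ * d * n * d⁻¹) * d := by group
      _ = n * d := by rw [h3, mul_one]
  · rw [mem_fixN]
    have hw : n⁻¹ * x ∈ N := N.mul_mem (N.inv_mem hn) hx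
    refine ⟨hw, ?_⟩
    have h3 : (n⁻¹ * x) * c * (n⁻¹ * x)⁻¹ * c⁻¹ = 1 := by
      apply elt_one hP hcop
      · have : (n⁻¹ * x) * c * (n⁻¹ * x)⁻¹ * c⁻¹ = (n⁻¹ * x) * (c * (n⁻¹ * x)⁻¹ * c⁻¹) := by group
        rw [this]
        exact N.mul_mem hw (hNn.conj_mem _ (N.inv_mem hw) c)
      · have : (n⁻¹ * x) * c * (n⁻¹ * x)⁻¹ * c⁻¹ = (n⁻¹ * (x * c * x⁻¹) * n) * c⁻¹ := by group
        rw [this]
        exact P.mul_mem h2 (P.inv_mem hcP)
    calc c * (n⁻¹ * x) = ((n⁻¹ * x) * c * (n⁻¹ * x)⁻¹ * c⁻¹)⁻¹ * (n⁻¹ * x) * c := by group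
      _ = (n⁻¹ * x) * c := by rw [h3, inv_one, one_mul]

theorem cnt [Finite G] {p : ℕ} [Fact p.Prime] {N P : Subgroup G} {C D : Set G}
    (h : Hyp p N P C D) (c : G) (hc : c ∈ C) (d : G) (hd : d ∈ D) :
    Nat.card N ≤ Nat.card (fixN N d) * Nat.card (fixN N c) := by
  classical
  have hphi := phi h c hc d hd
  choose a b ha hb hab using hphi
  let f : N → fixN N d × fixN N c := fun x => (⟨a x.1 x.2, ha x.1 x.2⟩, ⟨b x.1 x.2, hb x.1 x.2⟩)
  have hf : Function.Injective f := by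
    intro x x' hxx
    apply Subtype.ext
    have e1 : a x.1 x.2 = a x'.1 x'.2 := congrArg (fun t : fixN N d × fixN N c => (t.1 : G)) hxx
    have e2 : b x.1 x.2 = b x'.1 x'.2 := congrArg (fun t : fixN N d × fixN N c => (t.2 : G)) hxx
    rw [hab x.1 x.2, hab x'.1 x'.2, e1, e2]
  have := Nat.card_le_card_of_injective f hf
  rwa [Nat.card_prod] at this

end fin


section fin2
variable {G : Type u} [Group G]

theorem le_normalizer_of_conj (H K : Subgroup G) (h : ∀ g ∈ H, ∀ k ∈ K, g * k * g⁻¹ ∈ K) :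
    H ≤ Subgroup.normalizer (K : Set G) := by
  intro g hg
  rw [Subgroup.mem_normalizer_iff]
  intro k
  constructor
  · intro hk; exact h g hg k hk
  · intro hk
    have := h g⁻¹ (H.inv_mem hg) _ hk
    have e : g⁻¹ * (g * k * g⁻¹) * g⁻¹⁻¹ = k := by group
    rwa [e] at this

theorem normal_of_sup {N P : Subgroup G} (hsup : N ⊔ P = ⊤) (K : Subgroup G)
    (hN : ∀ n ∈ N, ∀ k ∈ K, n * k * n⁻¹ ∈ K) (hP : ∀ g ∈ P, ∀ k ∈ K, g * k * g⁻¹ ∈ K) :
    K.Normal := by
  rw [← Subgroup.normalizer_eq_top_iff, eq_top_iff, ← hsup]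
  exact sup_le (le_normalizer_of_conj N K hN) (le_normalizer_of_conj P K hP)

theorem final [Finite G] {p : ℕ} [Fact p.Prime] (hp3 : 3 ≤ p) {N P : Subgroup G} {C D : Set G}
    (h : Hyp p N P C D)
    (hab : ∀ a ∈ N, ∀ b ∈ N, a * b = b * a)
    (hirr : ∀ K : Subgroup G, K ≤ N → (∀ g ∈ P, ∀ k ∈ K, g * k * g⁻¹ ∈ K) → K = ⊥ ∨ K = N)
    (hfaith : ∀ g ∈ P, (∀ x ∈ N, g * x = x * g) → g = 1) :
    ∀ g ∈ P, ∀ x ∈ N, g * x = x * g := by
  have hh := h
  obtain ⟨hNn, hP, hcop, hsup, hC, hD, hH⟩ := h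
  have hCP : C ⊆ P := by rw [← hC]; exact Subgroup.subset_closure
  have hDP : D ⊆ P := by rw [← hD]; exact Subgroup.subset_closure
  have hbot : Nat.card N ≤ 1 → ∀ g ∈ P, ∀ x ∈ N, g * x = x * g := by
    intro hle g hg x hx
    have : N = ⊥ := N.eq_bot_of_card_le hle
    rw [this, Subgroup.mem_bot] at hx
    rw [hx, mul_one, one_mul]
  have hPbot : ∀ S : Set G, Subgroup.closure S = P → (∀ s ∈ S, s = 1) →
      ∀ g ∈ P, ∀ x ∈ N, g * x = x * g := by
    intro S hS hS1 g hg x hx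
    have hPb : P = ⊥ := by
      rw [← hS, Subgroup.closure_eq_bot_iff]
      intro s hs
      exact hS1 s hs
    rw [hPb, Subgroup.mem_bot] at hg
    rw [hg, one_mul, mul_one]
  by_cases hPab : ∀ a ∈ P, ∀ b ∈ P, a * b = b * a
  · by_cases hC1 : ∀ c ∈ C, c = 1
    · exact hPbot C hC hC1
    by_cases hD1 : ∀ d ∈ D, d = 1
    · exact hPbot D hD hD1
    simp only [not_forall] at hC1 hD1
    obtain ⟨c, hc, hc1⟩ := hC1
    obtain ⟨d, hd, hd1⟩ := hD1
    have e1 := claimA hNn hirr hfaith c (hCP hc) (fun u hu => hPab c (hCP hc) u hu) hc1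
    have e2 := claimA hNn hirr hfaith d (hDP hd) (fun u hu => hPab d (hDP hd) u hu) hd1
    have hcnt := cnt hh c hc d hd
    rw [e1, e2] at hcnt
    simp only [Subgroup.card_bot, mul_one] at hcnt
    exact hbot hcnt
  · have hnab : ¬ ∀ a b : ↥P, a * b = b * a := by
      intro hcon
      apply hPab
      intro a ha b hb
      exact congrArg Subtype.val (hcon ⟨a, ha⟩ ⟨b, hb⟩)
    obtain ⟨y, hyP, ⟨u, huP, hu⟩, hy2⟩ : ∃ y ∈ P, (∃ u ∈ P, y * u ≠ u * y) ∧
        ∀ g ∈ P, ∀ u ∈ P, (g * y * g⁻¹ * y⁻¹) * u = u * (g * y * g⁻¹ * y⁻¹) := by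
      obtain ⟨y, ⟨u, hu⟩, hy2⟩ := exists_second_center hP hnab
      exact ⟨y, y.2, ⟨u, u.2, fun h => hu (Subtype.ext h)⟩,
        fun g hg u hu => congrArg Subtype.val (hy2 ⟨g, hg⟩ ⟨u, hu⟩)⟩
    have hex : ∀ S : Set G, Subgroup.closure S = P → ∃ c ∈ S, c * y ≠ y * c := by
      intro S hS
      by_contra hcon
      simp only [not_exists, not_and, not_not] at hcon
      have hle : P ≤ Subgroup.centralizer {y} := by
        rw [← hS, Subgroup.closure_le]
        intro c hc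
        rw [SetLike.mem_coe, Subgroup.mem_centralizer_iff]
        intro w hw
        rw [Set.mem_singleton_iff] at hw
        rw [hw]
        exact (hcon c hc).symm
      apply hu
      exact Subgroup.mem_centralizer_iff.mp (hle huP) y rfl
    obtain ⟨c, hc, hcy⟩ := hex C hC
    obtain ⟨d, hd, hdy⟩ := hex D hD
    have hB : ∀ c ∈ P, c * y ≠ y * c → Nat.card (fixN N c) ^ 3 ≤ Nat.card N := by
      intro c hcP hcy
      refine claimB hp3 hNn hP hab hirr hfaith c y hcP hyP
        (fun u hu => hy2 c hcP u hu) ?_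
      intro h1
      apply hcy
      calc c * y = (c * y * c⁻¹ * y⁻¹) * y * c := by group
        _ = y * c := by rw [h1, one_mul]
    have hB1 := hB c (hCP hc) hcy
    have hB2 := hB d (hDP hd) hdy
    have hcnt := cnt hh c hc d hd
    have h3 : Nat.card N ^ 3 ≤ Nat.card N ^ 2 := calc
      Nat.card N ^ 3 ≤ (Nat.card (fixN N d) * Nat.card (fixN N c)) ^ 3 := Nat.pow_le_pow_left hcnt 3
      _ = Nat.card (fixN N d) ^ 3 * Nat.card (fixN N c) ^ 3 := by ring
      _ ≤ Nat.card N * Nat.card N := Nat.mul_le_mul hB2 hB1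
      _ = Nat.card N ^ 2 := by ring
    have h4 : Nat.card N ≤ 1 := by
      by_contra hgt
      have hgt' : 1 < Nat.card N := not_le.mp hgt
      have : Nat.card N ^ 2 < Nat.card N ^ 3 := Nat.pow_lt_pow_right hgt' (by norm_num)
      omega
    exact hbot h4

end fin2


theorem step (p : ℕ) [Fact p.Prime] (hp3 : 3 ≤ p) (G : Type u) [Group G] [Finite G]
    (ih : ∀ (G' : Type u) [Group G'] [Finite G'], Nat.card G' < Nat.card G →
      ∀ (N P : Subgroup G') (C D : Set G'), Hyp p N P C D → ∀ g ∈ P, ∀ x ∈ N, g * x = x * g)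
    (N P : Subgroup G) (C D : Set G) (h : Hyp p N P C D) : ∀ g ∈ P, ∀ x ∈ N, g * x = x * g := by
  have hh := h
  have hcard := card_eq h
  obtain ⟨hNn, hP, hcop, hsup, hC, hD, hH⟩ := h
  have := hNn
  -- (a) proper invariant subgroups are centralized
  have hsub : ∀ K : Subgroup G, K ≤ N → K ≠ N → (∀ g ∈ P, ∀ k ∈ K, g * k * g⁻¹ ∈ K) →
      ∀ g ∈ P, ∀ k ∈ K, g * k = k * g := by
    intro K hKN hKne hinv
    have hs := hyp_sub hh K hKN hinv
    apply concl_sub K
    apply ih ↥(K ⊔ P) ?_ _ _ _ _ hs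
    have hc2 := (card_eq hs).1
    have e1 : Nat.card (K.subgroupOf (K ⊔ P)) = Nat.card K :=
      Nat.card_congr (Subgroup.subgroupOfEquivOfLe le_sup_left).toEquiv
    have e2 : Nat.card (P.subgroupOf (K ⊔ P)) = Nat.card P :=
      Nat.card_congr (Subgroup.subgroupOfEquivOfLe le_sup_right).toEquiv
    rw [e1, e2] at hc2
    rw [← hc2, ← hcard.1]
    have hlt : Nat.card K < Nat.card N := by
      by_contra hcon
      exact hKne (Subgroup.eq_of_le_of_card_ge hKN (not_lt.mp hcon))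
    exact Nat.mul_lt_mul_of_pos_right hlt Nat.card_pos
  -- (b) quotients
  have hquot : ∀ K : Subgroup G, K.Normal → K ≠ ⊥ → ∀ g ∈ P, ∀ x ∈ N, g * x * g⁻¹ * x⁻¹ ∈ K := by
    intro K hKn hKne
    have := hKn
    apply concl_quot K
    apply ih (G ⧸ K) ?_ _ _ _ _ (hyp_quot hh K)
    have h1 : Nat.card (G ⧸ K) * Nat.card K = Nat.card G := by
      rw [← Subgroup.index_eq_card]; exact Subgroup.index_mul_card K
    have h2 : 1 < Nat.card K := K.one_lt_card_iff_ne_bot.mpr hKne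
    have h3 : 0 < Nat.card (G ⧸ K) := Nat.card_pos
    nlinarith
  -- (c) faithfulness
  have hP₀n : (P ⊓ Subgroup.centralizer (N : Set G)).Normal := by
    apply normal_of_sup hsup
    · intro n hn z hz
      have hzc := Subgroup.mem_centralizer_iff.mp (Subgroup.mem_inf.mp hz).2 n hn
      have e : n * z * n⁻¹ = z := by rw [hzc]; group
      rw [e]; exact hz
    · intro g hg z hz
      refine Subgroup.mem_inf.mpr ⟨P.mul_mem (P.mul_mem hg (Subgroup.mem_inf.mp hz).1) (P.inv_mem hg), ?_⟩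
      rw [Subgroup.mem_centralizer_iff]
      intro x hx
      have hzc := Subgroup.mem_centralizer_iff.mp (Subgroup.mem_inf.mp hz).2 (g⁻¹ * x * g)
        (by have := hNn.conj_mem x hx g⁻¹; rwa [inv_inv] at this)
      calc x * (g * z * g⁻¹) = g * ((g⁻¹ * x * g) * z) * g⁻¹ := by group
        _ = g * (z * (g⁻¹ * x * g)) * g⁻¹ := by rw [hzc]
        _ = g * z * g⁻¹ * x := by group
  by_cases hP0 : P ⊓ Subgroup.centralizer (N : Set G) = ⊥
  swap
  · intro g hg x hx
    have h1 := hquot _ hP₀n hP0 g hg x hx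
    have h2 : g * x * g⁻¹ * x⁻¹ = 1 := by
      apply elt_one hP hcop
      · exact N.mul_mem (hNn.conj_mem x hx g) (N.inv_mem hx)
      · exact (Subgroup.mem_inf.mp h1).1
    calc g * x = (g * x * g⁻¹ * x⁻¹) * x * g := by group
      _ = x * g := by rw [h2, one_mul]
  have hfaith : ∀ g ∈ P, (∀ x ∈ N, g * x = x * g) → g = 1 := by
    intro g hg hcen
    have : g ∈ P ⊓ Subgroup.centralizer (N : Set G) :=
      Subgroup.mem_inf.mpr ⟨hg, Subgroup.mem_centralizer_iff.mpr (fun x hx => (hcen x hx).symm)⟩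
    rw [hP0, Subgroup.mem_bot] at this
    exact this
  -- (d) minimal normal
  by_cases hmin : ∀ K : Subgroup G, K.Normal → K ≤ N → K = ⊥ ∨ K = N
  swap
  · simp only [not_forall, not_or] at hmin
    obtain ⟨K, hKn, hKN, hKbot, hKne⟩ := hmin
    have hq := hquot K hKn hKbot
    have hs := hsub K hKN hKne (fun g _ k hk => hKn.conj_mem k hk g)
    intro g hg x hx
    have hkK : g * x * g⁻¹ * x⁻¹ ∈ K := hq g hg x hx
    have hgk : g * (g * x * g⁻¹ * x⁻¹) = (g * x * g⁻¹ * x⁻¹) * g := hs g hg _ hkK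
    generalize hk : g * x * g⁻¹ * x⁻¹ = k at hkK hgk
    have key : ∀ m : ℕ, g ^ m * x * (g ^ m)⁻¹ = k ^ m * x := by
      intro m
      induction m with
      | zero => simp
      | succ m ihm =>
        have hgkm : g * k ^ m = k ^ m * g := (Commute.pow_right (show Commute g k from hgk) m)
        calc g ^ (m + 1) * x * (g ^ (m + 1))⁻¹ = g * (g ^ m * x * (g ^ m)⁻¹) * g⁻¹ := by
              rw [pow_succ']; group
          _ = g * (k ^ m * x) * g⁻¹ := by rw [ihm]
          _ = (g * k ^ m) * g⁻¹ * (g * x * g⁻¹ * x⁻¹) * x := by group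
          _ = (k ^ m * g) * g⁻¹ * k * x := by rw [hgkm, hk]
          _ = k ^ (m + 1) * x := by rw [pow_succ]; group
    obtain ⟨j, hj⟩ := hP ⟨g, hg⟩
    have hj' : g ^ (p ^ j) = 1 := by
      have := congrArg Subtype.val hj
      simpa using this
    have h5 := key (p ^ j)
    rw [hj', one_mul, inv_one, mul_one] at h5
    have h6 : k ^ (p ^ j) = 1 := by
      have : k ^ (p ^ j) * x = 1 * x := by rw [one_mul]; exact h5.symm
      exact mul_right_cancel this
    have h7 : k = 1 := pow_one_of_mem hcop k (hKN hkK) j h6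
    calc g * x = (g * x * g⁻¹ * x⁻¹) * x * g := by group
      _ = x * g := by rw [hk, h7, one_mul]
  -- (e) centre of N
  have hZNn : (N ⊓ Subgroup.centralizer (N : Set G)).Normal := by
    refine ⟨fun z hz g => ?_⟩
    refine Subgroup.mem_inf.mpr ⟨hNn.conj_mem z (Subgroup.mem_inf.mp hz).1 g, ?_⟩
    rw [Subgroup.mem_centralizer_iff]
    intro x hx
    have hzc := Subgroup.mem_centralizer_iff.mp (Subgroup.mem_inf.mp hz).2 (g⁻¹ * x * g)
      (by have := hNn.conj_mem x hx g⁻¹; rwa [inv_inv] at this)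
    calc x * (g * z * g⁻¹) = g * ((g⁻¹ * x * g) * z) * g⁻¹ := by group
      _ = g * (z * (g⁻¹ * x * g)) * g⁻¹ := by rw [hzc]
      _ = g * z * g⁻¹ * x := by group
  rcases hmin _ hZNn inf_le_left with hZ | hZ
  · -- trivial centre: all invariant Sylow subgroups are proper, hence centralized
    have hRle : ∀ r : ℕ, r.Prime → ∃ R : Subgroup G, R ≤ N ⊓ Subgroup.centralizer (P : Set G) ∧
        Nat.card R = r ^ (Nat.card N).factorization r := by
      intro r hr
      have : Fact r.Prime := ⟨hr⟩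
      obtain ⟨R, hRN, hRinv, hRcard, hRp⟩ := exists_inv_sylow hNn hP hcop r
      refine ⟨R, ?_, hRcard⟩
      by_cases hRN' : R = N
      · -- N is an r-group with trivial centre, so N is trivial
        subst hRN'
        have hRbot : R = ⊥ := by
          by_contra hne
          have hnt : Nontrivial ↥R := (Subgroup.nontrivial_iff_ne_bot R).mpr hne
          have hcn : Nontrivial (Subgroup.center ↥R) := hRp.center_nontrivial
          obtain ⟨⟨z, hz⟩, hz1⟩ := exists_ne (1 : Subgroup.center ↥R)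
          apply hz1
          apply Subtype.ext
          apply Subtype.ext
          have hmem : (z : G) ∈ R ⊓ Subgroup.centralizer (R : Set G) := by
            refine Subgroup.mem_inf.mpr ⟨z.2, ?_⟩
            rw [Subgroup.mem_centralizer_iff]
            intro x hx
            exact congrArg Subtype.val (Subgroup.mem_center_iff.mp hz ⟨x, hx⟩)
          rw [hZ, Subgroup.mem_bot] at hmem
          exact hmem
        rw [hRbot]
        exact bot_le
      · have hcen := hsub R hRN hRN' hRinv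
        intro k hk
        refine Subgroup.mem_inf.mpr ⟨hRN hk, ?_⟩
        rw [Subgroup.mem_centralizer_iff]
        intro g hg
        exact hcen g hg k hk
    have hdvd : Nat.card N ∣ Nat.card ↥(N ⊓ Subgroup.centralizer (P : Set G)) := by
      rw [← Nat.factorization_prime_le_iff_dvd Nat.card_pos.ne' Nat.card_pos.ne']
      intro r hr
      obtain ⟨R, hRle', hRcard⟩ := hRle r hr
      have h1 : r ^ (Nat.card N).factorization r ∣ Nat.card ↥(N ⊓ Subgroup.centralizer (P : Set G)) := by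
        rw [← hRcard]
        exact Subgroup.card_dvd_of_le hRle'
      exact (hr.pow_dvd_iff_le_factorization Nat.card_pos.ne').mp h1
    have hEq : N ⊓ Subgroup.centralizer (P : Set G) = N :=
      Subgroup.eq_of_le_of_card_ge inf_le_left (Nat.le_of_dvd Nat.card_pos hdvd)
    intro g hg x hx
    have hx' : x ∈ N ⊓ Subgroup.centralizer (P : Set G) := by rw [hEq]; exact hx
    exact Subgroup.mem_centralizer_iff.mp (Subgroup.mem_inf.mp hx').2 g hg
  · -- N abelian
    have hab : ∀ a ∈ N, ∀ b ∈ N, a * b = b * a := by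
      intro a ha b hb
      have hb' : b ∈ N ⊓ Subgroup.centralizer (N : Set G) := by rw [hZ]; exact hb
      exact Subgroup.mem_centralizer_iff.mp (Subgroup.mem_inf.mp hb').2 a ha
    have hirr : ∀ K : Subgroup G, K ≤ N → (∀ g ∈ P, ∀ k ∈ K, g * k * g⁻¹ ∈ K) →
        K = ⊥ ∨ K = N := by
      intro K hKN hinv
      apply hmin K ?_ hKN
      apply normal_of_sup hsup K ?_ hinv
      intro n hn k hk
      have e : n * k * n⁻¹ = k := by rw [hab n hn k (hKN hk)]; group
      rw [e]; exact hk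
    exact final hp3 hh hab hirr hfaith

theorem main_aux (p : ℕ) [Fact p.Prime] (hp3 : 3 ≤ p) : ∀ (n : ℕ) (G : Type u) [Group G] [Finite G],
    Nat.card G = n → ∀ (N P : Subgroup G) (C D : Set G), Hyp p N P C D →
    ∀ g ∈ P, ∀ x ∈ N, g * x = x * g := by
  intro n
  induction n using Nat.strong_induction_on with
  | _ n ih =>
    intro G _ _ hn N P C D h
    apply step p hp3 G _ N P C D h
    intro G' _ _ hlt N' P' C' D' h'
    exact ih (Nat.card G') (hn ▸ hlt) G' rfl N' P' C' D' h'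

theorem main {G : Type u} [Group G] [Finite G] (p : ℕ) [Fact p.Prime] (hp3 : 3 ≤ p) (P : Sylow p G)
    (N : Subgroup G) [N.Normal] (hN : (Nat.card N).Coprime p) (hNP : N ⊔ (P : Subgroup G) = ⊤)
    (C D : Set G) (hC : Subgroup.closure C = (P : Subgroup G))
    (hD : Subgroup.closure D = (P : Subgroup G))
    (h : ∀ x ∈ N, ∀ c ∈ C, ∀ d ∈ D,
      IsPGroup p ↥(Subgroup.closure ({x * c * x⁻¹, d} : Set G))) :
    ⁅(P : Subgroup G), N⁆ = ⊥ := by
  have hyp : Hyp p N (P : Subgroup G) C D := ⟨inferInstance, P.isPGroup', hN, hNP, hC, hD, h⟩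
  have hcomm := main_aux p hp3 (Nat.card G) G rfl N P C D hyp
  rw [Subgroup.commutator_eq_bot_iff_le_centralizer]
  intro g hg
  rw [Subgroup.mem_centralizer_iff]
  intro x hx
  exact (hcomm g hg x hx).symm


/-- Let p ≥ 3 be prime and G a finite group with a Sylow p-subgroup P and a normal p-complement N (N normal, of order prime to p, with NP = G). Suppose P is generated by a subset C and also by a subset D, and that ⟨x c x⁻¹, d⟩ is a p-group for all x ∈ N, c ∈ C, d ∈ D. Then P centralizes N, so that G = N × P. -/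
theorem result {G : Type*} [Group G] [Finite G] (p : ℕ) [Fact p.Prime] (hp3 : 3 ≤ p) (P : Sylow p G)
    (N : Subgroup G) [N.Normal] (hN : (Nat.card N).Coprime p) (hNP : N ⊔ (P : Subgroup G) = ⊤)
    (C D : Set G) (hC : Subgroup.closure C = (P : Subgroup G)) (hD : Subgroup.closure D = (P : Subgroup G))
    (h : ∀ x ∈ N, ∀ c ∈ C, ∀ d ∈ D, IsPGroup p ↥(Subgroup.closure ({x * c * x⁻¹, d} : Set G))) :
    ⁅(P : Subgroup G), N⁆ = ⊥ := by
  exact main p hp3 P N hN hNP C D hC hD h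

end Cfsg.Agent.S2277
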