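import Cfsg.Statements.S2470
-- import your own Cfsg.Agent.* helpers here
import Mathlib
import Cfsg.Agent.S2468
import Cfsg.Agent.S2475
import Cfsg.Agent.Lib.helper4.SympSS

set_option autoImplicit false
open Cfsg

namespace Cfsg.Agent.S2470




open Polynomial UniqueFactorizationMonoid Cfsg.Agent.Lib.helper18.RCF
open Cfsg.Agent.S2468 (fx mem_fx fix_modEq lift_order dvd_sub_of_pow_eq exists_mat_order pow_coprime_one fx_lt)
open scoped Matrix

theorem k_pos {F : Type*} [Field F] [Fintype F] (p : ℕ) [Fact p.Prime] [CharP F p] (r : ℕ)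
    (hr : r.Prime) (hrp : r ≠ p) : 0 < orderOf ((Fintype.card F : ℕ) : ZMod r) := by
  have : Fact r.Prime := ⟨hr⟩
  have hQ : ((Fintype.card F : ℕ) : ZMod r) ≠ 0 := by
    intro h0
    rw [ZMod.natCast_eq_zero_iff] at h0
    obtain ⟨f, -, hf⟩ := FiniteField.card F p
    rw [hf] at h0
    exact hrp ((Nat.prime_dvd_prime_iff_eq hr Fact.out).1 (hr.dvd_of_dvd_pow h0))
  rw [orderOf_pos_iff, isOfFinOrder_iff_pow_eq_one]
  exact ⟨r - 1, by have := hr.two_le; omega, ZMod.pow_card_sub_one_eq_one hQ⟩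

theorem p_dvd_card {F : Type*} [Field F] [Fintype F] (p : ℕ) [Fact p.Prime] [CharP F p] :
    p ∣ Fintype.card F :=
  (CharP.cast_eq_zero_iff F p (Fintype.card F)).1 (FiniteField.cast_card_eq_zero F)

theorem fix_pos {F : Type*} [Field F] [Fintype F] (p : ℕ) [Fact p.Prime] [CharP F p] {ι : Type}
    [Fintype ι] [DecidableEq ι] (u : Matrix ι ι F) (hu : u ^ p = 1) (W : Submodule F (ι → F))
    (hW : ∀ w ∈ W, u *ᵥ w ∈ W) (hpos : 0 < Module.finrank F W) :
    0 < Module.finrank F ↥(W ⊓ fx u) := by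
  have h := fix_modEq p u hu W hW
  by_contra h0
  have h0' : Module.finrank F ↥(W ⊓ fx u) = 0 := by omega
  rw [h0', pow_zero] at h
  have hd : p ∣ Fintype.card F ^ Module.finrank F W := dvd_pow (p_dvd_card p) hpos.ne'
  have h1 : 0 ≡ 1 [MOD p] := ((Nat.modEq_zero_iff_dvd).2 hd).symm.trans h
  have h2 : p ∣ 1 := (Nat.modEq_zero_iff_dvd).1 h1.symm
  exact (Fact.out : p.Prime).one_lt.ne' (Nat.dvd_one.1 h2)

theorem fx_inv {F : Type*} [Field F] {ι : Type} [Fintype ι] [DecidableEq ι]
    (c d : Matrix ι ι F) (hcd : c * d = d * c) : ∀ w ∈ fx c, d *ᵥ w ∈ fx c := by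
  intro w hw
  rw [mem_fx] at hw ⊢
  rw [Matrix.mulVec_mulVec, hcd, ← Matrix.mulVec_mulVec, hw]

/-- (b): no matrix of order `r p` when `k ≥ n - 1`, `n ≥ 3`. -/
theorem no_elt_big {F : Type*} [Field F] [Fintype F] (p : ℕ) [Fact p.Prime] [CharP F p]
    (n r : ℕ) (hn : 3 ≤ n) (hr : r.Prime) (hrp : r ≠ p) (k : ℕ)
    (hk : k = orderOf ((Fintype.card F : ℕ) : ZMod r)) (hkn : n - 2 < k)
    (G : Matrix (Fin n) (Fin n) F) (h1 : G ^ (r * p) = 1) (h2 : G ^ r ≠ 1) (h3 : G ^ p ≠ 1) :
    False := by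
  classical
  have : Fact r.Prime := ⟨hr⟩
  have hk0 : 0 < k := by omega
  have hrF : (r : F) ≠ 0 := cast_ne_zero_of_coprime p r ((Nat.coprime_primes hr Fact.out).2 hrp)
  obtain ⟨a, ha⟩ : ∃ a : Matrix (Fin n) (Fin n) F, a = G ^ p := ⟨_, rfl⟩
  obtain ⟨u, hu⟩ : ∃ u : Matrix (Fin n) (Fin n) F, u = G ^ r := ⟨_, rfl⟩
  have har : a ^ r = 1 := by rw [ha, ← pow_mul, mul_comm, h1]
  have hup : u ^ p = 1 := by rw [hu, ← pow_mul, h1]
  have hau : a * u = u * a := by rw [ha, hu, ← pow_add, ← pow_add, add_comm]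
  have ha1 : a ≠ 1 := by rw [ha]; exact h3
  have hu1 : u ≠ 1 := by rw [hu]; exact h2
  obtain ⟨V1, hV1⟩ : ∃ V1 : Submodule F (Fin n → F),
      V1 = LinearMap.range (Matrix.toLin' a - 1) := ⟨_, rfl⟩
  have hrank : Module.finrank F V1 + Module.finrank F (fx a) = n := by
    rw [hV1]
    unfold fx
    rw [LinearMap.finrank_range_add_finrank_ker, Module.finrank_fin_fun]
  have hmemV1 : ∀ w, w ∈ V1 ↔ ∃ v, a *ᵥ v - v = w := by
    intro w
    rw [hV1, LinearMap.mem_range]
    simp only [LinearMap.sub_apply, Matrix.toLin'_apply, Module.End.one_apply]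
  have hV1a : ∀ w ∈ V1, a *ᵥ w ∈ V1 := by
    intro w hw
    obtain ⟨v, rfl⟩ := (hmemV1 w).1 hw
    exact (hmemV1 _).2 ⟨a *ᵥ v, by rw [Matrix.mulVec_sub]⟩
  have hV1u : ∀ w ∈ V1, u *ᵥ w ∈ V1 := by
    intro w hw
    obtain ⟨v, rfl⟩ := (hmemV1 w).1 hw
    refine (hmemV1 _).2 ⟨u *ᵥ v, ?_⟩
    rw [Matrix.mulVec_sub, Matrix.mulVec_mulVec, Matrix.mulVec_mulVec, hau]
  have hdisj : V1 ⊓ fx a = ⊥ := by
    rw [eq_bot_iff]
    rintro w ⟨hw1, hw2⟩
    obtain ⟨v, rfl⟩ := (hmemV1 w).1 hw1
    have hw2' : a *ᵥ (a *ᵥ v - v) = a *ᵥ v - v := (mem_fx a _).1 hw2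
    have hsum1 : ∀ m : ℕ, (∑ j ∈ Finset.range m, a ^ j) *ᵥ (a *ᵥ v - v) = (a ^ m) *ᵥ v - v := by
      intro m
      induction m with
      | zero => simp
      | succ m ih =>
        rw [Finset.sum_range_succ, Matrix.add_mulVec, ih, Matrix.mulVec_sub, Matrix.mulVec_mulVec,
          ← pow_succ]
        abel
    have hfixpow : ∀ m : ℕ, (a ^ m) *ᵥ (a *ᵥ v - v) = a *ᵥ v - v := by
      intro m
      induction m with
      | zero => rw [pow_zero, Matrix.one_mulVec]
      | succ m ih => rw [pow_succ, ← Matrix.mulVec_mulVec, hw2', ih]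
    have hsum2 : ∀ m : ℕ, (∑ j ∈ Finset.range m, a ^ j) *ᵥ (a *ᵥ v - v) =
        (m : F) • (a *ᵥ v - v) := by
      intro m
      induction m with
      | zero => simp
      | succ m ih =>
        rw [Finset.sum_range_succ, Matrix.add_mulVec, ih, hfixpow]
        push_cast
        rw [add_smul, one_smul]
    have h0 : (r : F) • (a *ᵥ v - v) = 0 := by
      rw [← hsum2, hsum1, har, Matrix.one_mulVec, sub_self]
    rcases smul_eq_zero.1 h0 with h | h
    · exact absurd h hrF
    · exact (Submodule.mem_bot F).2 h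
  have hda : Module.finrank F (fx a) < n := fx_lt n a ha1
  have c1 := fix_modEq r a har ⊤ (fun w _ => Submodule.mem_top)
  rw [top_inf_eq, finrank_top, Module.finrank_fin_fun] at c1
  have e1 := dvd_sub_of_pow_eq r _ k hk hk0 n _ hda.le
    (by have := (ZMod.natCast_eq_natCast_iff _ _ _).2 c1; push_cast at this; exact this)
  have hd1 : Module.finrank F V1 = k := by
    have h5 : Module.finrank F V1 = n - Module.finrank F (fx a) := by omega
    rw [← h5] at e1
    obtain ⟨c, hc⟩ := e1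
    have hc0 : c ≠ 0 := by
      rintro rfl
      omega
    have hc2 : c < 2 := by
      by_contra h
      have : k * 2 ≤ k * c := Nat.mul_le_mul_left k (by omega)
      omega
    have hc1 : c = 1 := by omega
    rw [hc, hc1, mul_one]
  have hp1 := fix_pos p u hup V1 hV1u (by omega)
  have hinvK : ∀ w ∈ V1 ⊓ fx u, a *ᵥ w ∈ V1 ⊓ fx u := by
    intro w hw
    exact ⟨hV1a w hw.1, fx_inv u a hau.symm w hw.2⟩
  have c2 := fix_modEq r a har (V1 ⊓ fx u) hinvK
  have hbot : (V1 ⊓ fx u) ⊓ fx a = ⊥ :=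
    eq_bot_iff.2 (le_trans (inf_le_inf_right _ inf_le_left) hdisj.le)
  rw [hbot, finrank_bot] at c2
  have e2 := dvd_sub_of_pow_eq r _ k hk hk0 _ 0 (Nat.zero_le _)
    (by have := (ZMod.natCast_eq_natCast_iff _ _ _).2 c2; push_cast at this; exact this)
  rw [Nat.sub_zero] at e2
  have hle1 : V1 ≤ fx u := by
    have hfr : Module.finrank F ↥(V1 ⊓ fx u) = Module.finrank F V1 := by
      have h5 := Submodule.finrank_mono (inf_le_left : V1 ⊓ fx u ≤ V1)
      have h6 := Nat.le_of_dvd hp1 e2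
      omega
    exact inf_eq_left.1 (Submodule.eq_of_le_of_finrank_eq inf_le_left hfr)
  have hle2 : fx a ≤ fx u := by
    rcases Nat.eq_zero_or_pos (Module.finrank F (fx a)) with h0 | hpos
    · have : fx a = ⊥ := Submodule.finrank_eq_zero.1 h0
      rw [this]; exact bot_le
    · have hp2 := fix_pos p u hup (fx a) (fx_inv a u hau) hpos
      have hfr : Module.finrank F ↥(fx a ⊓ fx u) = Module.finrank F (fx a) := by
        have h5 := Submodule.finrank_mono (inf_le_left : fx a ⊓ fx u ≤ fx a)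
        omega
      exact inf_eq_left.1 (Submodule.eq_of_le_of_finrank_eq inf_le_left hfr)
  have hsup : Module.finrank F ↥(V1 ⊔ fx a) = n := by
    have := Submodule.finrank_sup_add_finrank_inf_eq V1 (fx a)
    rw [hdisj, finrank_bot] at this
    omega
  have h7 := Submodule.finrank_mono (sup_le hle1 hle2)
  have h8 := fx_lt n u hu1
  omega


theorem scalar_reindex {F : Type*} [Field F] {α β : Type} [Fintype α] [DecidableEq α] [Fintype β]
    [DecidableEq β] (e : α ≃ β) (c : F) :
    Matrix.reindexAlgEquiv F F e (Matrix.diagonal fun _ => c) = Matrix.diagonal fun _ => c := by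
  rw [Matrix.coe_reindexAlgEquiv, Matrix.reindex_apply, Matrix.submatrix_diagonal_equiv]
  rfl

theorem embed_fix {F : Type*} [Field F] [Fintype F] {ι : Type} [Fintype ι] [DecidableEq ι]
    (n N : ℕ) (hN : 0 < N) (hι : Fintype.card ι ≤ n) (h : Matrix ι ι F) (hdet : h.det = 1)
    (v : ι → F) (hv : v ≠ 0) (hfix : h *ᵥ v = v)
    (h1 : h ^ N = 1) (h2 : ∀ p' : ℕ, p'.Prime → p' ∣ N → h ^ (N / p') ≠ 1) :
    ∃ x : Matrix.ProjectiveSpecialLinearGroup (Fin n) F, orderOf x = N := by
  classical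
  obtain ⟨e⟩ : Nonempty (ι ⊕ Fin (n - Fintype.card ι) ≃ Fin n) :=
    ⟨Fintype.equivFinOfCardEq (by rw [Fintype.card_sum, Fintype.card_fin]; omega)⟩
  obtain ⟨φ, hφ⟩ : ∃ φ : Matrix (ι ⊕ Fin (n - Fintype.card ι)) (ι ⊕ Fin (n - Fintype.card ι)) F ≃ₐ[F]
      Matrix (Fin n) (Fin n) F, φ = Matrix.reindexAlgEquiv F F e := ⟨_, rfl⟩
  obtain ⟨H, hH⟩ : ∃ H : Matrix (ι ⊕ Fin (n - Fintype.card ι)) (ι ⊕ Fin (n - Fintype.card ι)) F,
      H = Matrix.fromBlocks h 0 0 1 := ⟨_, rfl⟩
  have hHpow : ∀ j : ℕ, H ^ j = Matrix.fromBlocks (h ^ j) 0 0 1 := by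
    intro j; rw [hH, Matrix.fromBlocks_diagonal_pow, one_pow]
  have hdet' : (φ H).det = 1 := by
    rw [hφ, Matrix.det_reindexAlgEquiv, hH, Matrix.det_fromBlocks_zero₂₁, Matrix.det_one, mul_one,
      hdet]
  obtain ⟨g, hg⟩ : ∃ g : Matrix.SpecialLinearGroup (Fin n) F, g.1 = φ H := ⟨⟨φ H, hdet'⟩, rfl⟩
  have hgpow : ∀ j : ℕ, (g ^ j).1 = φ (Matrix.fromBlocks (h ^ j) 0 0 1) := by
    intro j
    have : (g ^ j).1 = g.1 ^ j := Matrix.SpecialLinearGroup.coe_pow g j
    rw [this, hg, ← hHpow, map_pow]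
  have hg1 : g ^ N = 1 := by
    apply Subtype.ext
    rw [hgpow, h1, Matrix.fromBlocks_one, map_one]
    rfl
  have hfixpow : ∀ j : ℕ, (h ^ j) *ᵥ v = v := by
    intro j
    induction j with
    | zero => rw [pow_zero, Matrix.one_mulVec]
    | succ j ih => rw [pow_succ, ← Matrix.mulVec_mulVec, hfix, ih]
  have hkey : ∀ j : ℕ, h ^ j ≠ 1 →
      g ^ j ∉ Subgroup.center (Matrix.SpecialLinearGroup (Fin n) F) := by
    intro j hne hmem
    rw [Matrix.SpecialLinearGroup.mem_center_iff] at hmem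
    obtain ⟨c, -, hc⟩ := hmem
    have h5 : φ (Matrix.fromBlocks (h ^ j) 0 0 1) = φ (Matrix.diagonal fun _ => c) := by
      rw [← hgpow, ← hc, hφ, scalar_reindex]
      rfl
    have h6 := φ.injective h5
    have h7 : (Matrix.diagonal fun _ => c : Matrix (ι ⊕ Fin (n - Fintype.card ι))
        (ι ⊕ Fin (n - Fintype.card ι)) F) =
        Matrix.fromBlocks (Matrix.diagonal fun _ => c) 0 0 (Matrix.diagonal fun _ => c) := by
      rw [Matrix.fromBlocks_diagonal]
      congr 1
      funext x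
      cases x <;> rfl
    rw [h7, Matrix.fromBlocks_inj] at h6
    have h8 : (h ^ j) *ᵥ v = c • v := by
      rw [h6.1]
      funext i
      rw [Matrix.mulVec_diagonal]
      rfl
    rw [hfixpow] at h8
    obtain ⟨i, hi⟩ := Function.ne_iff.1 hv
    have h9 : v i = c * v i := congrFun h8 i
    have hc1 : c = 1 := by
      have h10 : (c - 1) * v i = 0 := by linear_combination -h9
      rcases mul_eq_zero.1 h10 with h | h
      · exact sub_eq_zero.1 h
      · exact absurd h hi
    apply hne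
    rw [h6.1, hc1]
    exact Matrix.diagonal_one
  refine ⟨QuotientGroup.mk g, ?_⟩
  apply orderOf_eq_of_pow_and_pow_div_prime hN
  · rw [← QuotientGroup.mk_pow, hg1]; rfl
  · intro p' hp' hd
    rw [← QuotientGroup.mk_pow]
    intro hcon
    exact hkey _ (h2 p' hp' hd) ((QuotientGroup.eq_one_iff _).1 hcon)

/-- the 2×2 unipotent block -/
def J2 (F : Type*) [Field F] : Matrix (Fin 2) (Fin 2) F := !![1, 1; 0, 1]

theorem J2_pow (F : Type*) [Field F] (j : ℕ) : J2 F ^ j = !![1, (j : F); 0, 1] := by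
  induction j with
  | zero =>
    rw [pow_zero, Matrix.one_fin_two]
    simp
  | succ j ih =>
    rw [pow_succ, ih, J2, Matrix.mul_fin_two]
    simp [add_comm]

theorem exists_with_J {F : Type*} [Field F] [Fintype F] (p : ℕ) [Fact p.Prime] [CharP F p]
    {κ : Type} [Fintype κ] [DecidableEq κ] (n r : ℕ) (hr : r.Prime) (hrp : r ≠ p)
    (hκ : Fintype.card κ + 2 ≤ n) (B : Matrix κ κ F) (hB : B ^ r = 1) (hB1 : B ≠ 1)
    (hdet : B.det = 1) :
    ∃ x : Matrix.ProjectiveSpecialLinearGroup (Fin n) F, orderOf x = r * p := by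
  classical
  have hp : p.Prime := Fact.out
  have hrF : (r : F) ≠ 0 := cast_ne_zero_of_coprime p r ((Nat.coprime_primes hr Fact.out).2 hrp)
  have hpow : ∀ j : ℕ, (Matrix.fromBlocks B 0 0 (J2 F)) ^ j =
      Matrix.fromBlocks (B ^ j) 0 0 !![1, (j : F); 0, 1] := by
    intro j
    rw [Matrix.fromBlocks_diagonal_pow, J2_pow]
  refine embed_fix n (r * p) (Nat.mul_pos hr.pos hp.pos)
    (by rw [Fintype.card_sum, Fintype.card_fin]; exact hκ)
    (Matrix.fromBlocks B 0 0 (J2 F)) ?_ (Sum.elim 0 ![1, 0]) ?_ ?_ ?_ ?_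
  · rw [Matrix.det_fromBlocks_zero₂₁, hdet, J2, Matrix.det_fin_two_of]
    simp
  · intro h0
    have := congrFun h0 (Sum.inr 0)
    simp at this
  · rw [Matrix.fromBlocks_mulVec]
    simp only [Sum.elim_comp_inl, Sum.elim_comp_inr, Matrix.mulVec_zero, Matrix.zero_mulVec,
      add_zero, zero_add]
    congr 1
    rw [J2]
    funext i
    fin_cases i <;> simp [Matrix.mulVec, dotProduct, Fin.sum_univ_two]
  · rw [hpow, pow_mul, hB, one_pow, ← Matrix.fromBlocks_one, Matrix.one_fin_two]
    congr 2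
    push_cast
    rw [CharP.cast_eq_zero F p, mul_zero]
  · intro p' hp' hd
    rw [hpow, ← Matrix.fromBlocks_one]
    intro hcon
    rw [Matrix.fromBlocks_inj] at hcon
    rcases (Nat.Prime.dvd_mul hp').1 hd with h' | h'
    · have hpr : p' = r := (Nat.prime_dvd_prime_iff_eq hp' hr).1 h'
      rw [hpr, Nat.mul_div_cancel_left p hr.pos] at hcon
      exact hB1 (pow_coprime_one B r p ((Nat.coprime_primes hr hp).2 hrp) hB hcon.1)
    · have hpp : p' = p := (Nat.prime_dvd_prime_iff_eq hp' hp).1 h'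
      rw [hpp, Nat.mul_div_cancel r hp.pos] at hcon
      have h01 := congrFun (congrFun hcon.2.2.2 0) 1
      rw [Matrix.one_fin_two] at h01
      simp at h01
      exact hrF h01


theorem diag_sum {F : Type*} [Field F] {α β : Type} [DecidableEq α] [DecidableEq β] (c : F) :
    (Matrix.diagonal fun _ => c : Matrix (α ⊕ β) (α ⊕ β) F) =
      Matrix.fromBlocks (Matrix.diagonal fun _ => c) 0 0 (Matrix.diagonal fun _ => c) := by
  rw [Matrix.fromBlocks_diagonal]
  congr 1
  funext x
  cases x <;> rfl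

/-- (e): an element of order `r p` in `PSL_3`. -/
theorem psl3_elt {F : Type*} [Field F] [Fintype F] (p : ℕ) [Fact p.Prime] [CharP F p] (r : ℕ)
    (hr : r.Prime) (hrp : r ≠ p) (a : F) (ha0 : a ≠ 0) (ha1 : a ^ (3 * (r * p)) = 1)
    (ha2 : a ^ (3 * p) ≠ 1) :
    ∃ x : Matrix.ProjectiveSpecialLinearGroup (Fin 3) F, orderOf x = r * p := by
  classical
  have hp : p.Prime := Fact.out
  have hrF : (r : F) ≠ 0 := cast_ne_zero_of_coprime p r ((Nat.coprime_primes hr Fact.out).2 hrp)
  obtain ⟨b, hb⟩ : ∃ b : F, b = (a ^ 2)⁻¹ := ⟨_, rfl⟩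
  have hab : a ^ 2 * b = 1 := by rw [hb]; exact mul_inv_cancel₀ (pow_ne_zero 2 ha0)
  obtain ⟨e⟩ : Nonempty (Fin 2 ⊕ Fin 1 ≃ Fin 3) := ⟨finSumFinEquiv⟩
  obtain ⟨φ, hφ⟩ : ∃ φ : Matrix (Fin 2 ⊕ Fin 1) (Fin 2 ⊕ Fin 1) F ≃ₐ[F]
      Matrix (Fin 3) (Fin 3) F, φ = Matrix.reindexAlgEquiv F F e := ⟨_, rfl⟩
  obtain ⟨H, hH⟩ : ∃ H : Matrix (Fin 2 ⊕ Fin 1) (Fin 2 ⊕ Fin 1) F,
      H = Matrix.fromBlocks (a • J2 F) 0 0 (b • (1 : Matrix (Fin 1) (Fin 1) F)) := ⟨_, rfl⟩
  have hHpow : ∀ j : ℕ, H ^ j = Matrix.fromBlocks (a ^ j • !![1, (j : F); 0, 1]) 0 0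
      (b ^ j • (1 : Matrix (Fin 1) (Fin 1) F)) := by
    intro j
    rw [hH, Matrix.fromBlocks_diagonal_pow, _root_.smul_pow, _root_.smul_pow, J2_pow, one_pow]
  have hdet' : (φ H).det = 1 := by
    rw [hφ, Matrix.det_reindexAlgEquiv, hH, Matrix.det_fromBlocks_zero₂₁, Matrix.det_smul,
      Matrix.det_smul, J2, Matrix.det_fin_two_of, Matrix.det_one, Fintype.card_fin,
      Fintype.card_fin]
    linear_combination hab
  obtain ⟨g, hg⟩ : ∃ g : Matrix.SpecialLinearGroup (Fin 3) F, g.1 = φ H := ⟨⟨φ H, hdet'⟩, rfl⟩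
  have hgpow : ∀ j : ℕ, (g ^ j).1 = φ (H ^ j) := by
    intro j
    have : (g ^ j).1 = g.1 ^ j := Matrix.SpecialLinearGroup.coe_pow g j
    rw [this, hg, map_pow]
  have hcen : ∀ j : ℕ, g ^ j ∈ Subgroup.center (Matrix.SpecialLinearGroup (Fin 3) F) →
      (j : F) = 0 ∧ a ^ j = b ^ j := by
    intro j hmem
    rw [Matrix.SpecialLinearGroup.mem_center_iff] at hmem
    obtain ⟨c, -, hc⟩ := hmem
    have h5 : φ (H ^ j) = φ (Matrix.diagonal fun _ => c) := by
      rw [← hgpow, ← hc, hφ, scalar_reindex]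
      rfl
    have h6 := φ.injective h5
    rw [hHpow, diag_sum, Matrix.fromBlocks_inj] at h6
    obtain ⟨h8, -, -, h9⟩ := h6
    have h01 := congrFun (congrFun h8 0) 1
    have h00 := congrFun (congrFun h8 0) 0
    have h9' := congrFun (congrFun h9 0) 0
    rw [Matrix.smul_apply, Matrix.diagonal_apply_ne _ (by decide)] at h01
    rw [Matrix.smul_apply, Matrix.diagonal_apply_eq] at h00 h9'
    simp only [Matrix.of_apply, Matrix.cons_val', Matrix.cons_val_zero, Matrix.cons_val_one,
      Matrix.cons_val_fin_one, smul_eq_mul, mul_one, Matrix.one_apply_eq] at h01 h00 h9'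
    refine ⟨?_, h00.trans h9'.symm⟩
    rcases mul_eq_zero.1 h01 with h | h
    · exact absurd h (pow_ne_zero _ ha0)
    · exact h
  have hg1 : g ^ (r * p) ∈ Subgroup.center (Matrix.SpecialLinearGroup (Fin 3) F) := by
    rw [Matrix.SpecialLinearGroup.mem_center_iff]
    have hcast : ((r * p : ℕ) : F) = 0 := by
      push_cast
      rw [CharP.cast_eq_zero F p, mul_zero]
    have hbp : b ^ (r * p) = a ^ (r * p) := by
      have h1 : a ^ (r * p) * (a ^ 2) ^ (r * p) = 1 := by
        rw [← pow_mul, ← pow_add]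
        rw [← ha1]
        congr 1
        ring
      have h2 : b ^ (r * p) * (a ^ 2) ^ (r * p) = 1 := by rw [← mul_pow, mul_comm, hab, one_pow]
      have h3 : (a ^ 2) ^ (r * p) ≠ 0 := pow_ne_zero _ (pow_ne_zero _ ha0)
      exact mul_right_cancel₀ h3 (h2.trans h1.symm)
    refine ⟨a ^ (r * p), ?_, ?_⟩
    · rw [← pow_mul, Fintype.card_fin, mul_comm]
      exact ha1
    · rw [hgpow, hHpow, hcast, hbp, ← Matrix.one_fin_two, Matrix.smul_one_eq_diagonal,
        Matrix.smul_one_eq_diagonal, ← diag_sum, hφ, scalar_reindex]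
      rfl
  refine ⟨QuotientGroup.mk g, ?_⟩
  apply orderOf_eq_of_pow_and_pow_div_prime (Nat.mul_pos hr.pos hp.pos)
  · rw [← QuotientGroup.mk_pow]
    exact (QuotientGroup.eq_one_iff _).2 hg1
  · intro p' hp' hd
    rw [← QuotientGroup.mk_pow]
    intro hcon
    have hmem := (QuotientGroup.eq_one_iff _).1 hcon
    rcases (Nat.Prime.dvd_mul hp').1 hd with h' | h'
    · have hpr : p' = r := (Nat.prime_dvd_prime_iff_eq hp' hr).1 h'
      rw [hpr, Nat.mul_div_cancel_left p hr.pos] at hmem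
      obtain ⟨-, h2⟩ := hcen p hmem
      apply ha2
      have h3 : a ^ (3 * p) = a ^ p * (a ^ 2) ^ p := by
        rw [← pow_mul, ← pow_add]
        congr 1
        ring
      rw [h3, h2, ← mul_pow, mul_comm, hab, one_pow]
    · have hpp : p' = p := (Nat.prime_dvd_prime_iff_eq hp' hp).1 h'
      rw [hpp, Nat.mul_div_cancel r hp.pos] at hmem
      exact hrF (hcen r hmem).1


/-- linear factors of a matrix of order dividing 3 when `3 ∣ q - 1`. -/
theorem lin_factors {F : Type*} [Field F] [Fintype F] [DecidableEq F]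
    (h3 : 3 ∣ Fintype.card F - 1)
    (y : Matrix (Fin 3) (Fin 3) F) (hy : y ^ 3 = 1) :
    ∃ d : Fin 3 → F, (∀ i, d i ^ 3 = 1) ∧ y.charpoly = ∏ i, (X - C (d i)) := by
  classical
  -- a primitive cube root of unity
  obtain ⟨ω, hω3, hω⟩ : ∃ ω : F, ω ^ 3 = 1 ∧ ω ^ 2 + ω + 1 = 0 := by
    have : Fact (Nat.Prime 3) := ⟨Nat.prime_three⟩
    have hcard : 3 ∣ Nat.card Fˣ := by
      rw [Nat.card_units, Nat.card_eq_fintype_card]; exact h3
    obtain ⟨z, hz⟩ := exists_prime_orderOf_dvd_card' 3 hcard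
    have hz3 : (z : F) ^ 3 = 1 := by
      have : z ^ 3 = 1 := by rw [← hz, pow_orderOf_eq_one]
      rw [← Units.val_pow_eq_pow_val, this]; rfl
    have hz1 : (z : F) ≠ 1 := by
      intro h
      have : z = 1 := Units.ext h
      rw [this, orderOf_one] at hz
      norm_num at hz
    refine ⟨z, hz3, ?_⟩
    have h5 : ((z : F) - 1) * ((z : F) ^ 2 + z + 1) = 0 := by linear_combination hz3
    rcases mul_eq_zero.1 h5 with h | h
    · exact absurd (sub_eq_zero.1 h) hz1
    · exact h
  have hCω : (C ω : F[X]) ^ 2 + C ω + 1 = 0 := by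
    rw [← C_pow, ← C_add, ← C_1, ← C_add, hω, C_0]
  have hfact : (X ^ 3 - 1 : F[X]) = (X - C 1) * (X - C ω) * (X - C (ω ^ 2)) := by
    rw [C_1, C_pow]
    linear_combination (X ^ 2 - C ω * X + (C ω - 1)) * hCω
  have hNFmon : ∀ h ∈ normalizedFactors y.charpoly, h.Monic := by
    intro h hh
    rw [← normalize_normalized_factor h hh]
    exact monic_normalize (irreducible_of_normalized_factor h hh).ne_zero
  have hprod : (normalizedFactors y.charpoly).prod = y.charpoly := by
    apply eq_of_monic_of_associated _ (Matrix.charpoly_monic y)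
      (prod_normalizedFactors (Matrix.charpoly_monic y).ne_zero)
    have := monic_multiset_prod_of_monic (normalizedFactors y.charpoly) id
      (fun h hh => hNFmon h hh)
    simpa using this
  have hlin : ∀ h ∈ normalizedFactors y.charpoly, ∃ e : F, h = X - C e ∧ e ^ 3 = 1 := by
    intro h hh
    have hirr := irreducible_of_normalized_factor h hh
    have hdvd := factor_dvd_of_pow_eq_one y 3 hy h hirr (dvd_of_mem_normalizedFactors hh)
    rw [hfact] at hdvd
    have hcase : ∃ e : F, e ^ 3 = 1 ∧ h ∣ X - C e := by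
      rcases (hirr.prime.dvd_mul).1 hdvd with h12 | h3'
      · rcases (hirr.prime.dvd_mul).1 h12 with h1 | h2
        · exact ⟨1, one_pow 3, h1⟩
        · exact ⟨ω, hω3, h2⟩
      · exact ⟨ω ^ 2, by rw [← pow_mul, mul_comm, pow_mul, hω3, one_pow], h3'⟩
    obtain ⟨e, he3, he⟩ := hcase
    exact ⟨e, eq_of_monic_of_associated (hNFmon h hh) (monic_X_sub_C e)
      (hirr.associated_of_dvd (irreducible_X_sub_C e) he), he3⟩
  have hcard : Multiset.card (normalizedFactors y.charpoly) = 3 := by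
    have h1 : ((normalizedFactors y.charpoly).map natDegree).sum = 3 := by
      rw [← natDegree_multiset_prod_of_monic _ hNFmon, hprod, Matrix.charpoly_natDegree_eq_dim,
        Fintype.card_fin]
    have h2 : (normalizedFactors y.charpoly).map natDegree =
        Multiset.replicate (Multiset.card (normalizedFactors y.charpoly)) 1 := by
      rw [Multiset.eq_replicate]
      refine ⟨by rw [Multiset.card_map], ?_⟩
      intro b hb
      obtain ⟨h, hh, rfl⟩ := Multiset.mem_map.1 hb
      obtain ⟨e, he, -⟩ := hlin h hh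
      rw [he]; exact natDegree_X_sub_C e
    rw [h2, Multiset.sum_replicate, smul_eq_mul, mul_one] at h1
    exact h1
  obtain ⟨h0, h1, h2, hM⟩ := Multiset.card_eq_three.1 hcard
  obtain ⟨e0, he0, he0'⟩ := hlin h0 (by rw [hM]; simp)
  obtain ⟨e1, he1, he1'⟩ := hlin h1 (by rw [hM]; simp)
  obtain ⟨e2, he2, he2'⟩ := hlin h2 (by rw [hM]; simp)
  refine ⟨![e0, e1, e2], ?_, ?_⟩
  · intro i
    fin_cases i
    · exact he0'
    · exact he1'
    · exact he2'
  · rw [← hprod, hM, Fin.prod_univ_three, he0, he1, he2]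
    simp [mul_assoc]


/-- (c): the exceptional case `n = 3`, `r = 3`, `3 ∥ q - 1`. -/
theorem exc_case {F : Type*} [Field F] [Fintype F] (p : ℕ) [Fact p.Prime] [CharP F p]
    (hp3 : p ≠ 3) (h3 : 3 ∣ Fintype.card F - 1) (h9 : ¬ 9 ∣ Fintype.card F - 1)
    (x : Matrix.ProjectiveSpecialLinearGroup (Fin 3) F) (hx : orderOf x = 3 * p) : False := by
  classical
  have hp : p.Prime := Fact.out
  obtain ⟨g, rfl⟩ := QuotientGroup.mk_surjective x
  have hcen : g ^ (3 * p) ∈ Subgroup.center (Matrix.SpecialLinearGroup (Fin 3) F) := by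
    rw [← QuotientGroup.eq_one_iff, QuotientGroup.mk_pow, ← hx, pow_orderOf_eq_one]
  rw [Matrix.SpecialLinearGroup.mem_center_iff] at hcen
  obtain ⟨c, hc3, hc⟩ := hcen
  rw [Fintype.card_fin] at hc3
  have hpw : ∀ j : ℕ, (g ^ j).1 = g.1 ^ j := fun j => Matrix.SpecialLinearGroup.coe_pow g j
  have hc' : g.1 ^ (3 * p) = Matrix.diagonal fun _ => c := by
    rw [← hpw, ← hc]; rfl
  obtain ⟨y, hy⟩ : ∃ y : Matrix (Fin 3) (Fin 3) F, y = g.1 ^ p := ⟨_, rfl⟩
  obtain ⟨u, hu⟩ : ∃ u : Matrix (Fin 3) (Fin 3) F, u = g.1 ^ 9 := ⟨_, rfl⟩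
  have hy3 : y ^ 3 = Matrix.diagonal fun _ => c := by
    rw [hy, ← pow_mul, mul_comm, hc']
  have hup : u ^ p = 1 := by
    have h1 : 9 * p = (3 * p) * 3 := by ring
    rw [hu, ← pow_mul, h1, pow_mul, hc', Matrix.diagonal_pow]
    have : ((fun _ => c : Fin 3 → F) ^ 3) = fun _ => 1 := by
      funext i
      rw [Pi.pow_apply, hc3]
    rw [this]
    exact Matrix.diagonal_one
  have hu1 : u ≠ 1 := by
    intro h
    have h1 : g ^ 9 = 1 := Subtype.ext (by rw [hpw, ← hu, h]; rfl)
    have h2 : (QuotientGroup.mk g : Matrix.ProjectiveSpecialLinearGroup (Fin 3) F) ^ 9 = 1 := by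
      rw [← QuotientGroup.mk_pow, h1]; rfl
    have h3' := orderOf_dvd_of_pow_eq_one h2
    rw [hx] at h3'
    have h4 : p ∣ 3 := (Nat.mul_dvd_mul_iff_left (by norm_num : 0 < 3)).1 h3'
    exact hp3 ((Nat.prime_dvd_prime_iff_eq hp Nat.prime_three).1 h4)
  have hyu : y * u = u * y := by rw [hy, hu, ← pow_add, ← pow_add, add_comm]
  have hdety : y.det = 1 := by rw [hy, Matrix.det_pow, g.2, one_pow]
  have hyns : ∀ d : F, y ≠ Matrix.diagonal fun _ => d := by
    intro d hd
    have hmem : g ^ p ∈ Subgroup.center (Matrix.SpecialLinearGroup (Fin 3) F) := by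
      rw [Matrix.SpecialLinearGroup.mem_center_iff]
      refine ⟨d, ?_, ?_⟩
      · have h1 := hdety
        rw [hd, Matrix.det_diagonal, Finset.prod_const, Finset.card_univ] at h1
        exact h1
      · rw [hpw, ← hy, hd]; rfl
    have h2 : (QuotientGroup.mk g : Matrix.ProjectiveSpecialLinearGroup (Fin 3) F) ^ p = 1 := by
      rw [← QuotientGroup.mk_pow]; exact (QuotientGroup.eq_one_iff _).2 hmem
    have h3' := Nat.le_of_dvd hp.pos (hx ▸ orderOf_dvd_of_pow_eq_one h2)
    have := hp.pos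
    omega
  -- an eigenvector of `y`
  obtain ⟨w, hw0, lam, hlam⟩ : ∃ w : Fin 3 → F, w ≠ 0 ∧ ∃ lam : F, y *ᵥ w = lam • w := by
    have hK1 := fix_pos p u hup ⊤ (fun w _ => Submodule.mem_top)
      (by rw [finrank_top, Module.finrank_fin_fun]; norm_num)
    rw [top_inf_eq] at hK1
    have hK2 := fx_lt 3 u hu1
    have hrank : Module.finrank F ↥(LinearMap.range (Matrix.toLin' u - 1)) +
        Module.finrank F (fx u) = 3 := by
      unfold fx
      rw [LinearMap.finrank_range_add_finrank_ker, Module.finrank_fin_fun]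
    obtain ⟨L, hL1, hLinv⟩ : ∃ L : Submodule F (Fin 3 → F), Module.finrank F L = 1 ∧
        ∀ w ∈ L, y *ᵥ w ∈ L := by
      by_cases hK : Module.finrank F (fx u) = 1
      · exact ⟨fx u, hK, fx_inv u y hyu.symm⟩
      · refine ⟨LinearMap.range (Matrix.toLin' u - 1), by omega, ?_⟩
        intro w hw
        obtain ⟨v, rfl⟩ := LinearMap.mem_range.1 hw
        refine LinearMap.mem_range.2 ⟨y *ᵥ v, ?_⟩
        simp only [LinearMap.sub_apply, Matrix.toLin'_apply, Module.End.one_apply]
        rw [Matrix.mulVec_sub, Matrix.mulVec_mulVec, Matrix.mulVec_mulVec, hyu]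
    obtain ⟨v, hv0, hv⟩ := finrank_eq_one_iff'.1 hL1
    obtain ⟨lam, hlam⟩ := hv ⟨y *ᵥ v.1, hLinv v.1 v.2⟩
    refine ⟨v.1, fun h => hv0 (Subtype.ext h), lam, ?_⟩
    exact (congrArg Subtype.val hlam).symm
  have hlam3 : lam ^ 3 = c := by
    have hpowv : ∀ j : ℕ, (y ^ j) *ᵥ w = lam ^ j • w := by
      intro j
      induction j with
      | zero => simp
      | succ j ih =>
        rw [pow_succ, ← Matrix.mulVec_mulVec, hlam, Matrix.mulVec_smul, ih, smul_smul, pow_succ,
          mul_comm]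
    have h1 := hpowv 3
    rw [hy3] at h1
    have h2 : (Matrix.diagonal fun _ => c) *ᵥ w = c • w := by
      funext i
      rw [Matrix.mulVec_diagonal]
      rfl
    rw [h2] at h1
    obtain ⟨i, hi⟩ := Function.ne_iff.1 hw0
    have h3' := congrFun h1 i
    simp only [Pi.smul_apply, smul_eq_mul] at h3'
    exact (mul_right_cancel₀ hi h3').symm
  have hlam0 : lam ≠ 0 := by
    rintro rfl
    rw [zero_pow (by norm_num)] at hlam3
    rw [← hlam3, zero_pow (by norm_num)] at hc3
    exact zero_ne_one hc3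
  have hc1 : c = 1 := by
    have h9' : lam ^ 9 = 1 := by
      have : (9 : ℕ) = 3 * 3 := by norm_num
      rw [this, pow_mul, hlam3, hc3]
    have hq : lam ^ (Fintype.card F - 1) = 1 := FiniteField.pow_card_sub_one_eq_one lam hlam0
    have hdvd : orderOf lam ∣ Nat.gcd 9 (Fintype.card F - 1) :=
      Nat.dvd_gcd (orderOf_dvd_of_pow_eq_one h9') (orderOf_dvd_of_pow_eq_one hq)
    have hg : Nat.gcd 9 (Fintype.card F - 1) = 3 := by
      obtain ⟨e, he⟩ : ∃ e : ℕ, e = Nat.gcd 9 (Fintype.card F - 1) := ⟨_, rfl⟩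
      have h1 : e ∣ 9 := he ▸ Nat.gcd_dvd_left _ _
      have h2 : 3 ∣ e := he ▸ Nat.dvd_gcd (by norm_num) h3
      have h4 : e ≠ 9 := fun h => h9 (h ▸ (he ▸ Nat.gcd_dvd_right _ _))
      have h5 : e ≤ 9 := Nat.le_of_dvd (by norm_num) h1
      rw [← he]
      interval_cases e <;> omega
    rw [hg] at hdvd
    rw [← hlam3]
    exact orderOf_dvd_iff_pow_eq_one.1 hdvd
  have hy3' : y ^ 3 = 1 := by rw [hy3, hc1]; exact Matrix.diagonal_one
  have h3F : ((3 : ℕ) : F) ≠ 0 :=
    cast_ne_zero_of_coprime p 3 ((Nat.coprime_primes Nat.prime_three hp).2 (Ne.symm hp3))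
  obtain ⟨d, hd3, hdchar⟩ := lin_factors h3 y hy3'
  obtain ⟨D, hD⟩ : ∃ D : Matrix (Fin 3) (Fin 3) F, D = Matrix.diagonal d := ⟨_, rfl⟩
  have hD3 : D ^ 3 = 1 := by
    rw [hD, Matrix.diagonal_pow]
    have : d ^ 3 = fun _ => 1 := by
      funext i
      rw [Pi.pow_apply, hd3]
    rw [this]
    exact Matrix.diagonal_one
  obtain ⟨cu, hcu⟩ := Cfsg.Agent.Lib.helper4.SympSS.mat_isConj_of_charpoly y D 3 h3F hy3' hD3
    (by rw [hdchar, hD, Matrix.charpoly_diagonal])
  have hcu' : (cu : Matrix (Fin 3) (Fin 3) F) * y = D * cu := hcu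
  have hci : ((cu⁻¹ : (Matrix (Fin 3) (Fin 3) F)ˣ) : Matrix (Fin 3) (Fin 3) F) *
      (cu : Matrix (Fin 3) (Fin 3) F) = 1 := Units.inv_mul cu
  have hci' : (cu : Matrix (Fin 3) (Fin 3) F) *
      ((cu⁻¹ : (Matrix (Fin 3) (Fin 3) F)ˣ) : Matrix (Fin 3) (Fin 3) F) = 1 := Units.mul_inv cu
  obtain ⟨ci, hcidef⟩ : ∃ ci : Matrix (Fin 3) (Fin 3) F,
      ci = ((cu⁻¹ : (Matrix (Fin 3) (Fin 3) F)ˣ) : Matrix (Fin 3) (Fin 3) F) := ⟨_, rfl⟩
  obtain ⟨cm, hcmdef⟩ : ∃ cm : Matrix (Fin 3) (Fin 3) F,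
      cm = (cu : Matrix (Fin 3) (Fin 3) F) := ⟨_, rfl⟩
  rw [← hcidef, ← hcmdef] at hci hci'
  rw [← hcmdef] at hcu'
  obtain ⟨U, hU⟩ : ∃ U : Matrix (Fin 3) (Fin 3) F, U = cm * u * ci := ⟨_, rfl⟩
  have hUD : U * D = D * U := by
    have h1 : ci * D = y * ci := by
      calc ci * D = ci * (D * cm) * ci := by
            rw [Matrix.mul_assoc, Matrix.mul_assoc, hci', Matrix.mul_one]
        _ = ci * (cm * y) * ci := by rw [hcu']
        _ = y * ci := by rw [← Matrix.mul_assoc, hci, Matrix.one_mul]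
    rw [hU]
    calc cm * u * ci * D = cm * u * (ci * D) := by rw [Matrix.mul_assoc]
      _ = cm * (u * y) * ci := by rw [h1]; simp only [Matrix.mul_assoc]
      _ = cm * (y * u) * ci := by rw [hyu]
      _ = (cm * y) * u * ci := by simp only [Matrix.mul_assoc]
      _ = D * (cm * u * ci) := by rw [hcu']; simp only [Matrix.mul_assoc]
  have hpowU : ∀ j : ℕ, U ^ j = cm * u ^ j * ci := by
    intro j
    induction j with
    | zero => rw [pow_zero, pow_zero, Matrix.mul_one, hci']
    | succ j ih =>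
      rw [pow_succ, ih, hU, pow_succ]
      calc cm * u ^ j * ci * (cm * u * ci) = cm * u ^ j * (ci * cm) * u * ci := by
            simp only [Matrix.mul_assoc]
        _ = cm * (u ^ j * u) * ci := by rw [hci, Matrix.mul_one]; simp only [Matrix.mul_assoc]
  have hUp : U ^ p = 1 := by rw [hpowU, hup, Matrix.mul_one, hci']
  have hU1 : U ≠ 1 := by
    intro h
    apply hu1
    calc u = ci * (cm * u * ci) * cm := by
          simp only [Matrix.mul_assoc]
          rw [hci, Matrix.mul_one, ← Matrix.mul_assoc, hci, Matrix.one_mul]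
      _ = 1 := by rw [← hU, h, Matrix.mul_one, hci]
  have hent : ∀ i j, U i j * (d j - d i) = 0 := by
    intro i j
    have h1 := congrFun (congrFun hUD i) j
    rw [hD, Matrix.mul_diagonal, Matrix.diagonal_mul] at h1
    linear_combination h1
  by_cases hinj : Function.Injective d
  · have hUdiag : U = Matrix.diagonal (fun i => U i i) := by
      ext i j
      by_cases hij : i = j
      · subst hij; rw [Matrix.diagonal_apply_eq]
      · rw [Matrix.diagonal_apply_ne _ hij]
        rcases mul_eq_zero.1 (hent i j) with h | h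
        · exact h
        · exact absurd (hinj (sub_eq_zero.1 h)).symm hij
    apply hU1
    rw [hUdiag] at hUp
    rw [Matrix.diagonal_pow] at hUp
    have hone : ∀ i, U i i = 1 := by
      intro i
      have h1 := congrFun (congrFun hUp i) i
      rw [Matrix.diagonal_apply_eq, Matrix.one_apply_eq, Pi.pow_apply] at h1
      have h2 : (U i i - 1) ^ p = 0 := by
        rw [sub_pow_char, one_pow, h1, sub_self]
      exact sub_eq_zero.1 (pow_eq_zero_iff hp.pos.ne' |>.1 h2)
    rw [hUdiag]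
    have : (fun i => U i i) = fun _ => (1 : F) := funext hone
    rw [this]
    exact Matrix.diagonal_one
  · have hdet : d 0 * d 1 * d 2 = 1 := by
      have h1 := congrArg Matrix.det hcu'
      rw [Matrix.det_mul, Matrix.det_mul, hdety, mul_one] at h1
      have hcu0 : cm.det ≠ 0 := by
        have := congrArg Matrix.det hci'
        rw [Matrix.det_mul, Matrix.det_one] at this
        exact left_ne_zero_of_mul_eq_one this
      have h2 : D.det = 1 := by
        have h3' : cm.det * D.det = cm.det * 1 := by rw [mul_one, mul_comm]; exact h1.symm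
        exact mul_left_cancel₀ hcu0 h3'
      rw [hD, Matrix.det_diagonal, Fin.prod_univ_three] at h2
      exact h2
    have h0 := hd3 0
    have h1 := hd3 1
    have h2 := hd3 2
    have hcases : d 0 = d 1 ∨ d 0 = d 2 ∨ d 1 = d 2 := by
      by_contra hcon
      push Not at hcon
      obtain ⟨n01, n02, n12⟩ := hcon
      apply hinj
      intro a b hab
      fin_cases a <;> fin_cases b <;> simp_all
    have hall : d 1 = d 0 ∧ d 2 = d 0 := by
      rcases hcases with h | h | h
      · refine ⟨h.symm, ?_⟩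
        rw [← h] at hdet
        linear_combination (-d 2) * h0 + (d 0) * hdet
      · refine ⟨?_, h.symm⟩
        rw [← h] at hdet
        linear_combination (-d 1) * h0 + (d 0) * hdet
      · rw [← h] at hdet
        have h10 : d 1 = d 0 := by
          linear_combination (d 0) * h1 - (d 1) * hdet
        exact ⟨h10, h.symm.trans h10⟩
    have hDs : D = Matrix.diagonal fun _ => d 0 := by
      rw [hD]
      congr 1
      funext i
      fin_cases i
      · rfl
      · exact hall.1
      · exact hall.2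
    apply hyns (d 0)
    calc y = ci * (cm * y) := by rw [← Matrix.mul_assoc, hci, Matrix.one_mul]
      _ = ci * (D * cm) := by rw [hcu']
      _ = Matrix.diagonal fun _ => d 0 := by
          rw [hDs, ← Matrix.smul_one_eq_diagonal, Matrix.smul_mul, Matrix.one_mul, Matrix.mul_smul,
            hci]


theorem main {F : Type*} [Field F] [Fintype F] (p : ℕ) [Fact p.Prime] [CharP F p] (n : ℕ) (hn : 2 ≤ n) (hsmall : n = 2 → 4 ≤ Fintype.card F)
    (r : ℕ) (hr : r.Prime) (hr2 : r ≠ 2) (hrp : r ≠ p) (hrG : r ∣ Nat.card (Matrix.ProjectiveSpecialLinearGroup (Fin n) F))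
    (k : ℕ) (hk : k = orderOf ((Fintype.card F : ℕ) : ZMod r)) :
    (r * p ∉ Set.range (orderOf : Matrix.ProjectiveSpecialLinearGroup (Fin n) F → ℕ)) ↔
      (n - 2 < k ∨ (n = 3 ∧ r = 3 ∧ 3 ∣ Fintype.card F - 1 ∧ ¬ 9 ∣ Fintype.card F - 1)) := by
  classical
  have hp : p.Prime := Fact.out
  have : Fact r.Prime := ⟨hr⟩
  have hk0 : 0 < k := by rw [hk]; exact k_pos p r hr hrp
  have hqpos : 1 ≤ Fintype.card F := Fintype.card_pos
  rcases Nat.lt_or_ge n 3 with hn3 | hn3
  · have hn2 : n = 2 := by omega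
    subst hn2
    have h4 := hsmall rfl
    have hno : r * p ∉ Set.range
        (orderOf : Matrix.ProjectiveSpecialLinearGroup (Fin 2) F → ℕ) := by
      rw [Cfsg.Agent.S2475.result p h4]
      intro hmem
      have hpq := p_dvd_card (F := F) p
      have hp1 : ¬ p ∣ 1 := fun h => hp.one_lt.ne' (Nat.dvd_one.1 h)
      rcases hmem with h | h | h
      · have h5 := Nat.le_of_dvd hp.pos h
        have h6 := hr.two_le
        have h7 := hp.pos
        nlinarith
      · have h1 : p ∣ Fintype.card F - 1 :=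
          (Dvd.intro_left r rfl).trans (h.trans (Nat.div_dvd_of_dvd (Nat.gcd_dvd_right _ _)))
        apply hp1
        have h5 := Nat.dvd_sub hpq h1
        rwa [Nat.sub_sub_self hqpos] at h5
      · have hgd : Nat.gcd 2 (Fintype.card F - 1) ∣ Fintype.card F + 1 := by
          have h5 := Nat.dvd_add (Nat.gcd_dvd_right 2 (Fintype.card F - 1))
            (Nat.gcd_dvd_left 2 (Fintype.card F - 1))
          have h6 : Fintype.card F - 1 + 2 = Fintype.card F + 1 := by omega
          rwa [h6] at h5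
        have h1 : p ∣ Fintype.card F + 1 :=
          (Dvd.intro_left r rfl).trans (h.trans (Nat.div_dvd_of_dvd hgd))
        exact hp1 ((Nat.dvd_add_right hpq).1 h1)
    constructor
    · intro _
      left
      omega
    · intro _
      exact hno
  · constructor
    · intro hno
      by_contra hcon
      push Not at hcon
      obtain ⟨hkn, hexc⟩ := hcon
      apply hno
      rcases Nat.lt_or_ge k 2 with hk1 | hk2
      · have hk1' : k = 1 := by omega
        have hQ1 : ((Fintype.card F : ℕ) : ZMod r) = 1 := by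
          have h5 := pow_orderOf_eq_one ((Fintype.card F : ℕ) : ZMod r)
          rw [← hk, hk1', pow_one] at h5
          exact h5
        have hrq : r ∣ Fintype.card F - 1 := by
          rw [← ZMod.natCast_eq_zero_iff, Nat.cast_sub hqpos, hQ1]
          simp
        rcases Nat.lt_or_ge n 4 with hn4 | hn4
        · have hn3' : n = 3 := by omega
          subst hn3'
          have hex : ∃ o : ℕ, o ∣ Fintype.card F - 1 ∧ o ∣ 3 * (r * p) ∧ ¬ o ∣ 3 * p := by
            by_cases hr3 : r = 3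
            · subst hr3
              have h9 := hexc rfl rfl hrq
              refine ⟨9, h9, ⟨p, by ring⟩, ?_⟩
              intro h
              have h5 : 3 ∣ p :=
                (Nat.mul_dvd_mul_iff_left (by norm_num : 0 < 3)).1 (show 3 * 3 ∣ 3 * p from h)
              exact hrp ((Nat.prime_dvd_prime_iff_eq Nat.prime_three hp).1 h5)
            · refine ⟨r, hrq, ⟨3 * p, by ring⟩, ?_⟩
              intro h
              rcases (Nat.Prime.dvd_mul hr).1 h with h' | h'
              · exact hr3 ((Nat.prime_dvd_prime_iff_eq hr Nat.prime_three).1 h')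
              · exact hrp ((Nat.prime_dvd_prime_iff_eq hr hp).1 h')
          obtain ⟨o, ho1, ho2, ho3⟩ := hex
          obtain ⟨z, hz⟩ : ∃ z : Fˣ, orderOf z = o := by
            obtain ⟨gen, hgen⟩ := IsCyclic.exists_generator (α := Fˣ)
            have hord : orderOf gen = Fintype.card F - 1 := by
              rw [orderOf_eq_card_of_forall_mem_zpowers hgen, Nat.card_units,
                Nat.card_eq_fintype_card]
            have hq2 := Fintype.one_lt_card (α := F)
            exact ⟨gen ^ (orderOf gen / o),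
              orderOf_pow_orderOf_div (by rw [hord]; omega) (hord ▸ ho1)⟩
          obtain ⟨x, hx⟩ := psl3_elt p r hr hrp (z : F) z.ne_zero
            (by
              rw [← Units.val_pow_eq_pow_val, orderOf_dvd_iff_pow_eq_one.1 (hz ▸ ho2)]
              rfl)
            (by
              intro h
              apply ho3
              rw [← hz]
              apply orderOf_dvd_of_pow_eq_one
              exact Units.ext (by rw [Units.val_pow_eq_pow_val]; exact h))
          exact ⟨x, hx⟩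
        · obtain ⟨A, hA, hA1⟩ := exists_mat_order p r hr hrp k hk hk0
          obtain ⟨x, hx⟩ := exists_with_J p (κ := Fin k ⊕ Fin k) n r hr hrp
            (by rw [Fintype.card_sum, Fintype.card_fin]; omega)
            (Matrix.fromBlocks A 0 0 (A ^ (r - 1)))
            (by
              rw [Matrix.fromBlocks_diagonal_pow, hA, ← pow_mul, mul_comm, pow_mul, hA, one_pow,
                Matrix.fromBlocks_one])
            (by
              rw [← Matrix.fromBlocks_one]
              intro h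
              rw [Matrix.fromBlocks_inj] at h
              exact hA1 h.1)
            (by
              rw [Matrix.det_fromBlocks_zero₂₁, ← Matrix.det_mul, ← pow_succ',
                Nat.sub_add_cancel hr.pos, hA, Matrix.det_one])
          exact ⟨x, hx⟩
      · obtain ⟨A, hA, hA1⟩ := exists_mat_order p r hr hrp k hk hk0
        have hdet : A.det = 1 := by
          have h1 : A.det ^ r = 1 := by rw [← Matrix.det_pow, hA, Matrix.det_one]
          have h0 : A.det ≠ 0 := by
            intro h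
            rw [h, zero_pow hr.pos.ne'] at h1
            exact zero_ne_one h1
          have h2 : A.det ^ (Fintype.card F - 1) = 1 := FiniteField.pow_card_sub_one_eq_one _ h0
          have hcop : r.Coprime (Fintype.card F - 1) := by
            rw [Nat.Prime.coprime_iff_not_dvd hr]
            intro hd
            have h3 := (ZMod.natCast_eq_zero_iff _ _).2 hd
            rw [Nat.cast_sub hqpos, Nat.cast_one, sub_eq_zero] at h3
            rw [h3, orderOf_one] at hk
            omega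
          exact pow_coprime_one _ _ _ hcop h1 h2
        obtain ⟨x, hx⟩ := exists_with_J p (κ := Fin k) n r hr hrp
          (by rw [Fintype.card_fin]; omega) A hA hA1 hdet
        exact ⟨x, hx⟩
    · rintro (hkn | ⟨hn3', hr3, h3, h9⟩) ⟨x, hx⟩
      · obtain ⟨g, hg⟩ := lift_order (Subgroup.center (Matrix.SpecialLinearGroup (Fin n) F)) x
          (r * p) hx
        have hpw : ∀ j : ℕ, (g ^ j).1 = g.1 ^ j := fun j => Matrix.SpecialLinearGroup.coe_pow g j
        have hne : ∀ j : ℕ, 0 < j → j < r * p → g.1 ^ j ≠ 1 := by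
          intro j hj0 hj hh
          have h1 : g ^ j = 1 := Subtype.ext (by rw [hpw]; exact hh)
          have h2 := Nat.le_of_dvd hj0 (hg ▸ orderOf_dvd_of_pow_eq_one h1)
          omega
        have h1 : g.1 ^ (r * p) = 1 := by
          have h1 : g ^ (r * p) = 1 := by rw [← hg, pow_orderOf_eq_one]
          rw [← hpw, h1]; rfl
        have hr1 := hr.two_le
        have hp1 := hp.two_le
        exact no_elt_big p n r hn3 hr hrp k hk hkn g.1 h1 (hne r hr.pos (by nlinarith))
          (hne p hp.pos (by nlinarith))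
      · subst hn3'
        subst hr3
        exact exc_case p (Ne.symm hrp) h3 h9 x hx



/-- Adjacency of an odd prime and the characteristic in the prime graph of PSL(n,q): let F be a finite field of characteristic p with q elements, n ≥ 2 with PSL(n,F) simple, and let r ≠ p be an odd prime dividing the order of PSL(n,F), with k the multiplicative order of q modulo r. Then PSL(n,F) has NO element of order r·p if and only if either k > n − 2, or n = 3, r = 3 and 3 divides q − 1 exactly once. -/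
theorem result {F : Type*} [Field F] [Fintype F] (p : ℕ) [Fact p.Prime] [CharP F p] (n : ℕ) (hn : 2 ≤ n) (hsmall : n = 2 → 4 ≤ Fintype.card F)
    (r : ℕ) (hr : r.Prime) (hr2 : r ≠ 2) (hrp : r ≠ p) (hrG : r ∣ Nat.card (Matrix.ProjectiveSpecialLinearGroup (Fin n) F))
    (k : ℕ) (hk : k = orderOf ((Fintype.card F : ℕ) : ZMod r)) :
    (r * p ∉ Set.range (orderOf : Matrix.ProjectiveSpecialLinearGroup (Fin n) F → ℕ)) ↔
      (n - 2 < k ∨ (n = 3 ∧ r = 3 ∧ 3 ∣ Fintype.card F - 1 ∧ ¬ 9 ∣ Fintype.card F - 1)) := by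
  exact main p n hn hsmall r hr hr2 hrp hrG k hk

end Cfsg.Agent.S2470
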