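import Cfsg.Statements.S2476
-- import your own Cfsg.Agent.* helpers here
import Mathlib
import Cfsg.Agent.S2470

set_option autoImplicit false
open Cfsg

namespace Cfsg.Agent.S2476


section
open Polynomial



theorem arith (q : ℕ) (hq : 2 ≤ q) :
    Nat.gcd 3 (q - 1) * ((q - 1) / Nat.gcd 3 (q - 1)) = q - 1 ∧
    Nat.gcd 3 (q - 1) * ((q ^ 2 + q + 1) / Nat.gcd 3 (q - 1)) = q ^ 2 + q + 1 ∧
    (q ^ 2 - 1) / Nat.gcd 3 (q - 1) = (q + 1) * ((q - 1) / Nat.gcd 3 (q - 1)) ∧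
    (q - 1) ∣ 3 * ((q - 1) / Nat.gcd 3 (q - 1)) ∧
    (q - 1) ∣ (q + 2) * ((q - 1) / Nat.gcd 3 (q - 1)) ∧
    (∀ j, (q ^ 2 + q + 1) ∣ (q - 1) * j → (q ^ 2 + q + 1) / Nat.gcd 3 (q - 1) ∣ j) ∧
    (∀ j, (q ^ 2 - 1) ∣ (q + 2) * j → (q + 1) * ((q - 1) / Nat.gcd 3 (q - 1)) ∣ j) ∧
    (∀ j, (q - 1) ∣ 3 * j → (q - 1) / Nat.gcd 3 (q - 1) ∣ j) := by
  obtain ⟨k, rfl⟩ : ∃ k, q = k + 2 := ⟨q - 2, by omega⟩
  have hk1 : k + 2 - 1 = k + 1 := rfl
  rw [hk1]
  obtain ⟨d, hd⟩ : ∃ d, d = Nat.gcd 3 (k + 1) := ⟨_, rfl⟩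
  rw [← hd]
  have hd1 : d ∣ 3 := hd ▸ Nat.gcd_dvd_left 3 (k + 1)
  have hd2 : d ∣ k + 1 := hd ▸ Nat.gcd_dvd_right 3 (k + 1)
  have hdpos : 0 < d := Nat.pos_of_dvd_of_pos hd1 (by norm_num)
  obtain ⟨e, he⟩ : ∃ e, e = (k + 1) / d := ⟨_, rfl⟩
  rw [← he]
  have hde : d * e = k + 1 := by rw [he]; exact Nat.mul_div_cancel' hd2
  have hN : (k + 2) ^ 2 + (k + 2) + 1 = (k + 1) * (k + 4) + 3 := by ring
  have hdN : d ∣ (k + 2) ^ 2 + (k + 2) + 1 := by
    rw [hN]; exact dvd_add (dvd_mul_of_dvd_left hd2 _) hd1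
  have hB : (k + 2) ^ 2 - 1 = (k + 1) * (k + 3) := by
    have : (k + 2) ^ 2 = (k + 1) * (k + 3) + 1 := by ring
    omega
  have hB' : (k + 2) ^ 2 - 1 = d * ((k + 2 + 1) * e) := by
    rw [hB, ← hde]; ring
  have h3e : k + 1 ∣ 3 * e := by
    obtain ⟨t, ht⟩ := hd1
    refine ⟨t, ?_⟩
    rw [← hde, ht]; ring
  have hgen : ∀ M j : ℕ, M ∣ 3 * j → M ∣ (k + 1) * j → M ∣ d * j := by
    intro M j h1 h2
    have := Nat.dvd_gcd h1 h2
    rwa [Nat.gcd_mul_right, ← hd] at this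
  refine ⟨hde, Nat.mul_div_cancel' hdN, Nat.div_eq_of_eq_mul_right hdpos hB', h3e, ?_, ?_, ?_, ?_⟩
  · have : (k + 2 + 2) * e = (k + 1) * e + 3 * e := by ring
    rw [this]
    exact dvd_add (dvd_mul_right _ _) h3e
  · intro j hj
    have h1 : (k + 2) ^ 2 + (k + 2) + 1 ∣ 3 * j := by
      have h2 : ((k + 2) ^ 2 + (k + 2) + 1) * j = (k + 1) * j * (k + 4) + 3 * j := by
        rw [hN]; ring
      exact (Nat.dvd_add_right (dvd_mul_of_dvd_left hj _)).1 (h2 ▸ dvd_mul_right _ _)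
    have h3 := hgen _ _ h1 hj
    obtain ⟨A, hA⟩ := hdN
    rw [hA, Nat.mul_div_cancel_left _ hdpos]
    rw [hA] at h3
    exact Nat.dvd_of_mul_dvd_mul_left hdpos h3
  · intro j hj
    have h1 : (k + 2) ^ 2 - 1 ∣ 3 * j := by
      have h2 : ((k + 2) ^ 2 - 1) * j = (k + 2 + 2) * j * k + 3 * j := by
        rw [hB]; ring
      exact (Nat.dvd_add_right (dvd_mul_of_dvd_left hj _)).1 (h2 ▸ dvd_mul_right _ _)
    have h4 : (k + 2) ^ 2 - 1 ∣ d * j := by
      have := Nat.dvd_gcd h1 hj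
      rw [Nat.gcd_mul_right] at this
      have h5 : Nat.gcd 3 (k + 2 + 2) = d := by
        rw [hd, show k + 2 + 2 = k + 1 + 3 by ring, Nat.gcd_add_self_right]
      rwa [h5] at this
    rw [hB'] at h4
    exact Nat.dvd_of_mul_dvd_mul_left hdpos h4
  · intro j hj
    have h3 := hgen _ _ hj (dvd_mul_right _ _)
    rw [← hde] at h3
    exact Nat.dvd_of_mul_dvd_mul_left hdpos h3

theorem root_pow {F : Type*} [Field F] [Fintype F] (P : F[X]) (hP : Irreducible P)
    (hm : P.Monic) :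
    (AdjoinRoot.root P) ^ ((Fintype.card F ^ P.natDegree - 1) / (Fintype.card F - 1)) =
      algebraMap F (AdjoinRoot P) ((-1) ^ P.natDegree * P.coeff 0) := by
  have : Fact (Irreducible P) := ⟨hP⟩
  have hP0 : P ≠ 0 := hP.ne_zero
  obtain ⟨pb, hpb⟩ : ∃ pb : PowerBasis F (AdjoinRoot P), pb = AdjoinRoot.powerBasis hP0 := ⟨_, rfl⟩
  have : Module.Finite F (AdjoinRoot P) := PowerBasis.finite pb
  have : Finite (AdjoinRoot P) := Module.finite_of_finite F
  have h1 := FiniteField.algebraMap_norm_eq_pow (K := F) (K' := AdjoinRoot P)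
    (x := AdjoinRoot.root P)
  have hcard : Nat.card (AdjoinRoot P) = Fintype.card F ^ P.natDegree := by
    rw [Module.natCard_eq_pow_finrank (K := F), PowerBasis.finrank pb, hpb,
      AdjoinRoot.powerBasis_dim, Nat.card_eq_fintype_card]
  have hnorm : Algebra.norm F (AdjoinRoot.root P) = (-1) ^ P.natDegree * P.coeff 0 := by
    have := Algebra.PowerBasis.norm_gen_eq_coeff_zero_minpoly pb
    rw [hpb, AdjoinRoot.powerBasis_gen, AdjoinRoot.powerBasis_dim, AdjoinRoot.minpoly_root hP0,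
      hm.leadingCoeff, inv_one, C_1, mul_one] at this
    exact this
  rw [← hnorm, h1, hcard, Nat.card_eq_fintype_card]

theorem aeval_root_iff {F : Type*} [Field F] (P f : F[X]) :
    aeval (AdjoinRoot.root P) f = 0 ↔ P ∣ f := by
  rw [AdjoinRoot.aeval_eq, AdjoinRoot.mk_eq_zero]

theorem in_base {F L : Type*} [Field F] [Fintype F] [Field L] [Algebra F L] (β : L)
    (hβ : β ^ (Fintype.card F) = β) : ∃ c : F, algebraMap F L c = β := by
  classical
  by_contra hcon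
  push Not at hcon
  have hq : 1 < Fintype.card F := Fintype.one_lt_card
  obtain ⟨f, hf⟩ : ∃ f : L[X], f = X ^ (Fintype.card F) - X := ⟨_, rfl⟩
  have hf0 : f ≠ 0 := hf ▸ FiniteField.X_pow_card_sub_X_ne_zero L hq
  have hdeg : f.natDegree = Fintype.card F := hf ▸ FiniteField.X_pow_card_sub_X_natDegree_eq L hq
  have hsub : insert β (Finset.image (algebraMap F L) Finset.univ) ⊆ f.roots.toFinset := by
    intro x hx
    rw [Multiset.mem_toFinset, mem_roots hf0, IsRoot.def, hf]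
    simp only [eval_sub, eval_pow, eval_X]
    rcases Finset.mem_insert.1 hx with rfl | hx
    · rw [hβ, sub_self]
    · obtain ⟨c, -, rfl⟩ := Finset.mem_image.1 hx
      rw [← map_pow, FiniteField.pow_card, sub_self]
  have h1 := Finset.card_le_card hsub
  rw [Finset.card_insert_of_notMem (by
      intro h; obtain ⟨c, -, hc⟩ := Finset.mem_image.1 h; exact hcon c hc),
    Finset.card_image_of_injective _ (algebraMap F L).injective, Finset.card_univ] at h1
  have h2 : f.roots.toFinset.card ≤ Fintype.card F :=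
    (Multiset.toFinset_card_le _).trans ((card_roots' f).trans hdeg.le)
  omega

theorem lin_dvd {F : Type*} [Field F] (u v : F) (M : ℕ) (h : u ^ M = v) :
    (X - C u : F[X]) ∣ X ^ M - C v := by
  rw [dvd_iff_isRoot, IsRoot.def]
  simp only [eval_sub, eval_pow, eval_X, eval_C]
  rw [h, sub_self]

theorem pow_eq_one_of_dvd {F : Type*} [Field F] [Fintype F] (u : F) (hu : u ≠ 0) (M : ℕ)
    (hM : Fintype.card F - 1 ∣ M) : u ^ M = 1 := by
  obtain ⟨t, rfl⟩ := hM
  rw [pow_mul, FiniteField.pow_card_sub_one_eq_one u hu, one_pow]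

theorem cubic_case {F : Type*} [Field F] [Fintype F] (χ : F[X]) (hm : χ.Monic)
    (hd : χ.natDegree = 3) (h0 : χ.coeff 0 = -1) (hirr : Irreducible χ) :
    ∃ c : F, χ ∣ X ^ ((Fintype.card F ^ 2 + Fintype.card F + 1) /
      Nat.gcd 3 (Fintype.card F - 1)) - C c := by
  have hq : 2 ≤ Fintype.card F := Fintype.one_lt_card
  obtain ⟨hde, hdA, -, -, -, -, -, -⟩ := arith (Fintype.card F) hq
  obtain ⟨q, hq'⟩ : ∃ q, q = Fintype.card F := ⟨_, rfl⟩
  rw [← hq'] at hde hdA hq ⊢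
  have h1 := root_pow χ hirr hm
  rw [hd, h0, ← hq'] at h1
  have h2 : (q ^ 3 - 1) / (q - 1) = q ^ 2 + q + 1 := by
    apply Nat.div_eq_of_eq_mul_right (by omega)
    obtain ⟨k, rfl⟩ : ∃ k, q = k + 1 := ⟨q - 1, by omega⟩
    have : (k + 1) ^ 3 = (k + 1 - 1) * ((k + 1) ^ 2 + (k + 1) + 1) + 1 := by
      rw [Nat.add_sub_cancel]; ring
    omega
  rw [h2] at h1
  have h3 : (AdjoinRoot.root χ) ^ (q ^ 2 + q + 1) = 1 := by
    rw [h1]
    norm_num
  obtain ⟨A, hA⟩ : ∃ A, A = (q ^ 2 + q + 1) / Nat.gcd 3 (q - 1) := ⟨_, rfl⟩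
  rw [← hA] at hdA ⊢
  obtain ⟨e, he⟩ : ∃ e, e = (q - 1) / Nat.gcd 3 (q - 1) := ⟨_, rfl⟩
  rw [← he] at hde
  have h4 : ((AdjoinRoot.root χ) ^ A) ^ q = (AdjoinRoot.root χ) ^ A := by
    have h5 : ((AdjoinRoot.root χ) ^ A) ^ (q - 1) = 1 := by
      rw [← hde, ← pow_mul, ← mul_assoc, mul_comm A, hdA, pow_mul, h3, one_pow]
    have h6 : q = (q - 1) + 1 := by omega
    rw [h6, pow_succ, h5, one_mul]
  rw [hq'] at h4
  have : Fact (Irreducible χ) := ⟨hirr⟩
  obtain ⟨c, hc⟩ := in_base (F := F) (L := AdjoinRoot χ) _ h4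
  refine ⟨c, ?_⟩
  rw [← aeval_root_iff]
  simp only [map_sub, map_pow, aeval_X, aeval_C]
  rw [hc, sub_self]

theorem quad_case {F : Type*} [Field F] [Fintype F] (a : F) (Q : F[X]) (hm : Q.Monic)
    (hd : Q.natDegree = 2) (h0 : a * Q.coeff 0 = 1) (hnr : ¬ ∃ b, Q.IsRoot b) :
    ∃ c : F, (X - C a) * Q ∣ X ^ ((Fintype.card F + 1) *
      ((Fintype.card F - 1) / Nat.gcd 3 (Fintype.card F - 1))) - C c := by
  have hq : 2 ≤ Fintype.card F := Fintype.one_lt_card
  have hirr : Irreducible Q := by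
    rw [hm.irreducible_iff_roots_eq_zero_of_degree_le_three (by omega) (by omega),
      Multiset.eq_zero_iff_forall_notMem]
    intro b hb
    exact hnr ⟨b, (mem_roots hm.ne_zero).1 hb⟩
  obtain ⟨-, -, -, -, h2e, -, -, -⟩ := arith (Fintype.card F) hq
  have h1 := root_pow Q hirr hm
  obtain ⟨q, hq'⟩ : ∃ q, q = Fintype.card F := ⟨_, rfl⟩
  rw [← hq'] at h2e hq h1 ⊢
  rw [hd] at h1
  have h2 : (q ^ 2 - 1) / (q - 1) = q + 1 := by
    apply Nat.div_eq_of_eq_mul_right (by omega)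
    obtain ⟨k, rfl⟩ : ∃ k, q = k + 1 := ⟨q - 1, by omega⟩
    have : (k + 1) ^ 2 = (k + 1 - 1) * (k + 1 + 1) + 1 := by
      rw [Nat.add_sub_cancel]; ring
    omega
  rw [h2] at h1
  obtain ⟨e, he⟩ : ∃ e, e = (q - 1) / Nat.gcd 3 (q - 1) := ⟨_, rfl⟩
  rw [← he] at h2e ⊢
  have ha0 : a ≠ 0 := by
    rintro rfl
    rw [zero_mul] at h0
    exact zero_ne_one h0
  have hcop : IsCoprime (X - C a) Q := by
    rw [(irreducible_X_sub_C a).coprime_iff_not_dvd, dvd_iff_isRoot]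
    exact fun h => hnr ⟨a, h⟩
  refine ⟨Q.coeff 0 ^ e, hcop.mul_dvd ?_ ?_⟩
  · apply lin_dvd
    have h3 : a ^ ((q + 2) * e) = 1 := pow_eq_one_of_dvd a ha0 _ (hq' ▸ h2e)
    have h4 : a ^ ((q + 1) * e) * a ^ e = 1 := by
      rw [← pow_add, ← h3]; congr 1; ring
    have h5 : Q.coeff 0 ^ e * a ^ e = 1 := by
      rw [← mul_pow, mul_comm, h0, one_pow]
    exact mul_right_cancel₀ (pow_ne_zero e ha0) (h4.trans h5.symm)
  · rw [← aeval_root_iff]
    simp only [map_sub, map_pow, aeval_X, aeval_C]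
    rw [pow_mul, h1]
    norm_num


theorem two_eq {F : Type*} [Field F] [Fintype F] (p : ℕ) [Fact p.Prime] [CharP F p] (u w : F)
    (huw : u ^ 2 * w = 1) :
    (∃ c : F, (X - C u) ^ 2 * (X - C w) ∣
      X ^ (p * ((Fintype.card F - 1) / Nat.gcd 3 (Fintype.card F - 1))) - C c) ∨
    (p = 2 ∧ ∃ c : F, (X - C u) ^ 2 * (X - C w) ∣ X ^ 4 - C c) := by
  have hp : p.Prime := Fact.out
  have hq : 2 ≤ Fintype.card F := Fintype.one_lt_card
  obtain ⟨-, -, -, h3e, -, -, -, -⟩ := arith (Fintype.card F) hq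
  obtain ⟨e, he⟩ : ∃ e, e = (Fintype.card F - 1) / Nat.gcd 3 (Fintype.card F - 1) := ⟨_, rfl⟩
  rw [← he] at h3e ⊢
  have hu0 : u ≠ 0 := by rintro rfl; simp at huw
  have hu3 : u ^ (3 * e) = 1 := pow_eq_one_of_dvd u hu0 _ h3e
  have hwe : w ^ e = u ^ e := by
    have h1 : w ^ e * (u ^ 2) ^ e = 1 := by rw [← mul_pow, mul_comm, huw, one_pow]
    have h2 : u ^ e * (u ^ 2) ^ e = 1 := by rw [← pow_mul, ← pow_add, ← hu3]; congr 1; ring
    exact mul_right_cancel₀ (pow_ne_zero e (pow_ne_zero 2 hu0)) (h1.trans h2.symm)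
  obtain ⟨f, hf⟩ : ∃ f : F[X], f = X ^ e - C (u ^ e) := ⟨_, rfl⟩
  have hfu : (X - C u) ∣ f := hf ▸ lin_dvd u _ e rfl
  have hfw : (X - C w) ∣ f := hf ▸ lin_dvd w _ e hwe
  have hfp : f ^ p = X ^ (p * e) - C ((u ^ e) ^ p) := by
    rw [hf, sub_pow_char, ← pow_mul, ← C_pow, mul_comm]
  by_cases huw' : w = u
  · by_cases hp2 : p = 2
    · right
      subst hp2
      refine ⟨rfl, u ^ 4, ?_⟩
      rw [huw', ← pow_succ]
      have h4 : (X - C u : F[X]) ^ 4 = X ^ 4 - C (u ^ 4) := by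
        have h1 := sub_pow_char_pow (p := 2) (X : F[X]) (C u) 2
        rw [← C_pow] at h1
        exact h1
      rw [← h4]
      exact pow_dvd_pow _ (by norm_num)
    · left
      refine ⟨(u ^ e) ^ p, ?_⟩
      rw [← hfp, huw', ← pow_succ]
      have h3 : 3 ≤ p := by have := hp.two_le; omega
      exact (pow_dvd_pow_of_dvd hfu 3).trans (pow_dvd_pow f h3)
  · left
    refine ⟨(u ^ e) ^ p, ?_⟩
    rw [← hfp]
    have hcop : IsCoprime ((X - C u : F[X]) ^ 2) (X - C w) :=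
      (isCoprime_X_sub_C_of_isUnit_sub (sub_ne_zero.2 (Ne.symm huw')).isUnit).pow_left
    exact hcop.mul_dvd ((pow_dvd_pow_of_dvd hfu 2).trans (pow_dvd_pow f hp.two_le))
      (hfw.trans (dvd_pow_self f hp.ne_zero))

theorem split_case {F : Type*} [Field F] [Fintype F] (p : ℕ) [Fact p.Prime] [CharP F p]
    (a b c : F) (habc : a * b * c = 1) :
    (∃ c' : F, (X - C a) * ((X - C b) * (X - C c)) ∣ X ^ (Fintype.card F - 1) - C c') ∨
    (∃ c' : F, (X - C a) * ((X - C b) * (X - C c)) ∣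
      X ^ (p * ((Fintype.card F - 1) / Nat.gcd 3 (Fintype.card F - 1))) - C c') ∨
    (p = 2 ∧ ∃ c' : F, (X - C a) * ((X - C b) * (X - C c)) ∣ X ^ 4 - C c') := by
  have ha0 : a ≠ 0 := by rintro rfl; simp at habc
  have hb0 : b ≠ 0 := by rintro rfl; simp at habc
  have hc0 : c ≠ 0 := by rintro rfl; simp at habc
  by_cases hab : a = b
  · right
    have h1 : (X - C a) * ((X - C b) * (X - C c)) = (X - C a) ^ 2 * (X - C c) := by
      rw [← hab]; ring
    rw [h1]
    exact two_eq p a c (by rw [← habc, ← hab]; ring)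
  by_cases hac : a = c
  · right
    have h1 : (X - C a) * ((X - C b) * (X - C c)) = (X - C a) ^ 2 * (X - C b) := by
      rw [← hac]; ring
    rw [h1]
    exact two_eq p a b (by rw [← habc, ← hac]; ring)
  by_cases hbc : b = c
  · right
    have h1 : (X - C a) * ((X - C b) * (X - C c)) = (X - C b) ^ 2 * (X - C a) := by
      rw [← hbc]; ring
    rw [h1]
    exact two_eq p b a (by rw [← habc, ← hbc]; ring)
  left
  refine ⟨1, ?_⟩
  have hl : ∀ u : F, u ≠ 0 → (X - C u : F[X]) ∣ X ^ (Fintype.card F - 1) - C 1 := fun u hu =>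
    lin_dvd u 1 _ (FiniteField.pow_card_sub_one_eq_one u hu)
  have hcop : ∀ u v : F, u ≠ v → IsCoprime (X - C u : F[X]) (X - C v) := fun u v huv =>
    isCoprime_X_sub_C_of_isUnit_sub (sub_ne_zero.2 huv).isUnit
  exact (IsCoprime.mul_right (hcop a b hab) (hcop a c hac)).mul_dvd (hl a ha0)
    ((hcop b c hbc).mul_dvd (hl b hb0) (hl c hc0))

theorem scalar_of_dvd {F : Type*} [Field F] (G : Matrix (Fin 3) (Fin 3) F) (M : ℕ) (c : F)
    (h : G.charpoly ∣ X ^ M - C c) : G ^ M = c • (1 : Matrix (Fin 3) (Fin 3) F) := by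
  obtain ⟨r, hr⟩ := h
  have h1 : aeval G (X ^ M - C c : F[X]) = 0 := by
    rw [hr, map_mul, Matrix.aeval_self_charpoly, zero_mul]
  simp only [map_sub, map_pow, aeval_X, aeval_C] at h1
  rw [sub_eq_zero.1 h1, Algebra.algebraMap_eq_smul_one]

theorem order_dvd_of_scalar {F : Type*} [Field F] (g : Matrix.SpecialLinearGroup (Fin 3) F)
    (M : ℕ) (c : F) (h : g.1 ^ M = c • (1 : Matrix (Fin 3) (Fin 3) F)) :
    orderOf (QuotientGroup.mk g : Matrix.ProjectiveSpecialLinearGroup (Fin 3) F) ∣ M := by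
  apply orderOf_dvd_of_pow_eq_one
  rw [← QuotientGroup.mk_pow]
  refine (QuotientGroup.eq_one_iff _).2 ?_
  rw [Matrix.SpecialLinearGroup.mem_center_iff]
  have hpow : (g ^ M).1 = g.1 ^ M := Matrix.SpecialLinearGroup.coe_pow g M
  refine ⟨c, ?_, ?_⟩
  · have h1 : (g.1 ^ M).det = 1 := by rw [Matrix.det_pow, g.2, one_pow]
    rw [h, Matrix.det_smul, Matrix.det_one, mul_one] at h1
    exact h1
  · rw [hpow, h, Matrix.smul_one_eq_diagonal]
    rfl

theorem sub_main {F : Type*} [Field F] [Fintype F] (p : ℕ) [Fact p.Prime] [CharP F p]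
    (g : Matrix.SpecialLinearGroup (Fin 3) F) :
    orderOf (QuotientGroup.mk g : Matrix.ProjectiveSpecialLinearGroup (Fin 3) F) ∣
        (Fintype.card F ^ 2 + Fintype.card F + 1) / Nat.gcd 3 (Fintype.card F - 1) ∨
    orderOf (QuotientGroup.mk g : Matrix.ProjectiveSpecialLinearGroup (Fin 3) F) ∣
        (Fintype.card F ^ 2 - 1) / Nat.gcd 3 (Fintype.card F - 1) ∨
    orderOf (QuotientGroup.mk g : Matrix.ProjectiveSpecialLinearGroup (Fin 3) F) ∣
        Fintype.card F - 1 ∨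
    orderOf (QuotientGroup.mk g : Matrix.ProjectiveSpecialLinearGroup (Fin 3) F) ∣
        p * (Fintype.card F - 1) / Nat.gcd 3 (Fintype.card F - 1) ∨
    (p = 2 ∧ orderOf (QuotientGroup.mk g : Matrix.ProjectiveSpecialLinearGroup (Fin 3) F) ∣ 4) := by
  have hq : 2 ≤ Fintype.card F := Fintype.one_lt_card
  obtain ⟨-, -, hB, -, -, -, -, -⟩ := arith (Fintype.card F) hq
  rw [hB, Nat.mul_div_assoc p (Nat.gcd_dvd_right 3 (Fintype.card F - 1))]
  obtain ⟨χ, hχ⟩ : ∃ χ, χ = g.1.charpoly := ⟨_, rfl⟩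
  have hχm : χ.Monic := hχ ▸ Matrix.charpoly_monic _
  have hχd : χ.natDegree = 3 := by rw [hχ, Matrix.charpoly_natDegree_eq_dim, Fintype.card_fin]
  have hχ0 : χ.coeff 0 = -1 := by
    have := Matrix.det_eq_sign_charpoly_coeff g.1
    rw [g.2, Fintype.card_fin, ← hχ] at this
    linear_combination this
  have key : ∀ (M : ℕ) (c : F), χ ∣ X ^ M - C c →
      orderOf (QuotientGroup.mk g : Matrix.ProjectiveSpecialLinearGroup (Fin 3) F) ∣ M :=
    fun M c h => order_dvd_of_scalar g M c (scalar_of_dvd g.1 M c (hχ ▸ h))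
  by_cases hr : ∃ a, χ.IsRoot a
  · obtain ⟨a, ha⟩ := hr
    have hfac : (X - C a) * (χ /ₘ (X - C a)) = χ := mul_divByMonic_eq_iff_isRoot.2 ha
    obtain ⟨Q, hQ⟩ : ∃ Q, Q = χ /ₘ (X - C a) := ⟨_, rfl⟩
    rw [← hQ] at hfac
    have hQm : Q.Monic := Monic.of_mul_monic_left (monic_X_sub_C a) (hfac ▸ hχm)
    have hQd : Q.natDegree = 2 := by
      have := congrArg natDegree hfac
      rw [Monic.natDegree_mul (monic_X_sub_C a) hQm, natDegree_X_sub_C, hχd] at this
      omega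
    have hQ0 : a * Q.coeff 0 = 1 := by
      have := congrArg (fun f => f.coeff 0) hfac
      simp only [mul_coeff_zero, coeff_sub, coeff_X_zero, coeff_C_zero, zero_sub] at this
      rw [hχ0] at this
      linear_combination -this
    by_cases hr2 : ∃ b, Q.IsRoot b
    · obtain ⟨b, hb⟩ := hr2
      have hfac2 : (X - C b) * (Q /ₘ (X - C b)) = Q := mul_divByMonic_eq_iff_isRoot.2 hb
      obtain ⟨Q2, hQ2⟩ : ∃ Q2, Q2 = Q /ₘ (X - C b) := ⟨_, rfl⟩
      rw [← hQ2] at hfac2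
      have hQ2m : Q2.Monic := Monic.of_mul_monic_left (monic_X_sub_C b) (hfac2 ▸ hQm)
      have hQ2d : Q2.natDegree = 1 := by
        have := congrArg natDegree hfac2
        rw [Monic.natDegree_mul (monic_X_sub_C b) hQ2m, natDegree_X_sub_C, hQd] at this
        omega
      obtain ⟨c, hc⟩ : ∃ c, c = - Q2.coeff 0 := ⟨_, rfl⟩
      have hQ2e : Q2 = X - C c := by
        rw [hc, C_neg, sub_neg_eq_add]
        exact hQ2m.eq_X_add_C hQ2d
      have hχe : χ = (X - C a) * ((X - C b) * (X - C c)) := by rw [← hQ2e, hfac2, hfac]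
      have habc : a * b * c = 1 := by
        have := congrArg (fun f => f.coeff 0) hfac2
        simp only [mul_coeff_zero, coeff_sub, coeff_X_zero, coeff_C_zero, zero_sub] at this
        rw [← hQ0, ← this, hc]
        ring
      rw [hχe] at key
      rcases split_case p a b c habc with ⟨c', h⟩ | ⟨c', h⟩ | ⟨h2, c', h⟩
      · right; right; left; exact key _ c' h
      · right; right; right; left; exact key _ c' h
      · right; right; right; right; exact ⟨h2, key _ c' h⟩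
    · obtain ⟨c, hc⟩ := quad_case a Q hQm hQd hQ0 hr2
      right; left
      rw [← hfac] at key
      exact key _ c hc
  · have hirr : Irreducible χ := by
      rw [hχm.irreducible_iff_roots_eq_zero_of_degree_le_three (by omega) (by omega),
        Multiset.eq_zero_iff_forall_notMem]
      intro b hb
      exact hr ⟨b, (mem_roots hχm.ne_zero).1 hb⟩
    obtain ⟨c, hc⟩ := cubic_case χ hχm hχd hχ0 hirr
    left
    exact key _ c hc


theorem psl_order {F : Type*} [Field F] {ι : Type} [Fintype ι] [DecidableEq ι] (e : ι ≃ Fin 3)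
    (h : Matrix ι ι F) (hdet : h.det = 1) (M : ℕ) (c0 : F)
    (h1 : h ^ M = Matrix.diagonal fun _ => c0)
    (h2 : ∀ (j : ℕ) (c : F), h ^ j = Matrix.diagonal (fun _ => c) → M ∣ j) :
    ∃ x : Matrix.ProjectiveSpecialLinearGroup (Fin 3) F, orderOf x = M := by
  obtain ⟨φ, hφ⟩ : ∃ φ : Matrix ι ι F ≃ₐ[F] Matrix (Fin 3) (Fin 3) F,
      φ = Matrix.reindexAlgEquiv F F e := ⟨_, rfl⟩
  have hdet' : (φ h).det = 1 := by rw [hφ, Matrix.det_reindexAlgEquiv, hdet]
  obtain ⟨g, hg⟩ : ∃ g : Matrix.SpecialLinearGroup (Fin 3) F, g.1 = φ h := ⟨⟨φ h, hdet'⟩, rfl⟩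
  have hgpow : ∀ j : ℕ, (g ^ j).1 = φ (h ^ j) := by
    intro j
    have : (g ^ j).1 = g.1 ^ j := Matrix.SpecialLinearGroup.coe_pow g j
    rw [this, hg, map_pow]
  have hcen : ∀ j : ℕ, g ^ j ∈ Subgroup.center (Matrix.SpecialLinearGroup (Fin 3) F) ↔
      ∃ c : F, h ^ j = Matrix.diagonal fun _ => c := by
    intro j
    rw [Matrix.SpecialLinearGroup.mem_center_iff]
    constructor
    · rintro ⟨c, -, hc⟩
      refine ⟨c, φ.injective ?_⟩
      rw [← hgpow, ← hc, hφ, Cfsg.Agent.S2470.scalar_reindex]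
      rfl
    · rintro ⟨c, hc⟩
      refine ⟨c, ?_, ?_⟩
      · have h3 : (h ^ j).det = 1 := by rw [Matrix.det_pow, hdet, one_pow]
        rw [hc, Matrix.det_diagonal, Finset.prod_const, Finset.card_univ,
          Fintype.card_congr e] at h3
        exact h3
      · rw [hgpow, hc, hφ, Cfsg.Agent.S2470.scalar_reindex]
        rfl
  refine ⟨QuotientGroup.mk g, Nat.dvd_antisymm ?_ ?_⟩
  · apply orderOf_dvd_of_pow_eq_one
    rw [← QuotientGroup.mk_pow]
    exact (QuotientGroup.eq_one_iff _).2 ((hcen M).2 ⟨c0, h1⟩)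
  · have h3 := pow_orderOf_eq_one
      (QuotientGroup.mk g : Matrix.ProjectiveSpecialLinearGroup (Fin 3) F)
    rw [← QuotientGroup.mk_pow] at h3
    obtain ⟨c, hc⟩ := (hcen _).1 ((QuotientGroup.eq_one_iff _).1 h3)
    exact h2 _ c hc

theorem gen_exists (K : Type*) [Field K] [Finite K] :
    ∃ a : K, a ≠ 0 ∧ ∀ j : ℕ, a ^ j = 1 ↔ (Nat.card K - 1) ∣ j := by
  classical
  have := Fintype.ofFinite K
  obtain ⟨x, hx⟩ := IsCyclic.exists_generator (α := Kˣ)
  have hord : orderOf x = Nat.card K - 1 := by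
    rw [orderOf_eq_card_of_forall_mem_zpowers hx, Nat.card_units]
  refine ⟨(x : K), x.ne_zero, fun j => ?_⟩
  rw [← hord, orderOf_dvd_iff_pow_eq_one, ← Units.val_pow_eq_pow_val, Units.val_eq_one]

theorem elt_q1 {F : Type*} [Field F] [Fintype F] :
    ∃ x : Matrix.ProjectiveSpecialLinearGroup (Fin 3) F, orderOf x = Fintype.card F - 1 := by
  obtain ⟨a, ha0, ha⟩ := gen_exists F
  rw [Nat.card_eq_fintype_card] at ha
  obtain ⟨v, hv⟩ : ∃ v : Fin 3 → F, v = ![a, a⁻¹, 1] := ⟨_, rfl⟩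
  have hpow : ∀ j : ℕ, (Matrix.diagonal v) ^ j = Matrix.diagonal (fun i => v i ^ j) := fun j => by
    rw [Matrix.diagonal_pow]; rfl
  refine psl_order (Equiv.refl _) (Matrix.diagonal v) ?_ _ 1 ?_ ?_
  · rw [Matrix.det_diagonal, Fin.prod_univ_three, hv]
    simp [ha0]
  · rw [hpow]
    congr 1
    funext i
    rw [hv]
    have h1 : a ^ (Fintype.card F - 1) = 1 := (ha _).2 dvd_rfl
    fin_cases i
    · exact h1
    · simp [inv_pow, h1]
    · simp
  · intro j c hc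
    rw [hpow] at hc
    have h3 := Matrix.diagonal_injective hc
    have h0 := congrFun h3 0
    have h2 := congrFun h3 2
    rw [hv] at h0 h2
    simp at h0 h2
    exact (ha j).1 (h0.trans h2.symm)

theorem elt_pe {F : Type*} [Field F] [Fintype F] (p : ℕ) [Fact p.Prime] [CharP F p] :
    ∃ x : Matrix.ProjectiveSpecialLinearGroup (Fin 3) F,
      orderOf x = p * ((Fintype.card F - 1) / Nat.gcd 3 (Fintype.card F - 1)) := by
  classical
  have hp : p.Prime := Fact.out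
  have hq : 2 ≤ Fintype.card F := Fintype.one_lt_card
  obtain ⟨hde, -, -, h3e, -, -, -, hE4⟩ := arith (Fintype.card F) hq
  obtain ⟨e, he⟩ : ∃ e, e = (Fintype.card F - 1) / Nat.gcd 3 (Fintype.card F - 1) := ⟨_, rfl⟩
  rw [← he] at hde h3e hE4 ⊢
  obtain ⟨a, ha0, ha⟩ := gen_exists F
  rw [Nat.card_eq_fintype_card] at ha
  obtain ⟨b, hb⟩ : ∃ b : F, b = (a ^ 2)⁻¹ := ⟨_, rfl⟩
  have hab : a ^ 2 * b = 1 := by rw [hb]; exact mul_inv_cancel₀ (pow_ne_zero 2 ha0)
  have hiff : ∀ j : ℕ, a ^ j = b ^ j ↔ a ^ (3 * j) = 1 := by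
    intro j
    have h1 : b ^ j * (a ^ 2) ^ j = 1 := by rw [← mul_pow, mul_comm, hab, one_pow]
    have h2 : a ^ j * (a ^ 2) ^ j = a ^ (3 * j) := by
      rw [← pow_mul, ← pow_add]; congr 1; ring
    constructor
    · intro h; rw [← h2, h, h1]
    · intro h
      rw [← h2] at h
      exact mul_right_cancel₀ (pow_ne_zero _ (pow_ne_zero _ ha0)) (h.trans h1.symm)
  obtain ⟨H, hH⟩ : ∃ H : Matrix (Fin 2 ⊕ Fin 1) (Fin 2 ⊕ Fin 1) F,
      H = Matrix.fromBlocks (a • Cfsg.Agent.S2470.J2 F) 0 0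
        (b • (1 : Matrix (Fin 1) (Fin 1) F)) := ⟨_, rfl⟩
  have hHpow : ∀ j : ℕ, H ^ j = Matrix.fromBlocks (a ^ j • !![1, (j : F); 0, 1]) 0 0
      (b ^ j • (1 : Matrix (Fin 1) (Fin 1) F)) := by
    intro j
    rw [hH, Matrix.fromBlocks_diagonal_pow, _root_.smul_pow, _root_.smul_pow,
      Cfsg.Agent.S2470.J2_pow, one_pow]
  have hdet : H.det = 1 := by
    rw [hH, Matrix.det_fromBlocks_zero₂₁, Matrix.det_smul,
      Matrix.det_smul, Cfsg.Agent.S2470.J2, Matrix.det_fin_two_of, Matrix.det_one,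
      Fintype.card_fin, Fintype.card_fin]
    linear_combination hab
  have hpq : p ∣ Fintype.card F := Cfsg.Agent.S2470.p_dvd_card p
  have hcop : Nat.Coprime p e := by
    have h1 : Nat.Coprime p (Fintype.card F - 1) := by
      rw [Nat.Prime.coprime_iff_not_dvd hp]
      intro h
      have h2 : p ∣ 1 := by
        have h3 : Fintype.card F = (Fintype.card F - 1) + 1 := by omega
        rw [h3] at hpq
        exact (Nat.dvd_add_right h).1 hpq
      exact hp.one_lt.ne' (Nat.dvd_one.1 h2)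
    exact Nat.Coprime.coprime_dvd_right ⟨_, hde.symm.trans (mul_comm _ _)⟩ h1
  refine psl_order finSumFinEquiv H hdet _ (a ^ (p * e)) ?_ ?_
  · have hcast : ((p * e : ℕ) : F) = 0 := by
      push_cast; rw [CharP.cast_eq_zero F p, zero_mul]
    have hbp : b ^ (p * e) = a ^ (p * e) := by
      refine ((hiff _).2 ?_).symm
      rw [ha]
      obtain ⟨t, ht⟩ := h3e
      exact ⟨p * t, by rw [show 3 * (p * e) = p * (3 * e) by ring, ht]; ring⟩
    rw [hHpow, hcast, hbp, ← Matrix.one_fin_two, Matrix.smul_one_eq_diagonal,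
        Matrix.smul_one_eq_diagonal, ← Cfsg.Agent.S2470.diag_sum]
  · intro j c hc
    rw [hHpow, Cfsg.Agent.S2470.diag_sum, Matrix.fromBlocks_inj] at hc
    obtain ⟨h8, -, -, h9⟩ := hc
    have h01 := congrFun (congrFun h8 0) 1
    have h00 := congrFun (congrFun h8 0) 0
    have h9' := congrFun (congrFun h9 0) 0
    rw [Matrix.smul_apply, Matrix.diagonal_apply_ne _ (by decide)] at h01
    rw [Matrix.smul_apply, Matrix.diagonal_apply_eq] at h00 h9'
    simp only [Matrix.of_apply, Matrix.cons_val', Matrix.cons_val_zero, Matrix.cons_val_one,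
      Matrix.cons_val_fin_one, smul_eq_mul, mul_one, Matrix.one_apply_eq] at h01 h00 h9'
    have hj0 : (j : F) = 0 := by
      rcases mul_eq_zero.1 h01 with h | h
      · exact absurd h (pow_ne_zero _ ha0)
      · exact h
    have hpj : p ∣ j := (CharP.cast_eq_zero_iff F p j).1 hj0
    have hej : e ∣ j := hE4 j ((ha _).1 ((hiff j).1 (h00.trans h9'.symm)))
    exact Nat.Coprime.mul_dvd_of_dvd_of_dvd hcop hpj hej

theorem elt_four {F : Type*} [Field F] [Fintype F] [CharP F 2] :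
    ∃ x : Matrix.ProjectiveSpecialLinearGroup (Fin 3) F, orderOf x = 4 := by
  have h2 : (2 : F) = 0 := by exact_mod_cast CharP.cast_eq_zero F 2
  obtain ⟨h, hh⟩ : ∃ h : Matrix (Fin 3) (Fin 3) F, h = !![1, 1, 0; 0, 1, 1; 0, 0, 1] :=
    ⟨_, rfl⟩
  have hsq : h ^ 2 = !![1, 0, 1; 0, 1, 0; 0, 0, 1] := by
    rw [pow_two, hh]
    ext i j
    fin_cases i <;> fin_cases j <;>
      simp [Matrix.mul_apply, Fin.sum_univ_three, one_add_one_eq_two, h2]
  have h4 : h ^ 4 = 1 := by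
    rw [show 4 = 2 * 2 from rfl, pow_mul, hsq, pow_two]
    ext i j
    fin_cases i <;> fin_cases j <;>
      simp [Matrix.mul_apply, Fin.sum_univ_three, one_add_one_eq_two, h2]
  have hdet : h.det = 1 := by
    rw [hh, Matrix.det_fin_three]
    simp
  have hv : (![1, 0, 0] : Fin 3 → F) ≠ 0 := by
    intro hcon
    have := congrFun hcon 0
    simp at this
  have hfix : Matrix.mulVec h ![1, 0, 0] = ![1, 0, 0] := by
    rw [hh]
    ext i
    fin_cases i <;> simp [Matrix.mulVec, dotProduct, Fin.sum_univ_three]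
  refine Cfsg.Agent.S2470.embed_fix 3 4 (by norm_num) (by simp) h hdet ![1, 0, 0] hv hfix h4 ?_
  intro p' hp' hd
  have hp2 : p' = 2 :=
    (Nat.prime_dvd_prime_iff_eq hp' Nat.prime_two).1
      (hp'.dvd_of_dvd_pow (show p' ∣ 2 ^ 2 from hd))
  rw [hp2, show 4 / 2 = 2 from rfl, hsq]
  intro hcon
  have := congrFun (congrFun hcon 0) 2
  simp at this

theorem elt_A_aux {F : Type*} [Field F] [Fintype F] (K' : Type*) [Field K'] [Algebra F K']
    [Finite K'] (hfr : Module.finrank F K' = 3) :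
    ∃ x : Matrix.ProjectiveSpecialLinearGroup (Fin 3) F,
      orderOf x = (Fintype.card F ^ 2 + Fintype.card F + 1) / Nat.gcd 3 (Fintype.card F - 1) := by
  classical
  have hq : 2 ≤ Fintype.card F := Fintype.one_lt_card
  obtain ⟨hde, hdA, -, -, -, hE1, -, -⟩ := arith (Fintype.card F) hq
  obtain ⟨q, hq'⟩ : ∃ q, q = Fintype.card F := ⟨_, rfl⟩
  rw [← hq'] at hde hdA hE1 hq ⊢
  obtain ⟨A, hA⟩ : ∃ A, A = (q ^ 2 + q + 1) / Nat.gcd 3 (q - 1) := ⟨_, rfl⟩
  obtain ⟨e, he⟩ : ∃ e, e = (q - 1) / Nat.gcd 3 (q - 1) := ⟨_, rfl⟩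
  rw [← hA] at hdA hE1 ⊢
  rw [← he] at hde
  have hcard : Nat.card K' = q ^ 3 := by
    rw [Module.natCard_eq_pow_finrank (K := F), hfr, Nat.card_eq_fintype_card, hq']
  obtain ⟨b⟩ : Nonempty (Module.Basis (Fin 3) F K') := ⟨Module.finBasisOfFinrankEq F K' hfr⟩
  obtain ⟨w, hw0, hw⟩ := gen_exists K'
  rw [hcard] at hw
  have hq3 : q ^ 3 - 1 = (q - 1) * (q ^ 2 + q + 1) := by
    obtain ⟨k, rfl⟩ : ∃ k, q = k + 1 := ⟨q - 1, by omega⟩
    have : (k + 1) ^ 3 = (k + 1 - 1) * ((k + 1) ^ 2 + (k + 1) + 1) + 1 := by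
      rw [Nat.add_sub_cancel]; ring
    omega
  have hnorm : ∀ x : K', algebraMap F K' (Algebra.norm F x) = x ^ (q ^ 2 + q + 1) := by
    intro x
    rw [FiniteField.algebraMap_norm_eq_pow, hcard, Nat.card_eq_fintype_card, ← hq', hq3,
      Nat.mul_div_cancel_left _ (by omega)]
  obtain ⟨z, hz⟩ : ∃ z : K', z = w ^ (q - 1) := ⟨_, rfl⟩
  obtain ⟨h, hh⟩ : ∃ h : Matrix (Fin 3) (Fin 3) F, h = Algebra.leftMulMatrix b z := ⟨_, rfl⟩
  have hpow : ∀ j, h ^ j = Algebra.leftMulMatrix b (z ^ j) := fun j => by rw [hh, map_pow]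
  have hsc : ∀ c : F, (Matrix.diagonal fun _ => c : Matrix (Fin 3) (Fin 3) F) =
      Algebra.leftMulMatrix b (algebraMap F K' c) := by
    intro c
    rw [AlgHom.commutes, Matrix.algebraMap_eq_diagonal]
    rfl
  have hdet : h.det = 1 := by
    rw [hh, ← Algebra.norm_eq_matrix_det b z]
    apply (algebraMap F K').injective
    rw [hnorm, map_one, hz, ← pow_mul, ← hq3]
    exact (hw _).2 dvd_rfl
  refine psl_order (Equiv.refl _) h hdet A ((Algebra.norm F w) ^ e) ?_ ?_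
  · rw [hpow, hsc]
    congr 1
    rw [map_pow (algebraMap F K'), hnorm, hz, ← pow_mul, ← pow_mul]
    congr 1
    rw [← hde, ← hdA]
    ring
  · intro j c hc
    rw [hpow, hsc] at hc
    have h3 := Algebra.leftMulMatrix_injective b hc
    have hc0 : c ≠ 0 := by
      rintro rfl
      rw [map_zero] at h3
      exact pow_ne_zero j (hz ▸ pow_ne_zero _ hw0) h3
    have h4 : (z ^ j) ^ (q - 1) = 1 := by
      rw [h3, ← map_pow, hq', FiniteField.pow_card_sub_one_eq_one c hc0, map_one]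
    rw [hz, ← pow_mul, ← pow_mul, hw, hq3] at h4
    apply hE1
    apply Nat.dvd_of_mul_dvd_mul_left (show 0 < q - 1 by omega)
    rwa [mul_comm j] at h4

theorem elt_B_aux {F : Type*} [Field F] [Fintype F] (K' : Type*) [Field K'] [Algebra F K']
    [Finite K'] (hfr : Module.finrank F K' = 2) :
    ∃ x : Matrix.ProjectiveSpecialLinearGroup (Fin 3) F,
      orderOf x = (Fintype.card F ^ 2 - 1) / Nat.gcd 3 (Fintype.card F - 1) := by
  classical
  have hq : 2 ≤ Fintype.card F := Fintype.one_lt_card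
  obtain ⟨hde, -, hB, -, h2e, -, hE2, -⟩ := arith (Fintype.card F) hq
  rw [hB]
  obtain ⟨q, hq'⟩ : ∃ q, q = Fintype.card F := ⟨_, rfl⟩
  rw [← hq'] at hde h2e hE2 hq ⊢
  obtain ⟨e, he⟩ : ∃ e, e = (q - 1) / Nat.gcd 3 (q - 1) := ⟨_, rfl⟩
  rw [← he] at hde h2e hE2 ⊢
  have hcard : Nat.card K' = q ^ 2 := by
    rw [Module.natCard_eq_pow_finrank (K := F), hfr, Nat.card_eq_fintype_card, hq']
  obtain ⟨b⟩ : Nonempty (Module.Basis (Fin 2) F K') := ⟨Module.finBasisOfFinrankEq F K' hfr⟩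
  obtain ⟨w, hw0, hw⟩ := gen_exists K'
  rw [hcard] at hw
  have hq2 : q ^ 2 - 1 = (q - 1) * (q + 1) := by
    obtain ⟨k, rfl⟩ : ∃ k, q = k + 1 := ⟨q - 1, by omega⟩
    have : (k + 1) ^ 2 = (k + 1 - 1) * (k + 1 + 1) + 1 := by
      rw [Nat.add_sub_cancel]; ring
    omega
  have hnorm : ∀ x : K', algebraMap F K' (Algebra.norm F x) = x ^ (q + 1) := by
    intro x
    rw [FiniteField.algebraMap_norm_eq_pow, hcard, Nat.card_eq_fintype_card, ← hq', hq2,
      Nat.mul_div_cancel_left _ (by omega)]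
  obtain ⟨ν, hν⟩ : ∃ ν : F, ν = Algebra.norm F w := ⟨_, rfl⟩
  have hν0 : ν ≠ 0 := by
    intro h0
    have := hnorm w
    rw [← hν, h0, map_zero] at this
    exact pow_ne_zero _ hw0 this.symm
  obtain ⟨H, hH⟩ : ∃ H : Matrix (Fin 2 ⊕ Fin 1) (Fin 2 ⊕ Fin 1) F,
      H = Matrix.fromBlocks (Algebra.leftMulMatrix b w) 0 0 (Matrix.diagonal fun _ => ν⁻¹) :=
    ⟨_, rfl⟩
  have hHpow : ∀ j : ℕ, H ^ j = Matrix.fromBlocks (Algebra.leftMulMatrix b (w ^ j)) 0 0
      (Matrix.diagonal fun _ => (ν⁻¹) ^ j) := by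
    intro j
    rw [hH, Matrix.fromBlocks_diagonal_pow, ← map_pow, Matrix.diagonal_pow]
    rfl
  have hsc : ∀ c : F, (Matrix.diagonal fun _ => c : Matrix (Fin 2) (Fin 2) F) =
      Algebra.leftMulMatrix b (algebraMap F K' c) := by
    intro c
    rw [AlgHom.commutes, Matrix.algebraMap_eq_diagonal]
    rfl
  have hdet : H.det = 1 := by
    rw [hH, Matrix.det_fromBlocks_zero₂₁, ← Algebra.norm_eq_matrix_det b w, ← hν,
      Matrix.det_diagonal, Finset.prod_const, Finset.card_univ, Fintype.card_fin, pow_one]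
    exact mul_inv_cancel₀ hν0
  refine psl_order finSumFinEquiv H hdet _ (ν ^ e) ?_ ?_
  · rw [hHpow, Cfsg.Agent.S2470.diag_sum, hsc]
    congr 1
    · congr 1
      rw [map_pow, hν, hnorm, pow_mul]
    · congr 1
      funext _
      have h1 : ν ^ ((q + 2) * e) = 1 := pow_eq_one_of_dvd ν hν0 _ (hq' ▸ h2e)
      have h2 : ν⁻¹ ^ ((q + 1) * e) * ν ^ ((q + 1) * e) = 1 := by
        rw [← mul_pow, inv_mul_cancel₀ hν0, one_pow]
      have h3 : ν ^ e * ν ^ ((q + 1) * e) = 1 := by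
        rw [← pow_add, ← h1]; congr 1; ring
      exact mul_right_cancel₀ (pow_ne_zero _ hν0) (h2.trans h3.symm)
  · intro j c hc
    rw [hHpow, Cfsg.Agent.S2470.diag_sum, Matrix.fromBlocks_inj, hsc] at hc
    obtain ⟨h8, -, -, h9⟩ := hc
    have h3 := Algebra.leftMulMatrix_injective b h8
    have h9' : ν⁻¹ ^ j = c := congrFun (Matrix.diagonal_injective h9) 0
    have h4 : w ^ ((q + 2) * j) = 1 := by
      have h5 : w ^ ((q + 2) * j) = w ^ j * (w ^ (q + 1)) ^ j := by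
        rw [← pow_mul, ← pow_add]; congr 1; ring
      rw [h5, h3, ← hnorm, ← hν, ← map_pow, ← map_mul, ← h9', ← mul_pow, inv_mul_cancel₀ hν0,
        one_pow, map_one]
    rw [hw] at h4
    exact hE2 j h4

theorem main {F : Type*} [Field F] [Fintype F] (p : ℕ) [Fact p.Prime] [CharP F p] :
    Set.range (orderOf : Matrix.ProjectiveSpecialLinearGroup (Fin 3) F → ℕ) =
      {m : ℕ | m ∣ (Fintype.card F ^ 2 + Fintype.card F + 1) / Nat.gcd 3 (Fintype.card F - 1) ∨
        m ∣ (Fintype.card F ^ 2 - 1) / Nat.gcd 3 (Fintype.card F - 1) ∨ m ∣ Fintype.card F - 1 ∨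
        m ∣ p * (Fintype.card F - 1) / Nat.gcd 3 (Fintype.card F - 1) ∨ (p = 2 ∧ m ∣ 4)} := by
  have hp : p.Prime := Fact.out
  have hq : 2 ≤ Fintype.card F := Fintype.one_lt_card
  obtain ⟨hde, hdA, hB, -, -, -, -, -⟩ := arith (Fintype.card F) hq
  have he0 : 0 < (Fintype.card F - 1) / Nat.gcd 3 (Fintype.card F - 1) := by
    apply Nat.pos_of_ne_zero
    intro h0
    rw [h0, mul_zero] at hde
    omega
  ext m
  simp only [Set.mem_range, Set.mem_setOf_eq]
  constructor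
  · rintro ⟨x, rfl⟩
    obtain ⟨g, rfl⟩ := QuotientGroup.mk_surjective x
    exact sub_main p g
  · have hgen : ∀ M : ℕ, 0 < M →
        (∃ x : Matrix.ProjectiveSpecialLinearGroup (Fin 3) F, orderOf x = M) → m ∣ M →
        ∃ x : Matrix.ProjectiveSpecialLinearGroup (Fin 3) F, orderOf x = m := by
      rintro M hM ⟨x, hx⟩ hm
      exact ⟨x ^ (orderOf x / m), orderOf_pow_orderOf_div (by rw [hx]; exact hM.ne') (hx ▸ hm)⟩
    rintro (h | h | h | h | ⟨h2, h⟩)
    · refine hgen _ ?_ (elt_A_aux (FiniteField.Extension F p 3)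
        (FiniteField.finrank_extension F p 3)) h
      apply Nat.pos_of_ne_zero
      intro h0
      rw [h0, mul_zero] at hdA
      exact Nat.succ_ne_zero _ hdA.symm
    · refine hgen _ ?_ (elt_B_aux (FiniteField.Extension F p 2)
        (FiniteField.finrank_extension F p 2)) h
      rw [hB]
      exact Nat.mul_pos (by omega) he0
    · exact hgen _ (by omega) elt_q1 h
    · rw [Nat.mul_div_assoc p (Nat.gcd_dvd_right 3 (Fintype.card F - 1))] at h
      exact hgen _ (Nat.mul_pos hp.pos he0) (elt_pe p) h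
    · subst h2
      exact hgen 4 (by norm_num) elt_four h


end


/-- The set of element orders of PSL(3,q): let F be a finite field of characteristic p with q elements and d = gcd(3, q − 1). The orders of elements of PSL(3,F) are exactly the divisors of (q² + q + 1)/d, of (q² − 1)/d, of q − 1, of p(q − 1)/d, and, when p = 2, of 4. -/
theorem result {F : Type*} [Field F] [Fintype F] (p : ℕ) [Fact p.Prime] [CharP F p] :
    Set.range (orderOf : Matrix.ProjectiveSpecialLinearGroup (Fin 3) F → ℕ) =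
      {m : ℕ | m ∣ (Fintype.card F ^ 2 + Fintype.card F + 1) / Nat.gcd 3 (Fintype.card F - 1) ∨
        m ∣ (Fintype.card F ^ 2 - 1) / Nat.gcd 3 (Fintype.card F - 1) ∨ m ∣ Fintype.card F - 1 ∨
        m ∣ p * (Fintype.card F - 1) / Nat.gcd 3 (Fintype.card F - 1) ∨ (p = 2 ∧ m ∣ 4)} := by
  exact main p

end Cfsg.Agent.S2476
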