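import Cfsg.Statements.S2366
-- import your own Cfsg.Agent.* helpers here
import Mathlib
import Cfsg.Agent.S2476
import Cfsg.Agent.Lib.helper13.PSUBasic

set_option autoImplicit false
open Cfsg

namespace Cfsg.Agent.S2366


section
open Polynomial


/-- Hermitian form axioms (with respect to `x ↦ x ^ q`). -/
structure HF (F : Type*) [Field F] (q : ℕ) (V : Type*) [AddCommGroup V] [Module F V]
    (h : V → V → F) : Prop where
  add_l : ∀ x x' y, h (x + x') y = h x y + h x' y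
  smul_l : ∀ (c : F) x y, h (c • x) y = c * h x y
  add_r : ∀ x y y', h x (y + y') = h x y + h x y'
  smul_r : ∀ (c : F) x y, h x (c • y) = c ^ q * h x y
  symm : ∀ x y, h y x = (h x y) ^ q
  nd : ∀ x, (∀ y, h x y = 0) → x = 0

section HFsec

variable {F : Type*} [Field F] {q : ℕ} {V : Type*} [AddCommGroup V] [Module F V] {h : V → V → F}

theorem HF.zero_l (H : HF F q V h) (y : V) : h 0 y = 0 := by
  have := H.smul_l 0 0 y
  rwa [zero_smul, zero_mul] at this

theorem HF.zero_r (H : HF F q V h) (x : V) : h x 0 = 0 := by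
  have := H.add_r x 0 0
  rw [add_zero] at this
  linear_combination -this

theorem HF.sub_l (H : HF F q V h) (x x' y : V) : h (x - x') y = h x y - h x' y := by
  have := H.add_l (x - x') x' y
  rw [sub_add_cancel] at this
  linear_combination -this

theorem HF.sub_r (H : HF F q V h) (x y y' : V) : h x (y - y') = h x y - h x y' := by
  have := H.add_r x (y - y') y'
  rw [sub_add_cancel] at this
  linear_combination -this

theorem HF.sum_l (H : HF F q V h) {ι : Type*} (s : Finset ι) (f : ι → V) (y : V) :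
    h (∑ i ∈ s, f i) y = ∑ i ∈ s, h (f i) y := by
  classical
  induction s using Finset.induction_on with
  | empty => simp [H.zero_l]
  | insert a s ha ih => rw [Finset.sum_insert ha, Finset.sum_insert ha, H.add_l, ih]

theorem HF.sum_r (H : HF F q V h) {ι : Type*} (s : Finset ι) (f : ι → V) (x : V) :
    h x (∑ i ∈ s, f i) = ∑ i ∈ s, h x (f i) := by
  classical
  induction s using Finset.induction_on with
  | empty => simp [H.zero_r]
  | insert a s ha ih => rw [Finset.sum_insert ha, Finset.sum_insert ha, H.add_r, ih]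

end HFsec

theorem q_ge_two {F : Type*} [Field F] [Fintype F] {q : ℕ} (hF : Fintype.card F = q ^ 2) :
    2 ≤ q := by
  by_contra hcon
  have h1 : q ≤ 1 := by omega
  have h2 : q ^ 2 ≤ 1 := by
    calc q ^ 2 ≤ 1 ^ 2 := Nat.pow_le_pow_left h1 2
      _ = 1 := one_pow 2
  have h3 : 1 < Fintype.card F := Fintype.one_lt_card
  omega

theorem sq_sub_one (q : ℕ) (hq : 2 ≤ q) : q ^ 2 - 1 = (q + 1) * (q - 1) := by
  obtain ⟨j, rfl⟩ : ∃ j, q = j + 1 := ⟨q - 1, by omega⟩
  have : (j + 1) ^ 2 = (j + 1 + 1) * (j + 1 - 1) + 1 := by rw [Nat.add_sub_cancel]; ring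
  omega

theorem norm_surj {F : Type*} [Field F] [Fintype F] {q : ℕ} (hF : Fintype.card F = q ^ 2)
    (t : F) (ht0 : t ≠ 0) (ht : t ^ q = t) : ∃ c : F, c ^ (q + 1) = t := by
  classical
  have hq : 2 ≤ q := q_ge_two hF
  obtain ⟨x, hx⟩ := IsCyclic.exists_monoid_generator (α := Fˣ)
  have hord : orderOf x = q ^ 2 - 1 := by
    rw [orderOf_eq_card_of_forall_mem_zpowers (fun y => mem_powers_iff_mem_zpowers.1 (hx y)),
      Nat.card_units, Nat.card_eq_fintype_card, hF]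
  obtain ⟨k, hk⟩ := (Submonoid.mem_powers_iff _ _).1 (hx (Units.mk0 t ht0))
  have hk' : (x : F) ^ k = t := by
    have := congrArg Units.val hk
    simpa using this
  have h1 : x ^ (k * (q - 1)) = 1 := by
    apply Units.ext
    rw [Units.val_pow_eq_pow_val, pow_mul, hk', Units.val_one]
    have : t ^ (q - 1) * t = t := by rw [← pow_succ, Nat.sub_add_cancel (by omega), ht]
    exact mul_right_cancel₀ ht0 (this.trans (one_mul t).symm)
  have h2 : q ^ 2 - 1 ∣ k * (q - 1) := hord ▸ orderOf_dvd_of_pow_eq_one h1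
  rw [sq_sub_one q hq] at h2
  have h4 : q + 1 ∣ k := Nat.dvd_of_mul_dvd_mul_right (by omega) h2
  obtain ⟨m, rfl⟩ := h4
  exact ⟨(x : F) ^ m, by rw [← pow_mul, mul_comm, hk']⟩

theorem HF.extend {F : Type*} [Field F] [Fintype F] {q : ℕ} (hF : Fintype.card F = q ^ 2)
    (h2 : (2 : F) ≠ 0) {V : Type*} [AddCommGroup V] [Module F V] [FiniteDimensional F V]
    {h : V → V → F} (H : HF F q V h) (k : ℕ) (hk : k < Module.finrank F V) (v : Fin k → V)
    (hv : ∀ i j, h (v i) (v j) = if i = j then 1 else 0) :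
    ∃ u : V, h u u = 1 ∧ ∀ i, h u (v i) = 0 := by
  classical
  obtain ⟨Φ, hΦ⟩ : ∃ Φ : V →ₗ[F] (Fin k → F), ∀ x i, Φ x i = h x (v i) :=
    ⟨{ toFun := fun x i => h x (v i)
       map_add' := fun x y => by funext i; exact H.add_l x y (v i)
       map_smul' := fun c x => by funext i; exact H.smul_l c x (v i) }, fun _ _ => rfl⟩
  have hker : LinearMap.ker Φ ≠ ⊥ :=
    LinearMap.ker_ne_bot_of_finrank_lt (by rw [Module.finrank_fin_fun]; exact hk)
  obtain ⟨x, hxk, hx0⟩ := (Submodule.ne_bot_iff _).1 hker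
  have hxv : ∀ i, h x (v i) = 0 := fun i => by
    rw [← hΦ, LinearMap.mem_ker.1 hxk]; rfl
  obtain ⟨y, hy⟩ : ∃ y, h x y ≠ 0 := by
    by_contra hcon
    push Not at hcon
    exact hx0 (H.nd x hcon)
  obtain ⟨y', hy'⟩ : ∃ y' : V, y' = y - ∑ i, (h y (v i)) • v i := ⟨_, rfl⟩
  have hy'v : ∀ i, h y' (v i) = 0 := by
    intro i
    rw [hy', H.sub_l, H.sum_l]
    have : ∑ j, h (h y (v j) • v j) (v i) = h y (v i) := by
      rw [Finset.sum_eq_single i]
      · rw [H.smul_l, hv, if_pos rfl, mul_one]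
      · intro j _ hji
        rw [H.smul_l, hv, if_neg hji, mul_zero]
      · intro hi
        exact absurd (Finset.mem_univ i) hi
    rw [this, sub_self]
  have hxy' : h x y' = h x y := by
    rw [hy', H.sub_r, H.sum_r]
    have : ∑ j, h x (h y (v j) • v j) = 0 :=
      Finset.sum_eq_zero (fun j _ => by rw [H.smul_r, hxv, mul_zero])
    rw [this, sub_zero]
  obtain ⟨u0, hu0v, hu0⟩ : ∃ u0, (∀ i, h u0 (v i) = 0) ∧ h u0 u0 ≠ 0 := by
    by_cases hxx : h x x = 0
    · by_cases hyy : h y' y' = 0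
      · obtain ⟨s, hs⟩ : ∃ s : F, s = (h x y')⁻¹ := ⟨_, rfl⟩
        have hne : h x y' ≠ 0 := hxy' ▸ hy
        have h1 : h (s • x) y' = 1 := by rw [H.smul_l, hs, inv_mul_cancel₀ hne]
        have h1' : h y' (s • x) = 1 := by rw [H.symm (s • x) y', h1, one_pow]
        have h0 : h (s • x) (s • x) = 0 := by rw [H.smul_l, H.smul_r, hxx, mul_zero, mul_zero]
        refine ⟨s • x + y', fun i => ?_, ?_⟩
        · rw [H.add_l, H.smul_l, hxv, hy'v, mul_zero, add_zero]
        · rw [H.add_l, H.add_r, H.add_r, h0, h1, h1', hyy]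
          intro hcon
          apply h2
          linear_combination hcon
      · exact ⟨y', hy'v, hyy⟩
    · exact ⟨x, hxv, hxx⟩
  have ht : (h u0 u0) ^ q = h u0 u0 := (H.symm u0 u0).symm
  have ht' : ((h u0 u0)⁻¹) ^ q = (h u0 u0)⁻¹ := by rw [inv_pow, ht]
  obtain ⟨c, hc⟩ := norm_surj hF _ (inv_ne_zero hu0) ht'
  refine ⟨c • u0, ?_, fun i => ?_⟩
  · rw [H.smul_l, H.smul_r, ← mul_assoc, ← pow_succ', hc, inv_mul_cancel₀ hu0]
  · rw [H.smul_l, hu0v, mul_zero]

theorem HF.family {F : Type*} [Field F] [Fintype F] {q : ℕ} (hF : Fintype.card F = q ^ 2)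
    (h2 : (2 : F) ≠ 0) {V : Type*} [AddCommGroup V] [Module F V] [FiniteDimensional F V]
    {h : V → V → F} (H : HF F q V h) :
    ∀ k, k ≤ Module.finrank F V →
      ∃ v : Fin k → V, ∀ i j, h (v i) (v j) = if i = j then 1 else 0 := by
  have hq : 2 ≤ q := q_ge_two hF
  intro k
  induction k with
  | zero => intro _; exact ⟨Fin.elim0, fun i => Fin.elim0 i⟩
  | succ k ih =>
    intro hk
    obtain ⟨v, hv⟩ := ih (by omega)
    obtain ⟨u, hu1, hu0⟩ := H.extend hF h2 k (by omega) v hv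
    refine ⟨Fin.cons u v, ?_⟩
    intro i j
    refine Fin.cases ?_ (fun i' => ?_) i <;> refine Fin.cases ?_ (fun j' => ?_) j
    · simp [hu1]
    · simp only [Fin.cons_zero, Fin.cons_succ]
      rw [hu0, if_neg (Fin.succ_ne_zero j').symm]
    · simp only [Fin.cons_zero, Fin.cons_succ]
      rw [H.symm u (v i'), hu0, zero_pow (by omega), if_neg (Fin.succ_ne_zero i')]
    · simp only [Fin.cons_succ]
      rw [hv]
      simp [Fin.succ_inj]

theorem HF.onb {F : Type*} [Field F] [Fintype F] {q : ℕ} (hF : Fintype.card F = q ^ 2)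
    (h2 : (2 : F) ≠ 0) {V : Type*} [AddCommGroup V] [Module F V] [FiniteDimensional F V]
    {h : V → V → F} (H : HF F q V h) (n : ℕ) (hn : Module.finrank F V = n) (hn0 : 0 < n) :
    ∃ b : Module.Basis (Fin n) F V, ∀ i j, h (b i) (b j) = if i = j then 1 else 0 := by
  classical
  obtain ⟨v, hv⟩ := H.family hF h2 n (by omega)
  have hli : LinearIndependent F v := by
    rw [linearIndependent_iff']
    intro s c hc i hi
    have h1 : h (∑ j ∈ s, c j • v j) (v i) = 0 := by rw [hc, H.zero_l]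
    rw [H.sum_l, Finset.sum_eq_single i] at h1
    · rwa [H.smul_l, hv, if_pos rfl, mul_one] at h1
    · intro j _ hji
      rw [H.smul_l, hv, if_neg hji, mul_zero]
    · intro hi'
      exact absurd hi hi'
  have : Nonempty (Fin n) := ⟨⟨0, hn0⟩⟩
  refine ⟨basisOfLinearIndependentOfCardEqFinrank hli (by rw [Fintype.card_fin, hn]), ?_⟩
  rw [coe_basisOfLinearIndependentOfCardEqFinrank]
  exact hv

theorem HF.coord {F : Type*} [Field F] {q : ℕ} {V : Type*} [AddCommGroup V] [Module F V]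
    {h : V → V → F} (H : HF F q V h) {n : ℕ} (b : Module.Basis (Fin n) F V)
    (hb : ∀ i j, h (b i) (b j) = if i = j then 1 else 0) (x y : V) :
    h x y = Cfsg.hermForm n F q (b.repr x) (b.repr y) := by
  classical
  have hx := b.sum_repr x
  have hy := b.sum_repr y
  unfold Cfsg.hermForm
  conv_lhs => rw [← hx, H.sum_l]
  apply Finset.sum_congr rfl
  intro i _
  rw [H.smul_l]
  congr 1
  conv_lhs => rw [← hy, H.sum_r]
  rw [Finset.sum_eq_single i]
  · rw [H.smul_r, hb, if_pos rfl, mul_one]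
  · intro j _ hji
    rw [H.smul_r, hb, if_neg (Ne.symm hji), mul_zero]
  · intro hi
    exact absurd (Finset.mem_univ i) hi

theorem scal_iff {F : Type*} [Field F] [Fintype F] (N : Matrix (Fin 3) (Fin 3) F) (s : F) :
    (∀ x, Matrix.mulVec N x = s • x) ↔ N = Matrix.diagonal fun _ => s := by
  constructor
  · intro h
    apply Matrix.mulVec_injective
    funext x
    rw [h x, Cfsg.Agent.Lib.helper13.PU.diag_mulVec]
  · rintro rfl x
    exact Cfsg.Agent.Lib.helper13.PU.diag_mulVec s x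

theorem psu_order_mat {F : Type*} [Field F] [Fintype F] {q : ℕ} (hF : Fintype.card F = q ^ 2)
    (Mat : Matrix (Fin 3) (Fin 3) F)
    (hpres : ∀ u v, Cfsg.hermForm 3 F q (Matrix.mulVec Mat u) (Matrix.mulVec Mat v) =
      Cfsg.hermForm 3 F q u v)
    (hdet : Mat.det = 1) (M : ℕ) (c0 : F)
    (h1 : Mat ^ M = Matrix.diagonal fun _ => c0)
    (h2 : ∀ (j : ℕ) (c : F), Mat ^ j = Matrix.diagonal (fun _ => c) → M ∣ j) :
    ∃ x : Cfsg.PSU 3 F q, orderOf x = M := by
  classical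
  obtain ⟨A, hA⟩ := Cfsg.Agent.Lib.helper4.su_mk Mat hpres hdet
  have hApow : ∀ j : ℕ, Cfsg.Agent.Lib.helper4.suM (A ^ j) = Mat ^ j := by
    intro j
    induction j with
    | zero => rw [pow_zero, pow_zero]; rfl
    | succ j ih =>
      rw [pow_succ, pow_succ, Cfsg.Agent.Lib.helper4.suM_mul, ih]
      congr 1
  have hcrit : ∀ j : ℕ, (QuotientGroup.mk A : Cfsg.PSU 3 F q) ^ j = 1 ↔
      ∃ c : F, ∀ u : Fin 3 → F, u = c • (Matrix.mulVec (Mat ^ j) u) := by
    intro j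
    rw [← QuotientGroup.mk_pow, ← QuotientGroup.mk_one,
      Cfsg.Agent.Lib.helper13.PU.mk_eq_iff hF (by norm_num)]
    simp only [Cfsg.Agent.Lib.helper4.suM_one, Matrix.one_mulVec, hApow]
  refine ⟨QuotientGroup.mk A, Nat.dvd_antisymm ?_ ?_⟩
  · apply orderOf_dvd_of_pow_eq_one
    rw [hcrit]
    have hc0 : c0 ≠ 0 := by
      rintro rfl
      have hd : (Mat ^ M).det = 1 := by rw [Matrix.det_pow, hdet, one_pow]
      rw [h1, Matrix.det_diagonal] at hd
      simp at hd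
    refine ⟨c0⁻¹, fun u => ?_⟩
    rw [h1, Cfsg.Agent.Lib.helper13.PU.diag_mulVec, smul_smul, inv_mul_cancel₀ hc0, one_smul]
  · have h3 := pow_orderOf_eq_one (QuotientGroup.mk A : Cfsg.PSU 3 F q)
    rw [hcrit] at h3
    obtain ⟨c, hc⟩ := h3
    have hc0 : c ≠ 0 := by
      rintro rfl
      have := congrFun (hc (fun _ => 1)) 0
      simp at this
    apply h2 _ c⁻¹
    rw [← scal_iff]
    intro u
    have h4 := hc u
    calc Matrix.mulVec (Mat ^ orderOf (QuotientGroup.mk A : Cfsg.PSU 3 F q)) u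
        = c⁻¹ • (c • Matrix.mulVec (Mat ^ orderOf (QuotientGroup.mk A : Cfsg.PSU 3 F q)) u) := by
          rw [smul_smul, inv_mul_cancel₀ hc0, one_smul]
      _ = c⁻¹ • u := by rw [← h4]

theorem psu_order {F : Type*} [Field F] [Fintype F] {q : ℕ} (hF : Fintype.card F = q ^ 2)
    (h2 : (2 : F) ≠ 0) {V : Type*} [AddCommGroup V] [Module F V] [FiniteDimensional F V]
    (hdim : Module.finrank F V = 3) {h : V → V → F} (H : HF F q V h) (g : V →ₗ[F] V)
    (hg : ∀ x y, h (g x) (g y) = h x y) (hdet : LinearMap.det g = 1) (M : ℕ) (c0 : F)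
    (h1 : ∀ x, (g ^ M) x = c0 • x)
    (h2' : ∀ (j : ℕ) (c : F), (∀ x, (g ^ j) x = c • x) → M ∣ j) :
    ∃ x : Cfsg.PSU 3 F q, orderOf x = M := by
  classical
  obtain ⟨b, hb⟩ := H.onb hF h2 3 hdim (by norm_num)
  obtain ⟨Mat, hMat⟩ : ∃ Mat : Matrix (Fin 3) (Fin 3) F, Mat = LinearMap.toMatrix b b g :=
    ⟨_, rfl⟩
  have hrepr : ∀ (j : ℕ) (x : V),
      Matrix.mulVec (Mat ^ j) (b.repr x) = b.repr ((g ^ j) x) := by
    intro j x
    have : Mat ^ j = LinearMap.toMatrix b b (g ^ j) := by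
      rw [hMat]
      exact (map_pow (LinearMap.toMatrixAlgEquiv b) g j).symm
    rw [this, LinearMap.toMatrix_mulVec_repr]
  have hsurj : ∀ u : Fin 3 → F, ∃ x : V, ⇑(b.repr x) = u := fun u =>
    ⟨b.equivFun.symm u, by
      have := b.equivFun.apply_symm_apply u
      rw [Module.Basis.equivFun_apply] at this
      exact this⟩
  have hpres : ∀ u v, Cfsg.hermForm 3 F q (Matrix.mulVec Mat u) (Matrix.mulVec Mat v) =
      Cfsg.hermForm 3 F q u v := by
    intro u v
    obtain ⟨x, rfl⟩ := hsurj u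
    obtain ⟨y, rfl⟩ := hsurj v
    have hx := hrepr 1 x
    have hy := hrepr 1 y
    rw [pow_one, pow_one] at hx hy
    rw [hx, hy, ← H.coord b hb, ← H.coord b hb, hg]
  have hdetM : Mat.det = 1 := by rw [hMat, LinearMap.det_toMatrix, hdet]
  refine psu_order_mat hF Mat hpres hdetM M c0 ?_ ?_
  · rw [← scal_iff]
    intro u
    obtain ⟨x, rfl⟩ := hsurj u
    rw [hrepr, h1, map_smul, Finsupp.coe_smul]
  · intro j c hc
    apply h2' j c
    intro x
    apply b.repr.injective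
    apply DFunLike.coe_injective
    rw [← hrepr, hc, Cfsg.Agent.Lib.helper13.PU.diag_mulVec, map_smul, Finsupp.coe_smul]

theorem q_pow {F : Type*} [Field F] [Fintype F] (p : ℕ) [Fact p.Prime] [CharP F p] {q : ℕ}
    (hF : Fintype.card F = q ^ 2) : ∃ k : ℕ, q = p ^ k := by
  obtain ⟨n, -, hn⟩ := FiniteField.card F p
  have h1 : q ∣ p ^ (n : ℕ) := by rw [← hn, hF]; exact dvd_pow_self q two_ne_zero
  obtain ⟨k, -, hk⟩ := (Nat.dvd_prime_pow Fact.out).1 h1
  exact ⟨k, hk⟩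

theorem two_ne {F : Type*} [Field F] (p : ℕ) [Fact p.Prime] [CharP F p] (hp : p ≠ 2) :
    (2 : F) ≠ 0 :=
  Ring.two_ne_zero (by rw [ringChar.eq F p]; exact hp)

theorem arithU (q : ℕ) (hq : 2 ≤ q) :
    Nat.gcd 3 (q + 1) * ((q + 1) / Nat.gcd 3 (q + 1)) = q + 1 ∧
    Nat.gcd 3 (q + 1) * ((q ^ 2 - q + 1) / Nat.gcd 3 (q + 1)) = q ^ 2 - q + 1 ∧
    (q ^ 2 - 1) / Nat.gcd 3 (q + 1) = (q - 1) * ((q + 1) / Nat.gcd 3 (q + 1)) ∧
    (q + 1) ∣ 3 * ((q + 1) / Nat.gcd 3 (q + 1)) ∧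
    (q ^ 2 - 1) ∣ (q + 1) * ((q - 1) * ((q + 1) / Nat.gcd 3 (q + 1))) ∧
    (q ^ 2 - 1) ∣ (q - 2) * ((q - 1) * ((q + 1) / Nat.gcd 3 (q + 1))) ∧
    (∀ j, (q ^ 2 - q + 1) ∣ (q ^ 2 - 1) * j → (q ^ 2 - q + 1) / Nat.gcd 3 (q + 1) ∣ j) ∧
    (∀ j, (q ^ 2 - 1) ∣ (q + 1) * j → (q ^ 2 - 1) ∣ (q - 2) * j →
      (q - 1) * ((q + 1) / Nat.gcd 3 (q + 1)) ∣ j) ∧
    (∀ j, (q + 1) ∣ 3 * j → (q + 1) / Nat.gcd 3 (q + 1) ∣ j) ∧
    Nat.gcd 3 (q + 1) ∣ q ^ 2 - 1 := by
  obtain ⟨k, rfl⟩ : ∃ k, q = k + 2 := ⟨q - 2, by omega⟩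
  have hk1 : k + 2 - 1 = k + 1 := rfl
  have hk2 : k + 2 - 2 = k := rfl
  have hk3 : k + 2 + 1 = k + 3 := rfl
  have hB : (k + 2) ^ 2 - 1 = (k + 3) * (k + 1) := by
    have : (k + 2) ^ 2 = (k + 3) * (k + 1) + 1 := by ring
    omega
  have hN : (k + 2) ^ 2 - (k + 2) + 1 = (k + 3) * k + 3 := by
    have : (k + 2) ^ 2 = (k + 3) * k + 3 + (k + 2) - 1 := by
      have : (k + 2) ^ 2 + 1 = (k + 3) * k + 3 + (k + 2) := by ring
      omega
    omega
  have hN2 : (k + 2) ^ 2 - (k + 2) + 1 = (k + 1) * (k + 2) + 1 := by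
    rw [hN]; ring
  rw [hk1, hk2, hk3, hB]
  obtain ⟨N', hN'⟩ : ∃ N', N' = (k + 2) ^ 2 - (k + 2) + 1 := ⟨_, rfl⟩
  rw [← hN'] at hN hN2 ⊢
  obtain ⟨d, hd⟩ : ∃ d, d = Nat.gcd 3 (k + 3) := ⟨_, rfl⟩
  rw [← hd]
  have hd1 : d ∣ 3 := hd ▸ Nat.gcd_dvd_left 3 (k + 3)
  have hd2 : d ∣ k + 3 := hd ▸ Nat.gcd_dvd_right 3 (k + 3)
  have hdpos : 0 < d := Nat.pos_of_dvd_of_pos hd1 (by norm_num)
  obtain ⟨e, he⟩ : ∃ e, e = (k + 3) / d := ⟨_, rfl⟩
  rw [← he]
  have hde : d * e = k + 3 := by rw [he]; exact Nat.mul_div_cancel' hd2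
  have hdk : d ∣ k := (Nat.dvd_add_left hd1).1 hd2
  have hdN : d ∣ N' := by
    rw [hN]; exact dvd_add (dvd_mul_of_dvd_left hd2 _) hd1
  have h3e : k + 3 ∣ 3 * e := by
    obtain ⟨t, ht⟩ := hd1
    refine ⟨t, ?_⟩
    rw [← hde, ht]; ring
  have hgen : ∀ M j : ℕ, M ∣ 3 * j → M ∣ (k + 3) * j → M ∣ d * j := by
    intro M j h1 h2
    have := Nat.dvd_gcd h1 h2
    rwa [Nat.gcd_mul_right, ← hd] at this
  refine ⟨hde, Nat.mul_div_cancel' hdN, ?_, h3e, ?_, ?_, ?_, ?_, ?_, ?_⟩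
  · apply Nat.div_eq_of_eq_mul_right hdpos
    rw [← hde]; ring
  · exact ⟨e, by ring⟩
  · obtain ⟨t, ht⟩ := hdk
    refine ⟨t, ?_⟩
    rw [← hde]
    nth_rewrite 1 [ht]
    ring
  · intro j hj
    have hcop : Nat.Coprime N' (k + 1) := by
      have hg1 : Nat.gcd N' (k + 1) ∣ N' := Nat.gcd_dvd_left _ _
      have hg2 : Nat.gcd N' (k + 1) ∣ k + 1 := Nat.gcd_dvd_right _ _
      have hg3 : Nat.gcd N' (k + 1) ∣ (k + 1) * (k + 2) + 1 := by
        rw [← hN2]; exact hg1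
      exact Nat.dvd_one.1 ((Nat.dvd_add_right (dvd_mul_of_dvd_left hg2 (k + 2))).1 hg3)
    have h1 : N' ∣ (k + 3) * j := by
      apply hcop.dvd_of_dvd_mul_left
      have : (k + 1) * ((k + 3) * j) = (k + 3) * (k + 1) * j := by ring
      rw [this]; exact hj
    have h2 : N' ∣ 3 * j := by
      have h3 : N' * j = (k + 3) * j * k + 3 * j := by rw [hN]; ring
      exact (Nat.dvd_add_right (dvd_mul_of_dvd_left h1 _)).1 (h3 ▸ dvd_mul_right _ _)
    have h3 := hgen _ _ h2 h1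
    obtain ⟨A, hA⟩ := hdN
    rw [hA, Nat.mul_div_cancel_left _ hdpos]
    rw [hA] at h3
    exact Nat.dvd_of_mul_dvd_mul_left hdpos h3
  · intro j h1 h2
    have h3 : (k + 3) * (k + 1) ∣ 3 * j := by
      have h4 : (k + 3) * j = k * j + 3 * j := by ring
      exact (Nat.dvd_add_right h2).1 (h4 ▸ h1)
    have h5 := hgen _ _ h3 h1
    have h6 : (k + 3) * (k + 1) = d * ((k + 1) * e) := by rw [← hde]; ring
    rw [h6] at h5
    exact Nat.dvd_of_mul_dvd_mul_left hdpos h5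
  · intro j hj
    have h3 := hgen _ _ hj (dvd_mul_right _ _)
    rw [← hde] at h3
    exact Nat.dvd_of_mul_dvd_mul_left hdpos h3
  · exact dvd_mul_of_dvd_left hd2 _

theorem elt_singer {F : Type*} [Field F] [Fintype F] (p : ℕ) [Fact p.Prime] [CharP F p]
    (hp : p ≠ 2) {q : ℕ} (hF : Fintype.card F = q ^ 2)
    (K : Type*) [Field K] [Algebra F K] [Finite K] (hfr : Module.finrank F K = 3) :
    ∃ x : Cfsg.PSU 3 F q, orderOf x = (q ^ 2 - q + 1) / Nat.gcd 3 (q + 1) := by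
  classical
  have hq : 2 ≤ q := q_ge_two hF
  obtain ⟨k, hk⟩ := q_pow p hF
  have : CharP K p := charP_of_injective_algebraMap (algebraMap F K).injective p
  have h2 : (2 : F) ≠ 0 := two_ne p hp
  obtain ⟨-, hdA, -, -, -, -, hU7, -, -, hdq⟩ := arithU q hq
  have hcard : Nat.card K = q ^ 6 := by
    rw [Module.natCard_eq_pow_finrank (K := F), hfr, Nat.card_eq_fintype_card, hF, ← pow_mul]
  have hKpow : ∀ y : K, y ^ (q ^ 6) = y := by
    intro y
    have := Fintype.ofFinite K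
    have h := FiniteField.pow_card y
    rwa [Fintype.card_eq_nat_card, hcard] at h
  have hFpow : ∀ c : F, c ^ (q ^ 2) = c := fun c => by
    have := FiniteField.pow_card c
    rwa [hF] at this
  have hFq3 : ∀ c : F, c ^ (q ^ 3) = c ^ q := fun c => by
    rw [show q ^ 3 = q ^ 2 * q by ring, pow_mul, hFpow]
  have hadd : ∀ a b : K, (a + b) ^ (q ^ 3) = a ^ (q ^ 3) + b ^ (q ^ 3) := by
    intro a b
    rw [hk, ← pow_mul]
    exact add_pow_char_pow a b p (k * 3)
  have hsum : ∀ (s : Finset ℕ) (f : ℕ → K),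
      (∑ i ∈ s, f i) ^ (q ^ 3) = ∑ i ∈ s, (f i) ^ (q ^ 3) := by
    intro s f
    rw [hk, ← pow_mul]
    exact sum_pow_char_pow p (k * 3) s f
  obtain ⟨h, hh⟩ : ∃ h : K → K → F, ∀ x y, h x y = Algebra.trace F K (x * y ^ (q ^ 3)) :=
    ⟨_, fun _ _ => rfl⟩
  have htr : ∀ w : K, Algebra.trace F K (w ^ (q ^ 3)) = (Algebra.trace F K w) ^ q := by
    intro w
    apply (algebraMap F K).injective
    rw [← hFq3, map_pow (algebraMap F K), FiniteField.algebraMap_trace_eq_sum_pow,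
      FiniteField.algebraMap_trace_eq_sum_pow, hsum]
    apply Finset.sum_congr rfl
    intro i _
    rw [← pow_mul, ← pow_mul, mul_comm]
  have hq66 : q ^ 3 * q ^ 3 = q ^ 6 := by ring
  have H : HF F q K h := by
    refine ⟨?_, ?_, ?_, ?_, ?_, ?_⟩
    · intro x x' y
      rw [hh, hh, hh, add_mul, map_add]
    · intro c x y
      rw [hh, hh, smul_mul_assoc, map_smul, smul_eq_mul]
    · intro x y y'
      rw [hh, hh, hh, hadd, mul_add, map_add]
    · intro c x y
      rw [hh, hh, Algebra.smul_def, mul_pow, ← map_pow, hFq3, ← Algebra.smul_def,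
        mul_smul_comm, map_smul, smul_eq_mul]
    · intro x y
      rw [hh, hh, ← htr, mul_pow, ← pow_mul, hq66, hKpow, mul_comm]
    · intro x hx
      by_contra hx0
      obtain ⟨w, hw⟩ := Algebra.trace_surjective F K (1 : F)
      have h1 := hx ((w / x) ^ (q ^ 3))
      rw [hh, ← pow_mul, hq66, hKpow] at h1
      have h3 : x * (w / x) = w := by field_simp
      rw [h3, hw] at h1
      exact one_ne_zero h1
  obtain ⟨w, hw0, hw⟩ := Cfsg.Agent.S2476.gen_exists K
  rw [hcard] at hw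
  obtain ⟨N', hN'⟩ : ∃ N', N' = q ^ 2 - q + 1 := ⟨_, rfl⟩
  rw [← hN'] at hdA hU7 ⊢
  have hN'q : N' + q = q ^ 2 + 1 := by
    have : q ≤ q ^ 2 := Nat.le_self_pow two_ne_zero q
    omega
  obtain ⟨E, hE⟩ : ∃ E, E = (q ^ 2 - 1) * (q ^ 2 + q + 1) := ⟨_, rfl⟩
  have hq2 : q ^ 2 - 1 = (q + 1) * (q - 1) := sq_sub_one q hq
  have hq2' : q ^ 2 - 1 + 1 = q ^ 2 := by
    have : 1 ≤ q ^ 2 := Nat.one_le_pow _ _ (by omega)
    omega
  have h42 : (q ^ 2 + q + 1) * N' = q ^ 4 + q ^ 2 + 1 := by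
    have : (q ^ 2 + q + 1) * (N' + q) = q ^ 4 + q ^ 2 + 1 + (q ^ 2 + q + 1) * q := by
      rw [hN'q]; ring
    rw [mul_add] at this
    omega
  have hq6 : q ^ 6 - 1 = E * N' := by
    have h1 : q ^ 6 = (q ^ 2 - 1) * (q ^ 4 + q ^ 2 + 1) + 1 := by
      have : q ^ 6 + (q ^ 4 + q ^ 2 + 1) = (q ^ 2 - 1 + 1) * (q ^ 4 + q ^ 2 + 1) + 1 := by
        rw [hq2']; ring
      rw [add_mul, one_mul] at this
      omega
    rw [hE, mul_assoc, h42]
    omega
  have hEpos : 0 < E := by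
    rw [hE]
    have : 1 ≤ q ^ 2 - 1 := by
      have : 4 ≤ q ^ 2 := by nlinarith
      omega
    positivity
  obtain ⟨z, hz⟩ : ∃ z : K, z = w ^ E := ⟨_, rfl⟩
  have hz0 : z ≠ 0 := hz ▸ pow_ne_zero _ hw0
  have hzord : ∀ m, z ^ m = 1 ↔ N' ∣ m := by
    intro m
    rw [hz, ← pow_mul, hw, hq6]
    exact Nat.mul_dvd_mul_iff_left hEpos
  have hz1 : z ^ (q ^ 3 + 1) = 1 := by
    rw [hzord]
    refine ⟨q + 1, ?_⟩
    have : (N' + q) * (q + 1) = q ^ 3 + 1 + q * (q + 1) := by rw [hN'q]; ring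
    rw [add_mul] at this
    omega
  have hz2 : z ^ (q ^ 4 + q ^ 2 + 1) = 1 := by
    rw [hzord]
    exact ⟨q ^ 2 + q + 1, by rw [← h42]; ring⟩
  obtain ⟨g, hgdef⟩ : ∃ g : K →ₗ[F] K, g = Algebra.lmul F K z := ⟨_, rfl⟩
  have hgpow : ∀ (j : ℕ) (x : K), (g ^ j) x = z ^ j * x := by
    intro j x
    rw [hgdef, ← map_pow]
    rfl
  have hg : ∀ x y, h (g x) (g y) = h x y := by
    intro x y
    have h1 := hgpow 1 x
    have h2' := hgpow 1 y
    rw [pow_one, pow_one] at h1 h2'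
    rw [h1, h2', hh, hh, mul_pow]
    have h3 : z * x * (z ^ (q ^ 3) * y ^ (q ^ 3)) = z ^ (q ^ 3 + 1) * (x * y ^ (q ^ 3)) := by
      rw [pow_succ]; ring
    rw [h3, hz1, one_mul]
  have hdet : LinearMap.det g = 1 := by
    have h1 : LinearMap.det g = Algebra.norm F z := by rw [hgdef]; rfl
    rw [h1]
    apply (algebraMap F K).injective
    rw [FiniteField.algebraMap_norm_eq_pow, hcard, Nat.card_eq_fintype_card, hF, map_one]
    have h3 : (q ^ 6 - 1) / (q ^ 2 - 1) = q ^ 4 + q ^ 2 + 1 := by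
      apply Nat.div_eq_of_eq_mul_right (by omega)
      rw [hq6, hE, mul_assoc, h42]
    rw [h3, hz2]
  obtain ⟨A, hA⟩ : ∃ A, A = N' / Nat.gcd 3 (q + 1) := ⟨_, rfl⟩
  rw [← hA] at hdA hU7 ⊢
  have hzA : (z ^ A) ^ Fintype.card F = z ^ A := by
    rw [hF, ← pow_mul]
    have h1 : z ^ (A * (q ^ 2 - 1)) = 1 := by
      rw [hzord]
      obtain ⟨t, ht⟩ := hdq
      exact ⟨t, by rw [ht, ← hdA]; ring⟩
    have h3 : A * q ^ 2 = A * (q ^ 2 - 1) + A := by
      rw [← hq2']
      simp only [Nat.add_sub_cancel]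
      ring
    rw [h3, pow_add, h1, one_mul]
  obtain ⟨c0, hc0⟩ := Cfsg.Agent.S2476.in_base _ hzA
  refine psu_order hF h2 hfr H g hg hdet A c0 ?_ ?_
  · intro x
    rw [hgpow, ← hc0, Algebra.smul_def]
  · intro j c hc
    have h1 := hc 1
    rw [hgpow, mul_one, Algebra.smul_def, mul_one] at h1
    have hc0' : c ≠ 0 := by
      rintro rfl
      rw [map_zero] at h1
      exact pow_ne_zero j hz0 h1
    have h3 : z ^ (j * (q ^ 2 - 1)) = 1 := by
      rw [pow_mul, h1, ← map_pow]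
      have := FiniteField.pow_card_sub_one_eq_one c hc0'
      rw [hF] at this
      rw [this, map_one]
    rw [hzord, mul_comm] at h3
    exact hU7 j h3

/-- the hyperbolic-plus-one Hermitian form on `F^3`. -/
def hyp {F : Type*} [Field F] (q : ℕ) (x y : Fin 3 → F) : F :=
  x 0 * (y 1) ^ q + x 1 * (y 0) ^ q + x 2 * (y 2) ^ q

theorem hyp_HF {F : Type*} [Field F] [Fintype F] (p : ℕ) [Fact p.Prime] [CharP F p] {q : ℕ}
    (hF : Fintype.card F = q ^ 2) : HF F q (Fin 3 → F) (hyp q) := by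
  have hq : 2 ≤ q := q_ge_two hF
  obtain ⟨k, hk⟩ := q_pow p hF
  have hadd : ∀ a b : F, (a + b) ^ q = a ^ q + b ^ q := by
    intro a b
    rw [hk]
    exact add_pow_char_pow a b p k
  have hFpow : ∀ c : F, c ^ (q * q) = c := fun c => by
    have := FiniteField.pow_card c
    rwa [hF, pow_two] at this
  refine ⟨?_, ?_, ?_, ?_, ?_, ?_⟩
  · intro x x' y
    simp only [hyp, Pi.add_apply]
    ring
  · intro c x y
    simp only [hyp, Pi.smul_apply, smul_eq_mul]
    ring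
  · intro x y y'
    simp only [hyp, Pi.add_apply, hadd]
    ring
  · intro c x y
    simp only [hyp, Pi.smul_apply, smul_eq_mul, mul_pow]
    ring
  · intro x y
    simp only [hyp, hadd, mul_pow, ← pow_mul, hFpow]
    ring
  · intro x hx
    have h0 := hx (Pi.single 1 1)
    have h1 := hx (Pi.single 0 1)
    have h2 := hx (Pi.single 2 1)
    simp [hyp, zero_pow (show q ≠ 0 by omega)] at h0 h1 h2
    funext i
    fin_cases i <;> simp [h0, h1, h2]

theorem elt_B {F : Type*} [Field F] [Fintype F] (p : ℕ) [Fact p.Prime] [CharP F p]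
    (hp : p ≠ 2) {q : ℕ} (hF : Fintype.card F = q ^ 2) :
    ∃ x : Cfsg.PSU 3 F q, orderOf x = (q ^ 2 - 1) / Nat.gcd 3 (q + 1) := by
  classical
  have hq : 2 ≤ q := q_ge_two hF
  have h2 : (2 : F) ≠ 0 := two_ne p hp
  obtain ⟨-, -, hB, -, hU5, hU6, -, hU8, -, -⟩ := arithU q hq
  rw [hB]
  obtain ⟨e, he⟩ : ∃ e, e = (q + 1) / Nat.gcd 3 (q + 1) := ⟨_, rfl⟩
  rw [← he] at hU5 hU6 hU8 ⊢
  obtain ⟨w, hw0, hw⟩ := Cfsg.Agent.S2476.gen_exists F
  rw [Nat.card_eq_fintype_card, hF] at hw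
  have hFpow : ∀ c : F, c ^ (q ^ 2) = c := fun c => by
    have := FiniteField.pow_card c
    rwa [hF] at this
  obtain ⟨v, hv⟩ : ∃ v : Fin 3 → F, v = ![w, (w ^ q)⁻¹, w ^ (q - 1)] := ⟨_, rfl⟩
  obtain ⟨G, hG⟩ : ∃ G : Matrix (Fin 3) (Fin 3) F, G = Matrix.diagonal v := ⟨_, rfl⟩
  have hGpow : ∀ j : ℕ, G ^ j = Matrix.diagonal (fun i => v i ^ j) := fun j => by
    rw [hG, Matrix.diagonal_pow]; rfl
  obtain ⟨g, hgdef⟩ : ∃ g : (Fin 3 → F) →ₗ[F] (Fin 3 → F), g = Matrix.toLinAlgEquiv' G :=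
    ⟨_, rfl⟩
  have hgpow : ∀ (j : ℕ) (x : Fin 3 → F), (g ^ j) x = Matrix.mulVec (G ^ j) x := by
    intro j x
    rw [hgdef, ← map_pow]
    rfl
  have hgx : ∀ (x : Fin 3 → F) (i : Fin 3), g x i = v i * x i := by
    intro x i
    have := hgpow 1 x
    rw [pow_one, pow_one] at this
    rw [this, hG, Matrix.mulVec_diagonal]
  have hv0 : v 0 = w := by rw [hv]; rfl
  have hv1 : v 1 = (w ^ q)⁻¹ := by rw [hv]; rfl
  have hv2 : v 2 = w ^ (q - 1) := by rw [hv]; rfl
  have hwq : w ^ (q ^ 2 - 1) = 1 := (hw _).2 dvd_rfl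
  have hg : ∀ x y, hyp q (g x) (g y) = hyp q x y := by
    intro x y
    simp only [hyp, hgx, hv0, hv1, hv2, mul_pow]
    have e1 : w * ((w ^ q)⁻¹) ^ q = 1 := by
      rw [inv_pow, ← pow_mul, ← pow_two, hFpow]
      exact mul_inv_cancel₀ hw0
    have e2 : (w ^ q)⁻¹ * w ^ q = 1 := inv_mul_cancel₀ (pow_ne_zero _ hw0)
    have e3 : w ^ (q - 1) * (w ^ (q - 1)) ^ q = 1 := by
      rw [← pow_mul, ← pow_add, ← hwq]
      congr 1
      rw [sq_sub_one q hq]
      ring
    linear_combination (x 0 * y 1 ^ q) * e1 + (x 1 * y 0 ^ q) * e2 + (x 2 * y 2 ^ q) * e3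
  have hdet : LinearMap.det g = 1 := by
    have h1 : LinearMap.det g = G.det := by rw [hgdef]; exact LinearMap.det_toLin' G
    rw [h1, hG, Matrix.det_diagonal, Fin.prod_univ_three, hv0, hv1, hv2]
    have e4 : w * w ^ (q - 1) = w ^ q := by rw [← pow_succ', Nat.sub_add_cancel (by omega)]
    rw [mul_right_comm, e4, mul_inv_cancel₀ (pow_ne_zero _ hw0)]
  refine psu_order hF h2 (Module.finrank_fin_fun F) (hyp_HF p hF) g hg hdet ((q - 1) * e)
    (w ^ ((q - 1) * e)) ?_ ?_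
  · intro x
    rw [hgpow]
    revert x
    rw [scal_iff, hGpow]
    congr 1
    funext i
    fin_cases i
    · show v 0 ^ ((q - 1) * e) = w ^ ((q - 1) * e)
      rw [hv0]
    · show v 1 ^ ((q - 1) * e) = w ^ ((q - 1) * e)
      rw [hv1, inv_pow]
      apply inv_eq_of_mul_eq_one_left
      rw [← pow_mul, ← pow_add, hw]
      have : (q - 1) * e + q * ((q - 1) * e) = (q + 1) * ((q - 1) * e) := by ring
      rw [this]
      exact hU5
    · show v 2 ^ ((q - 1) * e) = w ^ ((q - 1) * e)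
      rw [hv2, ← pow_mul]
      have h3 : (q - 1) * ((q - 1) * e) = (q - 2) * ((q - 1) * e) + (q - 1) * e := by
        have : q - 1 = (q - 2) + 1 := by omega
        nth_rewrite 1 [this]
        ring
      rw [h3, pow_add, (hw _).2 hU6, one_mul]
  · intro j c hc
    have hc' := (scal_iff _ _).1 (fun x => (hgpow j x).symm.trans (hc x))
    rw [hGpow] at hc'
    have h3 := Matrix.diagonal_injective hc'
    have h0 : w ^ j = c := by have := congrFun h3 0; rwa [hv0] at this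
    have h1 : ((w ^ q)⁻¹) ^ j = c := by have := congrFun h3 1; rwa [hv1] at this
    have h2' : (w ^ (q - 1)) ^ j = c := by have := congrFun h3 2; rwa [hv2] at this
    have hc0 : c ≠ 0 := h0 ▸ pow_ne_zero j hw0
    apply hU8
    · rw [← hw]
      have h4 : w ^ ((q + 1) * j) = (w ^ q) ^ j * w ^ j := by
        rw [← pow_mul, ← pow_add]; congr 1; ring
      rw [h4, h0]
      rw [inv_pow] at h1
      rw [← h1, mul_inv_cancel₀]
      exact pow_ne_zero _ (pow_ne_zero _ hw0)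
    · rw [← hw]
      have h4 : w ^ ((q - 2) * j) * w ^ j = w ^ j := by
        rw [← pow_add, h0, ← h2', ← pow_mul]
        congr 1
        have : q - 1 = (q - 2) + 1 := by omega
        rw [this]
        ring
      exact mul_right_cancel₀ (pow_ne_zero j hw0) (h4.trans (one_mul _).symm)

theorem elt_q1 {F : Type*} [Field F] [Fintype F] {q : ℕ} (hF : Fintype.card F = q ^ 2) :
    ∃ x : Cfsg.PSU 3 F q, orderOf x = q + 1 := by
  classical
  have hq : 2 ≤ q := q_ge_two hF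
  obtain ⟨w, hw0, hw⟩ := Cfsg.Agent.S2476.gen_exists F
  rw [Nat.card_eq_fintype_card, hF] at hw
  have hq2 := sq_sub_one q hq
  obtain ⟨a, ha⟩ : ∃ a : F, a = w ^ (q - 1) := ⟨_, rfl⟩
  have ha0 : a ≠ 0 := ha ▸ pow_ne_zero _ hw0
  have haord : ∀ m, a ^ m = 1 ↔ (q + 1) ∣ m := by
    intro m
    rw [ha, ← pow_mul, hw, hq2, mul_comm (q + 1)]
    exact Nat.mul_dvd_mul_iff_left (by omega)
  have ha1 : a ^ (q + 1) = 1 := (haord _).2 dvd_rfl
  obtain ⟨v, hv⟩ : ∃ v : Fin 3 → F, v = ![a, a⁻¹, 1] := ⟨_, rfl⟩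
  have hv1 : ∀ i, v i * (v i) ^ q = 1 := by
    intro i
    rw [hv]
    fin_cases i
    · show a * a ^ q = 1
      rw [← pow_succ', ha1]
    · show a⁻¹ * (a⁻¹) ^ q = 1
      rw [← pow_succ', inv_pow, ha1, inv_one]
    · show (1 : F) * 1 ^ q = 1
      rw [one_pow, mul_one]
  have hpow : ∀ j : ℕ, (Matrix.diagonal v) ^ j = Matrix.diagonal (fun i => v i ^ j) := fun j => by
    rw [Matrix.diagonal_pow]; rfl
  refine psu_order_mat hF (Matrix.diagonal v) ?_ ?_ (q + 1) 1 ?_ ?_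
  · intro u u'
    unfold Cfsg.hermForm
    apply Finset.sum_congr rfl
    intro i _
    rw [Matrix.mulVec_diagonal, Matrix.mulVec_diagonal, mul_pow]
    linear_combination (u i * u' i ^ q) * hv1 i
  · rw [Matrix.det_diagonal, Fin.prod_univ_three, hv]
    simp [ha0]
  · rw [hpow]
    congr 1
    funext i
    rw [hv]
    fin_cases i
    · exact ha1
    · show (a⁻¹) ^ (q + 1) = 1
      rw [inv_pow, ha1, inv_one]
    · show (1 : F) ^ (q + 1) = 1
      exact one_pow _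
  · intro j c hc
    rw [hpow] at hc
    have h3 := Matrix.diagonal_injective hc
    have h0 := congrFun h3 0
    have h2 := congrFun h3 2
    rw [hv] at h0 h2
    simp at h0 h2
    exact (haord j).1 (h0.trans h2.symm)

theorem elt_pe {F : Type*} [Field F] [Fintype F] (p : ℕ) [Fact p.Prime] [CharP F p]
    (hp : p ≠ 2) {q : ℕ} (hF : Fintype.card F = q ^ 2) :
    ∃ x : Cfsg.PSU 3 F q, orderOf x = p * ((q + 1) / Nat.gcd 3 (q + 1)) := by
  classical
  have hpp : p.Prime := Fact.out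
  have hq : 2 ≤ q := q_ge_two hF
  have h2 : (2 : F) ≠ 0 := two_ne p hp
  obtain ⟨k, hk⟩ := q_pow p hF
  obtain ⟨hde, -, -, h3e, -, -, -, -, hU9, -⟩ := arithU q hq
  obtain ⟨e, he⟩ : ∃ e, e = (q + 1) / Nat.gcd 3 (q + 1) := ⟨_, rfl⟩
  rw [← he] at hde h3e hU9 ⊢
  obtain ⟨w, hw0, hw⟩ := Cfsg.Agent.S2476.gen_exists F
  rw [Nat.card_eq_fintype_card, hF] at hw
  have hFpow : ∀ c : F, c ^ (q ^ 2) = c := fun c => by
    have := FiniteField.pow_card c
    rwa [hF] at this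
  have hq2 := sq_sub_one q hq
  obtain ⟨a, ha⟩ : ∃ a : F, a = w ^ (q - 1) := ⟨_, rfl⟩
  have ha0 : a ≠ 0 := ha ▸ pow_ne_zero _ hw0
  have haord : ∀ m, a ^ m = 1 ↔ (q + 1) ∣ m := by
    intro m
    rw [ha, ← pow_mul, hw, hq2, mul_comm (q + 1)]
    exact Nat.mul_dvd_mul_iff_left (by omega)
  have ha1 : a ^ (q + 1) = 1 := (haord _).2 dvd_rfl
  have haq : a * a ^ q = 1 := by rw [← pow_succ', ha1]
  obtain ⟨c, hc⟩ : ∃ c : F, c = w - w ^ q := ⟨_, rfl⟩
  have hadd : ∀ a b : F, (a + b) ^ q = a ^ q + b ^ q := by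
    intro a b
    rw [hk]
    exact add_pow_char_pow a b p k
  have hsub : ∀ a b : F, (a - b) ^ q = a ^ q - b ^ q := by
    intro a b
    rw [hk]
    exact sub_pow_char_pow a b k
  have hcq : c ^ q = -c := by
    rw [hc, hsub, ← pow_mul, ← pow_two, hFpow]
    ring
  have hc0 : c ≠ 0 := by
    intro h0
    rw [hc, sub_eq_zero] at h0
    have h1 : w ^ (q - 1) = 1 := by
      have h1 : w ^ (q - 1) * w = w := by
        rw [← pow_succ, Nat.sub_add_cancel (by omega)]
        exact h0.symm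
      exact mul_right_cancel₀ hw0 (h1.trans (one_mul w).symm)
    rw [hw, hq2] at h1
    have h3 := Nat.le_of_dvd (by omega) h1
    have h4 : 2 * (q - 1) ≤ (q + 1) * (q - 1) := Nat.mul_le_mul_right _ (by omega)
    obtain ⟨X, hX⟩ : ∃ X, X = (q + 1) * (q - 1) := ⟨_, rfl⟩
    rw [← hX] at h3 h4
    omega
  obtain ⟨b, hb⟩ : ∃ b : F, b = (a ^ 2)⁻¹ := ⟨_, rfl⟩
  have hab : a ^ 2 * b = 1 := by rw [hb]; exact mul_inv_cancel₀ (pow_ne_zero 2 ha0)
  have hbq : b * b ^ q = 1 := by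
    rw [← pow_succ', hb, inv_pow, ← pow_mul, mul_comm, pow_mul, ha1, one_pow, inv_one]
  have hiff : ∀ j : ℕ, a ^ j = b ^ j ↔ a ^ (3 * j) = 1 := by
    intro j
    have h1 : b ^ j * (a ^ 2) ^ j = 1 := by rw [← mul_pow, mul_comm, hab, one_pow]
    have h2 : a ^ j * (a ^ 2) ^ j = a ^ (3 * j) := by
      rw [← pow_mul, ← pow_add]; congr 1; ring
    constructor
    · intro h; rw [← h2, h, h1]
    · intro h
      rw [← h2] at h
      exact mul_right_cancel₀ (pow_ne_zero _ (pow_ne_zero _ ha0)) (h.trans h1.symm)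
  obtain ⟨G, hG⟩ : ∃ G : Matrix (Fin 3) (Fin 3) F, G = !![a, a * c, 0; 0, a, 0; 0, 0, b] :=
    ⟨_, rfl⟩
  have hGpow : ∀ j : ℕ,
      G ^ j = !![a ^ j, (j : F) * a ^ j * c, 0; 0, a ^ j, 0; 0, 0, b ^ j] := by
    intro j
    induction j with
    | zero =>
      rw [pow_zero]
      ext i l
      fin_cases i <;> fin_cases l <;> simp
    | succ j ih =>
      rw [pow_succ, ih, hG]
      ext i l
      fin_cases i <;> fin_cases l <;>
        simp [Matrix.mul_apply, Fin.sum_univ_three, pow_succ] <;> ring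
  obtain ⟨g, hgdef⟩ : ∃ g : (Fin 3 → F) →ₗ[F] (Fin 3 → F), g = Matrix.toLinAlgEquiv' G :=
    ⟨_, rfl⟩
  have hgpow : ∀ (j : ℕ) (x : Fin 3 → F), (g ^ j) x = Matrix.mulVec (G ^ j) x := by
    intro j x
    rw [hgdef, ← map_pow]
    rfl
  have hgx : ∀ (x : Fin 3 → F), g x = ![a * x 0 + a * c * x 1, a * x 1, b * x 2] := by
    intro x
    have := hgpow 1 x
    rw [pow_one, pow_one] at this
    rw [this, hG]
    ext i
    fin_cases i <;> simp [Matrix.mulVec, dotProduct, Fin.sum_univ_three]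
  have hg : ∀ x y, hyp q (g x) (g y) = hyp q x y := by
    intro x y
    rw [hgx, hgx]
    simp only [hyp, Matrix.cons_val_zero, Matrix.cons_val_one, Matrix.cons_val_two,
      Matrix.head_cons, Matrix.tail_cons, hadd, mul_pow, hcq]
    linear_combination (x 0 * y 1 ^ q + x 1 * y 0 ^ q) * haq + (x 2 * y 2 ^ q) * hbq
  have hdet : LinearMap.det g = 1 := by
    have h1 : LinearMap.det g = G.det := by rw [hgdef]; exact LinearMap.det_toLin' G
    rw [h1, hG, Matrix.det_fin_three]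
    simp
    linear_combination hab
  have hpq : p ∣ q := by
    rw [hk]
    apply dvd_pow_self
    rintro rfl
    rw [pow_zero] at hk
    omega
  have hcop : Nat.Coprime p e := by
    have h1 : Nat.Coprime p (q + 1) := by
      rw [Nat.Prime.coprime_iff_not_dvd hpp]
      intro h
      exact hpp.one_lt.ne' (Nat.dvd_one.1 ((Nat.dvd_add_right hpq).1 h))
    exact Nat.Coprime.coprime_dvd_right ⟨_, hde.symm.trans (mul_comm _ _)⟩ h1
  refine psu_order hF h2 (Module.finrank_fin_fun F) (hyp_HF p hF) g hg hdet (p * e)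
    (a ^ (p * e)) ?_ ?_
  · intro x
    rw [hgpow]
    revert x
    rw [scal_iff, hGpow]
    have hcast : ((p * e : ℕ) : F) = 0 := by
      push_cast
      rw [CharP.cast_eq_zero F p, zero_mul]
    have hbp : b ^ (p * e) = a ^ (p * e) := by
      refine ((hiff _).2 ?_).symm
      rw [haord]
      obtain ⟨t, ht⟩ := h3e
      exact ⟨p * t, by rw [show 3 * (p * e) = p * (3 * e) by ring, ht]; ring⟩
    rw [hcast, hbp, zero_mul, zero_mul]
    ext i l
    fin_cases i <;> fin_cases l <;> simp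
  · intro j s hs
    have hs' := (scal_iff _ _).1 (fun x => (hgpow j x).symm.trans (hs x))
    rw [hGpow] at hs'
    have h01 : (j : F) * a ^ j * c = 0 := by
      have := congrFun (congrFun hs' 0) 1
      simpa using this
    have h00 : a ^ j = s := by
      have := congrFun (congrFun hs' 0) 0
      simpa using this
    have h22 : b ^ j = s := by
      have := congrFun (congrFun hs' 2) 2
      simpa using this
    have hj0 : (j : F) = 0 := by
      rcases mul_eq_zero.1 h01 with h | h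
      · rcases mul_eq_zero.1 h with h | h
        · exact h
        · exact absurd h (pow_ne_zero _ ha0)
      · exact absurd h hc0
    have hpj : p ∣ j := (CharP.cast_eq_zero_iff F p j).1 hj0
    have hej : e ∣ j := hU9 j ((haord _).1 ((hiff j).1 (h00.trans h22.symm)))
    exact Nat.Coprime.mul_dvd_of_dvd_of_dvd hcop hpj hej

theorem su_gram {F : Type*} [Field F] {q : ℕ} (hq0 : q ≠ 0) (G : Matrix (Fin 3) (Fin 3) F)
    (hpres : ∀ u v, Cfsg.hermForm 3 F q (Matrix.mulVec G u) (Matrix.mulVec G v) =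
      Cfsg.hermForm 3 F q u v) :
    G.transpose * G.map (fun x => x ^ q) = 1 := by
  classical
  ext j k
  have h := hpres (Pi.single j 1) (Pi.single k 1)
  unfold Cfsg.hermForm at h
  have hcol : ∀ (j i : Fin 3), Matrix.mulVec G (Pi.single j 1) i = G i j := by
    intro j i
    simp [Matrix.mulVec, dotProduct, Pi.single_apply]
  simp only [hcol] at h
  rw [Matrix.mul_apply]
  have hr : ∑ i, (Pi.single j (1 : F) : Fin 3 → F) i * ((Pi.single k (1 : F) : Fin 3 → F) i) ^ q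
      = (1 : Matrix (Fin 3) (Fin 3) F) j k := by
    rw [Finset.sum_eq_single j]
    · rw [Pi.single_eq_same, one_mul, Matrix.one_apply]
      by_cases hjk : j = k
      · rw [hjk, Pi.single_eq_same, one_pow, if_pos rfl]
      · rw [Pi.single_eq_of_ne hjk, zero_pow hq0, if_neg hjk]
    · intro i _ hij
      rw [Pi.single_eq_of_ne hij, zero_mul]
    · intro hj
      exact absurd (Finset.mem_univ j) hj
  rw [← hr, ← h]
  rfl

theorem charpoly_symm {F : Type*} [Field F] (G H : Matrix (Fin 3) (Fin 3) F)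
    (hGH : G.transpose * H = 1) (hdet : G.det = 1) :
    H.charpoly = - G.charpoly.reverse := by
  have h1 : G.charpoly.reverse = G.transpose.charpolyRev := by
    rw [← Matrix.charpoly_transpose, Matrix.reverse_charpoly]
  rw [h1]
  have hH : H.charpoly = (Matrix.scalar (Fin 3) (X : F[X]) - C.mapMatrix H).det := rfl
  have hR : G.transpose.charpolyRev = (1 - (X : F[X]) • G.transpose.map C).det := rfl
  rw [hH, hR]
  have h2 : (G.transpose.map C : Matrix (Fin 3) (Fin 3) F[X]).det = 1 := by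
    rw [← RingHom.mapMatrix_apply, ← RingHom.map_det, Matrix.det_transpose, hdet, map_one]
  have h3 : (G.transpose.map C : Matrix (Fin 3) (Fin 3) F[X]) *
      (Matrix.scalar (Fin 3) (X : F[X]) - C.mapMatrix H) =
      - (1 - (X : F[X]) • G.transpose.map C) := by
    rw [Matrix.scalar_apply, ← Matrix.smul_one_eq_diagonal, mul_sub, Matrix.mul_smul, mul_one,
      RingHom.mapMatrix_apply, ← Matrix.map_mul, hGH, Matrix.map_one _ (map_zero _) (map_one _),
      neg_sub]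
  calc (Matrix.scalar (Fin 3) (X : F[X]) - C.mapMatrix H).det
      = (G.transpose.map C : Matrix (Fin 3) (Fin 3) F[X]).det *
        (Matrix.scalar (Fin 3) (X : F[X]) - C.mapMatrix H).det := by rw [h2, one_mul]
    _ = (- (1 - (X : F[X]) • G.transpose.map C)).det := by rw [← Matrix.det_mul, h3]
    _ = - (1 - (X : F[X]) • G.transpose.map C).det := by
        rw [Matrix.det_neg, Fintype.card_fin]; ring

theorem root_symm {F : Type*} [Field F] (p : ℕ) [Fact p.Prime] [CharP F p] {q : ℕ}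
    (k : ℕ) (hk : q = p ^ k) (χ : F[X])
    (hsym : χ.map (iterateFrobenius F p k) = - χ.reverse)
    {L : Type*} [Field L] [Algebra F L] (μ : L) (hμ0 : μ ≠ 0) (hμ : aeval μ χ = 0) :
    aeval ((μ ^ q)⁻¹) χ = 0 := by
  have : CharP L p := charP_of_injective_algebraMap (algebraMap F L).injective p
  have hμq : μ ^ q = iterateFrobenius L p k μ := by rw [hk]; rfl
  have h1 : eval₂ (algebraMap F L) (μ ^ q) (χ.map (iterateFrobenius F p k)) = 0 := by
    rw [eval₂_map]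
    have h2 : (algebraMap F L).comp (iterateFrobenius F p k) =
        (iterateFrobenius L p k).comp (algebraMap F L) := by
      ext x
      simp [iterateFrobenius_def]
    rw [hμq, h2, ← hom_eval₂, ← aeval_def, hμ, map_zero]
  rw [hsym, eval₂_neg, neg_eq_zero] at h1
  have hinv : Invertible ((μ ^ q)⁻¹) := invertibleOfNonzero (inv_ne_zero (pow_ne_zero _ hμ0))
  have h3 := eval₂_reverse_mul_pow (algebraMap F L) ((μ ^ q)⁻¹) χ
  rw [invOf_eq_inv, inv_inv, h1, zero_mul] at h3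
  rw [aeval_def]
  exact h3.symm

theorem adj_pow_card {F : Type*} [Field F] [Fintype F] (P : F[X]) (hP : Irreducible P)
    (x : AdjoinRoot P) : x ^ (Fintype.card F ^ P.natDegree) = x := by
  have : Fact (Irreducible P) := ⟨hP⟩
  have hP0 : P ≠ 0 := hP.ne_zero
  obtain ⟨pb, hpb⟩ : ∃ pb : PowerBasis F (AdjoinRoot P), pb = AdjoinRoot.powerBasis hP0 := ⟨_, rfl⟩
  have : Module.Finite F (AdjoinRoot P) := PowerBasis.finite pb
  have : Finite (AdjoinRoot P) := Module.finite_of_finite F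
  have hcard : Nat.card (AdjoinRoot P) = Fintype.card F ^ P.natDegree := by
    rw [Module.natCard_eq_pow_finrank (K := F), PowerBasis.finrank pb, hpb,
      AdjoinRoot.powerBasis_dim, Nat.card_eq_fintype_card]
  have := Fintype.ofFinite (AdjoinRoot P)
  have h := FiniteField.pow_card x
  rwa [Fintype.card_eq_nat_card, hcard] at h

theorem root3 {F L : Type*} [Field F] [Field L] [Algebra F L] (χ : F[X]) (hm : χ.Monic)
    (hd : χ.natDegree = 3) (r₁ r₂ r₃ : L) (h12 : r₁ ≠ r₂) (h13 : r₁ ≠ r₃) (h23 : r₂ ≠ r₃)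
    (h1 : aeval r₁ χ = 0) (h2 : aeval r₂ χ = 0) (h3 : aeval r₃ χ = 0) (μ : L)
    (hμ : aeval μ χ = 0) : μ = r₁ ∨ μ = r₂ ∨ μ = r₃ := by
  obtain ⟨P, hP⟩ : ∃ P : L[X], P = χ.map (algebraMap F L) := ⟨_, rfl⟩
  have hPm : P.Monic := hP ▸ hm.map _
  have hPd : P.natDegree = 3 := by rw [hP, hm.natDegree_map, hd]
  have hroot : ∀ x : L, aeval x χ = 0 → (X - C x) ∣ P := by
    intro x hx
    rw [dvd_iff_isRoot, IsRoot.def, hP, eval_map, ← aeval_def, hx]
  have hcop : ∀ u v : L, u ≠ v → IsCoprime (X - C u : L[X]) (X - C v) := fun u v huv =>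
    isCoprime_X_sub_C_of_isUnit_sub (sub_ne_zero.2 huv).isUnit
  have hD : (X - C r₁) * ((X - C r₂) * (X - C r₃)) ∣ P :=
    (IsCoprime.mul_right (hcop r₁ r₂ h12) (hcop r₁ r₃ h13)).mul_dvd (hroot r₁ h1)
      ((hcop r₂ r₃ h23).mul_dvd (hroot r₂ h2) (hroot r₃ h3))
  have hDm : ((X - C r₁) * ((X - C r₂) * (X - C r₃)) : L[X]).Monic :=
    (monic_X_sub_C r₁).mul ((monic_X_sub_C r₂).mul (monic_X_sub_C r₃))
  have hDd : ((X - C r₁) * ((X - C r₂) * (X - C r₃)) : L[X]).natDegree = 3 := by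
    rw [(monic_X_sub_C r₁).natDegree_mul ((monic_X_sub_C r₂).mul (monic_X_sub_C r₃)),
      (monic_X_sub_C r₂).natDegree_mul (monic_X_sub_C r₃), natDegree_X_sub_C, natDegree_X_sub_C,
      natDegree_X_sub_C]
  have hPD : P = (X - C r₁) * ((X - C r₂) * (X - C r₃)) :=
    eq_of_monic_of_dvd_of_natDegree_le hDm hPm hD (by rw [hPd, hDd])
  have h4 : eval μ P = 0 := by rw [hP, eval_map, ← aeval_def, hμ]
  rw [hPD] at h4
  simp only [eval_mul, eval_sub, eval_X, eval_C, mul_eq_zero, sub_eq_zero] at h4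
  exact h4

theorem cubic_caseU {F : Type*} [Field F] [Fintype F] (p : ℕ) [Fact p.Prime] [CharP F p]
    {q : ℕ} (hF : Fintype.card F = q ^ 2) (k : ℕ) (hk : q = p ^ k) (χ : F[X]) (hm : χ.Monic)
    (hd : χ.natDegree = 3) (h0 : χ.coeff 0 = -1) (hnr : ¬ ∃ a, χ.IsRoot a)
    (hsym : χ.map (iterateFrobenius F p k) = - χ.reverse) :
    ∃ c : F, χ ∣ X ^ ((q ^ 2 - q + 1) / Nat.gcd 3 (q + 1)) - C c := by
  have hq : 2 ≤ q := q_ge_two hF
  obtain ⟨-, hdA, -, -, -, -, -, -, -, hdq⟩ := arithU q hq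
  have hirr : Irreducible χ := by
    rw [hm.irreducible_iff_roots_eq_zero_of_degree_le_three (by omega) (by omega),
      Multiset.eq_zero_iff_forall_notMem]
    intro b hb
    exact hnr ⟨b, (mem_roots hm.ne_zero).1 hb⟩
  have : Fact (Irreducible χ) := ⟨hirr⟩
  obtain ⟨α, hα⟩ : ∃ α : AdjoinRoot χ, α = AdjoinRoot.root χ := ⟨_, rfl⟩
  have hq2' : q ^ 2 - 1 + 1 = q ^ 2 := by
    have : 1 ≤ q ^ 2 := Nat.one_le_pow _ _ (by omega)
    omega
  have hq2 := sq_sub_one q hq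
  -- norm relation
  have h1 := Cfsg.Agent.S2476.root_pow χ hirr hm
  rw [hd, h0, hF, ← hα] at h1
  have hq21 : 0 < q ^ 2 - 1 := by rw [hq2]; exact Nat.mul_pos (by omega) (by omega)
  have h2 : ((q ^ 2) ^ 3 - 1) / (q ^ 2 - 1) = q ^ 4 + q ^ 2 + 1 := by
    apply Nat.div_eq_of_eq_mul_right hq21
    have : (q ^ 2) ^ 3 + (q ^ 4 + q ^ 2 + 1) = (q ^ 2 - 1 + 1) * (q ^ 4 + q ^ 2 + 1) + 1 := by
      rw [hq2']; ring
    rw [add_mul, one_mul] at this
    omega
  rw [h2] at h1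
  have hα1 : α ^ (q ^ 4 + q ^ 2 + 1) = 1 := by
    rw [h1]; norm_num
  have hα0 : α ≠ 0 := by
    intro h
    rw [h, zero_pow (by positivity)] at hα1
    exact zero_ne_one hα1
  have hαr : aeval α χ = 0 := by
    rw [hα]; exact (Cfsg.Agent.S2476.aeval_root_iff χ χ).2 dvd_rfl
  -- Frobenius conjugates
  have hfrob : ∀ x : AdjoinRoot χ, aeval x χ = 0 → aeval (x ^ (q ^ 2)) χ = 0 := by
    intro x hx
    rw [← hF, ← expand_aeval, FiniteField.expand_card, map_pow, hx, zero_pow]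
    exact Fintype.card_ne_zero
  have hcard : ∀ x : AdjoinRoot χ, x ^ (q ^ 6) = x := by
    intro x
    have := adj_pow_card χ hirr x
    rwa [hd, hF, ← pow_mul] at this
  have hnotF : ∀ x : AdjoinRoot χ, aeval x χ = 0 → x ^ (q ^ 2) ≠ x := by
    intro x hx hcon
    rw [← hF] at hcon
    obtain ⟨c, hc⟩ := Cfsg.Agent.S2476.in_base x hcon
    rw [← hc, aeval_algebraMap_apply] at hx
    have h3 : eval c χ = 0 := by
      have h4 : aeval c χ = 0 := (algebraMap F (AdjoinRoot χ)).injective (by rw [hx, map_zero])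
      rwa [coe_aeval_eq_eval] at h4
    exact hnr ⟨c, h3⟩
  have hne1 := hnotF α hαr
  have hr2 := hfrob α hαr
  have hr3 := hfrob _ hr2
  have hQ3 : ((α ^ (q ^ 2)) ^ (q ^ 2)) ^ (q ^ 2) = α := by
    rw [← pow_mul, ← pow_mul, show q ^ 2 * (q ^ 2 * q ^ 2) = q ^ 6 by ring, hcard]
  have hne2 : α ^ (q ^ 2) ≠ (α ^ (q ^ 2)) ^ (q ^ 2) := by
    intro hcon
    apply hne1
    have h3 := hQ3
    rw [← hcon, ← hcon] at h3
    exact h3
  have hne3 : α ≠ (α ^ (q ^ 2)) ^ (q ^ 2) := by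
    intro hcon
    apply hne1
    have h3 := hQ3
    rw [← hcon] at h3
    exact h3
  have hq1 : ∀ x : AdjoinRoot χ, x ^ (q + 1) = 1 → x ^ (q ^ 2) = x := by
    intro x hx
    rw [← hq2', pow_succ, hq2, pow_mul, hx, one_pow, one_mul]
  have hqone : ∀ x : AdjoinRoot χ, x ^ q = 1 → x = 1 := by
    intro x hx
    have := hcard x
    rw [show q ^ 6 = q * q ^ 5 by ring, pow_mul, hx, one_pow] at this
    exact this.symm
  have hμ := root_symm p k hk χ hsym α hα0 hαr
  have hαq0 : α ^ q ≠ 0 := pow_ne_zero _ hα0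
  obtain ⟨N', hN'⟩ : ∃ N', N' = q ^ 2 - q + 1 := ⟨_, rfl⟩
  rw [← hN'] at hdA ⊢
  have hN'q : N' + q = q ^ 2 + 1 := by
    have : q ≤ q ^ 2 := Nat.le_self_pow two_ne_zero q
    omega
  have hαN : α ^ N' = 1 := by
    rcases root3 χ hm hd α (α ^ (q ^ 2)) ((α ^ (q ^ 2)) ^ (q ^ 2)) (Ne.symm hne1) hne3 hne2
      hαr hr2 hr3 _ hμ with h | h | h
    · exfalso
      apply hne1
      apply hq1
      calc α ^ (q + 1) = α ^ q * α := pow_succ _ _
        _ = α ^ q * (α ^ q)⁻¹ := by rw [h]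
        _ = 1 := mul_inv_cancel₀ hαq0
    · exfalso
      apply hne1
      apply hq1
      apply hqone
      rw [← pow_mul, show (q + 1) * q = q ^ 2 + q by ring, pow_add, ← h,
        inv_mul_cancel₀ hαq0]
    · have h3 : α ^ (q ^ 3 + 1) = 1 := by
        apply hqone
        rw [← pow_mul, show (q ^ 3 + 1) * q = q ^ 2 * q ^ 2 + q by ring, pow_add, pow_mul, ← h,
          inv_mul_cancel₀ hαq0]
      have h4 : (α ^ N') ^ (q + 1) = 1 := by
        rw [← pow_mul, ← h3]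
        congr 1
        have : (N' + q) * (q + 1) = q ^ 3 + 1 + q * (q + 1) := by rw [hN'q]; ring
        rw [add_mul] at this
        omega
      have h5 : (α ^ N') ^ (q ^ 2 + q + 1) = 1 := by
        rw [← pow_mul, ← hα1]
        congr 1
        have : (N' + q) * (q ^ 2 + q + 1) = q ^ 4 + q ^ 2 + 1 + q * (q ^ 2 + q + 1) := by
          rw [hN'q]; ring
        rw [add_mul] at this
        omega
      have h6 : (α ^ N') ^ (q ^ 2 + q + 1) = α ^ N' := by
        rw [show q ^ 2 + q + 1 = (q + 1) * q + 1 by ring, pow_succ, pow_mul, h4, one_pow, one_mul]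
      rw [← h6, h5]
  obtain ⟨A, hA⟩ : ∃ A, A = N' / Nat.gcd 3 (q + 1) := ⟨_, rfl⟩
  rw [← hA] at hdA ⊢
  have hzA : (α ^ A) ^ Fintype.card F = α ^ A := by
    rw [hF, ← pow_mul]
    have h3 : α ^ (A * (q ^ 2 - 1)) = 1 := by
      obtain ⟨t, ht⟩ := hdq
      rw [ht, show A * (Nat.gcd 3 (q + 1) * t) = Nat.gcd 3 (q + 1) * A * t by ring, hdA,
        pow_mul, hαN, one_pow]
    have h4 : A * q ^ 2 = A * (q ^ 2 - 1) + A := by
      rw [← hq2']
      simp only [Nat.add_sub_cancel]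
      ring
    rw [h4, pow_add, h3, one_mul]
  obtain ⟨c, hc⟩ := Cfsg.Agent.S2476.in_base (F := F) (L := AdjoinRoot χ) _ hzA
  refine ⟨c, ?_⟩
  rw [← Cfsg.Agent.S2476.aeval_root_iff]
  simp only [map_sub, map_pow, aeval_X, aeval_C]
  rw [← hα, hc, sub_self]

theorem quad_caseU {F : Type*} [Field F] [Fintype F] (p : ℕ) [Fact p.Prime] [CharP F p]
    {q : ℕ} (hF : Fintype.card F = q ^ 2) (k : ℕ) (hk : q = p ^ k) (a : F) (Q : F[X])
    (hm : Q.Monic) (hd : Q.natDegree = 2) (h0 : a * Q.coeff 0 = 1) (hnr : ¬ ∃ b, Q.IsRoot b)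
    (haq : a * a ^ q = 1)
    (hsym : ((X - C a) * Q).map (iterateFrobenius F p k) = - ((X - C a) * Q).reverse) :
    False := by
  have hq : 2 ≤ q := q_ge_two hF
  have hirr : Irreducible Q := by
    rw [hm.irreducible_iff_roots_eq_zero_of_degree_le_three (by omega) (by omega),
      Multiset.eq_zero_iff_forall_notMem]
    intro b hb
    exact hnr ⟨b, (mem_roots hm.ne_zero).1 hb⟩
  have : Fact (Irreducible Q) := ⟨hirr⟩
  obtain ⟨β, hβ⟩ : ∃ β : AdjoinRoot Q, β = AdjoinRoot.root Q := ⟨_, rfl⟩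
  have hβr : aeval β Q = 0 := by
    rw [hβ]; exact (Cfsg.Agent.S2476.aeval_root_iff Q Q).2 dvd_rfl
  have ha0 : a ≠ 0 := by
    rintro rfl
    rw [zero_mul] at h0
    exact zero_ne_one h0
  obtain ⟨ν, hν⟩ : ∃ ν : F, ν = Q.coeff 0 := ⟨_, rfl⟩
  obtain ⟨b, hb⟩ : ∃ b : F, b = Q.coeff 1 := ⟨_, rfl⟩
  rw [← hν] at h0
  have hQe : Q = X ^ 2 + C b * X + C ν := by
    have h1 := eq_quadratic_of_degree_le_two (p := Q) (by
      rw [degree_eq_natDegree hm.ne_zero, hd]; rfl)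
    have h2 : Q.coeff 2 = 1 := by
      have := hm.coeff_natDegree
      rwa [hd] at this
    rw [h2, C_1, one_mul, ← hb, ← hν] at h1
    exact h1
  have hev : ∀ x : AdjoinRoot Q, aeval x Q =
      x ^ 2 + algebraMap F (AdjoinRoot Q) b * x + algebraMap F (AdjoinRoot Q) ν := by
    intro x
    have h5 := congrArg (fun P : F[X] => aeval x P) hQe
    simp only [map_add, map_mul, map_pow, aeval_X, aeval_C] at h5
    exact h5
  have hβe := hev β
  rw [hβr] at hβe
  have hcard : ∀ x : AdjoinRoot Q, x ^ (q ^ 4) = x := by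
    intro x
    have := adj_pow_card Q hirr x
    rwa [hd, hF, ← pow_mul] at this
  have hβF : ∀ c : F, algebraMap F (AdjoinRoot Q) c ≠ β := by
    intro c hc
    have hx := hβr
    rw [← hc, aeval_algebraMap_apply] at hx
    have h4 : aeval c Q = 0 := (algebraMap F (AdjoinRoot Q)).injective (by rw [hx, map_zero])
    rw [coe_aeval_eq_eval] at h4
    exact hnr ⟨c, h4⟩
  have hβQ : β ^ (q ^ 2) ≠ β := by
    intro hcon
    rw [← hF] at hcon
    obtain ⟨c, hc⟩ := Cfsg.Agent.S2476.in_base β hcon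
    exact hβF c hc
  have hβ0 : β ≠ 0 := by
    intro h
    exact hβF 0 (by rw [map_zero, h])
  have hβq0 : β ^ q ≠ 0 := pow_ne_zero _ hβ0
  have hχβ : aeval β ((X - C a) * Q) = 0 := by rw [map_mul, hβr, mul_zero]
  have hμ := root_symm p k hk _ hsym β hβ0 hχβ
  rw [map_mul, mul_eq_zero] at hμ
  have haq' : algebraMap F (AdjoinRoot Q) a * (algebraMap F (AdjoinRoot Q) a) ^ q = 1 := by
    rw [← map_pow, ← map_mul, haq, map_one]
  have haν : algebraMap F (AdjoinRoot Q) a * algebraMap F (AdjoinRoot Q) ν = 1 := by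
    rw [← map_mul, h0, map_one]
  have hqone : ∀ x : AdjoinRoot Q, x ^ q = 1 → x = 1 := by
    intro x hx
    have := hcard x
    rw [show q ^ 4 = q * q ^ 3 by ring, pow_mul, hx, one_pow] at this
    exact this.symm
  obtain ⟨a', ha'⟩ : ∃ a' : AdjoinRoot Q, a' = algebraMap F (AdjoinRoot Q) a := ⟨_, rfl⟩
  rw [← ha'] at haq' haν
  have ha'0 : a' ≠ 0 := by
    intro h
    rw [h, zero_mul] at haν
    exact zero_ne_one haν
  rcases hμ with hμ | hμ
  · -- μ = a
    simp only [map_sub, aeval_X, aeval_C] at hμ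
    rw [sub_eq_zero, ← ha'] at hμ
    -- (β^q)⁻¹ = a' → β^q * a' = 1 → β^q = a'^q
    have h1 : β ^ q * a' = 1 := by rw [← hμ, mul_inv_cancel₀ hβq0]
    have h3 : β ^ q = a' ^ q := by
      have h4 : β ^ q * a' = a' ^ q * a' := by rw [h1, mul_comm, haq']
      exact mul_right_cancel₀ ha'0 h4
    have h2 : (β * a' ^ q) ^ q = 1 := by rw [mul_pow, h3, ← mul_pow, haq', one_pow]
    have h4 := hqone _ h2
    have h5 : β * a' ^ q = a' * a' ^ q := by rw [h4, haq']
    have h6 : β = a' := mul_right_cancel₀ (pow_ne_zero _ ha'0) h5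
    exact hβF a (by rw [← ha']; exact h6.symm)
  · -- μ root of Q
    rw [hev] at hμ
    obtain ⟨μ, hμdef⟩ : ∃ μ : AdjoinRoot Q, μ = (β ^ q)⁻¹ := ⟨_, rfl⟩
    rw [← hμdef] at hμ
    have hμβ : μ * β ^ q = 1 := by rw [hμdef, inv_mul_cancel₀ hβq0]
    have h1 : (μ - β) * (μ * β - algebraMap F (AdjoinRoot Q) ν) = 0 := by
      linear_combination β * hμ + μ * hβe
    rcases mul_eq_zero.1 h1 with h | h
    · -- μ = β : β^(q+1) = 1
      rw [sub_eq_zero] at h
      rw [h] at hμβ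
      apply hβQ
      -- β * β^q = 1 → β^(q^2) = β
      have h2 : β ^ q * β ^ (q ^ 2) = β ^ q * β := by
        rw [pow_two, pow_mul, ← mul_pow, hμβ, one_pow, mul_comm, hμβ]
      exact mul_left_cancel₀ hβq0 h2
    · -- μ β = ν : a β = β^q
      rw [sub_eq_zero] at h
      have h2 : β ^ q = a' * β := by
        have h3 : a' * (μ * β) = 1 := by rw [h, haν]
        calc β ^ q = (a' * (μ * β)) * β ^ q := by rw [h3, one_mul]
          _ = a' * β * (μ * β ^ q) := by ring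
          _ = a' * β := by rw [hμβ, mul_one]
      apply hβQ
      rw [pow_two, pow_mul, h2, mul_pow, h2, ← mul_assoc, mul_comm (a' ^ q), haq', one_mul]

theorem two_eqU {F : Type*} [Field F] [Fintype F] (p : ℕ) [Fact p.Prime] [CharP F p]
    (hp : p ≠ 2) {q : ℕ} (hF : Fintype.card F = q ^ 2) (u w : F)
    (huw : u ^ 2 * w = 1) (hu1 : u * u ^ q = 1) :
    ∃ c : F, (X - C u) ^ 2 * (X - C w) ∣
      X ^ (p * ((q + 1) / Nat.gcd 3 (q + 1))) - C c := by
  have hpp : p.Prime := Fact.out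
  have hq : 2 ≤ q := q_ge_two hF
  obtain ⟨-, -, -, h3e, -, -, -, -, -, -⟩ := arithU q hq
  obtain ⟨e, he⟩ : ∃ e, e = (q + 1) / Nat.gcd 3 (q + 1) := ⟨_, rfl⟩
  rw [← he] at h3e ⊢
  have hu0 : u ≠ 0 := by rintro rfl; simp at huw
  have hu3 : u ^ (3 * e) = 1 := by
    obtain ⟨t, ht⟩ := h3e
    rw [ht, pow_mul, pow_succ', hu1, one_pow]
  have hwe : w ^ e = u ^ e := by
    have h1 : w ^ e * (u ^ 2) ^ e = 1 := by rw [← mul_pow, mul_comm, huw, one_pow]
    have h2 : u ^ e * (u ^ 2) ^ e = 1 := by rw [← pow_mul, ← pow_add, ← hu3]; congr 1; ring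
    exact mul_right_cancel₀ (pow_ne_zero e (pow_ne_zero 2 hu0)) (h1.trans h2.symm)
  obtain ⟨f, hf⟩ : ∃ f : F[X], f = X ^ e - C (u ^ e) := ⟨_, rfl⟩
  have hfu : (X - C u) ∣ f := hf ▸ Cfsg.Agent.S2476.lin_dvd u _ e rfl
  have hfw : (X - C w) ∣ f := hf ▸ Cfsg.Agent.S2476.lin_dvd w _ e hwe
  have hfp : f ^ p = X ^ (p * e) - C ((u ^ e) ^ p) := by
    rw [hf, sub_pow_char, ← pow_mul, ← C_pow, mul_comm]
  have h3 : 3 ≤ p := by have := hpp.two_le; omega
  refine ⟨(u ^ e) ^ p, ?_⟩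
  rw [← hfp]
  by_cases huw' : w = u
  · rw [huw', ← pow_succ]
    exact (pow_dvd_pow_of_dvd hfu 3).trans (pow_dvd_pow f h3)
  · have hcop : IsCoprime ((X - C u : F[X]) ^ 2) (X - C w) :=
      (isCoprime_X_sub_C_of_isUnit_sub (sub_ne_zero.2 (Ne.symm huw')).isUnit).pow_left
    exact hcop.mul_dvd ((pow_dvd_pow_of_dvd hfu 2).trans (pow_dvd_pow f hpp.two_le))
      (hfw.trans (dvd_pow_self f hpp.ne_zero))

theorem fix_of_double {F : Type*} [Field F] [Fintype F] {q : ℕ} (hF : Fintype.card F = q ^ 2)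
    (u w : F) (huw : u ^ 2 * w = 1) (h1 : (u ^ q)⁻¹ = u ∨ (u ^ q)⁻¹ = w) : u * u ^ q = 1 := by
  have hu0 : u ≠ 0 := by rintro rfl; simp at huw
  have huq0 : u ^ q ≠ 0 := pow_ne_zero _ hu0
  have hFpow : ∀ c : F, c ^ (q * q) = c := fun c => by
    have := FiniteField.pow_card c
    rwa [hF, pow_two] at this
  rcases h1 with h | h
  · calc u * u ^ q = (u ^ q)⁻¹ * u ^ q := by rw [h]
      _ = 1 := inv_mul_cancel₀ huq0
  · -- w = (u^q)⁻¹
    have hwq : u ^ q * w = 1 := by rw [← h, mul_inv_cancel₀ huq0]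
    have h2 : u ^ q = u ^ 2 := by
      have : u ^ q * w = u ^ 2 * w := by rw [hwq, huw]
      have hw0 : w ≠ 0 := by rintro rfl; simp at huw
      exact mul_right_cancel₀ hw0 this
    -- w^q * u = 1
    have h3 : w ^ q * u = 1 := by
      rw [← h, inv_pow, ← pow_mul, hFpow, inv_mul_cancel₀ hu0]
    -- w^q = ((u^2)⁻¹)^q
    have h4 : u ^ 3 = 1 := by
      have h5 : (u ^ 2 * w) ^ q = 1 := by rw [huw, one_pow]
      rw [mul_pow, ← pow_mul, mul_comm 2 q, pow_mul, h2] at h5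
      -- (u^2)^2 * w^q = 1, and w^q * u = 1
      have h6 : (u ^ 2) ^ 2 * w ^ q * u = u := by rw [h5, one_mul]
      have h7 : (u ^ 2) ^ 2 = u := by
        calc (u ^ 2) ^ 2 = (u ^ 2) ^ 2 * (w ^ q * u) := by rw [h3, mul_one]
          _ = (u ^ 2) ^ 2 * w ^ q * u := by ring
          _ = u := h6
      have h8 : u ^ 3 * u = 1 * u := by linear_combination h7
      exact mul_right_cancel₀ hu0 h8
    rw [h2]
    linear_combination h4

theorem swap_case {F : Type*} [Field F] [Fintype F] {q : ℕ} (hF : Fintype.card F = q ^ 2)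
    (x y z : F) (hxyz : x * y * z = 1) (hy : (x ^ q)⁻¹ = y) :
    y ^ ((q - 1) * ((q + 1) / Nat.gcd 3 (q + 1))) = x ^ ((q - 1) * ((q + 1) / Nat.gcd 3 (q + 1))) ∧
    z ^ ((q - 1) * ((q + 1) / Nat.gcd 3 (q + 1))) = x ^ ((q - 1) * ((q + 1) / Nat.gcd 3 (q + 1)))
    := by
  have hq : 2 ≤ q := q_ge_two hF
  obtain ⟨-, -, -, h3e, hU5, -, -, -, -, -⟩ := arithU q hq
  obtain ⟨e, he⟩ : ∃ e, e = (q + 1) / Nat.gcd 3 (q + 1) := ⟨_, rfl⟩
  rw [← he] at h3e hU5 ⊢
  obtain ⟨B, hB⟩ : ∃ B, B = (q - 1) * e := ⟨_, rfl⟩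
  rw [← hB] at hU5 ⊢
  have hx0 : x ≠ 0 := by rintro rfl; simp at hxyz
  have hpow : ∀ M : ℕ, q ^ 2 - 1 ∣ M → x ^ M = 1 := by
    intro M hM
    apply Cfsg.Agent.S2476.pow_eq_one_of_dvd x hx0
    rwa [hF]
  have h3B : q ^ 2 - 1 ∣ 3 * B := by
    obtain ⟨t, ht⟩ := h3e
    rw [sq_sub_one q hq, hB]
    exact ⟨t, by rw [show 3 * ((q - 1) * e) = (q - 1) * (3 * e) by ring, ht]; ring⟩
  have h1 : y ^ B = x ^ B := by
    rw [← hy, inv_pow]
    apply inv_eq_of_mul_eq_one_left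
    rw [← pow_mul, ← pow_add]
    apply hpow
    have : B + q * B = (q + 1) * B := by ring
    rw [this]
    exact hU5
  refine ⟨h1, ?_⟩
  have h2 : z ^ B * (x ^ B * x ^ B) = 1 := by
    nth_rewrite 2 [← h1]
    rw [← mul_pow, ← mul_pow, mul_comm, hxyz, one_pow]
  have h3 : x ^ B * (x ^ B * x ^ B) = 1 := by
    rw [← pow_add, ← pow_add]
    apply hpow
    have : B + (B + B) = 3 * B := by ring
    rw [this]
    exact h3B
  exact mul_right_cancel₀ (mul_ne_zero (pow_ne_zero _ hx0) (pow_ne_zero _ hx0)) (h2.trans h3.symm)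

theorem split_caseU {F : Type*} [Field F] [Fintype F] (p : ℕ) [Fact p.Prime] [CharP F p]
    (hp : p ≠ 2) {q : ℕ} (hF : Fintype.card F = q ^ 2) (a b c : F) (habc : a * b * c = 1)
    (hτa : (a ^ q)⁻¹ = a ∨ (a ^ q)⁻¹ = b ∨ (a ^ q)⁻¹ = c)
    (hτb : (b ^ q)⁻¹ = a ∨ (b ^ q)⁻¹ = b ∨ (b ^ q)⁻¹ = c)
    (hτc : (c ^ q)⁻¹ = a ∨ (c ^ q)⁻¹ = b ∨ (c ^ q)⁻¹ = c) :
    (∃ c' : F, (X - C a) * ((X - C b) * (X - C c)) ∣ X ^ (q + 1) - C c') ∨
    (∃ c' : F, (X - C a) * ((X - C b) * (X - C c)) ∣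
      X ^ (p * ((q + 1) / Nat.gcd 3 (q + 1))) - C c') ∨
    (∃ c' : F, (X - C a) * ((X - C b) * (X - C c)) ∣
      X ^ ((q - 1) * ((q + 1) / Nat.gcd 3 (q + 1))) - C c') := by
  have ha0 : a ≠ 0 := by rintro rfl; simp at habc
  have hb0 : b ≠ 0 := by rintro rfl; simp at habc
  have hc0 : c ≠ 0 := by rintro rfl; simp at habc
  have hFpow : ∀ x : F, x ^ (q * q) = x := fun x => by
    have := FiniteField.pow_card x
    rwa [hF, pow_two] at this
  have hinv : ∀ x : F, (((x ^ q)⁻¹) ^ q)⁻¹ = x := by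
    intro x
    rw [inv_pow, inv_inv, ← pow_mul, hFpow]
  by_cases hab : a = b
  · right; left
    have h1 : (X - C a) * ((X - C b) * (X - C c)) = (X - C a) ^ 2 * (X - C c) := by
      rw [← hab]; ring
    rw [h1]
    have huw : a ^ 2 * c = 1 := by rw [← habc, ← hab]; ring
    refine two_eqU p hp hF a c huw (fix_of_double hF a c huw ?_)
    rcases hτa with h | h | h
    · exact Or.inl h
    · exact Or.inl (h.trans hab.symm)
    · exact Or.inr h
  by_cases hac : a = c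
  · right; left
    have h1 : (X - C a) * ((X - C b) * (X - C c)) = (X - C a) ^ 2 * (X - C b) := by
      rw [← hac]; ring
    rw [h1]
    have huw : a ^ 2 * b = 1 := by rw [← habc, ← hac]; ring
    refine two_eqU p hp hF a b huw (fix_of_double hF a b huw ?_)
    rcases hτa with h | h | h
    · exact Or.inl h
    · exact Or.inr h
    · exact Or.inl (h.trans hac.symm)
  by_cases hbc : b = c
  · right; left
    have h1 : (X - C a) * ((X - C b) * (X - C c)) = (X - C b) ^ 2 * (X - C a) := by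
      rw [← hbc]; ring
    rw [h1]
    have huw : b ^ 2 * a = 1 := by rw [← habc, ← hbc]; ring
    refine two_eqU p hp hF b a huw (fix_of_double hF b a huw ?_)
    rcases hτb with h | h | h
    · exact Or.inr h
    · exact Or.inl h
    · exact Or.inl (h.trans hbc.symm)
  have hcop : ∀ u v : F, u ≠ v → IsCoprime (X - C u : F[X]) (X - C v) := fun u v huv =>
    isCoprime_X_sub_C_of_isUnit_sub (sub_ne_zero.2 huv).isUnit
  have hprod : ∀ (M : ℕ) (s : F), a ^ M = s → b ^ M = s → c ^ M = s →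
      (X - C a) * ((X - C b) * (X - C c)) ∣ X ^ M - C s := fun M s h1 h2 h3 =>
    (IsCoprime.mul_right (hcop a b hab) (hcop a c hac)).mul_dvd
      (Cfsg.Agent.S2476.lin_dvd a s M h1)
      ((hcop b c hbc).mul_dvd (Cfsg.Agent.S2476.lin_dvd b s M h2)
        (Cfsg.Agent.S2476.lin_dvd c s M h3))
  have hfix : ∀ x : F, (x ^ q)⁻¹ = x → x ≠ 0 → x ^ (q + 1) = 1 := by
    intro x hx hx0
    calc x ^ (q + 1) = x ^ q * x := pow_succ _ _
      _ = x ^ q * (x ^ q)⁻¹ := by rw [hx]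
      _ = 1 := mul_inv_cancel₀ (pow_ne_zero _ hx0)
  rcases hτa with ha | ha | ha
  · rcases hτb with hb | hb | hb
    · exfalso
      apply hab
      have := hinv b
      rw [hb, ha] at this
      exact this
    · rcases hτc with hc | hc | hc
      · exfalso
        apply hac
        have := hinv c
        rw [hc, ha] at this
        exact this
      · exfalso
        apply hbc
        have := hinv c
        rw [hc, hb] at this
        exact this
      · left
        exact ⟨1, hprod (q + 1) 1 (hfix a ha ha0) (hfix b hb hb0) (hfix c hc hc0)⟩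
    · right; right
      obtain ⟨h1, h2⟩ := swap_case hF b c a (by rw [← habc]; ring) hb
      exact ⟨_, hprod _ _ h2 rfl h1⟩
  · right; right
    obtain ⟨h1, h2⟩ := swap_case hF a b c habc ha
    exact ⟨_, hprod _ _ rfl h1 h2⟩
  · right; right
    obtain ⟨h1, h2⟩ := swap_case hF a c b (by rw [← habc]; ring) ha
    exact ⟨_, hprod _ _ rfl h2 h1⟩

theorem order_dvd_psu {F : Type*} [Field F] [Fintype F] {q : ℕ} (hF : Fintype.card F = q ^ 2)
    (A : Cfsg.SU 3 F q) (M : ℕ) (c : F)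
    (h : (Cfsg.Agent.Lib.helper4.suM A) ^ M = c • (1 : Matrix (Fin 3) (Fin 3) F)) :
    orderOf (QuotientGroup.mk A : Cfsg.PSU 3 F q) ∣ M := by
  have hApow : ∀ j : ℕ,
      Cfsg.Agent.Lib.helper4.suM (A ^ j) = (Cfsg.Agent.Lib.helper4.suM A) ^ j := by
    intro j
    induction j with
    | zero => rw [pow_zero, pow_zero]; rfl
    | succ j ih => rw [pow_succ, pow_succ, Cfsg.Agent.Lib.helper4.suM_mul, ih]
  have hdetA : (Cfsg.Agent.Lib.helper4.suM A).det = 1 := A.1.2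
  apply orderOf_dvd_of_pow_eq_one
  rw [← QuotientGroup.mk_pow, ← QuotientGroup.mk_one,
    Cfsg.Agent.Lib.helper13.PU.mk_eq_iff hF (by norm_num)]
  have hc0 : c ≠ 0 := by
    rintro rfl
    have hd : ((Cfsg.Agent.Lib.helper4.suM A) ^ M).det = 1 := by
      rw [Matrix.det_pow, hdetA, one_pow]
    rw [h, zero_smul, Matrix.det_zero] at hd
    exact zero_ne_one hd
  refine ⟨c⁻¹, fun x => ?_⟩
  rw [Cfsg.Agent.Lib.helper4.suM_one, Matrix.one_mulVec, hApow, h, Matrix.smul_mulVec,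
    Matrix.one_mulVec, smul_smul, inv_mul_cancel₀ hc0, one_smul]

theorem sub_main {F : Type*} [Field F] [Fintype F] (p : ℕ) [Fact p.Prime] [CharP F p]
    (hp : p ≠ 2) {q : ℕ} (hF : Fintype.card F = q ^ 2) (A : Cfsg.SU 3 F q) :
    orderOf (QuotientGroup.mk A : Cfsg.PSU 3 F q) ∣ q + 1 ∨
    orderOf (QuotientGroup.mk A : Cfsg.PSU 3 F q) ∣ p * (q + 1) / Nat.gcd 3 (q + 1) ∨
    orderOf (QuotientGroup.mk A : Cfsg.PSU 3 F q) ∣ (q ^ 2 - 1) / Nat.gcd 3 (q + 1) ∨
    orderOf (QuotientGroup.mk A : Cfsg.PSU 3 F q) ∣ (q ^ 2 - q + 1) / Nat.gcd 3 (q + 1) := by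
  have hq : 2 ≤ q := q_ge_two hF
  obtain ⟨k, hk⟩ := q_pow p hF
  obtain ⟨-, -, hB, -, -, -, -, -, -, -⟩ := arithU q hq
  rw [hB, Nat.mul_div_assoc p (Nat.gcd_dvd_right 3 (q + 1))]
  obtain ⟨G, hG⟩ : ∃ G : Matrix (Fin 3) (Fin 3) F, G = Cfsg.Agent.Lib.helper4.suM A := ⟨_, rfl⟩
  have hGdet : G.det = 1 := by rw [hG]; exact A.1.2
  have hpres : ∀ u v, Cfsg.hermForm 3 F q (Matrix.mulVec G u) (Matrix.mulVec G v) =
      Cfsg.hermForm 3 F q u v := by
    rw [hG]; exact A.2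
  have hgram := su_gram (by omega : q ≠ 0) G hpres
  have hGmap : G.map (fun x => x ^ q) = G.map (iterateFrobenius F p k) := by
    rw [hk]; rfl
  rw [hGmap] at hgram
  obtain ⟨χ, hχ⟩ : ∃ χ, χ = G.charpoly := ⟨_, rfl⟩
  have hsym : χ.map (iterateFrobenius F p k) = - χ.reverse := by
    rw [hχ, ← Matrix.charpoly_map]
    exact charpoly_symm G _ hgram hGdet
  have hχm : χ.Monic := hχ ▸ Matrix.charpoly_monic _
  have hχd : χ.natDegree = 3 := by rw [hχ, Matrix.charpoly_natDegree_eq_dim, Fintype.card_fin]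
  have hχ0 : χ.coeff 0 = -1 := by
    have := Matrix.det_eq_sign_charpoly_coeff G
    rw [hGdet, Fintype.card_fin, ← hχ] at this
    linear_combination this
  have key : ∀ (M : ℕ) (c : F), χ ∣ X ^ M - C c →
      orderOf (QuotientGroup.mk A : Cfsg.PSU 3 F q) ∣ M :=
    fun M c h => order_dvd_psu hF A M c
      (hG ▸ Cfsg.Agent.S2476.scalar_of_dvd G M c (hχ ▸ h))
  have hτ : ∀ x : F, x ≠ 0 → χ.IsRoot x → χ.IsRoot ((x ^ q)⁻¹) := by
    intro x hx0 hx
    have h1 := root_symm p k hk χ hsym (L := F) x hx0 (by rw [coe_aeval_eq_eval]; exact hx)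
    rw [coe_aeval_eq_eval] at h1
    exact h1
  by_cases hr : ∃ a, χ.IsRoot a
  · obtain ⟨a, ha⟩ := hr
    have hfac : (X - C a) * (χ /ₘ (X - C a)) = χ := mul_divByMonic_eq_iff_isRoot.2 ha
    obtain ⟨Q, hQ⟩ : ∃ Q, Q = χ /ₘ (X - C a) := ⟨_, rfl⟩
    rw [← hQ] at hfac
    have hQm : Q.Monic := Monic.of_mul_monic_left (monic_X_sub_C a) (hfac ▸ hχm)
    have hQd : Q.natDegree = 2 := by
      have := congrArg natDegree hfac
      rw [Monic.natDegree_mul (monic_X_sub_C a) hQm, natDegree_X_sub_C, hχd] at this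
      omega
    have hQ0 : a * Q.coeff 0 = 1 := by
      have := congrArg (fun f => f.coeff 0) hfac
      simp only [mul_coeff_zero, coeff_sub, coeff_X_zero, coeff_C_zero, zero_sub] at this
      rw [hχ0] at this
      linear_combination -this
    have ha0 : a ≠ 0 := by
      rintro rfl
      rw [zero_mul] at hQ0
      exact zero_ne_one hQ0
    by_cases hr2 : ∃ b, Q.IsRoot b
    · obtain ⟨b, hb⟩ := hr2
      have hfac2 : (X - C b) * (Q /ₘ (X - C b)) = Q := mul_divByMonic_eq_iff_isRoot.2 hb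
      obtain ⟨Q2, hQ2⟩ : ∃ Q2, Q2 = Q /ₘ (X - C b) := ⟨_, rfl⟩
      rw [← hQ2] at hfac2
      have hQ2m : Q2.Monic := Monic.of_mul_monic_left (monic_X_sub_C b) (hfac2 ▸ hQm)
      have hQ2d : Q2.natDegree = 1 := by
        have := congrArg natDegree hfac2
        rw [Monic.natDegree_mul (monic_X_sub_C b) hQ2m, natDegree_X_sub_C, hQd] at this
        omega
      obtain ⟨c, hc⟩ : ∃ c, c = - Q2.coeff 0 := ⟨_, rfl⟩
      have hQ2e : Q2 = X - C c := by
        rw [hc, C_neg, sub_neg_eq_add]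
        exact hQ2m.eq_X_add_C hQ2d
      have hχe : χ = (X - C a) * ((X - C b) * (X - C c)) := by rw [← hQ2e, hfac2, hfac]
      have habc : a * b * c = 1 := by
        have := congrArg (fun f => f.coeff 0) hfac2
        simp only [mul_coeff_zero, coeff_sub, coeff_X_zero, coeff_C_zero, zero_sub] at this
        rw [← hQ0, ← this, hc]
        ring
      have hroots : ∀ x : F, χ.IsRoot x → x = a ∨ x = b ∨ x = c := by
        intro x hx
        rw [hχe, IsRoot.def] at hx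
        simp only [eval_mul, eval_sub, eval_X, eval_C, mul_eq_zero, sub_eq_zero] at hx
        exact hx
      have hrb : χ.IsRoot b := by rw [hχe, IsRoot.def]; simp
      have hrc : χ.IsRoot c := by rw [hχe, IsRoot.def]; simp
      have hb0 : b ≠ 0 := by rintro rfl; simp at habc
      have hc0 : c ≠ 0 := by rintro rfl; simp at habc
      have hsplit := split_caseU p hp hF a b c habc (hroots _ (hτ a ha0 ha))
        (hroots _ (hτ b hb0 hrb)) (hroots _ (hτ c hc0 hrc))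
      rw [hχe] at key
      rcases hsplit with ⟨c', h⟩ | ⟨c', h⟩ | ⟨c', h⟩
      · left; exact key _ c' h
      · right; left; exact key _ c' h
      · right; right; left; exact key _ c' h
    · exfalso
      have h1 := hτ a ha0 ha
      rw [← hfac, IsRoot.def, eval_mul] at h1
      simp only [eval_sub, eval_X, eval_C, mul_eq_zero, sub_eq_zero] at h1
      rcases h1 with h1 | h1
      · have haq : a * a ^ q = 1 := by
          calc a * a ^ q = (a ^ q)⁻¹ * a ^ q := by rw [h1]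
            _ = 1 := inv_mul_cancel₀ (pow_ne_zero _ ha0)
        rw [← hfac] at hsym
        exact quad_caseU p hF k hk a Q hQm hQd hQ0 hr2 haq hsym
      · exact hr2 ⟨_, h1⟩
  · obtain ⟨c, hc⟩ := cubic_caseU p hF k hk χ hχm hχd hχ0 hr hsym
    right; right; right
    exact key _ c hc

theorem main {F : Type*} [Field F] [Fintype F] (p : ℕ) [Fact p.Prime] [CharP F p]
    (hp : p ≠ 2) (q : ℕ) (hF : Fintype.card F = q ^ 2) :
    Set.range (orderOf : Cfsg.PSU 3 F q → ℕ) =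
      {s : ℕ | s ∣ q + 1} ∪ {s : ℕ | s ∣ p * (q + 1) / Nat.gcd 3 (q + 1)} ∪
        {s : ℕ | s ∣ (q ^ 2 - 1) / Nat.gcd 3 (q + 1)} ∪
        {s : ℕ | s ∣ (q ^ 2 - q + 1) / Nat.gcd 3 (q + 1)} := by
  have hpp : p.Prime := Fact.out
  have hq : 2 ≤ q := q_ge_two hF
  obtain ⟨hde, hdA, hB, -, -, -, -, -, -, -⟩ := arithU q hq
  have he0 : 0 < (q + 1) / Nat.gcd 3 (q + 1) := by
    apply Nat.pos_of_ne_zero
    intro h0
    rw [h0, mul_zero] at hde
    omega
  ext m
  simp only [Set.mem_range, Set.mem_union, Set.mem_setOf_eq]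
  constructor
  · rintro ⟨x, rfl⟩
    obtain ⟨A, rfl⟩ := QuotientGroup.mk_surjective x
    rcases sub_main p hp hF A with h | h | h | h
    · exact Or.inl (Or.inl (Or.inl h))
    · exact Or.inl (Or.inl (Or.inr h))
    · exact Or.inl (Or.inr h)
    · exact Or.inr h
  · have hgen : ∀ M : ℕ, 0 < M → (∃ x : Cfsg.PSU 3 F q, orderOf x = M) → m ∣ M →
        ∃ x : Cfsg.PSU 3 F q, orderOf x = m := by
      rintro M hM ⟨x, hx⟩ hm
      exact ⟨x ^ (orderOf x / m), orderOf_pow_orderOf_div (by rw [hx]; exact hM.ne') (hx ▸ hm)⟩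
    rintro (((h | h) | h) | h)
    · exact hgen _ (by omega) (elt_q1 hF) h
    · rw [Nat.mul_div_assoc p (Nat.gcd_dvd_right 3 (q + 1))] at h
      exact hgen _ (Nat.mul_pos hpp.pos he0) (elt_pe p hp hF) h
    · refine hgen _ ?_ (elt_B p hp hF) h
      rw [hB]
      exact Nat.mul_pos (by omega) he0
    · refine hgen _ ?_ (elt_singer p hp hF (FiniteField.Extension F p 3)
        (FiniteField.finrank_extension F p 3)) h
      apply Nat.pos_of_ne_zero
      intro h0
      rw [h0, mul_zero] at hdA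
      exact Nat.succ_ne_zero _ hdA.symm


end


/-- The set of element orders of PSU(3, q) for an odd prime power q = p^n: writing d = gcd(3, q + 1), a positive integer is the order of some element exactly when it divides one of q + 1, p(q + 1)/d, (q² − 1)/d, (q² − q + 1)/d. -/
theorem result {F : Type*} [Field F] [Fintype F] (p : ℕ) [Fact p.Prime] [CharP F p] (hp : p ≠ 2) (q : ℕ) (hF : Fintype.card F = q ^ 2) :
    Set.range (orderOf : Cfsg.PSU 3 F q → ℕ) =
      {s : ℕ | s ∣ q + 1} ∪ {s : ℕ | s ∣ p * (q + 1) / Nat.gcd 3 (q + 1)} ∪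
        {s : ℕ | s ∣ (q ^ 2 - 1) / Nat.gcd 3 (q + 1)} ∪ {s : ℕ | s ∣ (q ^ 2 - q + 1) / Nat.gcd 3 (q + 1)} := by
  exact main p hp q hF

end Cfsg.Agent.S2366
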