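import Cfsg.Statements.S2469
import Mathlib
import Cfsg.Agent.Lib.helper10.SpRS2

set_option autoImplicit false
open Cfsg

namespace Cfsg.Agent.S2469

open Matrix
open Cfsg.Agent.Lib.helper10.SpRS

theorem mk_pow_ne' {F : Type*} [Field F] {n : ℕ} (hn1 : 1 ≤ n)
    (A : Matrix.symplecticGroup (Fin n) F) (N : ℕ) (hN : Odd N) (hAN : A.1 ^ N = 1) (j : ℕ)
    (hj : A.1 ^ j ≠ 1) : (QuotientGroup.mk A : Cfsg.PSp n F) ^ j ≠ 1 := by
  intro h
  rw [← QuotientGroup.mk_pow] at h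
  have h1 := (Cfsg.Agent.Lib.helper13.PS.mk_eq_iff hn1 (A ^ j) 1).1
    (by rw [QuotientGroup.mk_one]; exact h)
  have hcoe : (A ^ j).1 = A.1 ^ j := by simp
  have hone : (1 : Matrix.symplecticGroup (Fin n) F).1 = 1 := rfl
  rw [hcoe, hone] at h1
  rcases h1 with h1 | h1
  · exact hj h1
  · have h2 : (A.1 ^ j) ^ N = 1 := by rw [← pow_mul, mul_comm, pow_mul, hAN, one_pow]
    rw [h1, hN.neg_pow, one_pow] at h2
    exact hj (by rw [h1]; exact h2)

theorem sq_of_mk_pow {F : Type*} [Field F] {n : ℕ} (hn1 : 1 ≤ n)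
    (A : Matrix.symplecticGroup (Fin n) F) (N : ℕ)
    (h : (QuotientGroup.mk A : Cfsg.PSp n F) ^ N = 1) : A ^ N * A ^ N = 1 := by
  rw [← QuotientGroup.mk_pow] at h
  have hz := (Cfsg.Agent.Lib.helper13.PS.mk_eq_iff hn1 (A ^ N) 1).1
    (by rw [QuotientGroup.mk_one]; exact h)
  have hone : (1 : Matrix.symplecticGroup (Fin n) F).1 = 1 := rfl
  rw [hone] at hz
  apply Subtype.ext
  show (A ^ N).1 * (A ^ N).1 = 1
  rcases hz with h | h
  · rw [h, Matrix.one_mul]
  · rw [h]; simp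

theorem main {F : Type*} [Field F] [Fintype F] (p : ℕ) [Fact p.Prime] [CharP F p] (n : ℕ)
    (hn : 2 ≤ n)
    (r s : ℕ) (hr : r.Prime) (hs : s.Prime) (hr2 : r ≠ 2) (hs2 : s ≠ 2) (hrp : r ≠ p)
    (hsp : s ≠ p) (hrs : r ≠ s)
    (hsG : s ∣ Nat.card (Cfsg.PSp n F))
    (k l ηk ηl : ℕ) (hk : k = orderOf ((Fintype.card F : ℕ) : ZMod r))
    (hl : l = orderOf ((Fintype.card F : ℕ) : ZMod s))
    (hηk : (Odd k ∧ ηk = k) ∨ (Even k ∧ 2 * ηk = k))
    (hηl : (Odd l ∧ ηl = l) ∨ (Even l ∧ 2 * ηl = l)) (hkl : ηk ≤ ηl) :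
    (r * s ∉ Set.range (orderOf : Cfsg.PSp n F → ℕ)) ↔
      (n < ηk + ηl ∧ ¬ ∃ t : ℕ, Odd t ∧ l = k * t) := by
  have hn1 : 1 ≤ n := by omega
  have hrodd := hr.odd_of_ne_two hr2
  have hsodd := hs.odd_of_ne_two hs2
  have hrsodd : Odd (r * s) := hrodd.mul hsodd
  have : Fact s.Prime := ⟨hs⟩
  constructor
  · intro hno
    by_contra hcon
    apply hno
    have hiso : IsoN F (r * s) (2 * n) := by
      by_cases h1 : n < ηk + ηl
      · have h2 : ∃ t : ℕ, Odd t ∧ l = k * t := by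
          by_contra h3
          exact hcon ⟨h1, h3⟩
        obtain ⟨t, ht, hlt⟩ := h2
        obtain ⟨m, hm, hI⟩ := iso_rs rfl r s k l hr hs hr2 hs2 hrp hsp hrs hk hl ηl hηl t ht hlt
        have hηn : ηl ≤ n := by
          obtain ⟨y', hy'⟩ := exists_prime_orderOf_dvd_card' s hsG
          obtain ⟨B, rfl⟩ := Cfsg.Agent.Lib.helper13.PS.exists_rep y'
          have hBo : (QuotientGroup.mk B : Cfsg.PSp n F) ^ s = 1 := by
            rw [← hy']; exact pow_orderOf_eq_one _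
          have hz2 := sq_of_mk_pow hn1 B s hBo
          have hY : (B ^ 2) ^ s = 1 := by
            rw [← pow_mul, mul_comm, pow_mul, pow_two]
            exact hz2
          have hY1 : B ^ 2 ≠ 1 := by
            intro h
            have h1 : (QuotientGroup.mk B : Cfsg.PSp n F) ^ 2 = 1 := by
              rw [← QuotientGroup.mk_pow, h, QuotientGroup.mk_one]
            have h2 := orderOf_dvd_of_pow_eq_one h1
            rw [hy'] at h2
            exact hs2 ((Nat.prime_dvd_prime_iff_eq hs Nat.prime_two).1 h2)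
          exact eta_le rfl n s l hs hsp hl ηl hηl (B ^ 2) hY hY1
        have h3 := iso_sum (r * s) 1 (2 * m) (2 * (n - m)) hI (iso_one (n - m))
        rw [Nat.lcm_one_right] at h3
        have e : 2 * m + 2 * (n - m) = 2 * n := by omega
        rw [e] at h3
        exact h3
      · have h3 := iso_sum _ _ _ _ (iso_sum r s (2 * ηk) (2 * ηl)
          (iso_prime rfl r k hr hr2 hrp hk ηk hηk) (iso_prime rfl s l hs hs2 hsp hl ηl hηl))
          (iso_one (F := F) (n - ηk - ηl))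
        rw [Nat.lcm_one_right, Nat.Coprime.lcm_eq_mul ((Nat.coprime_primes hr hs).2 hrs)] at h3
        have e : 2 * ηk + 2 * ηl + 2 * (n - ηk - ηl) = 2 * n := by omega
        rw [e] at h3
        exact h3
    obtain ⟨g, hg⟩ := iso_to_sp (r * s) n hiso
    refine ⟨QuotientGroup.mk g, ?_⟩
    apply orderOf_eq_of_pow_and_pow_div_prime (Nat.mul_pos hr.pos hs.pos)
    · have h1 : g ^ (r * s) = 1 := by
        apply Subtype.ext
        rw [SubmonoidClass.coe_pow]
        exact (hg _).2 dvd_rfl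
      rw [← QuotientGroup.mk_pow, h1, QuotientGroup.mk_one]
    · intro ℓ hℓ hdvd
      apply mk_pow_ne' hn1 g (r * s) hrsodd ((hg _).2 dvd_rfl)
      intro h
      have h2 := (hg _).1 h
      have hpos : 0 < r * s / ℓ :=
        Nat.div_pos (Nat.le_of_dvd (Nat.mul_pos hr.pos hs.pos) hdvd) hℓ.pos
      have hlt : r * s / ℓ < r * s := Nat.div_lt_self (Nat.mul_pos hr.pos hs.pos) hℓ.one_lt
      exact absurd (Nat.le_of_dvd hpos h2) (by omega)
  · rintro ⟨hlt, hnot⟩ hmem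
    obtain ⟨x', hx⟩ := hmem
    obtain ⟨A, rfl⟩ := Cfsg.Agent.Lib.helper13.PS.exists_rep x'
    have hAo : (QuotientGroup.mk A : Cfsg.PSp n F) ^ (r * s) = 1 := by
      rw [← hx]; exact pow_orderOf_eq_one _
    have hz2 := sq_of_mk_pow hn1 A (r * s) hAo
    have hX : (A ^ (2 * s)) ^ r = 1 := by
      rw [← pow_mul, show 2 * s * r = (r * s) * 2 by ring, pow_mul, pow_two]
      exact hz2
    have hX1 : A ^ (2 * s) ≠ 1 := by
      intro h
      have h1 : (QuotientGroup.mk A : Cfsg.PSp n F) ^ (2 * s) = 1 := by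
        rw [← QuotientGroup.mk_pow, h, QuotientGroup.mk_one]
      have h2 := orderOf_dvd_of_pow_eq_one h1
      rw [hx] at h2
      have h3 : r ∣ 2 := (Nat.mul_dvd_mul_iff_right hs.pos).1 h2
      exact hr2 ((Nat.prime_dvd_prime_iff_eq hr Nat.prime_two).1 h3)
    have hY : (A ^ (2 * r)) ^ s = 1 := by
      rw [← pow_mul, show 2 * r * s = (r * s) * 2 by ring, pow_mul, pow_two]
      exact hz2
    have hY1 : A ^ (2 * r) ≠ 1 := by
      intro h
      have h1 : (QuotientGroup.mk A : Cfsg.PSp n F) ^ (2 * r) = 1 := by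
        rw [← QuotientGroup.mk_pow, h, QuotientGroup.mk_one]
      have h2 := orderOf_dvd_of_pow_eq_one h1
      rw [hx, mul_comm 2 r] at h2
      have h3 : s ∣ 2 := (Nat.mul_dvd_mul_iff_left hr.pos).1 h2
      exact hs2 ((Nat.prime_dvd_prime_iff_eq hs Nat.prime_two).1 h3)
    exact no_rs rfl n r s k l hr hs hr2 hs2 hrp hsp hk hl ηk ηl hηk hηl hkl hlt hnot
      (A ^ (2 * s)) (A ^ (2 * r)) hX hX1 hY hY1 (pow_mul_comm A _ _)

/-- Adjacency of two odd primes in the prime graph of PSp(2n,q): let F be a finite field of characteristic p with q elements, n ≥ 2 with PSp(2n,F) simple, and let r ≠ s be odd primes different from p dividing the order of PSp(2n,F). Let k, l be the multiplicative orders of q modulo r and s, put η(m) = m for odd m and η(m) = m/2 for even m, and suppose η(k) ≤ η(l). Then PSp(2n,F) has NO element of order r·s if and only if η(k) + η(l) > n and l/k is not an odd integer. -/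
theorem result {F : Type*} [Field F] [Fintype F] (p : ℕ) [Fact p.Prime] [CharP F p] (n : ℕ) (hn : 2 ≤ n) (hsmall : n = 2 → 3 ≤ Fintype.card F)
    (r s : ℕ) (hr : r.Prime) (hs : s.Prime) (hr2 : r ≠ 2) (hs2 : s ≠ 2) (hrp : r ≠ p) (hsp : s ≠ p) (hrs : r ≠ s)
    (hrG : r ∣ Nat.card (Cfsg.PSp n F)) (hsG : s ∣ Nat.card (Cfsg.PSp n F))
    (k l ηk ηl : ℕ) (hk : k = orderOf ((Fintype.card F : ℕ) : ZMod r)) (hl : l = orderOf ((Fintype.card F : ℕ) : ZMod s))
    (hηk : (Odd k ∧ ηk = k) ∨ (Even k ∧ 2 * ηk = k)) (hηl : (Odd l ∧ ηl = l) ∨ (Even l ∧ 2 * ηl = l)) (hkl : ηk ≤ ηl) :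
    (r * s ∉ Set.range (orderOf : Cfsg.PSp n F → ℕ)) ↔ (n < ηk + ηl ∧ ¬ ∃ t : ℕ, Odd t ∧ l = k * t) := by
  exact main p n hn r s hr hs hr2 hs2 hrp hsp hrs hsG k l ηk ηl hk hl hηk hηl hkl

end Cfsg.Agent.S2469
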