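import Cfsg.Statements.S2472
import Mathlib
import Cfsg.Agent.Lib.helper10.SpRP2

set_option autoImplicit false
open Cfsg

namespace Cfsg.Agent.S2472

open Matrix
open Cfsg.Agent.Lib.helper10.SpRP Cfsg.Agent.Lib.helper10.OrthType

theorem mk_pow_ne {F : Type*} [Field F] {n : ℕ} (hn1 : 1 ≤ n)
    (A : Matrix.symplecticGroup (Fin n) F) (j : ℕ) (hj : A.1 ^ j ≠ 1)
    (v : Fin n ⊕ Fin n → F) (hv0 : v ≠ 0) (hv : A.1 *ᵥ v = v) :
    (QuotientGroup.mk A : Cfsg.PSp n F) ^ j ≠ 1 := by
  intro h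
  rw [← QuotientGroup.mk_pow] at h
  have h1 := (Cfsg.Agent.Lib.helper13.PS.mk_eq_iff hn1 (A ^ j) 1).1
    (by rw [QuotientGroup.mk_one]; exact h)
  have hcoe : (A ^ j).1 = A.1 ^ j := by simp
  have hone : (1 : Matrix.symplecticGroup (Fin n) F).1 = 1 := rfl
  rw [hcoe, hone] at h1
  rcases h1 with h1 | h1
  · exact hj h1
  · have h2 := eig_pow A.1 1 v (by rw [one_smul]; exact hv) j
    rw [h1, one_pow, one_smul, Matrix.neg_mulVec, Matrix.one_mulVec] at h2
    have h3 : (2 : F) • v = 0 := by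
      rw [two_smul]
      nth_rewrite 1 [← h2]
      exact neg_add_cancel v
    have h4 : (2 : F) = 0 := by
      rcases smul_eq_zero.1 h3 with h | h
      · exact h
      · exact absurd h hv0
    apply hj
    rw [h1]
    have h5 : (1 : Matrix (Fin n ⊕ Fin n) (Fin n ⊕ Fin n) F) + 1 = 0 := by
      rw [← two_smul F (1 : Matrix (Fin n ⊕ Fin n) (Fin n ⊕ Fin n) F), h4, zero_smul]
    exact neg_eq_of_add_eq_zero_left h5

theorem main {F : Type*} [Field F] [Fintype F] (p : ℕ) [Fact p.Prime] [CharP F p] (n : ℕ) (hn : 2 ≤ n) (hsmall : n = 2 → 3 ≤ Fintype.card F)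
    (r : ℕ) (hr : r.Prime) (hr2 : r ≠ 2) (hrp : r ≠ p) (hrG : r ∣ Nat.card (Cfsg.PSp n F))
    (k ηk : ℕ) (hk : k = orderOf ((Fintype.card F : ℕ) : ZMod r)) (hηk : (Odd k ∧ ηk = k) ∨ (Even k ∧ 2 * ηk = k)) :
    (r * p ∉ Set.range (orderOf : Cfsg.PSp n F → ℕ)) ↔ n - 1 < ηk := by
  have hn1 : 1 ≤ n := by omega
  have hpp : p.Prime := Fact.out
  constructor
  · intro hno
    by_contra hle
    have hle' : ηk ≤ n - 1 := by omega
    obtain ⟨s, v, hv0, hsv, hs1, hs2, hs3⟩ := exists_rp rfl n r k hr hr2 hrp hk ηk hηk hle' hn1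
    apply hno
    refine ⟨QuotientGroup.mk s, ?_⟩
    apply orderOf_eq_of_pow_and_pow_div_prime (Nat.mul_pos hr.pos hpp.pos)
    · have h1 : s ^ (r * p) = 1 := by
        apply Subtype.ext
        rw [SubmonoidClass.coe_pow]
        exact hs1
      rw [← QuotientGroup.mk_pow, h1, QuotientGroup.mk_one]
    · intro l hl hdvd
      rcases (Nat.Prime.dvd_mul hl).1 hdvd with h | h
      · have hlr : l = r := (Nat.prime_dvd_prime_iff_eq hl hr).1 h
        rw [hlr, Nat.mul_div_cancel_left _ hr.pos]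
        exact mk_pow_ne hn1 s p hs2 v hv0 hsv
      · have hlp : l = p := (Nat.prime_dvd_prime_iff_eq hl hpp).1 h
        rw [hlp, Nat.mul_div_cancel _ hpp.pos]
        exact mk_pow_ne hn1 s r hs3 v hv0 hsv
  · intro hlt hmem
    obtain ⟨x, hx⟩ := hmem
    obtain ⟨A, rfl⟩ := Cfsg.Agent.Lib.helper13.PS.exists_rep x
    have hAo : (QuotientGroup.mk A : Cfsg.PSp n F) ^ (r * p) = 1 := by
      rw [← hx]; exact pow_orderOf_eq_one _
    rw [← QuotientGroup.mk_pow] at hAo
    have hz := (Cfsg.Agent.Lib.helper13.PS.mk_eq_iff hn1 (A ^ (r * p)) 1).1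
      (by rw [QuotientGroup.mk_one]; exact hAo)
    have hone : (1 : Matrix.symplecticGroup (Fin n) F).1 = 1 := rfl
    rw [hone] at hz
    have hz2 : A ^ (r * p) * A ^ (r * p) = 1 := by
      apply Subtype.ext
      show (A ^ (r * p)).1 * (A ^ (r * p)).1 = 1
      rcases hz with h | h
      · rw [h, Matrix.one_mul]
      · rw [h]; simp
    have hzp : (A ^ (r * p)) ^ (p + 1) = 1 := by
      rcases hz with h | h
      · have h0 : A ^ (r * p) = 1 := Subtype.ext h
        rw [h0, one_pow]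
      · rcases Nat.even_or_odd (p + 1) with hev | hod
        · obtain ⟨j, hj⟩ := hev
          rw [hj, ← two_mul, pow_mul, pow_two, hz2, one_pow]
        · have hp2 : p = 2 := by
            have hpe : Even p := by
              rcases Nat.even_or_odd p with h1 | h1
              · exact h1
              · exact absurd h1.add_one (Nat.not_even_iff_odd.2 hod)
            exact (Nat.Prime.even_iff hpp).1 hpe
          have h2 : (2 : F) = 0 := by
            have h3 := CharP.cast_eq_zero F p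
            rw [hp2] at h3
            exact_mod_cast h3
          have h5 : (1 : Matrix (Fin n ⊕ Fin n) (Fin n ⊕ Fin n) F) + 1 = 0 := by
            rw [← two_smul F (1 : Matrix (Fin n ⊕ Fin n) (Fin n ⊕ Fin n) F), h2, zero_smul]
          have h0 : A ^ (r * p) = 1 :=
            Subtype.ext (by rw [h]; exact neg_eq_of_add_eq_zero_left h5)
          rw [h0, one_pow]
    have hys : (A ^ (2 * p)) ^ r = 1 := by
      rw [← pow_mul, show 2 * p * r = (r * p) * 2 by ring, pow_mul, pow_two]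
      exact hz2
    have hys1 : A ^ (2 * p) ≠ 1 := by
      intro h
      have h1 : (QuotientGroup.mk A : Cfsg.PSp n F) ^ (2 * p) = 1 := by
        rw [← QuotientGroup.mk_pow, h, QuotientGroup.mk_one]
      have h2 := orderOf_dvd_of_pow_eq_one h1
      rw [hx] at h2
      have h3 : r ∣ 2 := (Nat.mul_dvd_mul_iff_right hpp.pos).1 h2
      exact hr2 ((Nat.prime_dvd_prime_iff_eq hr Nat.prime_two).1 h3)
    have hyu : (A ^ (r * (p + 1))) ^ p = 1 := by
      rw [← pow_mul, show r * (p + 1) * p = (r * p) * (p + 1) by ring, pow_mul]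
      exact hzp
    have hyu1 : A ^ (r * (p + 1)) ≠ 1 := by
      intro h
      have h1 : (QuotientGroup.mk A : Cfsg.PSp n F) ^ (r * (p + 1)) = 1 := by
        rw [← QuotientGroup.mk_pow, h, QuotientGroup.mk_one]
      have h2 := orderOf_dvd_of_pow_eq_one h1
      rw [hx] at h2
      have h3 : p ∣ p + 1 := (Nat.mul_dvd_mul_iff_left hr.pos).1 h2
      have h4 : p ∣ 1 := (Nat.dvd_add_right (dvd_refl p)).1 h3
      exact hpp.one_lt.ne' (Nat.dvd_one.1 h4)
    exact no_rp rfl n r k hr hr2 hrp hk ηk hηk hlt hn1 (A ^ (2 * p)) (A ^ (r * (p + 1))) hys hys1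
      hyu hyu1 (pow_mul_comm A _ _)

/-- Adjacency of a prime and the characteristic in the prime graph of PSp(2n,q): let F be a finite field of characteristic p with q elements, n ≥ 2 with PSp(2n,F) simple, and let r ≠ p be an odd prime dividing the order of PSp(2n,F), with k the multiplicative order of q modulo r and η(k) = k for odd k, k/2 for even k. Then PSp(2n,F) has NO element of order r·p if and only if η(k) > n − 1. -/
theorem result {F : Type*} [Field F] [Fintype F] (p : ℕ) [Fact p.Prime] [CharP F p] (n : ℕ) (hn : 2 ≤ n) (hsmall : n = 2 → 3 ≤ Fintype.card F)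
    (r : ℕ) (hr : r.Prime) (hr2 : r ≠ 2) (hrp : r ≠ p) (hrG : r ∣ Nat.card (Cfsg.PSp n F))
    (k ηk : ℕ) (hk : k = orderOf ((Fintype.card F : ℕ) : ZMod r)) (hηk : (Odd k ∧ ηk = k) ∨ (Even k ∧ 2 * ηk = k)) :
    (r * p ∉ Set.range (orderOf : Cfsg.PSp n F → ℕ)) ↔ n - 1 < ηk := by
  exact main p n hn hsmall r hr hr2 hrp hrG k ηk hk hηk

end Cfsg.Agent.S2472
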