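import Cfsg.Statements.S2477
import Mathlib
-- import your own Cfsg.Agent.* helpers here

set_option autoImplicit false
open Cfsg

namespace Cfsg.Agent.S2477

open Equiv Equiv.Perm

theorem mem_range_orderOf_alt_iff (n m : ℕ) :
    m ∈ Set.range (orderOf : alternatingGroup (Fin n) → ℕ) ↔
      ∃ c : Multiset ℕ, c.sum ≤ n ∧ (∀ a ∈ c, 2 ≤ a) ∧ c.lcm = m ∧ Even (c.sum + Multiset.card c) := by
  constructor
  · rintro ⟨g, rfl⟩
    refine ⟨g.1.cycleType, ?_, fun a ha => two_le_of_mem_cycleType ha, ?_, ?_⟩
    · simpa using g.1.sum_cycleType_le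
    · rw [lcm_cycleType, Subgroup.orderOf_coe]
    · have h := g.2
      rw [mem_alternatingGroup, sign_of_cycleType] at h
      by_contra hne
      rw [Nat.not_even_iff_odd] at hne
      rw [hne.neg_one_pow] at h
      exact absurd h (by decide)
  · rintro ⟨c, hsum, h2, hlcm, hev⟩
    obtain ⟨σ, hσ⟩ := (exists_with_cycleType_iff (α := Fin n)).mpr ⟨by simpa using hsum, h2⟩
    have hmem : σ ∈ alternatingGroup (Fin n) := by
      rw [mem_alternatingGroup, sign_of_cycleType, hσ, hev.neg_one_pow]
    refine ⟨⟨σ, hmem⟩, ?_⟩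
    rw [← Subgroup.orderOf_coe, ← lcm_cycleType, hσ, hlcm]

def check (S : List ℕ) : ℕ → ℕ → ℕ → Bool → Bool
  | 0, _, _, _ => false
  | f + 1, B, L, e =>
    (!e || S.contains L) &&
      (List.range (B + 1)).all (fun a => decide (a < 2) || check S f (B - a) (Nat.lcm L a) (xor e (a % 2 == 0)))

theorem check_sound (S : List ℕ) (c : Multiset ℕ) :
    ∀ (f B L : ℕ) (e : Bool), Multiset.card c < f → (∀ a ∈ c, 2 ≤ a) → c.sum ≤ B →
      check S f B L e = true → e = decide (Even (c.sum + Multiset.card c)) → Nat.lcm L c.lcm ∈ S := by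
  induction c using Multiset.induction_on with
  | empty =>
    intro f B L e hf _ _ hc he
    obtain ⟨f, rfl⟩ : ∃ f', f = f' + 1 := ⟨f - 1, by simp at hf; omega⟩
    simp only [check, Bool.and_eq_true, Bool.or_eq_true, Bool.not_eq_true'] at hc
    simp at he
    subst he
    simpa using hc.1
  | cons a c ih =>
    intro f B L e hf h2 hB hc he
    obtain ⟨f, rfl⟩ : ∃ f', f = f' + 1 := ⟨f - 1, by simp at hf; omega⟩
    simp only [check, Bool.and_eq_true, List.all_eq_true, List.mem_range, Bool.or_eq_true,
      decide_eq_true_eq] at hc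
    have ha2 : 2 ≤ a := h2 a (Multiset.mem_cons_self a c)
    simp only [Multiset.sum_cons] at hB
    have hc2 := (hc.2 a (by omega)).resolve_left (by omega)
    have := ih f (B - a) (Nat.lcm L a) (xor e (a % 2 == 0)) (by simpa using hf)
      (fun b hb => h2 b (Multiset.mem_cons_of_mem hb)) (by omega) hc2 (by
        subst he
        simp only [Multiset.sum_cons, Multiset.card_cons]
        rcases Nat.even_or_odd a with h | h <;> rcases Nat.even_or_odd (c.sum + Multiset.card c) with h' | h'
        all_goals simp_all [Nat.even_add, Nat.even_iff, Nat.odd_iff, parity_simps]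
        all_goals omega)
    rw [Multiset.lcm_cons, lcm_eq_nat_lcm, ← Nat.lcm_assoc]
    exact this


/-- The set of element orders of the alternating group of degree 10 is {1, 2, 3, 4, 5, 6, 7, 8, 9, 10, 12, 15, 21}. -/
theorem result : Set.range (orderOf : alternatingGroup (Fin 10) → ℕ) = {1, 2, 3, 4, 5, 6, 7, 8, 9, 10, 12, 15, 21} := by
  ext m
  rw [mem_range_orderOf_alt_iff]
  constructor
  · rintro ⟨c, hsum, h2, rfl, hev⟩
    have hcard : Multiset.card c < 11 := by
      have : 2 * Multiset.card c ≤ c.sum := by
        have := Multiset.card_nsmul_le_sum (s := c) (a := 2) h2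
        simpa [mul_comm] using this
      omega
    have := check_sound [1, 2, 3, 4, 5, 6, 7, 8, 9, 10, 12, 15, 21] c 11 10 1 true hcard h2 hsum (by decide)
      (by simpa using hev)
    simpa using this
  · intro hm
    simp only [Set.mem_insert_iff, Set.mem_singleton_iff] at hm
    rcases hm with rfl | rfl | rfl | rfl | rfl | rfl | rfl | rfl | rfl | rfl | rfl | rfl | rfl
    · exact ⟨0, by decide, by simp, by decide, by decide⟩
    · exact ⟨{2, 2}, by decide, by simp, by decide, by decide⟩
    · exact ⟨{3}, by decide, by simp, by decide, by decide⟩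
    · exact ⟨{4, 2}, by decide, by simp, by decide, by decide⟩
    · exact ⟨{5}, by decide, by simp, by decide, by decide⟩
    · exact ⟨{3, 2, 2}, by decide, by simp, by decide, by decide⟩
    · exact ⟨{7}, by decide, by simp, by decide, by decide⟩
    · exact ⟨{8, 2}, by decide, by simp, by decide, by decide⟩
    · exact ⟨{9}, by decide, by simp, by decide, by decide⟩
    · exact ⟨{5, 2, 2}, by decide, by simp, by decide, by decide⟩
    · exact ⟨{4, 3, 2}, by decide, by simp, by decide, by decide⟩
    · exact ⟨{5, 3}, by decide, by simp, by decide, by decide⟩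
    · exact ⟨{7, 3}, by decide, by simp, by decide, by decide⟩

end Cfsg.Agent.S2477
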