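import Cfsg.Statements.S2530
import Mathlib

set_option autoImplicit false
open Cfsg

namespace Cfsg.Agent.S2530

section Helpers

universe u

theorem cox_step {G : Type u} [Group G] (n : ℕ) (t : ℕ → G) (H : Subgroup G)
    (R1 : ∀ j, t j * t j = 1)
    (R2 : ∀ i j, i + 1 < j → t i * t j = t j * t i)
    (R3 : ∀ i, i + 1 < n + 1 → t i * t (i + 1) * t i = t (i + 1) * t i * t (i + 1))
    (hH : ∀ j, j < n → t j ∈ H)
    (d : ℕ → G) (hd0 : d 0 = 1) (hds : ∀ m, d (m + 1) = d m * t (n - m)) :
    ∀ m, m ≤ n + 1 → ∀ j, j ≤ n → ∃ m', m' ≤ n + 1 ∧ ∃ h ∈ H, d m * t j = h * d m' := by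
  have B : ∀ m j, j + m < n → d m * t j = t j * d m := by
    intro m
    induction m with
    | zero => intro j _; rw [hd0, one_mul, mul_one]
    | succ m ih =>
      intro j hj
      rw [hds, mul_assoc, ← R2 j (n - m) (by omega), ← mul_assoc, ih j (by omega), mul_assoc]
  have A : ∀ m, m ≤ n + 1 → ∀ j, n + 1 < j + m → j ≤ n → d m * t j = t (j - 1) * d m := by
    intro m
    induction m with
    | zero => intro _ j h1 h2; omega
    | succ m ih =>
      intro hm j h1 h2
      rcases Nat.lt_or_ge (n + 1) (j + m) with h3 | h3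
      · rw [hds, mul_assoc, R2 (n - m) j (by omega), ← mul_assoc, ih (by omega) j h3 h2,
          mul_assoc]
      · have hjm : j + m = n + 1 := by omega
        obtain ⟨m', rfl⟩ : ∃ m', m = m' + 1 := ⟨m - 1, by omega⟩
        have e1 : n - m' = j := by omega
        have e2 : n - (m' + 1) = j - 1 := by omega
        have e3 : j - 1 + 1 = j := by omega
        have hR3 := R3 (j - 1) (by omega)
        rw [e3] at hR3
        have hB := B m' (j - 1) (by omega)
        rw [hds (m' + 1), hds m', e1, e2]
        calc d m' * t j * t (j - 1) * t j = d m' * (t j * t (j - 1) * t j) := by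
              simp only [mul_assoc]
          _ = d m' * (t (j - 1) * t j * t (j - 1)) := by rw [hR3]
          _ = (d m' * t (j - 1)) * t j * t (j - 1) := by simp only [mul_assoc]
          _ = t (j - 1) * (d m' * t j * t (j - 1)) := by rw [hB]; simp only [mul_assoc]
  intro m hm j hj
  rcases Nat.lt_trichotomy (j + m) n with h1 | h1 | h1
  · exact ⟨m, hm, t j, hH j (by omega), B m j h1⟩
  · refine ⟨m + 1, by omega, 1, H.one_mem, ?_⟩
    rw [hds, one_mul]
    congr 2
    omega
  · rcases Nat.lt_or_ge (n + 1) (j + m) with h3 | h3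
    · exact ⟨m, hm, t (j - 1), hH _ (by omega), A m hm j h3 hj⟩
    · obtain ⟨m', rfl⟩ : ∃ m', m = m' + 1 := ⟨m - 1, by omega⟩
      refine ⟨m', by omega, 1, H.one_mem, ?_⟩
      have e1 : n - m' = j := by omega
      rw [hds, e1, mul_assoc, R1, mul_one, one_mul]

theorem cox_card_le : ∀ (n : ℕ) (G : Type u) [Group G] (s : Fin n → G),
    (∀ i, s i * s i = 1) →
    (∀ i j : Fin n, (i : ℕ) + 1 < j → s i * s j = s j * s i) →
    (∀ i j : Fin n, (i : ℕ) + 1 = j → s i * s j * s i = s j * s i * s j) →
    Subgroup.closure (Set.range s) = ⊤ → Finite G ∧ Nat.card G ≤ (n + 1).factorial := by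
  intro n
  induction n with
  | zero =>
    intro G _ s _ _ _ hcl
    have hall : ∀ g : G, g = 1 := by
      intro g
      have h1 : g ∈ Subgroup.closure (Set.range s) := by rw [hcl]; exact Subgroup.mem_top g
      have h2 : Set.range s = ∅ := Set.range_eq_empty s
      rw [h2, Subgroup.closure_empty] at h1
      exact Subgroup.mem_bot.mp h1
    have hsub : Subsingleton G := ⟨fun a b => by rw [hall a, hall b]⟩
    refine ⟨inferInstance, ?_⟩
    rw [Nat.card_unique]
    simp
  | succ n ih =>
    intro G _ s r1 r2 r3 hcl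
    let t : ℕ → G := fun j => if h : j < n + 1 then s ⟨j, h⟩ else 1
    have ht : ∀ i : Fin (n + 1), s i = t i := by
      intro i
      show s i = (if h : (i : ℕ) < n + 1 then s ⟨i, h⟩ else 1)
      rw [dif_pos i.2]
    have htlt : ∀ j (h : j < n + 1), t j = s ⟨j, h⟩ := by
      intro j h
      show (if h : j < n + 1 then s ⟨j, h⟩ else 1) = _
      rw [dif_pos h]
    have htge : ∀ j, n + 1 ≤ j → t j = 1 := by
      intro j h
      have h' : ¬ j < n + 1 := by omega
      show (if h : j < n + 1 then s ⟨j, h⟩ else 1) = _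
      rw [dif_neg h']
    have R1 : ∀ j, t j * t j = 1 := by
      intro j
      by_cases h : j < n + 1
      · rw [htlt j h]; exact r1 _
      · rw [htge j (by omega), one_mul]
    have R2 : ∀ i j, i + 1 < j → t i * t j = t j * t i := by
      intro i j hij
      by_cases h : j < n + 1
      · rw [htlt j h, htlt i (by omega)]
        exact r2 _ _ hij
      · rw [htge j (by omega), one_mul, mul_one]
    have R3 : ∀ i, i + 1 < n + 1 → t i * t (i + 1) * t i = t (i + 1) * t i * t (i + 1) := by
      intro i hi
      rw [htlt (i + 1) hi, htlt i (by omega)]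
      exact r3 _ _ rfl
    let H : Subgroup G := Subgroup.closure (Set.range (fun i : Fin n => s i.castSucc))
    have hH : ∀ j, j < n → t j ∈ H := by
      intro j hj
      rw [htlt j (by omega)]
      exact Subgroup.subset_closure ⟨⟨j, hj⟩, rfl⟩
    let s' : Fin n → H := fun i => ⟨s i.castSucc, Subgroup.subset_closure ⟨i, rfl⟩⟩
    have hcl' : Subgroup.closure (Set.range s') = ⊤ := by
      have h1 := Subgroup.closure_closure_coe_preimage
        (k := Set.range (fun i : Fin n => s i.castSucc))
      have h2 : ((↑) : H → G) ⁻¹' (Set.range (fun i : Fin n => s i.castSucc)) = Set.range s' := by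
        ext x
        constructor
        · rintro ⟨i, hi⟩
          exact ⟨i, Subtype.ext hi⟩
        · rintro ⟨i, rfl⟩
          exact ⟨i, rfl⟩
      rw [← h2]
      exact h1
    obtain ⟨hfin, hcard⟩ := ih H s' (fun i => Subtype.ext (r1 _))
      (fun i j hij => Subtype.ext (r2 _ _ (by simpa using hij)))
      (fun i j hij => Subtype.ext (r3 _ _ (by simpa using hij))) hcl'
    let d : ℕ → G := fun m => Nat.rec (motive := fun _ => G) 1 (fun m acc => acc * t (n - m)) m
    have hd0 : d 0 = 1 := rfl
    have hds : ∀ m, d (m + 1) = d m * t (n - m) := fun m => rfl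
    have hstep := cox_step n t H R1 R2 R3 hH d hd0 hds
    have hX : ∀ g : G, ∃ m, m ≤ n + 1 ∧ ∃ h ∈ H, g = h * d m := by
      intro g
      have hg : g ∈ Subgroup.closure (Set.range s) := by rw [hcl]; exact Subgroup.mem_top g
      have hmul : ∀ x : G, (∃ m, m ≤ n + 1 ∧ ∃ h ∈ H, x = h * d m) → ∀ i : Fin (n + 1),
          ∃ m, m ≤ n + 1 ∧ ∃ h ∈ H, x * s i = h * d m := by
        rintro x ⟨m, hm, h, hh, rfl⟩ i
        obtain ⟨m', hm', h', hh', he⟩ := hstep m hm i (by have := i.2; omega)
        refine ⟨m', hm', h * h', H.mul_mem hh hh', ?_⟩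
        rw [ht i, mul_assoc, he, mul_assoc]
      refine Subgroup.closure_induction_right (p := fun x _ => ∃ m, m ≤ n + 1 ∧ ∃ h ∈ H, x = h * d m)
        ⟨0, by omega, 1, H.one_mem, by rw [hd0, one_mul]⟩ ?_ ?_ hg
      · rintro x _ _ ⟨i, rfl⟩ hx
        exact hmul x hx i
      · rintro x _ _ ⟨i, rfl⟩ hx
        have hinv : (s i)⁻¹ = s i := inv_eq_of_mul_eq_one_left (r1 i)
        rw [hinv]
        exact hmul x hx i
    let φ : Fin (n + 2) × H → G := fun p => (p.2 : G) * d p.1
    have hφ : Function.Surjective φ := by
      intro g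
      obtain ⟨m, hm, h, hh, rfl⟩ := hX g
      exact ⟨(⟨m, by omega⟩, ⟨h, hh⟩), rfl⟩
    have hfinG : Finite G := Finite.of_surjective φ hφ
    refine ⟨hfinG, ?_⟩
    have h1 := Nat.card_le_card_of_surjective φ hφ
    rw [Nat.card_prod, Nat.card_fin] at h1
    calc Nat.card G ≤ (n + 2) * Nat.card H := h1
      _ ≤ (n + 2) * (n + 1).factorial := Nat.mul_le_mul_left _ hcard
      _ = (n + 1 + 1).factorial := by rw [Nat.factorial_succ (n + 1)]

theorem A_apply (n : ℕ) (i j : Fin n) : (CoxeterMatrix.A n) i j =
    if i = j then 1 else (if (j : ℕ) + 1 = i ∨ (i : ℕ) + 1 = j then 3 else 2) := rfl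

theorem swap_liftable (n : ℕ) : (CoxeterMatrix.A n).IsLiftable
    (fun i : Fin n => Equiv.swap i.castSucc i.succ) := by
  intro i j
  show (Equiv.swap i.castSucc i.succ * Equiv.swap j.castSucc j.succ) ^ (CoxeterMatrix.A n) i j = 1
  rw [A_apply]
  have key : ∀ a b : Fin n, (a : ℕ) + 1 = b →
      (Equiv.swap a.castSucc a.succ * Equiv.swap b.castSucc b.succ) ^ 3 = 1 := by
    intro a b hab
    have hb : b.castSucc = a.succ := by
      apply Fin.ext
      simp [hab]
    have h1 : a.castSucc ≠ a.succ := (Fin.castSucc_lt_succ (i := a)).ne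
    have h2 : a.succ ≠ b.succ := by
      intro h
      have := congrArg Fin.val h
      simp at this
      omega
    have h3 : a.castSucc ≠ b.succ := by
      intro h
      have := congrArg Fin.val h
      simp at this
      omega
    rw [hb]
    have e1 : Equiv.swap a.castSucc a.succ * Equiv.swap a.succ b.succ * Equiv.swap a.castSucc a.succ
        = Equiv.swap a.castSucc b.succ := by
      have := Equiv.swap_mul_swap_mul_swap (x := b.succ) (y := a.succ) (z := a.castSucc)
        h2.symm h3.symm
      rw [Equiv.swap_comm a.succ a.castSucc, Equiv.swap_comm b.succ a.succ] at this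
      exact this
    have e2 : Equiv.swap a.succ b.succ * Equiv.swap a.castSucc a.succ * Equiv.swap a.succ b.succ
        = Equiv.swap a.castSucc b.succ := by
      have := Equiv.swap_mul_swap_mul_swap (x := a.castSucc) (y := a.succ) (z := b.succ) h1 h3
      rw [Equiv.swap_comm b.succ a.castSucc] at this
      exact this
    have e3 : (Equiv.swap a.castSucc a.succ * Equiv.swap a.succ b.succ) ^ 3
        = (Equiv.swap a.castSucc a.succ * Equiv.swap a.succ b.succ * Equiv.swap a.castSucc a.succ)
          * (Equiv.swap a.succ b.succ * Equiv.swap a.castSucc a.succ * Equiv.swap a.succ b.succ) := by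
      rw [pow_succ, pow_two]; simp only [mul_assoc]
    rw [e3, e1, e2, Equiv.swap_mul_self]
  by_cases hij : i = j
  · rw [if_pos hij, hij, pow_one, Equiv.swap_mul_self]
  · rw [if_neg hij]
    by_cases hadj : (j : ℕ) + 1 = i ∨ (i : ℕ) + 1 = j
    · rw [if_pos hadj]
      rcases hadj with h | h
      · have h1 := key j i h
        have h2 : (Equiv.swap i.castSucc i.succ * Equiv.swap j.castSucc j.succ)
            = (Equiv.swap j.castSucc j.succ * Equiv.swap i.castSucc i.succ)⁻¹ := by
          rw [mul_inv_rev, Equiv.swap_inv, Equiv.swap_inv]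
        rw [h2, inv_pow, h1, inv_one]
      · exact key i j h
    · rw [if_neg hadj]
      have hne : (i : ℕ) ≠ j := fun h => hij (Fin.ext h)
      have hdis : (Equiv.swap i.castSucc i.succ).Disjoint (Equiv.swap j.castSucc j.succ) := by
        intro x
        by_cases h1 : x = i.castSucc
        · right
          rw [h1]
          apply Equiv.swap_apply_of_ne_of_ne
          · intro h; have := congrArg Fin.val h; simp at this; omega
          · intro h; have := congrArg Fin.val h; simp at this; omega
        · by_cases h2 : x = i.succ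
          · right
            rw [h2]
            apply Equiv.swap_apply_of_ne_of_ne
            · intro h; have := congrArg Fin.val h; simp at this; omega
            · intro h; have := congrArg Fin.val h; simp at this; omega
          · left
            exact Equiv.swap_apply_of_ne_of_ne h1 h2
      have hc := hdis.commute.eq
      have hx := Equiv.swap_mul_self i.castSucc i.succ
      have hy := Equiv.swap_mul_self j.castSucc j.succ
      generalize Equiv.swap i.castSucc i.succ = x at hc hx hy ⊢
      generalize Equiv.swap j.castSucc j.succ = y at hc hx hy ⊢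
      show (x * y) ^ 2 = 1
      calc (x * y) ^ 2 = x * (y * x) * y := by rw [pow_two]; simp only [mul_assoc]
        _ = x * (x * y) * y := by rw [← hc]
        _ = (x * x) * (y * y) := by simp only [mul_assoc]
        _ = 1 := by rw [hx, hy, one_mul]

end Helpers

/-- The Coxeter presentation of the symmetric group: for every n, the symmetric group on n+1 letters is the Coxeter group of type A_n with the adjacent transpositions (i, i+1) as simple reflections; that is, it is presented by generators r_1, …, r_n subject to r_i² = 1, (r_i r_j)² = 1 for |i − j| > 1 and (r_i r_{i+1})³ = 1, with r_i mapping to (i, i+1). -/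
theorem result (n : ℕ) :
    ∃ cs : CoxeterSystem (CoxeterMatrix.A n) (Equiv.Perm (Fin (n + 1))), ∀ i : Fin n, cs.simple i = Equiv.swap i.castSucc i.succ := by
  classical
  let cs₀ := (CoxeterMatrix.A n).toCoxeterSystem
  let f : (CoxeterMatrix.A n).Group →* Equiv.Perm (Fin (n + 1)) :=
    cs₀.lift ⟨fun i : Fin n => Equiv.swap i.castSucc i.succ, swap_liftable n⟩
  have hf : ∀ i, f (cs₀.simple i) = Equiv.swap i.castSucc i.succ := fun i =>
    cs₀.lift_apply_simple (swap_liftable n) i
  have r1 : ∀ i, cs₀.simple i * cs₀.simple i = 1 := fun i => cs₀.simple_mul_simple_self i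
  have r2 : ∀ i j : Fin n, (i : ℕ) + 1 < j → cs₀.simple i * cs₀.simple j
      = cs₀.simple j * cs₀.simple i := by
    intro i j hij
    have h1 := cs₀.simple_mul_simple_pow i j
    rw [A_apply, if_neg (by intro h; rw [h] at hij; omega), if_neg (by omega), pow_two] at h1
    have h2 : cs₀.simple i * cs₀.simple j = (cs₀.simple i * cs₀.simple j)⁻¹ :=
      (inv_eq_of_mul_eq_one_left h1).symm
    rw [h2, mul_inv_rev, cs₀.inv_simple, cs₀.inv_simple]
  have r3 : ∀ i j : Fin n, (i : ℕ) + 1 = j → cs₀.simple i * cs₀.simple j * cs₀.simple i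
      = cs₀.simple j * cs₀.simple i * cs₀.simple j := by
    intro i j hij
    have h1 := cs₀.simple_mul_simple_pow i j
    rw [A_apply, if_neg (by intro h; rw [h] at hij; omega), if_pos (Or.inr hij)] at h1
    have h2 : cs₀.simple i * cs₀.simple j * cs₀.simple i
        * (cs₀.simple j * cs₀.simple i * cs₀.simple j)⁻¹ = 1 := by
      rw [mul_inv_rev, mul_inv_rev, cs₀.inv_simple, cs₀.inv_simple]
      rw [← h1, pow_succ, pow_two]
      simp only [mul_assoc]
    exact mul_inv_eq_one.mp h2
  obtain ⟨hfin, hcard⟩ := cox_card_le n (CoxeterMatrix.A n).Group cs₀.simple r1 r2 r3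
    cs₀.subgroup_closure_range_simple
  have hsurj : Function.Surjective f := by
    rw [← MonoidHom.mrange_eq_top, eq_top_iff, ← Equiv.Perm.mclosure_swap_castSucc_succ n,
      Submonoid.closure_le]
    rintro _ ⟨i, rfl⟩
    exact ⟨cs₀.simple i, hf i⟩
  have hbij : Function.Bijective f := by
    apply hsurj.bijective_of_nat_card_le
    have h1 : Nat.card (Equiv.Perm (Fin (n + 1))) = (n + 1).factorial := by
      rw [Nat.card_eq_fintype_card, Fintype.card_perm, Fintype.card_fin]
    rw [h1]
    exact hcard
  refine ⟨⟨(MulEquiv.ofBijective f hbij).symm⟩, ?_⟩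
  intro i
  exact hf i

end Cfsg.Agent.S2530
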