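import Cfsg.Statements.S2809
import Cfsg.Agent.Lib.helper14.Basic

set_option autoImplicit false
open Cfsg
open Cfsg.Agent.Lib.helper14
open scoped commutatorElement

namespace Cfsg.Agent.S2809

theorem comm_le_of_le_normalizer {H : Type*} [Group H] (R L : Subgroup H)
    (hL : L ≤ Subgroup.normalizer (R : Set H)) : ⁅R, L⁆ ≤ R := by
  rw [Subgroup.commutator_le]
  intro r hr l hl
  have h1 : l * r⁻¹ * l⁻¹ ∈ R := (Subgroup.mem_normalizer_iff.1 (hL hl) r⁻¹).1 (R.inv_mem hr)
  have : ⁅r, l⁆ = r * (l * r⁻¹ * l⁻¹) := by simp [commutatorElement_def, mul_assoc]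
  rw [this]
  exact R.mul_mem hr h1

theorem iter_le {H : Type*} [Group H] (R L : Subgroup H)
    (hL : L ≤ Subgroup.normalizer (R : Set H)) : ∀ i : ℕ, Cfsg.iterCommutator R L i ≤ R
  | 0 => le_rfl
  | i + 1 => by
    show ⁅Cfsg.iterCommutator R L i, L⁆ ≤ R
    exact (Subgroup.commutator_mono (iter_le R L hL i) le_rfl).trans
      (comm_le_of_le_normalizer R L hL)

theorem centralizes_iter {H : Type*} [Group H] {p : ℕ} (R : Subgroup H) (hR : IsPGroup p ↥R)
    (L : Subgroup H) (hL : L ≤ Subgroup.normalizer (R : Set H)) (n : ℕ)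
    (hn : Cfsg.iterCommutator R L n = ⊥) (x : H) (hx : x ∈ L) (hxc : (orderOf x).Coprime p) :
    ∀ k i : ℕ, i + k = n → ∀ r ∈ Cfsg.iterCommutator R L i, ⁅r, x⁆ = 1 := by
  intro k
  induction k with
  | zero =>
    intro i hi r hr
    have : i = n := by omega
    subst this
    rw [hn, Subgroup.mem_bot] at hr
    subst hr
    simp [commutatorElement_def]
  | succ k ih =>
    intro i hi r hr
    have hc : ⁅r, x⁆ ∈ Cfsg.iterCommutator R L (i + 1) :=
      Subgroup.commutator_mem_commutator hr hx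
    have h1 : ⁅⁅r, x⁆, x⁆ = 1 := ih (i + 1) (by omega) _ hc
    have hcomm : Commute ⁅r, x⁆ x := commutatorElement_eq_one_iff_commute.1 h1
    have hcR : ⁅r, x⁆ ∈ R := iter_le R L hL (i + 1) hc
    obtain ⟨j, hj⟩ := hR ⟨⁅r, x⁆, hcR⟩
    have hj' : ⁅r, x⁆ ^ (p ^ j) = 1 := by
      have := congrArg Subtype.val hj
      simpa using this
    exact commutator_eq_one_of_coprime r x hcomm ⟨j, hj'⟩ hxc

/-- Let H be a finite group, p a prime, R a p-subgroup of H with C_H(R) ≤ R, and L a subgroup of N_H(R) acting nilpotently on R (some iterated commutator [R, L, …, L] is trivial). Then L is a p-group. -/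
theorem result {H : Type*} [Group H] [Finite H] {p : ℕ} [Fact p.Prime] (R : Subgroup H) (hR : IsPGroup p ↥R) (hC : Subgroup.centralizer (R : Set H) ≤ R) (L : Subgroup H) (hL : L ≤ Subgroup.normalizer (R : Set H)) (hnil : ∃ n : ℕ, Cfsg.iterCommutator R L n = ⊥) : IsPGroup p ↥L := by
  obtain ⟨n, hn⟩ := hnil
  apply isPGroup_of_coprime_trivial
  intro x hx hxc
  have h := centralizes_iter R hR L hL n hn x hx hxc n 0 (by omega)
  have hxC : x ∈ Subgroup.centralizer (R : Set H) := by
    rw [Subgroup.mem_centralizer_iff]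
    intro r hr
    exact commutatorElement_eq_one_iff_mul_comm.1 (h r hr)
  have hxR : x ∈ R := hC hxC
  obtain ⟨j, hj⟩ := hR ⟨x, hxR⟩
  have hj' : x ^ (p ^ j) = 1 := by
    have := congrArg Subtype.val hj
    simpa using this
  exact eq_one_of_coprime_of_pow x ⟨j, hj'⟩ hxc

end Cfsg.Agent.S2809
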