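import Cfsg.Statements.S2810
import Cfsg.Agent.Lib.helper14.Basic

set_option autoImplicit false
open Cfsg
open Cfsg.Agent.Lib.helper14
open scoped commutatorElement

namespace Cfsg.Agent.S2810

theorem comm_mul {H : Type*} [Group H] (a g h : H) : ⁅a, g * h⁆ = ⁅a, g⁆ * (g * ⁅a, h⁆ * g⁻¹) := by
  simp [commutatorElement_def, mul_assoc]

theorem comm_inv {H : Type*} [Group H] (a g : H) : ⁅a, g⁻¹⁆ = g⁻¹ * ⁅a, g⁆⁻¹ * g := by
  simp [commutatorElement_def, mul_assoc]

theorem comm_conj {H : Type*} [Group H] (a g h : H) :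
    ⁅a, h * g * h⁻¹⁆ = h * ⁅h⁻¹ * a * h, g⁆ * h⁻¹ := by
  simp [commutatorElement_def, mul_assoc]

/-- the stabilizer of the chain -/
def chainStab {H : Type*} [Group H] (n : ℕ) (A : Fin (n + 1) → Subgroup H)
    (hnorm : ∀ i, (A i).Normal) : Subgroup H where
  carrier := {g | ∀ i : Fin n, ∀ a ∈ A i.succ, ⁅a, g⁆ ∈ A i.castSucc}
  one_mem' := by
    intro i a _
    simp [commutatorElement_def]
  mul_mem' := by
    intro g h hg hh i a ha
    rw [comm_mul]
    exact (A i.castSucc).mul_mem (hg i a ha) ((hnorm i.castSucc).conj_mem _ (hh i a ha) g)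
  inv_mem' := by
    intro g hg i a ha
    rw [comm_inv]
    have := (hnorm i.castSucc).conj_mem _ ((A i.castSucc).inv_mem (hg i a ha)) g⁻¹
    simpa using this

theorem chainStab_normal {H : Type*} [Group H] (n : ℕ) (A : Fin (n + 1) → Subgroup H)
    (hnorm : ∀ i, (A i).Normal) : (chainStab n A hnorm).Normal := by
  constructor
  intro g hg h i a ha
  rw [comm_conj]
  have h1 : h⁻¹ * a * h ∈ A i.succ := by
    have := (hnorm i.succ).conj_mem _ ha h⁻¹
    simpa using this
  exact (hnorm i.castSucc).conj_mem _ (hg i _ h1) h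

/-- Let H be a finite group of characteristic p and L a subgroup of H centralizing every factor of some H-invariant chain 1 = A₀ ≤ A₁ ≤ … ≤ Aₙ = O_p(H) of normal subgroups (that is, [A_{i+1}, L] ≤ Aᵢ for each i). Then L ≤ O_p(H). -/
theorem result {H : Type*} [Group H] [Finite H] {p : ℕ} [Fact p.Prime] (hchar : Subgroup.centralizer (Cfsg.pCore p H : Set H) ≤ Cfsg.pCore p H) (L : Subgroup H) (n : ℕ) (A : Fin (n + 1) → Subgroup H) (h0 : A 0 = ⊥) (hn : A (Fin.last n) = Cfsg.pCore p H) (hmono : Monotone A) (hnorm : ∀ i, (A i).Normal) (hcent : ∀ i : Fin n, ⁅A i.succ, L⁆ ≤ A i.castSucc) : L ≤ Cfsg.pCore p H := by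
  have hLC : L ≤ chainStab n A hnorm := by
    intro l hl i a ha
    exact hcent i (Subgroup.commutator_mem_commutator ha hl)
  refine hLC.trans (le_pCore (chainStab_normal n A hnorm) ?_)
  apply isPGroup_of_coprime_trivial
  intro x hx hxc
  have hpc := isPGroup_pCore p H
  have hle : ∀ i : Fin (n + 1), A i ≤ Cfsg.pCore p H := fun i => hn ▸ hmono (Fin.le_last i)
  have key : ∀ i : Fin (n + 1), ∀ a ∈ A i, ⁅a, x⁆ = 1 := by
    intro i
    induction i using Fin.induction with
    | zero =>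
      intro a ha
      rw [h0, Subgroup.mem_bot] at ha
      subst ha
      simp [commutatorElement_def]
    | succ i ih =>
      intro a ha
      have hc : ⁅a, x⁆ ∈ A i.castSucc := hx i a ha
      have h1 : ⁅⁅a, x⁆, x⁆ = 1 := ih _ hc
      have hcomm : Commute ⁅a, x⁆ x := commutatorElement_eq_one_iff_commute.1 h1
      obtain ⟨j, hj⟩ := hpc ⟨⁅a, x⁆, hle _ hc⟩
      have hj' : ⁅a, x⁆ ^ (p ^ j) = 1 := by
        have := congrArg Subtype.val hj
        simpa using this
      exact commutator_eq_one_of_coprime a x hcomm ⟨j, hj'⟩ hxc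
  have hxC : x ∈ Subgroup.centralizer (Cfsg.pCore p H : Set H) := by
    rw [Subgroup.mem_centralizer_iff]
    intro r hr
    rw [← hn] at hr
    exact commutatorElement_eq_one_iff_mul_comm.1 (key _ r hr)
  have hxR : x ∈ Cfsg.pCore p H := hchar hxC
  obtain ⟨j, hj⟩ := hpc ⟨x, hxR⟩
  have hj' : x ^ (p ^ j) = 1 := by
    have := congrArg Subtype.val hj
    simpa using this
  exact eq_one_of_coprime_of_pow x ⟨j, hj'⟩ hxc

end Cfsg.Agent.S2810
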