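import Cfsg.Statements.S2813
import Cfsg.Agent.Lib.helper14.Basic

set_option autoImplicit false
open Cfsg
open Cfsg.Agent.Lib.helper14
open scoped commutatorElement

namespace Cfsg.Agent.S2813

theorem comm_le_of_le_normalizer {H : Type*} [Group H] (R L : Subgroup H)
    (hL : L ≤ Subgroup.normalizer (R : Set H)) : ⁅R, L⁆ ≤ R := by
  rw [Subgroup.commutator_le]
  intro r hr l hl
  have h1 : l * r⁻¹ * l⁻¹ ∈ R := (Subgroup.mem_normalizer_iff.1 (hL hl) r⁻¹).1 (R.inv_mem hr)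
  have : ⁅r, l⁆ = r * (l * r⁻¹ * l⁻¹) := by simp [commutatorElement_def, mul_assoc]
  rw [this]
  exact R.mul_mem hr h1

theorem conj_comm {H : Type*} [Group H] (k k' y : H) :
    k * ⁅k', y⁆ * k⁻¹ = ⁅k * k', y⁆ * ⁅k, y⁆⁻¹ := by
  simp [commutatorElement_def, mul_assoc]

/-- the `p`-elements of a commutative subgroup -/
def pPart {H : Type*} [Group H] (p : ℕ) (D : Subgroup H)
    (hD : ∀ a ∈ D, ∀ b ∈ D, a * b = b * a) : Subgroup H where
  carrier := {d | d ∈ D ∧ ∃ j : ℕ, d ^ (p ^ j) = 1}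
  one_mem' := ⟨D.one_mem, 0, by simp⟩
  mul_mem' := by
    rintro a b ⟨ha, i, hi⟩ ⟨hb, j, hj⟩
    refine ⟨D.mul_mem ha hb, i + j, ?_⟩
    have hc : Commute a b := hD a ha b hb
    rw [hc.mul_pow, pow_add, pow_mul, hi, one_pow, one_mul, mul_comm (p ^ i), pow_mul, hj, one_pow]
  inv_mem' := by
    rintro a ⟨ha, i, hi⟩
    exact ⟨D.inv_mem ha, i, by rw [inv_pow, hi, inv_one]⟩

/-- Let K be a subgroup of the finite group H with O_p(K) = 1 and Y a p-subgroup of N_H(K) with [K, Y, Y] = 1. Then [K, Y] = 1. -/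
theorem result {H : Type*} [Group H] [Finite H] {p : ℕ} [Fact p.Prime] (K : Subgroup H) (hO : Cfsg.pCore p ↥K = ⊥) (Y : Subgroup H) (hY : IsPGroup p ↥Y) (hYK : Y ≤ Subgroup.normalizer (K : Set H)) (hq : ⁅⁅K, Y⁆, Y⁆ = ⊥) : ⁅K, Y⁆ = ⊥ := by
  have hDK : ⁅K, Y⁆ ≤ K := comm_le_of_le_normalizer K Y hYK
  -- Y centralizes D
  have hYD : ∀ d ∈ ⁅K, Y⁆, ∀ y ∈ Y, d * y = y * d := by
    intro d hd y hy
    have : ⁅d, y⁆ ∈ ⁅⁅K, Y⁆, Y⁆ := Subgroup.commutator_mem_commutator hd hy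
    rw [hq, Subgroup.mem_bot] at this
    exact commutatorElement_eq_one_iff_mul_comm.1 this
  -- K normalizes D
  have hKD : ∀ k ∈ K, ∀ d ∈ ⁅K, Y⁆, k * d * k⁻¹ ∈ ⁅K, Y⁆ := by
    intro k hk d hd
    have hle : ⁅K, Y⁆ ≤ (⁅K, Y⁆).comap (MulAut.conj k).toMonoidHom := by
      rw [Subgroup.commutator_le]
      intro k' hk' y hy
      rw [Subgroup.mem_comap]
      show k * ⁅k', y⁆ * k⁻¹ ∈ ⁅K, Y⁆
      rw [conj_comm]
      exact (⁅K, Y⁆).mul_mem (Subgroup.commutator_mem_commutator (K.mul_mem hk hk') hy)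
        ((⁅K, Y⁆).inv_mem (Subgroup.commutator_mem_commutator hk hy))
    exact hle hd
  -- generators commute with D
  have hgen : ∀ k ∈ K, ∀ y ∈ Y, ∀ d ∈ ⁅K, Y⁆, d * ⁅k, y⁆ = ⁅k, y⁆ * d := by
    intro k hk y hy d hd
    have h1 : y⁻¹ * d * y = d := by
      rw [mul_assoc, hYD d hd y hy, ← mul_assoc, inv_mul_cancel, one_mul]
    have hd' : k⁻¹ * d * k ∈ ⁅K, Y⁆ := by
      have := hKD k⁻¹ (K.inv_mem hk) d hd
      simpa using this
    have h2 : y * (k⁻¹ * d * k) * y⁻¹ = k⁻¹ * d * k := by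
      rw [← hYD _ hd' y hy, mul_assoc, mul_inv_cancel, mul_one]
    have h3 : ⁅k, y⁆ * d * ⁅k, y⁆⁻¹ = d := by
      have e : ⁅k, y⁆ * d * ⁅k, y⁆⁻¹ = k * (y * (k⁻¹ * (y⁻¹ * d * y) * k) * y⁻¹) * k⁻¹ := by
        simp [commutatorElement_def, mul_assoc]
      rw [e, h1, h2]
      simp [mul_assoc]
    calc d * ⁅k, y⁆ = (⁅k, y⁆ * d * ⁅k, y⁆⁻¹) * ⁅k, y⁆ := by rw [h3]
      _ = ⁅k, y⁆ * d := by rw [inv_mul_cancel_right]
  have hDcomm : ∀ a ∈ ⁅K, Y⁆, ∀ b ∈ ⁅K, Y⁆, a * b = b * a := by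
    intro a ha b hb
    have hle : ⁅K, Y⁆ ≤ Subgroup.centralizer ((⁅K, Y⁆ : Subgroup H) : Set H) := by
      rw [Subgroup.commutator_le]
      intro k hk y hy
      rw [Subgroup.mem_centralizer_iff]
      intro d hd
      exact hgen k hk y hy d hd
    have := Subgroup.mem_centralizer_iff.1 (hle hb) a ha
    exact this
  -- generators are p-elements
  have hgenp : ∀ k ∈ K, ∀ y ∈ Y, ∃ j : ℕ, ⁅k, y⁆ ^ (p ^ j) = 1 := by
    intro k hk y hy
    obtain ⟨j, hj⟩ := hY ⟨y, hy⟩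
    have hj' : y ^ (p ^ j) = 1 := by
      have := congrArg Subtype.val hj
      simpa using this
    refine ⟨j, ?_⟩
    have hc : Commute ⁅k, y⁆ y := hYD _ (Subgroup.commutator_mem_commutator hk hy) y hy
    have h1 : k * y * k⁻¹ = ⁅k, y⁆ * y := by simp [commutatorElement_def]
    have h2 : (k * y * k⁻¹) ^ (p ^ j) = 1 := by
      rw [conj_pow, hj']; simp
    rw [h1, hc.mul_pow, hj', mul_one] at h2
    exact h2
  have hDp : IsPGroup p ↥(⁅K, Y⁆ : Subgroup H) := by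
    have hle : ⁅K, Y⁆ ≤ pPart p ⁅K, Y⁆ hDcomm := by
      rw [Subgroup.commutator_le]
      intro k hk y hy
      exact ⟨Subgroup.commutator_mem_commutator hk hy, hgenp k hk y hy⟩
    rintro ⟨d, hd⟩
    obtain ⟨_, j, hj⟩ := hle hd
    exact ⟨j, Subtype.ext (by simpa using hj)⟩
  have hnorm : ((⁅K, Y⁆ : Subgroup H).subgroupOf K).Normal := by
    rw [Subgroup.normal_subgroupOf_iff_le_normalizer hDK]
    intro k hk
    rw [Subgroup.mem_normalizer_iff]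
    intro d
    constructor
    · intro hd
      exact hKD k hk d hd
    · intro hd
      have := hKD k⁻¹ (K.inv_mem hk) _ hd
      simpa [mul_assoc] using this
  have hp' : IsPGroup p ↥((⁅K, Y⁆ : Subgroup H).subgroupOf K) := hDp.comap_subtype
  have hbot : (⁅K, Y⁆ : Subgroup H).subgroupOf K = ⊥ := by
    have := le_pCore hnorm hp'
    rw [hO] at this
    exact le_bot_iff.1 this
  rw [Subgroup.subgroupOf_eq_bot] at hbot
  exact (disjoint_iff_inf_le.1 hbot |> fun h => le_bot_iff.1 ((le_inf le_rfl hDK).trans h))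

end Cfsg.Agent.S2813
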