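import Cfsg.Statements.S2829
import Cfsg.Agent.Lib.helper14.Basic

set_option autoImplicit false
open Cfsg
open Cfsg.Agent.Lib.helper14
open scoped commutatorElement

namespace Cfsg.Agent.S2829

theorem pClosed_of_comm_le {H : Type*} [Group H] {p : ℕ} (N : Subgroup H)
    (h : ⁅N, (⊤ : Subgroup H)⁆ ≤ Cfsg.pCore p H) : Cfsg.IsPClosed p ↥N := by
  intro P
  have : (Cfsg.pCore p H).Normal := pCore_normal' p H
  have hQ : IsPGroup p ↥((Cfsg.pCore p H).subgroupOf N) := (isPGroup_pCore p H).comap_subtype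
  have hQP : (Cfsg.pCore p H).subgroupOf N ≤ P := hQ.le_sylow_of_normal P
  constructor
  intro x hx n
  have h1 : ⁅n, x⁆ ∈ (Cfsg.pCore p H).subgroupOf N := by
    rw [Subgroup.mem_subgroupOf]
    apply h
    have : ((⁅n, x⁆ : ↥N) : H) = ⁅(n : H), (x : H)⁆ := by
      simp [commutatorElement_def]
    rw [this]
    exact Subgroup.commutator_mem_commutator n.2 (Subgroup.mem_top _)
  have h2 : n * x * n⁻¹ = ⁅n, x⁆ * x := by simp [commutatorElement_def]
  rw [h2]
  exact (P : Subgroup ↥N).mul_mem (hQP h1) hx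

/-- Every strongly p-irreducible finite group is p-irreducible. -/
theorem result {H : Type*} [Group H] [Finite H] {p : ℕ} [Fact p.Prime] (hH : Cfsg.IsStronglyPIrreducible p H) : Cfsg.IsPIrreducible p H := by
  refine ⟨hH.1, ?_⟩
  intro N hN hNc
  apply hH.2 N hN
  intro hle
  exact hNc (pClosed_of_comm_le N hle)

end Cfsg.Agent.S2829
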