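import Cfsg.Statements.S2872
-- import your own Cfsg.Agent.* helpers here
import Mathlib
import Cfsg.Agent.Lib.helper1.PGroup

set_option autoImplicit false
open Cfsg

namespace Cfsg.Agent.S2872

section
open MulAction Subgroup

/-- Transfer of a central involution `z` of a Sylow 2-subgroup `S` that is centralized by
`N_G(S)`, along `φ : S →* A` whose only values are `1` and `a = φ z` (with `a * a = 1`):
the transfer of `z` is `a`. -/
theorem transfer_central {G : Type*} [Group G] [Finite G] {A : Type*} [CommGroup A]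
    (S : Sylow 2 G) (φ : (S : Subgroup G) →* A) (z : G) (hzS : z ∈ (S : Subgroup G))
    (hzz' : z * z = 1) (hzcomm : ∀ s ∈ (S : Subgroup G), z * s = s * z)
    (hN : ∀ n ∈ Subgroup.normalizer ((S : Subgroup G) : Set G), n * z * n⁻¹ = z)
    (a : A) (hφz : φ ⟨z, hzS⟩ = a) (hall : ∀ x : A, x = 1 ∨ x = a) (haa : a * a = 1) :
    MonoidHom.transfer φ z = a := by
  classical
  letI : Fintype (G ⧸ (S : Subgroup G)) := Fintype.ofFinite _
  let w : G ⧸ (S : Subgroup G) → A := fun q =>
    if h : q.out⁻¹ * z * q.out ∈ (S : Subgroup G) then φ ⟨q.out⁻¹ * z * q.out, h⟩ else 1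
  have W1 : ∀ (g : G) (hg : g⁻¹ * z * g ∈ (S : Subgroup G)),
      w (g : G ⧸ (S : Subgroup G)) = φ ⟨g⁻¹ * z * g, hg⟩ := by
    intro g hg
    obtain ⟨h, hh⟩ := QuotientGroup.mk_out_eq_mul (S : Subgroup G) g
    have hmem : (g : G ⧸ (S : Subgroup G)).out⁻¹ * z * (g : G ⧸ (S : Subgroup G)).out
        ∈ (S : Subgroup G) := by
      rw [hh]
      have : (g * h)⁻¹ * z * (g * h) = (h : G)⁻¹ * (g⁻¹ * z * g) * h := by group
      rw [this]
      exact (S : Subgroup G).mul_mem ((S : Subgroup G).mul_mem ((S : Subgroup G).inv_mem h.2) hg) h.2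
    show (if h : _ then _ else _) = _
    rw [dif_pos hmem]
    have : (⟨(g : G ⧸ (S : Subgroup G)).out⁻¹ * z * (g : G ⧸ (S : Subgroup G)).out, hmem⟩ :
        (S : Subgroup G)) = h⁻¹ * ⟨g⁻¹ * z * g, hg⟩ * h := by
      apply Subtype.ext
      simp only [Subgroup.coe_mul, Subgroup.coe_inv]
      rw [hh]; group
    rw [this, map_mul, map_mul, map_inv, mul_comm, mul_inv_cancel_left]
  have W2 : ∀ (g : G), g⁻¹ * z * g ∉ (S : Subgroup G) → w (g : G ⧸ (S : Subgroup G)) = 1 := by
    intro g hg
    obtain ⟨h, hh⟩ := QuotientGroup.mk_out_eq_mul (S : Subgroup G) g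
    have hmem : ¬ (g : G ⧸ (S : Subgroup G)).out⁻¹ * z * (g : G ⧸ (S : Subgroup G)).out
        ∈ (S : Subgroup G) := by
      rw [hh]
      intro hcon
      apply hg
      have : g⁻¹ * z * g = (h : G) * ((g * h)⁻¹ * z * (g * h)) * (h : G)⁻¹ := by group
      rw [this]
      exact (S : Subgroup G).mul_mem ((S : Subgroup G).mul_mem h.2 hcon) ((S : Subgroup G).inv_mem h.2)
    show (if h : _ then _ else _) = _
    rw [dif_neg hmem]
  have hfix : ∀ g : G, (z • (g : G ⧸ (S : Subgroup G)) = (g : G ⧸ (S : Subgroup G))) ↔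
      g⁻¹ * z * g ∈ (S : Subgroup G) := by
    intro g
    rw [show z • (g : G ⧸ (S : Subgroup G)) = ((z * g : G) : G ⧸ (S : Subgroup G)) from rfl,
      eq_comm, QuotientGroup.eq, ← mul_assoc]
  have W3 : ∀ (s : (S : Subgroup G)) (q : G ⧸ (S : Subgroup G)), w (s • q) = w q := by
    intro s q
    refine QuotientGroup.induction_on q (fun g => ?_)
    have e1 : s • (g : G ⧸ (S : Subgroup G)) = (((s : G) * g : G) : G ⧸ (S : Subgroup G)) := rfl
    have e2 : ((s : G) * g)⁻¹ * z * ((s : G) * g) = g⁻¹ * z * g := by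
      have := hzcomm s s.2
      calc ((s : G) * g)⁻¹ * z * ((s : G) * g) = g⁻¹ * ((s : G)⁻¹ * (z * s)) * g := by group
        _ = g⁻¹ * ((s : G)⁻¹ * (s * z)) * g := by rw [this]
        _ = g⁻¹ * z * g := by group
    rw [e1]
    by_cases hg : g⁻¹ * z * g ∈ (S : Subgroup G)
    · rw [W1 g hg, W1 _ (by rw [e2]; exact hg)]
      exact congrArg φ (Subtype.ext e2)
    · rw [W2 g hg, W2 _ (by rw [e2]; exact hg)]
  have hwfix : ∀ q : G ⧸ (S : Subgroup G), w q ≠ 1 → z • q = q := by
    intro q
    refine QuotientGroup.induction_on q (fun g => ?_)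
    intro hw
    rw [hfix]
    by_contra hcon
    exact hw (W2 g hcon)
  have hT : MonoidHom.transfer φ z = ∏ q : G ⧸ (S : Subgroup G), w q := by
    haveI : Fintype (Quotient (orbitRel (zpowers z) (G ⧸ (S : Subgroup G)))) := Fintype.ofFinite _
    rw [MonoidHom.transfer_eq_prod_quotient_orbitRel_zpowers_quot φ z]
    rw [← Finset.prod_fiberwise (Finset.univ)
      (fun q : G ⧸ (S : Subgroup G) =>
        (Quotient.mk'' q : Quotient (orbitRel (zpowers z) (G ⧸ (S : Subgroup G))))) w]
    refine Finset.prod_congr rfl (fun q _ => ?_)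
    have hR : ∏ x ∈ Finset.univ with
        (Quotient.mk'' x : Quotient (orbitRel (zpowers z) (G ⧸ (S : Subgroup G)))) = q, w x
        = w q.out := by
      rw [Finset.prod_eq_single q.out]
      · intro b hb hne
        rw [Finset.mem_filter] at hb
        by_contra hw
        have hbf := hwfix b hw
        apply hne
        have hrel : (Quotient.mk'' q.out : Quotient (orbitRel (zpowers z) (G ⧸ (S : Subgroup G))))
            = Quotient.mk'' b := by rw [Quotient.out_eq', hb.2]
        have hrel' := Quotient.exact' hrel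
        rw [orbitRel_apply] at hrel'
        obtain ⟨t, ht⟩ := hrel'
        have hst : (t : G) ∈ MulAction.stabilizer G b :=
          (Subgroup.zpowers_le.mpr (MulAction.mem_stabilizer_iff.mpr hbf)) t.2
        have : t • b = b := MulAction.mem_stabilizer_iff.mp hst
        rw [← ht]; exact this.symm
      · intro hnot
        exfalso; apply hnot
        rw [Finset.mem_filter]
        exact ⟨Finset.mem_univ _, Quotient.out_eq' q⟩
    rw [hR]
    by_cases hq : z • q.out = q.out
    · have hper : Function.minimalPeriod (z • ·) q.out = 1 :=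
        Function.minimalPeriod_eq_one_iff_isFixedPt.mpr hq
      have hmem : q.out.out⁻¹ * z * q.out.out ∈ (S : Subgroup G) := by
        have := (hfix q.out.out).mp (by rw [QuotientGroup.out_eq']; exact hq)
        exact this
      show _ = (if h : _ then _ else _)
      rw [dif_pos hmem]
      refine congrArg φ (Subtype.ext ?_)
      show q.out.out⁻¹ * z ^ Function.minimalPeriod (z • ·) q.out * q.out.out
        = q.out.out⁻¹ * z * q.out.out
      rw [hper, pow_one]
    · have hper : Function.minimalPeriod (z • ·) q.out = 2 := by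
        have hp : Function.IsPeriodicPt (z • ·) 2 q.out := by
          show z • (z • q.out) = q.out
          rw [← mul_smul, hzz', one_smul]
        have hd := hp.minimalPeriod_dvd
        rcases (Nat.dvd_prime Nat.prime_two).mp hd with h | h
        · exact absurd (Function.minimalPeriod_eq_one_iff_isFixedPt.mp h) hq
        · exact h
      have hmem : ¬ q.out.out⁻¹ * z * q.out.out ∈ (S : Subgroup G) := by
        intro hcon
        apply hq
        have := (hfix q.out.out).mpr hcon
        rwa [QuotientGroup.out_eq'] at this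
      show _ = (if h : _ then _ else _)
      rw [dif_neg hmem]
      have : (⟨q.out.out⁻¹ * z ^ Function.minimalPeriod (z • ·) q.out * q.out.out,
          QuotientGroup.out_conj_pow_minimalPeriod_mem (S : Subgroup G) z q.out⟩ :
            (S : Subgroup G)) = 1 := by
        apply Subtype.ext
        show q.out.out⁻¹ * z ^ Function.minimalPeriod (z • ·) q.out * q.out.out = 1
        rw [hper, pow_two, hzz']; group
      rw [this, map_one]
  -- parity
  let act : MulAction (S : Subgroup G) {q : G ⧸ (S : Subgroup G) // w q = a} :=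
    { smul := fun s q => ⟨s • q.1, by rw [W3]; exact q.2⟩
      one_smul := fun q => Subtype.ext (one_smul _ _)
      mul_smul := fun s t q => Subtype.ext (mul_smul _ _ _) }
  have hmod1 := S.2.card_modEq_card_fixedPoints {q : G ⧸ (S : Subgroup G) // w q = a}
  have hmod2 := S.2.card_modEq_card_fixedPoints (G ⧸ (S : Subgroup G))
  have hWfix : ∀ q : G ⧸ (S : Subgroup G), q ∈ fixedPoints (S : Subgroup G) (G ⧸ (S : Subgroup G)) →
      w q = a := by
    intro q
    refine QuotientGroup.induction_on q (fun n => ?_)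
    intro hq
    rw [Sylow.mem_fixedPoints_mul_left_cosets_iff_mem_normalizer] at hq
    have h1 : n⁻¹ * z * n = z := by
      have := hN n⁻¹ (Subgroup.inv_mem _ hq)
      rwa [inv_inv] at this
    rw [W1 n (by rw [h1]; exact hzS)]
    have : (⟨n⁻¹ * z * n, by rw [h1]; exact hzS⟩ : (S : Subgroup G)) = ⟨z, hzS⟩ :=
      Subtype.ext h1
    rw [this, hφz]
  have hcardfix : Nat.card (fixedPoints (S : Subgroup G) {q : G ⧸ (S : Subgroup G) // w q = a})
      = Nat.card (fixedPoints (S : Subgroup G) (G ⧸ (S : Subgroup G))) := by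
    apply Nat.card_congr
    refine ⟨fun x => ⟨x.1.1, ?_⟩, fun y => ⟨⟨y.1, hWfix y.1 y.2⟩, ?_⟩, ?_, ?_⟩
    · intro s; have := x.2 s; exact congrArg Subtype.val this
    · intro s; apply Subtype.ext; exact y.2 s
    · intro x; rfl
    · intro y; rfl
  have hodd : Odd (Nat.card {q : G ⧸ (S : Subgroup G) // w q = a}) := by
    have h1 : Nat.card {q : G ⧸ (S : Subgroup G) // w q = a} ≡
        Nat.card (G ⧸ (S : Subgroup G)) [MOD 2] := by
      rw [hcardfix] at hmod1; exact hmod1.trans hmod2.symm
    have h2 : ¬ 2 ∣ Nat.card (G ⧸ (S : Subgroup G)) := by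
      rw [← Subgroup.index_eq_card]; exact S.not_dvd_index
    rw [Nat.odd_iff]; unfold Nat.ModEq at h1; omega
  have hprod : ∏ q : G ⧸ (S : Subgroup G), w q
      = a ^ Nat.card {q : G ⧸ (S : Subgroup G) // w q = a} := by
    have h1 : ∀ q : G ⧸ (S : Subgroup G), w q = if w q = a then a else 1 := by
      intro q; by_cases h : w q = a
      · rw [if_pos h, h]
      · rw [if_neg h]; exact (hall (w q)).resolve_right h
    rw [Finset.prod_congr rfl (fun q _ => h1 q), Finset.prod_ite, Finset.prod_const,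
      Finset.prod_const_one, mul_one]
    congr 1
    rw [Nat.card_eq_fintype_card, Fintype.card_subtype]
  rw [hT, hprod]
  obtain ⟨k, hk⟩ := hodd
  rw [hk, pow_succ, pow_mul, pow_two, haa, one_pow, one_mul]

end

theorem aux {G : Type*} [Group G] [Finite G] (S : Sylow 2 G) :
    Cfsg.pResidual 2 G ≠ ⊤ ∨
    Cfsg.omegaOne 2 ((S : Subgroup G) ⊓ Subgroup.centralizer ((S : Subgroup G) : Set G)) ≤
      (frattini ↥(S : Subgroup G)).map (S : Subgroup G).subtype ∨
    ∃ g ∈ Subgroup.normalizer ((S : Subgroup G) : Set G),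
      ∃ z ∈ Cfsg.omegaOne 2 ((S : Subgroup G) ⊓ Subgroup.centralizer ((S : Subgroup G) : Set G)),
        g * z * g⁻¹ ≠ z := by
  classical
  by_contra hcon
  push Not at hcon
  obtain ⟨h1, h2, h3⟩ := hcon
  apply h2
  unfold Cfsg.omegaOne
  rw [Subgroup.closure_le]
  rintro z ⟨hzZ, hz2⟩
  have hzS : z ∈ (S : Subgroup G) := hzZ.1
  have hzC : z ∈ Subgroup.centralizer ((S : Subgroup G) : Set G) := hzZ.2
  by_contra hzF
  have hzF' : (⟨z, hzS⟩ : (S : Subgroup G)) ∉ frattini (S : Subgroup G) := by
    intro h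
    exact hzF ⟨⟨z, hzS⟩, h, rfl⟩
  simp only [frattini, Order.radical, Subgroup.mem_iInf, not_forall] at hzF'
  obtain ⟨M, hM, hzM⟩ := hzF'
  obtain ⟨hMn, hMi⟩ := Cfsg.Agent.Lib.helper1.coatom_normal_index 2 S.isPGroup' M hM
  haveI := hMn
  have hcard : Nat.card ((S : Subgroup G) ⧸ M) = 2 := by
    rw [← Subgroup.index_eq_card]; exact hMi
  have hc2 : Nat.card (Multiplicative (ZMod 2)) = 2 := by
    rw [Nat.card_eq_fintype_card]; rfl
  let ψ : ((S : Subgroup G) ⧸ M) ≃* Multiplicative (ZMod 2) := mulEquivOfPrimeCardEq hcard hc2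
  let φ : (S : Subgroup G) →* Multiplicative (ZMod 2) :=
    ψ.toMonoidHom.comp (QuotientGroup.mk' M)
  obtain ⟨a, ha⟩ : ∃ a : Multiplicative (ZMod 2), a = Multiplicative.ofAdd 1 := ⟨_, rfl⟩
  have ha1 : a ≠ 1 := by rw [ha]; decide
  have haa : a * a = 1 := by rw [ha]; decide
  have hall : ∀ x : Multiplicative (ZMod 2), x = 1 ∨ x = a := by rw [ha]; decide
  have hφz : φ ⟨z, hzS⟩ = a := by
    refine (hall _).resolve_left ?_
    intro h
    apply hzM
    have h' : ψ (QuotientGroup.mk' M ⟨z, hzS⟩) = 1 := h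
    have h'' : QuotientGroup.mk' M ⟨z, hzS⟩ = 1 := by
      rw [← ψ.map_one] at h'
      exact ψ.injective h'
    exact (QuotientGroup.eq_one_iff _).mp h''
  have hzz : z * z = 1 := by rw [← pow_two]; exact hz2
  have hzc : ∀ s ∈ (S : Subgroup G), z * s = s * z := by
    intro s hs
    exact ((Subgroup.mem_centralizer_iff.mp hzC) s hs).symm
  have hzO : z ∈ Cfsg.omegaOne 2
      ((S : Subgroup G) ⊓ Subgroup.centralizer ((S : Subgroup G) : Set G)) :=
    Subgroup.subset_closure ⟨hzZ, hz2⟩
  have hN : ∀ n ∈ Subgroup.normalizer ((S : Subgroup G) : Set G), n * z * n⁻¹ = z :=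
    fun n hn => h3 n hn z hzO
  have hT := transfer_central S φ z hzS hzz hzc hN a hφz hall haa
  have hker : Cfsg.pResidual 2 G ≤ (MonoidHom.transfer φ).ker := by
    unfold Cfsg.pResidual
    rw [Subgroup.closure_le]
    intro g hg
    have hg' : Nat.Coprime (orderOf g) 2 := hg
    rw [SetLike.mem_coe, MonoidHom.mem_ker]
    have hd1 : orderOf (MonoidHom.transfer φ g) ∣ orderOf g := orderOf_map_dvd _ g
    have hd2 : orderOf (MonoidHom.transfer φ g) ∣ 2 := by
      have := orderOf_dvd_natCard (MonoidHom.transfer φ g)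
      rwa [hc2] at this
    have : orderOf (MonoidHom.transfer φ g) ∣ 1 := by
      rw [← Nat.Coprime.gcd_eq_one hg']; exact Nat.dvd_gcd hd1 hd2
    exact orderOf_eq_one_iff.mp (Nat.dvd_one.mp this)
  rw [h1] at hker
  have : z ∈ (MonoidHom.transfer φ).ker := hker (Subgroup.mem_top z)
  rw [MonoidHom.mem_ker, hT] at this
  exact ha1 this


/-- Let S be a Sylow 2-subgroup of the finite group G. Then G has a proper normal subgroup of 2-power index (O²(G) ≠ G), or Ω₁(Z(S)) is contained in the Frattini subgroup of S, or N_G(S) acts nontrivially on Ω₁(Z(S)) by conjugation. -/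
theorem result {G : Type*} [Group G] [Finite G] (S : Sylow 2 G) : Cfsg.pResidual 2 G ≠ ⊤ ∨ Cfsg.omegaOne 2 ((S : Subgroup G) ⊓ Subgroup.centralizer ((S : Subgroup G) : Set G)) ≤ (frattini ↥(S : Subgroup G)).map (S : Subgroup G).subtype ∨ ∃ g ∈ Subgroup.normalizer ((S : Subgroup G) : Set G), ∃ z ∈ Cfsg.omegaOne 2 ((S : Subgroup G) ⊓ Subgroup.centralizer ((S : Subgroup G) : Set G)), g * z * g⁻¹ ≠ z := by
  exact aux S

end Cfsg.Agent.S2872
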