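import Cfsg.Statements.S2873
import Mathlib
import Cfsg.Agent.Lib.helper15.PCore

set_option autoImplicit false
open Cfsg

namespace Cfsg.Agent.S2873

variable {G : Type*} [Group G]

theorem dih_r_pow {r : ℕ} (c : ZMod r) (n : ℕ) :
    (DihedralGroup.r c) ^ n = DihedralGroup.r ((n : ZMod r) * c) := by
  induction n with
  | zero => simp
  | succ n ih =>
    rw [pow_succ, ih, DihedralGroup.r_mul_r]
    congr 1
    push_cast
    ring

theorem conj_coset [Finite G] (Q : Subgroup G) [hQ : Q.Normal] (ρ : G)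
    (h : ∀ u ∈ Q, u * ρ = ρ * u → u = 1) (u : G) (hu : u ∈ Q) :
    ∃ v ∈ Q, u * ρ = v * ρ * v⁻¹ := by
  have hmem : ∀ v : ↥Q, (v : G) * ρ * (v : G)⁻¹ * ρ⁻¹ ∈ Q := by
    intro v
    have h1 : ρ * (v : G)⁻¹ * ρ⁻¹ ∈ Q := hQ.conj_mem _ (Q.inv_mem v.2) ρ
    have h2 : (v : G) * ρ * (v : G)⁻¹ * ρ⁻¹ = (v : G) * (ρ * (v : G)⁻¹ * ρ⁻¹) := by group
    rw [h2]; exact Q.mul_mem v.2 h1
  let F : ↥Q → ↥Q := fun v => ⟨_, hmem v⟩
  have hinj : Function.Injective F := by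
    intro v w hvw
    have h1 : (v : G) * ρ * (v : G)⁻¹ * ρ⁻¹ = (w : G) * ρ * (w : G)⁻¹ * ρ⁻¹ :=
      congrArg Subtype.val hvw
    have h3 : (v : G) * ρ * (v : G)⁻¹ = (w : G) * ρ * (w : G)⁻¹ := mul_right_cancel h1
    have h2 : ((w : G)⁻¹ * v) * ρ = ρ * ((w : G)⁻¹ * v) := by
      calc ((w : G)⁻¹ * v) * ρ = (w : G)⁻¹ * ((v : G) * ρ * (v : G)⁻¹) * v := by group
        _ = (w : G)⁻¹ * ((w : G) * ρ * (w : G)⁻¹) * v := by rw [h3]
        _ = ρ * ((w : G)⁻¹ * v) := by group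
    have h4 := h _ (Q.mul_mem (Q.inv_mem w.2) v.2) h2
    apply Subtype.ext
    calc (v : G) = w * ((w : G)⁻¹ * v) := by group
      _ = w := by rw [h4, mul_one]
  have hsurj : Function.Surjective F := Finite.injective_iff_surjective.mp hinj
  obtain ⟨v, hv⟩ := hsurj ⟨u, hu⟩
  refine ⟨v, v.2, ?_⟩
  have h1 : (v : G) * ρ * (v : G)⁻¹ * ρ⁻¹ = u := congrArg Subtype.val hv
  rw [← h1]; group

theorem card_conj_cent (Q : Subgroup G) [hQ : Q.Normal] (g a : G) :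
    Nat.card ↥(Q ⊓ Subgroup.centralizer ({g * a * g⁻¹} : Set G)) =
      Nat.card ↥(Q ⊓ Subgroup.centralizer ({a} : Set G)) := by
  apply Nat.card_congr
  refine
    { toFun := fun c => ⟨g⁻¹ * (c : G) * g, Subgroup.mem_inf.mpr ⟨?_, ?_⟩⟩
      invFun := fun c => ⟨g * (c : G) * g⁻¹, Subgroup.mem_inf.mpr ⟨?_, ?_⟩⟩
      left_inv := ?_
      right_inv := ?_ }
  · have := hQ.conj_mem _ (Subgroup.mem_inf.mp c.2).1 g⁻¹
    simpa using this
  · have h1 := Subgroup.mem_centralizer_singleton_iff.mp (Subgroup.mem_inf.mp c.2).2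
    rw [Subgroup.mem_centralizer_singleton_iff]
    calc g⁻¹ * (c : G) * g * a = g⁻¹ * ((c : G) * (g * a * g⁻¹)) * g := by group
      _ = g⁻¹ * ((g * a * g⁻¹) * (c : G)) * g := by rw [h1]
      _ = a * (g⁻¹ * (c : G) * g) := by group
  · exact hQ.conj_mem _ (Subgroup.mem_inf.mp c.2).1 g
  · have h1 := Subgroup.mem_centralizer_singleton_iff.mp (Subgroup.mem_inf.mp c.2).2
    rw [Subgroup.mem_centralizer_singleton_iff]
    calc g * (c : G) * g⁻¹ * (g * a * g⁻¹) = g * ((c : G) * a) * g⁻¹ := by group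
      _ = g * (a * (c : G)) * g⁻¹ := by rw [h1]
      _ = g * a * g⁻¹ * (g * (c : G) * g⁻¹) := by group
  · intro c
    apply Subtype.ext
    show g * (g⁻¹ * (c : G) * g) * g⁻¹ = c
    group
  · intro c
    apply Subtype.ext
    show g⁻¹ * (g * (c : G) * g⁻¹) * g = c
    group

theorem core [Finite G] {r : ℕ} [Fact r.Prime] (hr : r ≠ 2) (Q : Subgroup G) [hN : Q.Normal]
    (hQ2 : IsPGroup 2 Q) (π : G →* DihedralGroup r) (hπ : Function.Surjective π)
    (hker : ∀ x, π x = 1 ↔ x ∈ Q)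
    (R : Sylow r G) (hC : Q ⊓ Subgroup.centralizer ((R : Subgroup G) : Set G) = ⊥) :
    Nonempty (↥(Subgroup.normalizer ((R : Subgroup G) : Set G)) ≃* DihedralGroup r) ∧
    ∀ a : G, a ∈ Subgroup.normalizer ((R : Subgroup G) : Set G) → orderOf a = 2 →
      (∀ b : G, orderOf b = 2 → b ∉ Q → ∃ g : G, g * a * g⁻¹ = b) ∧
      Nat.card ↥(Q ⊓ Subgroup.centralizer ({a} : Set G)) ^ 2 = Nat.card ↥Q := by
  haveI : NeZero r := ⟨(Fact.out : r.Prime).ne_zero⟩
  have hrp : r.Prime := Fact.out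
  set N := Subgroup.normalizer ((R : Subgroup G) : Set G) with hNdef
  have hRN : (R : Subgroup G) ≤ N := Subgroup.le_normalizer
  have hRQ : ∀ x, x ∈ (R : Subgroup G) → x ∈ Q → x = 1 := by
    intro x hxR hxQ
    have hd := IsPGroup.disjoint_of_ne r 2 hr _ _ R.2 hQ2
    have := hd.le_bot (show x ∈ (R : Subgroup G) ⊓ Q from ⟨hxR, hxQ⟩)
    simpa using this
  have hNQ : ∀ u, u ∈ N → u ∈ Q → u = 1 := by
    intro u huN huQ
    have hcent : u ∈ Subgroup.centralizer ((R : Subgroup G) : Set G) := by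
      rw [Subgroup.mem_centralizer_iff]
      intro x hx
      have h1 : u * x * u⁻¹ ∈ (R : Subgroup G) := (Subgroup.mem_normalizer_iff.mp huN x).mp hx
      have h2 : u * x * u⁻¹ * x⁻¹ ∈ (R : Subgroup G) :=
        (R : Subgroup G).mul_mem h1 ((R : Subgroup G).inv_mem hx)
      have h3 : u * x * u⁻¹ * x⁻¹ ∈ Q := by
        have h4 : x * u⁻¹ * x⁻¹ ∈ Q := hN.conj_mem _ (Q.inv_mem huQ) x
        have e : u * x * u⁻¹ * x⁻¹ = u * (x * u⁻¹ * x⁻¹) := by group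
        rw [e]; exact Q.mul_mem huQ h4
      have h4 := hRQ _ h2 h3
      calc x * u = (u * x * u⁻¹ * x⁻¹)⁻¹ * (u * x) := by group
        _ = u * x := by rw [h4]; simp
    have h5 : u ∈ Q ⊓ Subgroup.centralizer ((R : Subgroup G) : Set G) := ⟨huQ, hcent⟩
    rw [hC] at h5
    simpa using h5
  have hinj : ∀ x y, x ∈ N → y ∈ N → π x = π y → x = y := by
    intro x y hx hy hxy
    have h1 : x⁻¹ * y ∈ Q := by
      rw [← hker]; simp [hxy]
    have h2 := hNQ _ (N.mul_mem (N.inv_mem hx) hy) h1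
    calc x = y * (x⁻¹ * y)⁻¹ := by group
      _ = y := by rw [h2]; simp
  have hrot : ∀ x, x ∈ (R : Subgroup G) → ∃ i, π x = DihedralGroup.r i := by
    intro x hx
    obtain ⟨k, hk⟩ := R.2 ⟨x, hx⟩
    have hk' : x ^ (r ^ k) = 1 := by simpa using congrArg Subtype.val hk
    rcases hpx : π x with i | i
    · exact ⟨i, rfl⟩
    · exfalso
      have h1 : (π x) ^ (r ^ k) = 1 := by rw [← map_pow, hk', map_one]
      rw [hpx] at h1
      have h2 : orderOf (DihedralGroup.sr i : DihedralGroup r) ∣ r ^ k :=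
        orderOf_dvd_of_pow_eq_one h1
      rw [DihedralGroup.orderOf_sr] at h2
      have h3 : 2 ∣ r := Nat.prime_two.dvd_of_dvd_pow h2
      exact hr ((Nat.prime_dvd_prime_iff_eq Nat.prime_two hrp).mp h3).symm
  have hRne : (R : Subgroup G) ≠ ⊥ := by
    apply Sylow.ne_bot_of_dvd_card
    obtain ⟨g, hg⟩ := hπ (DihedralGroup.r 1)
    have h1 : orderOf (π g) ∣ orderOf g := orderOf_map_dvd π g
    rw [hg, DihedralGroup.orderOf_r_one] at h1
    exact h1.trans (orderOf_dvd_natCard g)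
  obtain ⟨⟨τ, hτR⟩, hτ1'⟩ := (Subgroup.ne_bot_iff_exists_ne_one).mp hRne
  have hτ1 : τ ≠ 1 := fun h => hτ1' (Subtype.ext h)
  obtain ⟨j₀, hj₀⟩ := hrot τ hτR
  have hj₀ne : j₀ ≠ 0 := by
    rintro rfl
    apply hτ1
    apply hRQ τ hτR
    rw [← hker, hj₀]; rfl
  have h2ne : (2 : ZMod r) ≠ 0 := by
    intro h
    have h' : ((2 : ℕ) : ZMod r) = 0 := by exact_mod_cast h
    rw [ZMod.natCast_eq_zero_iff] at h'
    exact hr ((Nat.prime_dvd_prime_iff_eq hrp Nat.prime_two).mp h')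
  obtain ⟨ρ, hρdef⟩ : ∃ ρ, ρ = τ * τ := ⟨_, rfl⟩
  obtain ⟨c₀, hc₀⟩ : ∃ c₀ : ZMod r, c₀ = j₀ + j₀ := ⟨_, rfl⟩
  have hc₀ne : c₀ ≠ 0 := by
    rw [hc₀, ← two_mul]; exact mul_ne_zero h2ne hj₀ne
  have hπρ : π ρ = DihedralGroup.r c₀ := by
    rw [hρdef, map_mul, hj₀, DihedralGroup.r_mul_r, hc₀]
  have hρR : ρ ∈ (R : Subgroup G) := by
    rw [hρdef]; exact (R : Subgroup G).mul_mem hτR hτR
  have hπpow : ∀ n : ℕ, π (ρ ^ n) = DihedralGroup.r ((n : ZMod r) * c₀) := by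
    intro n; rw [map_pow, hπρ, dih_r_pow]
  have hex : ∀ c : ZMod r, ∃ n : ℕ, (n : ZMod r) * c₀ = c := by
    intro c
    refine ⟨(c / c₀).val, ?_⟩
    rw [ZMod.natCast_zmod_val, div_mul_cancel₀ _ hc₀ne]
  have hZ : ∀ x, x ∈ (R : Subgroup G) → ∃ n : ℕ, x = ρ ^ n := by
    intro x hx
    obtain ⟨i, hi⟩ := hrot x hx
    obtain ⟨n, hn⟩ := hex i
    refine ⟨n, hinj _ _ (hRN hx) (hRN (pow_mem hρR n)) ?_⟩
    rw [hi, hπpow, hn]
  have hCρ : ∀ u ∈ Q, u * ρ = ρ * u → u = 1 := by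
    intro u huQ hu
    have hcent : u ∈ Subgroup.centralizer ((R : Subgroup G) : Set G) := by
      rw [Subgroup.mem_centralizer_iff]
      intro x hx
      obtain ⟨n, rfl⟩ := hZ x hx
      exact ((Commute.pow_right (show Commute u ρ from hu) n).eq).symm
    have h5 : u ∈ Q ⊓ Subgroup.centralizer ((R : Subgroup G) : Set G) := ⟨huQ, hcent⟩
    rw [hC] at h5
    simpa using h5
  have hnorm : ∀ t, t * ρ * t⁻¹ = ρ⁻¹ → t ∈ N := by
    intro t ht
    have ht' : t⁻¹ * ρ * t = ρ⁻¹ := by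
      have h1 : ρ = t⁻¹ * ρ⁻¹ * t := by rw [← ht]; group
      calc t⁻¹ * ρ * t = (t⁻¹ * ρ⁻¹ * t)⁻¹ := by group
        _ = ρ⁻¹ := by rw [← h1]
    rw [hNdef, Subgroup.mem_normalizer_iff]
    intro x
    constructor
    · intro hx
      obtain ⟨n, rfl⟩ := hZ x hx
      have h1 : t * ρ ^ n * t⁻¹ = (t * ρ * t⁻¹) ^ n := by rw [conj_pow]
      rw [h1, ht]
      exact pow_mem ((R : Subgroup G).inv_mem hρR) n
    · intro hx
      obtain ⟨n, hn⟩ := hZ _ hx
      have h2 : x = (t⁻¹ * ρ * t) ^ n := by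
        have h1 : (t⁻¹ * ρ * t) ^ n = t⁻¹ * ρ ^ n * t := by
          have h0 := conj_pow (a := t⁻¹) (b := ρ) (i := n)
          simpa using h0
        rw [h1, ← hn]; group
      rw [h2, ht']
      exact pow_mem ((R : Subgroup G).inv_mem hρR) n
  have hinv : ∀ d i, d ∈ N → π d = DihedralGroup.sr i → ∀ x, x ∈ (R : Subgroup G) →
      d * x * d⁻¹ = x⁻¹ := by
    intro d i hd hπd x hx
    obtain ⟨j, hj⟩ := hrot x hx
    have h1 : d * x * d⁻¹ ∈ (R : Subgroup G) := (Subgroup.mem_normalizer_iff.mp hd x).mp hx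
    apply hinj _ _ (hRN h1) (hRN ((R : Subgroup G).inv_mem hx))
    rw [map_mul, map_mul, map_inv, map_inv, hπd, hj]
    simp
  have hcc := conj_coset Q ρ hCρ
  have hlift : ∀ t i, π t = DihedralGroup.sr i →
      ∃ v ∈ Q, (v⁻¹ * t) * ρ * (v⁻¹ * t)⁻¹ = ρ⁻¹ := by
    intro t i hπt
    have hu : t * ρ⁻¹ * t⁻¹ * ρ⁻¹ ∈ Q := by
      rw [← hker]
      simp only [map_mul, map_inv, hπt, hπρ]
      simp
    obtain ⟨v, hvQ, hv⟩ := hcc _ hu
    refine ⟨v, hvQ, ?_⟩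
    have h1 : t * ρ⁻¹ * t⁻¹ = v * ρ * v⁻¹ := by rw [← hv]; group
    have h2 : (v⁻¹ * t) * ρ⁻¹ * (v⁻¹ * t)⁻¹ = ρ := by
      calc (v⁻¹ * t) * ρ⁻¹ * (v⁻¹ * t)⁻¹ = v⁻¹ * (t * ρ⁻¹ * t⁻¹) * v := by group
        _ = ρ := by rw [h1]; group
    calc (v⁻¹ * t) * ρ * (v⁻¹ * t)⁻¹ = ((v⁻¹ * t) * ρ⁻¹ * (v⁻¹ * t)⁻¹)⁻¹ := by group
      _ = ρ⁻¹ := by rw [h2]
  have hS : ∀ i, ∃ d ∈ N, π d = DihedralGroup.sr i := by
    intro i
    obtain ⟨t, ht⟩ := hπ (DihedralGroup.sr i)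
    obtain ⟨v, hvQ, hv⟩ := hlift t i ht
    refine ⟨v⁻¹ * t, hnorm _ hv, ?_⟩
    rw [map_mul, map_inv, (hker v).mpr hvQ, ht]; simp
  have hRall : ∀ c, ∃ x ∈ (R : Subgroup G), π x = DihedralGroup.r c := by
    intro c
    obtain ⟨n, hn⟩ := hex c
    exact ⟨ρ ^ n, pow_mem hρR n, by rw [hπpow, hn]⟩
  refine ⟨?_, ?_⟩
  · let f : ↥N →* DihedralGroup r := π.comp N.subtype
    have hfi : Function.Injective f := by
      intro x y hxy
      exact Subtype.ext (hinj _ _ x.2 y.2 hxy)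
    have hfs : Function.Surjective f := by
      intro z
      rcases z with c | c
      · obtain ⟨x, hx, hx'⟩ := hRall c
        exact ⟨⟨x, hRN hx⟩, hx'⟩
      · obtain ⟨d, hd, hd'⟩ := hS c
        exact ⟨⟨d, hd⟩, hd'⟩
    exact ⟨MulEquiv.ofBijective f ⟨hfi, hfs⟩⟩
  · intro a haN ha2
    have haa : a * a = 1 := by rw [← pow_two, ← ha2]; exact pow_orderOf_eq_one a
    have ha1 : a ≠ 1 := by rintro rfl; simp at ha2
    have hinvol : ∀ t, t * t = 1 → π t ≠ 1 → ∃ i, π t = DihedralGroup.sr i := by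
      intro t htt hne
      rcases hpt : π t with j | j
      · exfalso
        apply hne
        have h1 : π t * π t = 1 := by rw [← map_mul, htt, map_one]
        rw [hpt, DihedralGroup.r_mul_r, DihedralGroup.one_def] at h1
        have h2 : j + j = 0 := DihedralGroup.r.inj h1
        have h3 : j = 0 := by
          have h4 : (2 : ZMod r) * j = 0 := by rw [two_mul]; exact h2
          rcases mul_eq_zero.mp h4 with h | h
          · exact absurd h h2ne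
          · exact h
        rw [hpt, h3]; rfl
      · exact ⟨j, rfl⟩
    have hπa1 : π a ≠ 1 := by
      intro h
      exact ha1 (hNQ a haN ((hker a).mp h))
    obtain ⟨i, hi⟩ := hinvol a haa hπa1
    have hK : ∀ d i' t, d ∈ N → d * d = 1 → π d = DihedralGroup.sr i' → t * t = 1 →
        π t = π d → ∃ v ∈ Q, t = v * d * v⁻¹ := by
      intro d i' t hdN hdd hπd htt hπt
      have hdρ : d * ρ * d⁻¹ = ρ⁻¹ := hinv d i' hdN hπd ρ hρR
      have hdinv : d⁻¹ = d := inv_eq_of_mul_eq_one_left hdd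
      have htinv : t⁻¹ = t := inv_eq_of_mul_eq_one_left htt
      have hd2 : (d * ρ) * (d * ρ) = 1 := by
        calc (d * ρ) * (d * ρ) = (d * ρ * d⁻¹) * ρ := by rw [hdinv]; group
          _ = 1 := by rw [hdρ]; group
      have hu : t * d ∈ Q := by
        rw [← hker, map_mul, hπt, ← map_mul, hdd, map_one]
      obtain ⟨v, hvQ, hv⟩ := hcc _ hu
      have hty : t * (t * d * ρ) * t⁻¹ = (t * d * ρ)⁻¹ := by
        have h1 : (d * ρ)⁻¹ = d * ρ := inv_eq_of_mul_eq_one_left hd2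
        calc t * (t * d * ρ) * t⁻¹ = (t * t) * (d * ρ) * t⁻¹ := by group
          _ = (d * ρ) * t := by rw [htt, htinv]; group
          _ = (d * ρ)⁻¹ * t⁻¹ := by rw [h1, htinv]
          _ = (t * d * ρ)⁻¹ := by group
      rw [hv] at hty
      have ht' : (v⁻¹ * t * v) * ρ * (v⁻¹ * t * v)⁻¹ = ρ⁻¹ := by
        calc (v⁻¹ * t * v) * ρ * (v⁻¹ * t * v)⁻¹ = v⁻¹ * (t * (v * ρ * v⁻¹) * t⁻¹) * v := by
              group
          _ = ρ⁻¹ := by rw [hty]; group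
      have ht'N := hnorm _ ht'
      have hπt' : π (v⁻¹ * t * v) = π d := by
        rw [map_mul, map_mul, map_inv, (hker v).mpr hvQ, hπt]; simp
      have h6 := hinj _ _ ht'N hdN hπt'
      refine ⟨v, hvQ, ?_⟩
      rw [← h6]; group
    constructor
    · intro b hb2 hbQ
      have hbb : b * b = 1 := by rw [← pow_two, ← hb2]; exact pow_orderOf_eq_one b
      have hπb1 : π b ≠ 1 := fun h => hbQ ((hker b).mp h)
      obtain ⟨j, hj⟩ := hinvol b hbb hπb1
      obtain ⟨g₀, hg₀R, hg₀⟩ := hRall ((i - j) / 2)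
      have hdN : g₀ * a * g₀⁻¹ ∈ N :=
        N.mul_mem (N.mul_mem (hRN hg₀R) haN) (N.inv_mem (hRN hg₀R))
      have hπd : π (g₀ * a * g₀⁻¹) = DihedralGroup.sr j := by
        rw [map_mul, map_mul, map_inv, hg₀, hi]
        simp only [DihedralGroup.r_mul_sr, DihedralGroup.inv_r, DihedralGroup.sr_mul_r]
        congr 1
        field_simp
        ring
      have hdd : (g₀ * a * g₀⁻¹) * (g₀ * a * g₀⁻¹) = 1 := by
        calc (g₀ * a * g₀⁻¹) * (g₀ * a * g₀⁻¹) = g₀ * (a * a) * g₀⁻¹ := by group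
          _ = 1 := by rw [haa]; group
      obtain ⟨v, hvQ, hv⟩ := hK _ j b hdN hdd hπd hbb (by rw [hj, hπd])
      exact ⟨v * g₀, by rw [hv]; group⟩
    · have haρ : a * ρ * a⁻¹ = ρ⁻¹ := hinv a i haN hi ρ hρR
      have haτ : a * τ * a⁻¹ = τ⁻¹ := hinv a i haN hi τ hτR
      have hainv : a⁻¹ = a := inv_eq_of_mul_eq_one_left haa
      obtain ⟨d₂, hd₂⟩ : ∃ d₂, d₂ = a * ρ := ⟨_, rfl⟩
      have hd₂conj : d₂ = τ⁻¹ * a * τ⁻¹⁻¹ := by
        have h2 : τ⁻¹ * a = a * τ := by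
          calc τ⁻¹ * a = (a * τ * a⁻¹) * a := by rw [haτ]
            _ = a * τ := by group
        rw [hd₂, hρdef, inv_inv, h2]; group
      have hd₂d₂ : d₂ * d₂ = 1 := by
        calc d₂ * d₂ = (a * ρ * a⁻¹) * ρ := by rw [hd₂, hainv]; group
          _ = 1 := by rw [haρ]; group
      have hπd₂ : π d₂ = DihedralGroup.sr (i + c₀) := by
        rw [hd₂, map_mul, hi, hπρ, DihedralGroup.sr_mul_r]
      have hA : ∀ v ∈ Q, ∃ w ∈ Q, w * a = a * w ∧ (w⁻¹ * v) * d₂ = d₂ * (w⁻¹ * v) := by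
        intro v hvQ
        obtain ⟨t, ht⟩ : ∃ t, t = v * d₂ * v⁻¹ := ⟨_, rfl⟩
        have htt : t * t = 1 := by
          calc t * t = v * (d₂ * d₂) * v⁻¹ := by rw [ht]; group
            _ = 1 := by rw [hd₂d₂]; group
        have hπt : π t = DihedralGroup.sr (i + c₀) := by
          rw [ht, map_mul, map_mul, map_inv, (hker v).mpr hvQ, hπd₂]; simp
        have hu : a * t * ρ⁻¹ ∈ Q := by
          rw [← hker, map_mul, map_mul, map_inv, hi, hπt, hπρ]
          simp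
        obtain ⟨w, hwQ, hw⟩ := hcc _ hu
        have hy : a * t = w * ρ * w⁻¹ := by rw [← hw]; group
        have htinv : t⁻¹ = t := inv_eq_of_mul_eq_one_left htt
        have hay : a * (a * t) * a⁻¹ = (a * t)⁻¹ := by
          calc a * (a * t) * a⁻¹ = (a * a) * t * a⁻¹ := by group
            _ = t * a := by rw [haa, hainv]; group
            _ = t⁻¹ * a⁻¹ := by rw [htinv, hainv]
            _ = (a * t)⁻¹ := by group
        rw [hy] at hay
        have ha' : (w⁻¹ * a * w) * ρ * (w⁻¹ * a * w)⁻¹ = ρ⁻¹ := by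
          calc (w⁻¹ * a * w) * ρ * (w⁻¹ * a * w)⁻¹
              = w⁻¹ * (a * (w * ρ * w⁻¹) * a⁻¹) * w := by group
            _ = ρ⁻¹ := by rw [hay]; group
        have ha'N := hnorm _ ha'
        have hπa' : π (w⁻¹ * a * w) = π a := by
          rw [map_mul, map_mul, map_inv, (hker w).mpr hwQ]; simp
        have hwa := hinj _ _ ha'N haN hπa'
        have hwa' : w * a = a * w := by
          calc w * a = w * (w⁻¹ * a * w) := by rw [hwa]
            _ = a * w := by group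
        refine ⟨w, hwQ, hwa', ?_⟩
        have ht2 : t = w * d₂ * w⁻¹ := by
          calc t = a⁻¹ * (a * t) := by group
            _ = a⁻¹ * (w * ρ * w⁻¹) := by rw [hy]
            _ = (a * w) * ρ * w⁻¹ := by rw [hainv]; group
            _ = (w * a) * ρ * w⁻¹ := by rw [hwa']
            _ = w * d₂ * w⁻¹ := by rw [hd₂]; group
        have h3 : v * d₂ * v⁻¹ = w * d₂ * w⁻¹ := by rw [← ht, ht2]
        calc (w⁻¹ * v) * d₂ = w⁻¹ * (v * d₂ * v⁻¹) * v := by group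
          _ = w⁻¹ * (w * d₂ * w⁻¹) * v := by rw [h3]
          _ = d₂ * (w⁻¹ * v) := by group
      have hB : ∀ u ∈ Q, u * a = a * u → u * d₂ = d₂ * u → u = 1 := by
        intro u huQ hua hud
        apply hCρ u huQ
        have hua' : u * a⁻¹ = a⁻¹ * u := by rw [hainv]; exact hua
        calc u * ρ = u * a⁻¹ * d₂ := by rw [hd₂]; group
          _ = a⁻¹ * (u * d₂) := by rw [hua']; group
          _ = a⁻¹ * (d₂ * u) := by rw [hud]
          _ = ρ * u := by rw [hd₂]; group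
      let Φ : ↥(Q ⊓ Subgroup.centralizer ({a} : Set G)) ×
          ↥(Q ⊓ Subgroup.centralizer ({d₂} : Set G)) → ↥Q :=
        fun p => ⟨(p.1 : G) * (p.2 : G),
          Q.mul_mem (Subgroup.mem_inf.mp p.1.2).1 (Subgroup.mem_inf.mp p.2.2).1⟩
      have hΦi : Function.Injective Φ := by
        rintro ⟨⟨c₁, hc₁'⟩, ⟨c₂, hc₂'⟩⟩ ⟨⟨e₁, he₁'⟩, ⟨e₂, he₂'⟩⟩ h
        obtain ⟨hc₁Q, hc₁⟩ := Subgroup.mem_inf.mp hc₁'
        obtain ⟨hc₂Q, hc₂⟩ := Subgroup.mem_inf.mp hc₂'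
        obtain ⟨he₁Q, he₁⟩ := Subgroup.mem_inf.mp he₁'
        obtain ⟨he₂Q, he₂⟩ := Subgroup.mem_inf.mp he₂'
        have h1 : c₁ * c₂ = e₁ * e₂ := congrArg Subtype.val h
        have h2 : e₁⁻¹ * c₁ = e₂ * c₂⁻¹ := by
          calc e₁⁻¹ * c₁ = e₁⁻¹ * (c₁ * c₂) * c₂⁻¹ := by group
            _ = e₂ * c₂⁻¹ := by rw [h1]; group
        have h3 : e₁⁻¹ * c₁ ∈ Subgroup.centralizer ({a} : Set G) :=
          Subgroup.mul_mem _ (Subgroup.inv_mem _ he₁) hc₁
        have h4 : e₁⁻¹ * c₁ ∈ Subgroup.centralizer ({d₂} : Set G) := by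
          rw [h2]; exact Subgroup.mul_mem _ he₂ (Subgroup.inv_mem _ hc₂)
        have h5 := hB _ (Q.mul_mem (Q.inv_mem he₁Q) hc₁Q)
          (Subgroup.mem_centralizer_singleton_iff.mp h3)
          (Subgroup.mem_centralizer_singleton_iff.mp h4)
        have h6 : c₁ = e₁ := by
          calc c₁ = e₁ * (e₁⁻¹ * c₁) := by group
            _ = e₁ := by rw [h5, mul_one]
        have h7 : c₂ = e₂ := by
          rw [h6] at h1; exact mul_left_cancel h1
        subst h6; subst h7; rfl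
      have hΦs : Function.Surjective Φ := by
        rintro ⟨v, hvQ⟩
        obtain ⟨w, hwQ, hwa, hwd⟩ := hA v hvQ
        refine ⟨⟨⟨w, Subgroup.mem_inf.mpr ⟨hwQ, Subgroup.mem_centralizer_singleton_iff.mpr hwa⟩⟩,
          ⟨w⁻¹ * v, Subgroup.mem_inf.mpr ⟨Q.mul_mem (Q.inv_mem hwQ) hvQ,
            Subgroup.mem_centralizer_singleton_iff.mpr hwd⟩⟩⟩, ?_⟩
        apply Subtype.ext
        show w * (w⁻¹ * v) = v
        group
      have hcard1 : Nat.card ↥Q = Nat.card ↥(Q ⊓ Subgroup.centralizer ({a} : Set G)) *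
          Nat.card ↥(Q ⊓ Subgroup.centralizer ({d₂} : Set G)) := by
        rw [← Nat.card_prod]
        exact (Nat.card_congr (Equiv.ofBijective Φ ⟨hΦi, hΦs⟩)).symm
      have hcard2 : Nat.card ↥(Q ⊓ Subgroup.centralizer ({d₂} : Set G)) =
          Nat.card ↥(Q ⊓ Subgroup.centralizer ({a} : Set G)) := by
        rw [hd₂conj]; exact card_conj_cent Q τ⁻¹ a
      rw [hcard1, hcard2, pow_two]

/-- Let G be a finite group and r an odd prime such that G ⧸ O₂(G) is dihedral of order 2r, and let R be a Sylow r-subgroup of G with C_{O₂(G)}(R) = 1. Then N_G(R) is dihedral of order 2r; for any involution a of N_G(R), every involution of G outside O₂(G) is conjugate to a; and |C_{O₂(G)}(a)|² = |O₂(G)|. -/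
theorem result {G : Type*} [Group G] [Finite G] {r : ℕ} [Fact r.Prime] (hr : r ≠ 2) [hN : (Cfsg.pCore 2 G).Normal] (hquot : Nonempty (G ⧸ Cfsg.pCore 2 G ≃* DihedralGroup r)) (R : Sylow r G) (hC : Cfsg.pCore 2 G ⊓ Subgroup.centralizer ((R : Subgroup G) : Set G) = ⊥) : Nonempty (↥(Subgroup.normalizer ((R : Subgroup G) : Set G)) ≃* DihedralGroup r) ∧ ∀ a : G, a ∈ Subgroup.normalizer ((R : Subgroup G) : Set G) → orderOf a = 2 → (∀ b : G, orderOf b = 2 → b ∉ Cfsg.pCore 2 G → ∃ g : G, g * a * g⁻¹ = b) ∧ Nat.card ↥(Cfsg.pCore 2 G ⊓ Subgroup.centralizer ({a} : Set G)) ^ 2 = Nat.card ↥(Cfsg.pCore 2 G) := by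
  obtain ⟨e⟩ := hquot
  have hQ2 := Cfsg.Agent.Lib.helper15.pCore_isPGroup 2 G
  exact core hr (Cfsg.pCore 2 G) hQ2 (e.toMonoidHom.comp (QuotientGroup.mk' _)) (by
      intro z
      obtain ⟨y, hy⟩ := e.surjective z
      obtain ⟨x, hx⟩ := QuotientGroup.mk'_surjective _ y
      subst hx
      exact ⟨x, hy⟩) (by
      intro x
      simp [QuotientGroup.eq_one_iff]) R hC

end Cfsg.Agent.S2873
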