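import Cfsg.Statements.S2874
import Mathlib

-- import your own Cfsg.Agent.* helpers here

set_option autoImplicit false
open Cfsg

namespace Cfsg.Agent.S2874

/-- parity hom -/
noncomputable def par (k : ℕ) (hk : k ≠ 0) : ZMod (2 ^ k) →+* ZMod 2 :=
  ZMod.castHom (dvd_pow_self 2 hk) (ZMod 2)

theorem z2 : ∀ y : ZMod 2, y = 0 ∨ y = 1 := by decide

theorem isUnit_iff_par {k : ℕ} (hk : k ≠ 0) (x : ZMod (2 ^ k)) : IsUnit x ↔ par k hk x = 1 := by
  have : NeZero (2 ^ k) := ⟨by positivity⟩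
  constructor
  · intro h
    have h2 : IsUnit (par k hk x) := h.map _
    rcases z2 (par k hk x) with h0 | h1
    · rw [h0] at h2; exact absurd h2 not_isUnit_zero
    · exact h1
  · intro h
    have hx : ((x.val : ℕ) : ZMod (2 ^ k)) = x := ZMod.natCast_zmod_val x
    have h1 : ((x.val : ℕ) : ZMod 2) = 1 := by
      rw [← h, ← hx, map_natCast, hx]
    have hodd : Odd x.val := ZMod.natCast_eq_one_iff_odd.mp h1
    rw [← hx, ZMod.isUnit_iff_coprime]
    exact Nat.Coprime.pow_right k (Nat.coprime_two_right.mpr hodd)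

theorem not_isUnit_iff_par {k : ℕ} (hk : k ≠ 0) (x : ZMod (2 ^ k)) : ¬ IsUnit x ↔ par k hk x = 0 := by
  rw [isUnit_iff_par hk]
  rcases z2 (par k hk x) with h0 | h1
  · simp [h0]
  · simp [h1]

theorem isUnit_three {k : ℕ} (hk : k ≠ 0) : IsUnit (3 : ZMod (2 ^ k)) := by
  rw [isUnit_iff_par hk, map_ofNat]; decide

theorem cube_one {k : ℕ} (hk : k ≠ 0) (c : ZMod (2 ^ k)) (h : c ^ 3 = 1) : c = 1 := by
  have hu : IsUnit (c ^ 2 + c + 1) := by
    rw [isUnit_iff_par hk, map_add, map_add, map_pow, map_one]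
    rcases z2 (par k hk c) with h0 | h1
    · rw [h0]; decide
    · rw [h1]; decide
  have h0 : (c - 1) * (c ^ 2 + c + 1) = 0 := by linear_combination h
  have := hu.mul_left_eq_zero.mp h0
  linear_combination this

theorem two_tors {k : ℕ} (hk : k ≠ 0) (z : ZMod (2 ^ k)) (h : 2 * z = 0) :
    z = 0 ∨ z = ((2 ^ (k - 1) : ℕ) : ZMod (2 ^ k)) := by
  have : NeZero (2 ^ k) := ⟨by positivity⟩
  obtain ⟨j, rfl⟩ : ∃ j, k = j + 1 := ⟨k - 1, by omega⟩
  have hx : ((z.val : ℕ) : ZMod (2 ^ (j+1))) = z := ZMod.natCast_zmod_val z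
  have h1 : ((2 * z.val : ℕ) : ZMod (2 ^ (j+1))) = 0 := by
    rw [Nat.cast_mul, hx]; exact_mod_cast h
  rw [ZMod.natCast_eq_zero_iff] at h1
  have h2 : 2 ^ j ∣ z.val := by
    have h3 : 2 * 2 ^ j ∣ 2 * z.val := by rw [← pow_succ']; exact h1
    exact Nat.dvd_of_mul_dvd_mul_left (by norm_num) h3
  obtain ⟨m, hm⟩ := h2
  have hlt : z.val < 2 ^ (j+1) := ZMod.val_lt z
  have hm2 : m < 2 := by
    by_contra hcon
    push Not at hcon
    have : 2 ^ j * 2 ≤ 2 ^ j * m := Nat.mul_le_mul_left _ hcon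
    have e : 2 ^ (j+1) = 2 ^ j * 2 := pow_succ 2 j
    omega
  interval_cases m
  · left; rw [← hx, hm]; simp
  · right; rw [← hx, hm]; simp



def a1 : Equiv.Perm (Fin 4) := Equiv.swap 0 1 * Equiv.swap 2 3
def a2 : Equiv.Perm (Fin 4) := Equiv.swap 0 2 * Equiv.swap 1 3
def c0 : Equiv.Perm (Fin 4) := Equiv.swap 0 1 * Equiv.swap 1 2
def V0 : List (Equiv.Perm (Fin 4)) := [1, a1, a2, a1 * a2]

set_option maxRecDepth 100000 in
theorem D1 : ∀ g : Equiv.Perm (Fin 4), (∃ v ∈ V0, ∃ i : Fin 3, g = v * c0 ^ (i : ℕ)) ∨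
    (∃ v ∈ V0, ∃ i : Fin 3, Equiv.swap 0 1 * g = v * c0 ^ (i : ℕ)) := by
  decide +kernel

set_option maxRecDepth 100000 in
theorem D2 : ∀ v ∈ V0, v * v = 1 ∧ v * (c0 * v * c0⁻¹) = c0 * c0 * v * (c0⁻¹ * c0⁻¹) := by
  decide +kernel

set_option maxRecDepth 100000 in
theorem D3 : c0 ^ 3 = 1 ∧ c0 ≠ 1 := by
  decide +kernel

theorem sign_c0 : Equiv.Perm.sign c0 = 1 := by
  unfold c0
  rw [Equiv.Perm.sign_mul, Equiv.Perm.sign_swap (by decide), Equiv.Perm.sign_swap (by decide)]; rfl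

theorem sign_V0 : ∀ v ∈ V0, Equiv.Perm.sign v = 1 := by
  intro v hv
  simp only [V0, List.mem_cons, List.not_mem_nil, or_false] at hv
  rcases hv with rfl | rfl | rfl | rfl
  · simp
  · unfold a1
    rw [Equiv.Perm.sign_mul, Equiv.Perm.sign_swap (by decide), Equiv.Perm.sign_swap (by decide)]; rfl
  · unfold a2
    rw [Equiv.Perm.sign_mul, Equiv.Perm.sign_swap (by decide), Equiv.Perm.sign_swap (by decide)]; rfl
  · unfold a1 a2
    rw [Equiv.Perm.sign_mul, Equiv.Perm.sign_mul, Equiv.Perm.sign_mul, Equiv.Perm.sign_swap (by decide), Equiv.Perm.sign_swap (by decide),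
      Equiv.Perm.sign_swap (by decide), Equiv.Perm.sign_swap (by decide)]; rfl

theorem D1' (g : Equiv.Perm (Fin 4)) (hg : Equiv.Perm.sign g = 1) :
    ∃ v ∈ V0, ∃ i : Fin 3, g = v * c0 ^ (i : ℕ) := by
  rcases D1 g with h | ⟨v, hv, i, h⟩
  · exact h
  · exfalso
    have h1 : Equiv.Perm.sign (Equiv.swap 0 1 * g) = Equiv.Perm.sign (v * c0 ^ (i : ℕ)) := by rw [h]
    rw [Equiv.Perm.sign_mul, Equiv.Perm.sign_swap (by decide), hg, Equiv.Perm.sign_mul, sign_V0 v hv, map_pow, sign_c0] at h1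
    simp at h1

def r0 (R : Type) [Ring R] : Matrix (Fin 2) (Fin 2) R := !![0, -1; 1, -1]
def r0i (R : Type) [Ring R] : Matrix (Fin 2) (Fin 2) R := !![-1, 1; -1, 0]

theorem mat_eq {R : Type} (x1 x2 x3 x4 y1 y2 y3 y4 : R) (h1 : x1 = y1) (h2 : x2 = y2)
    (h3 : x3 = y3) (h4 : x4 = y4) : !![x1, x2; x3, x4] = !![y1, y2; y3, y4] := by
  subst_vars; rfl

theorem M2core {R : Type} [CommRing R] (c3 : R) (h3 : 3 * c3 = 1) (p q r s : R)
    (F1 : p * p + q * r = 1) (F2 : p * q + q * s = 0) (F3 : r * p + s * r = 0)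
    (F4 : r * q + s * s = 1)
    (G1 : p * (r + s) + q * (-p - q + r + s) = s - q)
    (G2 : -p * r + q * (p - r) = p + q - r - s)
    (G3 : r * (r + s) + s * (-p - q + r + s) = -q)
    (G4 : -r * r + s * (p - r) = p + q) :
    2 * q = 0 ∧ 2 * r = 0 ∧ p = 1 + q + r ∧ s = 1 + q + r := by
  have c3z : ∀ z : R, 3 * z = 0 → z = 0 := fun z hz => by linear_combination c3 * hz - z * h3
  obtain ⟨x, y, u, v, hp, hq, hr, hs⟩ : ∃ x y u v : R, p = x + u ∧ q = -y - u + v ∧ r = y + v ∧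
      s = x - y - u := by
    refine ⟨p - ((r - q) - 2 * (c3 * (2 * (r - q) - (p - s)))), c3 * (2 * (r - q) - (p - s)),
      (r - q) - 2 * (c3 * (2 * (r - q) - (p - s))), r - c3 * (2 * (r - q) - (p - s)), ?_, ?_, ?_, ?_⟩
    · ring
    · ring
    · ring
    · linear_combination (-(2 * (r - q) - (p - s))) * h3
  subst hp hq hr hs
  have E1 := c3z (x * x - y * y + (u * u - u * v + v * v) - 1) (by linear_combination F1 + F3 - F2 + 2 * F4)
  have E2 := c3z (2 * x * y - y * y) (by linear_combination 2 * (F3 - F2) - (F1 - F4))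
  have E3 := c3z (x * x - y * y - x) (by linear_combination G1 + G3 - G2 + 2 * G4)
  have E4 := c3z (2 * x * y - y * y + (u * u - u * v + v * v) - y)
    (by linear_combination 2 * (G3 - G2) - (G1 - G4))
  have EU := c3z ((2 * x - y) * u) (by linear_combination -F3 + F2 + 2 * F1 - 2 * F4)
  have EV := c3z ((2 * x - y) * v) (by linear_combination F3 + 2 * F2 + F1 - F4)
  have hA : (u * u - u * v + v * v) - y = 0 := by linear_combination E4 - E2
  have hB : x + (u * u - u * v + v * v) - 1 = 0 := by linear_combination E1 - E3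
  have ht : (u * u - u * v + v * v) = 0 := by
    linear_combination (-1) * E3 + (x - (u * u - u * v + v * v)) * hB + ((u * u - u * v + v * v) + y) * hA
  have hy : y = 0 := by linear_combination ht - hA
  have hx : x = 1 := by linear_combination hB - ht
  subst hy hx
  have hU : 2 * u = 0 := by linear_combination EU
  have hV : 2 * v = 0 := by linear_combination EV
  refine ⟨?_, ?_, ?_, ?_⟩
  · linear_combination hV - hU
  · linear_combination hV
  · linear_combination hU - hV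
  · linear_combination (-1) * hV

theorem M2 {k : ℕ} (hk : k ≠ 0) (w : Matrix (Fin 2) (Fin 2) (ZMod (2 ^ k)))
    (h1 : w * w = 1) (h2 : w * (r0 _ * w * r0i _) = r0 _ * r0 _ * w * (r0i _ * r0i _)) :
    ∃ q r : ZMod (2 ^ k), 2 * q = 0 ∧ 2 * r = 0 ∧ w = !![1 + q + r, q; r, 1 + q + r] := by
  obtain ⟨u3, hu3⟩ := isUnit_three hk
  have h3 : (3 : ZMod (2 ^ k)) * ((u3⁻¹ : (ZMod (2 ^ k))ˣ) : ZMod (2 ^ k)) = 1 := by
    rw [← hu3]; simp
  have hw := Matrix.eta_fin_two w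
  generalize w 0 0 = p at hw
  generalize w 0 1 = q at hw
  generalize w 1 0 = r at hw
  generalize w 1 1 = s at hw
  subst hw
  have F1 := congrFun (congrFun h1 0) 0
  have F2 := congrFun (congrFun h1 0) 1
  have F3 := congrFun (congrFun h1 1) 0
  have F4 := congrFun (congrFun h1 1) 1
  have G1 := congrFun (congrFun h2 0) 0
  have G2 := congrFun (congrFun h2 0) 1
  have G3 := congrFun (congrFun h2 1) 0
  have G4 := congrFun (congrFun h2 1) 1
  simp [Matrix.mul_apply, Fin.sum_univ_two, r0, r0i] at F1 F2 F3 F4 G1 G2 G3 G4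
  obtain ⟨hq, hr, hp, hs⟩ := M2core _ h3 p q r s (by linear_combination F1) (by linear_combination F2)
    (by linear_combination F3) (by linear_combination F4) (by linear_combination G1)
    (by linear_combination G2) (by linear_combination G3) (by linear_combination G4)
  exact ⟨q, r, hq, hr, by rw [hs, hp]⟩

theorem M1 {k : ℕ} (hk : k ≠ 0) (m : Matrix (Fin 2) (Fin 2) (ZMod (2 ^ k)))
    (h3 : m * m * m = 1) (hne : m ≠ 1) :
    ∃ P : Matrix (Fin 2) (Fin 2) (ZMod (2 ^ k)), IsUnit P.det ∧ m * P = P * r0 _ := by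
  have hdet : m.det = 1 := by
    apply cube_one hk
    have := congrArg Matrix.det h3
    rw [Matrix.det_mul, Matrix.det_mul, Matrix.det_one] at this
    rw [← this]; ring
  have hm := Matrix.eta_fin_two m
  generalize m 0 0 = a at hm
  generalize m 0 1 = b at hm
  generalize m 1 0 = c at hm
  generalize m 1 1 = d at hm
  subst hm
  rw [Matrix.det_fin_two_of] at hdet
  have h11 := congrFun (congrFun h3 0) 0
  have h12 := congrFun (congrFun h3 0) 1
  have h21 := congrFun (congrFun h3 1) 0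
  have h22 := congrFun (congrFun h3 1) 1
  simp [Matrix.mul_apply, Fin.sum_univ_two] at h11 h12 h21 h22
  have K11 : (a + d + 1) * ((a + d - 1) * a - 1) = 0 := by linear_combination h11 + (2 * a + d) * hdet
  have K12 : (a + d + 1) * ((a + d - 1) * b) = 0 := by linear_combination h12 + b * hdet
  have K21 : (a + d + 1) * ((a + d - 1) * c) = 0 := by linear_combination h21 + c * hdet
  have K22 : (a + d + 1) * ((a + d - 1) * d - 1) = 0 := by linear_combination h22 + (2 * d + a) * hdet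
  have hτ : a + d + 1 = 0 := by
    by_cases hu : IsUnit (a + d + 1)
    · exfalso
      have Ka := hu.mul_right_eq_zero.mp K11
      have Kb := hu.mul_right_eq_zero.mp K12
      have Kc := hu.mul_right_eq_zero.mp K21
      have Kd := hu.mul_right_eq_zero.mp K22
      have hb : b = 0 := by linear_combination a * Kb - b * Ka
      have hc : c = 0 := by linear_combination a * Kc - c * Ka
      have hd : a = d := by linear_combination d * Ka - a * Kd
      subst hb hc hd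
      have ha : a = 1 := by
        apply cube_one hk
        linear_combination h11
      subst ha
      exact hne (by rw [Matrix.one_fin_two])
    · rw [not_isUnit_iff_par hk] at hu
      have hu2 : IsUnit ((a + d - 1) * a - 1) := by
        rw [isUnit_iff_par hk]
        have e : (a + d - 1) * a - 1 = (a + d + 1) * a - 2 * a - 1 := by ring
        rw [e, map_sub, map_sub, map_mul, hu, map_mul, map_ofNat, map_one]
        rcases z2 (par k hk a) with h0 | h0 <;> rw [h0] <;> decide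
      exact hu2.mul_left_eq_zero.mp K11
  by_cases hc : IsUnit c
  · refine ⟨!![1, a; 0, c], by rw [Matrix.det_fin_two_of]; simpa using hc, ?_⟩
    rw [r0, Matrix.mul_fin_two, Matrix.mul_fin_two]
    apply mat_eq
    · ring
    · linear_combination (-1) * hdet + a * hτ
    · ring
    · linear_combination c * hτ
  by_cases hb : IsUnit b
  · refine ⟨!![0, b; 1, d], by rw [Matrix.det_fin_two_of]; simpa using hb, ?_⟩
    rw [r0, Matrix.mul_fin_two, Matrix.mul_fin_two]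
    apply mat_eq
    · ring
    · linear_combination b * hτ
    · ring
    · linear_combination (-1) * hdet + d * hτ
  exfalso
  rw [not_isUnit_iff_par hk] at hb hc
  have e1 := congrArg (par k hk) hdet
  have e2 := congrArg (par k hk) hτ
  simp only [map_sub, map_mul, map_add, map_one, map_zero, hb, hc] at e1 e2
  rcases z2 (par k hk a) with h0 | h0 <;> rcases z2 (par k hk d) with h1 | h1 <;>
    rw [h0, h1] at e1 e2 <;> revert e1 e2 <;> decide


theorem r0_mul_r0i (R : Type) [CommRing R] : r0 R * r0i R = 1 := by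
  rw [r0, r0i, Matrix.mul_fin_two, Matrix.one_fin_two]
  apply mat_eq <;> ring

theorem r0i_mul_r0 (R : Type) [CommRing R] : r0i R * r0 R = 1 := by
  rw [r0, r0i, Matrix.mul_fin_two, Matrix.one_fin_two]
  apply mat_eq <;> ring

/-- the standard element of order three -/
def R0 (R : Type) [CommRing R] : GL (Fin 2) R := ⟨r0 R, r0i R, r0_mul_r0i R, r0i_mul_r0 R⟩

open Classical in
/-- the twelve matrices -/
noncomputable def X (k : ℕ) : Finset (Matrix (Fin 2) (Fin 2) (ZMod (2 ^ k))) :=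
  (((({0, ((2 ^ (k - 1) : ℕ) : ZMod (2 ^ k))} : Finset (ZMod (2 ^ k))) ×ˢ
    ({0, ((2 ^ (k - 1) : ℕ) : ZMod (2 ^ k))} : Finset (ZMod (2 ^ k)))) ×ˢ
    (Finset.univ : Finset (Fin 3)))).image
    (fun t => !![1 + t.1.1 + t.1.2, t.1.1; t.1.2, 1 + t.1.1 + t.1.2] * (r0 _) ^ (t.2 : ℕ))

theorem card_X (k : ℕ) : (X k).card ≤ 12 := by
  classical
  unfold X
  refine Finset.card_image_le.trans ?_
  rw [Finset.card_product, Finset.card_product, Finset.card_univ, Fintype.card_fin]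
  have h2 : ({0, ((2 ^ (k - 1) : ℕ) : ZMod (2 ^ k))} : Finset (ZMod (2 ^ k))).card ≤ 2 :=
    Finset.card_le_two
  nlinarith

theorem K {k : ℕ} (hk : k ≠ 0) (H : Subgroup (GL (Fin 2) (ZMod (2 ^ k))))
    (e : ↥H ≃* ↥(alternatingGroup (Fin 4))) :
    ∃ P : GL (Fin 2) (ZMod (2 ^ k)),
      (fun g : ↥H => ((P⁻¹ * (g : GL (Fin 2) (ZMod (2 ^ k))) * P : GL (Fin 2) (ZMod (2 ^ k))) :
        Matrix (Fin 2) (Fin 2) (ZMod (2 ^ k)))) '' Set.univ = ((X k : Finset _) : Set _) := by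
  classical
  have hcard : Nat.card ↥H = 12 := by
    rw [Nat.card_congr e.toEquiv, nat_card_alternatingGroup, Nat.card_eq_fintype_card, Fintype.card_fin]; rfl
  set c0' : ↥(alternatingGroup (Fin 4)) := ⟨c0, Equiv.Perm.mem_alternatingGroup.mpr sign_c0⟩ with hc0'
  set ρ : ↥H := e.symm c0' with hρ
  have hc3 : c0' * c0' * c0' = 1 := by
    apply Subtype.ext
    have := D3.1
    simpa [pow_succ] using this
  have hρ3 : ρ * ρ * ρ = 1 := by
    rw [hρ, ← map_mul, ← map_mul, hc3, map_one]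
  have hρ1 : ρ ≠ 1 := by
    intro h
    have h2 : c0' = 1 := by
      have := congrArg e h
      rwa [hρ, MulEquiv.apply_symm_apply, map_one] at this
    exact D3.2 (congrArg Subtype.val h2)
  obtain ⟨Pm, hPdet, hPm⟩ := M1 hk (((ρ : GL (Fin 2) (ZMod (2 ^ k))) : Matrix (Fin 2) (Fin 2) (ZMod (2 ^ k))))
    (by
      have := congrArg (fun t : ↥H => ((t : GL (Fin 2) (ZMod (2 ^ k))) : Matrix (Fin 2) (Fin 2) (ZMod (2 ^ k)))) hρ3
      simpa using this)
    (by
      intro h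
      apply hρ1
      apply Subtype.ext
      apply Units.ext
      simpa using h)
  set P : GL (Fin 2) (ZMod (2 ^ k)) := Matrix.GeneralLinearGroup.mk'' Pm hPdet with hP
  have hPv : (P : Matrix (Fin 2) (Fin 2) (ZMod (2 ^ k))) = Pm := rfl
  have hconj : P⁻¹ * (ρ : GL (Fin 2) (ZMod (2 ^ k))) * P = R0 _ := by
    have h1 : (ρ : GL (Fin 2) (ZMod (2 ^ k))) * P = P * R0 _ := by
      apply Units.ext
      rw [Units.val_mul, Units.val_mul, hPv]
      exact hPm
    rw [mul_assoc, h1, ← mul_assoc, inv_mul_cancel, one_mul]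
  refine ⟨P, ?_⟩
  have hinj : Function.Injective (fun g : ↥H => ((P⁻¹ * (g : GL (Fin 2) (ZMod (2 ^ k))) * P : GL (Fin 2) (ZMod (2 ^ k))) :
        Matrix (Fin 2) (Fin 2) (ZMod (2 ^ k)))) := by
    intro g g' h
    have h2 : P⁻¹ * (g : GL (Fin 2) (ZMod (2 ^ k))) * P = P⁻¹ * (g' : GL (Fin 2) (ZMod (2 ^ k))) * P :=
      Units.ext h
    apply Subtype.ext
    simpa using h2
  apply Set.eq_of_subset_of_ncard_le
  · rintro _ ⟨g, -, rfl⟩
    have hsg : Equiv.Perm.sign ((e g : ↥(alternatingGroup (Fin 4))) : Equiv.Perm (Fin 4)) = 1 :=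
      Equiv.Perm.mem_alternatingGroup.mp (e g).2
    obtain ⟨v0, hv0, i, hgi⟩ := D1' _ hsg
    set v0' : ↥(alternatingGroup (Fin 4)) := ⟨v0, Equiv.Perm.mem_alternatingGroup.mpr (sign_V0 v0 hv0)⟩ with hv0'
    have heg : e g = v0' * c0' ^ (i : ℕ) := by
      apply Subtype.ext
      simpa using hgi
    have hg : g = e.symm v0' * ρ ^ (i : ℕ) := by
      rw [hρ, ← map_pow, ← map_mul, ← heg, MulEquiv.symm_apply_apply]
    set v : ↥H := e.symm v0' with hv
    obtain ⟨hD2a, hD2b⟩ := D2 v0 hv0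
    have hvv : v * v = 1 := by
      rw [hv, ← map_mul]
      have : v0' * v0' = 1 := Subtype.ext (by simpa using hD2a)
      rw [this, map_one]
    have hv2 : v * (ρ * v * ρ⁻¹) = ρ * ρ * v * (ρ⁻¹ * ρ⁻¹) := by
      have : v0' * (c0' * v0' * c0'⁻¹) = c0' * c0' * v0' * (c0'⁻¹ * c0'⁻¹) :=
        Subtype.ext (by simpa using hD2b)
      have h2 := congrArg e.symm this
      simpa [map_mul, map_inv] using h2
    set w : GL (Fin 2) (ZMod (2 ^ k)) := P⁻¹ * (v : GL (Fin 2) (ZMod (2 ^ k))) * P with hw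
    have hvvG : (v : GL (Fin 2) (ZMod (2 ^ k))) * (v : GL (Fin 2) (ZMod (2 ^ k))) = 1 := by
      have := congrArg (Subtype.val) hvv
      simpa using this
    have hv2G : (v : GL (Fin 2) (ZMod (2 ^ k))) * ((ρ : GL (Fin 2) (ZMod (2 ^ k))) * (v : GL (Fin 2) (ZMod (2 ^ k))) * (ρ : GL (Fin 2) (ZMod (2 ^ k)))⁻¹)
        = (ρ : GL (Fin 2) (ZMod (2 ^ k))) * (ρ : GL (Fin 2) (ZMod (2 ^ k))) * (v : GL (Fin 2) (ZMod (2 ^ k))) * ((ρ : GL (Fin 2) (ZMod (2 ^ k)))⁻¹ * (ρ : GL (Fin 2) (ZMod (2 ^ k)))⁻¹) := by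
      have := congrArg (Subtype.val) hv2
      simpa using this
    have hww : w * w = 1 := by
      have : w * w = P⁻¹ * ((v : GL (Fin 2) (ZMod (2 ^ k))) * (v : GL (Fin 2) (ZMod (2 ^ k)))) * P := by rw [hw]; group
      rw [this, hvvG]; group
    have hw2 : w * (R0 _ * w * (R0 _)⁻¹) = R0 _ * R0 _ * w * ((R0 _)⁻¹ * (R0 _)⁻¹) := by
      have e1 : w * (R0 _ * w * (R0 _)⁻¹) = P⁻¹ * ((v : GL (Fin 2) (ZMod (2 ^ k))) * ((ρ : GL (Fin 2) (ZMod (2 ^ k))) * (v : GL (Fin 2) (ZMod (2 ^ k))) * (ρ : GL (Fin 2) (ZMod (2 ^ k)))⁻¹)) * P := by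
        rw [hw, ← hconj]; group
      have e2 : R0 _ * R0 _ * w * ((R0 _)⁻¹ * (R0 _)⁻¹) = P⁻¹ * ((ρ : GL (Fin 2) (ZMod (2 ^ k))) * (ρ : GL (Fin 2) (ZMod (2 ^ k))) * (v : GL (Fin 2) (ZMod (2 ^ k))) * ((ρ : GL (Fin 2) (ZMod (2 ^ k)))⁻¹ * (ρ : GL (Fin 2) (ZMod (2 ^ k)))⁻¹)) * P := by
        rw [hw, ← hconj]; group
      rw [e1, e2, hv2G]
    have hwwM : (w : Matrix (Fin 2) (Fin 2) (ZMod (2 ^ k))) * (w : Matrix (Fin 2) (Fin 2) (ZMod (2 ^ k))) = 1 := by
      have := congrArg Units.val hww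
      simpa using this
    have hw2M : (w : Matrix (Fin 2) (Fin 2) (ZMod (2 ^ k))) * (r0 _ * (w : Matrix (Fin 2) (Fin 2) (ZMod (2 ^ k))) * r0i _) = r0 _ * r0 _ * (w : Matrix (Fin 2) (Fin 2) (ZMod (2 ^ k))) * (r0i _ * r0i _) := by
      have := congrArg Units.val hw2
      simpa [R0] using this
    obtain ⟨q, r, hq, hr, hwM⟩ := M2 hk _ hwwM hw2M
    have hfg : P⁻¹ * (g : GL (Fin 2) (ZMod (2 ^ k))) * P = w * (R0 _) ^ (i : ℕ) := by
      rw [hg, ← hconj, hw]
      have : ∀ n : ℕ, (P⁻¹ * (ρ : GL (Fin 2) (ZMod (2 ^ k))) * P) ^ n = P⁻¹ * (ρ : GL (Fin 2) (ZMod (2 ^ k))) ^ n * P := by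
        intro n
        induction n with
        | zero => simp
        | succ n ih => rw [pow_succ, ih, pow_succ]; group
      rw [this]
      simp only [Subgroup.coe_mul, Subgroup.coe_pow]
      group
    show ((P⁻¹ * (g : GL (Fin 2) (ZMod (2 ^ k))) * P : GL (Fin 2) (ZMod (2 ^ k))) : Matrix (Fin 2) (Fin 2) (ZMod (2 ^ k))) ∈ ((X k : Finset _) : Set _)
    rw [hfg, Finset.mem_coe]
    unfold X
    rw [Finset.mem_image]
    refine ⟨((q, r), i), ?_, ?_⟩
    · simp only [Finset.mem_product, Finset.mem_insert, Finset.mem_singleton, Finset.mem_univ, and_true]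
      exact ⟨two_tors hk q hq, two_tors hk r hr⟩
    · rw [Units.val_mul, Units.val_pow_eq_pow_val, hwM]; rfl
  · rw [Set.ncard_image_of_injective _ hinj, Set.ncard_univ, hcard, Set.ncard_coe_finset]
    exact card_X k
  · exact Finset.finite_toSet _

/-- For k ≥ 2, any two subgroups of GL₂(ℤ/2ᵏℤ) (the automorphism group of the homocyclic group ℤ/2ᵏ × ℤ/2ᵏ) that are isomorphic to the alternating group of degree 4 are conjugate. -/
theorem result (k : ℕ) (hk : 2 ≤ k) (H₁ H₂ : Subgroup (GL (Fin 2) (ZMod (2 ^ k)))) (h₁ : Nonempty (↥H₁ ≃* ↥(alternatingGroup (Fin 4)))) (h₂ : Nonempty (↥H₂ ≃* ↥(alternatingGroup (Fin 4)))) : ∃ g : GL (Fin 2) (ZMod (2 ^ k)), H₂ = H₁.map (MulAut.conj g).toMonoidHom := by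
  have hk0 : k ≠ 0 := by omega
  obtain ⟨e₁⟩ := h₁
  obtain ⟨e₂⟩ := h₂
  obtain ⟨P₁, hP₁⟩ := K hk0 H₁ e₁
  obtain ⟨P₂, hP₂⟩ := K hk0 H₂ e₂
  refine ⟨P₂ * P₁⁻¹, ?_⟩
  ext x
  rw [Subgroup.mem_map]
  constructor
  · intro hx
    have h1 : ((P₂⁻¹ * x * P₂ : GL (Fin 2) (ZMod (2 ^ k))) : Matrix (Fin 2) (Fin 2) (ZMod (2 ^ k))) ∈ ((X k : Finset _) : Set _) := by
      rw [← hP₂]; exact ⟨⟨x, hx⟩, Set.mem_univ _, rfl⟩
    rw [← hP₁] at h1
    obtain ⟨y, -, hy⟩ := h1
    have hy' : P₁⁻¹ * (y : GL (Fin 2) (ZMod (2 ^ k))) * P₁ = P₂⁻¹ * x * P₂ := Units.ext hy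
    refine ⟨y, y.2, ?_⟩
    simp only [MulEquiv.coe_toMonoidHom, MulAut.conj_apply]
    have : x = P₂ * (P₂⁻¹ * x * P₂) * P₂⁻¹ := by group
    rw [this, ← hy']; group
  · rintro ⟨y, hy, rfl⟩
    have h1 : ((P₁⁻¹ * y * P₁ : GL (Fin 2) (ZMod (2 ^ k))) : Matrix (Fin 2) (Fin 2) (ZMod (2 ^ k))) ∈ ((X k : Finset _) : Set _) := by
      rw [← hP₁]; exact ⟨⟨y, hy⟩, Set.mem_univ _, rfl⟩
    rw [← hP₂] at h1
    obtain ⟨z, -, hz⟩ := h1
    have hz' : P₂⁻¹ * (z : GL (Fin 2) (ZMod (2 ^ k))) * P₂ = P₁⁻¹ * y * P₁ := Units.ext hz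
    simp only [MulEquiv.coe_toMonoidHom, MulAut.conj_apply]
    have : P₂ * P₁⁻¹ * y * (P₂ * P₁⁻¹)⁻¹ = P₂ * (P₁⁻¹ * y * P₁) * P₂⁻¹ := by group
    rw [this, ← hz']
    have : P₂ * (P₂⁻¹ * (z : GL (Fin 2) (ZMod (2 ^ k))) * P₂) * P₂⁻¹ = z := by group
    rw [this]; exact z.2

end Cfsg.Agent.S2874
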