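import Cfsg.Statements.S2879
import Mathlib
import Cfsg.Agent.S0106
import Cfsg.Agent.Lib.helper6.QD
import Cfsg.Agent.Lib.helper16.PSolv
import Cfsg.Agent.Lib.helper16.OddAct
import Cfsg.Agent.Lib.helper14.SolvPSolv

set_option autoImplicit false
open Cfsg

namespace Cfsg.Agent.S2879

/-- structure of a quasidihedral group -/
theorem qd_struct {S : Type*} [Group S] (h : Cfsg.IsQuasiDihedral S) :
    ∃ (A : Subgroup S) (z c : S), IsCyclic A ∧ z ∈ A ∧ orderOf z = 2 ∧ (∀ t : S, t * z = z * t) ∧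
      c ∈ A ∧ c * c = z ∧ (∀ y : S, y ∉ A → y ^ 2 = 1 ∨ y ^ 2 = z) ∧
      (∀ y : S, y ∉ A → ∀ x ∈ A, x ^ 4 = 1 → y * x * y⁻¹ = x⁻¹) ∧
      (∀ y y' : S, y ∉ A → y' ∉ A → y⁻¹ * y' ∈ A) ∧
      (16 ∣ Nat.card S ∨ ∀ y : S, y ∉ A → y ^ 2 = 1) := by
  obtain ⟨n, m, x, y, hq, -⟩ := Cfsg.Agent.Lib.helper6.qd_of h
  refine ⟨Subgroup.zpowers x, x ^ (4 * (m : ℤ)), x ^ (2 * (m : ℤ)), inferInstance,
    Subgroup.zpow_mem_zpowers x _, ?_, hq.z_central, Subgroup.zpow_mem_zpowers x _, ?_, ?_, ?_, ?_,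
    Or.inl ⟨m, hq.card⟩⟩
  · apply orderOf_eq_prime
    · rw [pow_two]; exact hq.z_sq
    · exact hq.z_ne
  · rw [← zpow_add]; congr 1; ring
  · intro t ht
    rcases hq.nf t with ⟨k, rfl⟩ | ⟨k, rfl⟩
    · exact absurd (Subgroup.zpow_mem_zpowers x k) ht
    · rw [pow_two, hq.sq_y]
      exact hq.x_4m k
  · intro t ht x' hx' hx4
    obtain ⟨k, rfl⟩ := Subgroup.mem_zpowers_iff.mp hx'
    rcases hq.nf t with ⟨l, rfl⟩ | ⟨l, rfl⟩
    · exact absurd (Subgroup.zpow_mem_zpowers x l) ht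
    · rw [hq.conj_y, ← zpow_neg]
      have h4 : x ^ (k * 4) = 1 := by
        rw [zpow_mul]; exact_mod_cast hx4
      obtain ⟨c, hc⟩ := (hq.xpow_one _).mp h4
      have hk : k = 2 * m * c := by linarith
      apply hq.xpow_congr (m * c)
      rw [hk]; ring
  · intro t t' ht ht'
    rw [Subgroup.mul_mem_iff_of_index_two hq.index_A, inv_mem_iff]
    exact ⟨fun h' => absurd h' ht, fun h' => absurd h' ht'⟩

/-- structure of a dihedral group of order divisible by `8` -/
theorem dih_struct {S : Type*} [Group S] [Finite S] (q : ℕ) (hq : 0 < q)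
    (e : S ≃* DihedralGroup (4 * q)) :
    ∃ (A : Subgroup S) (z c : S), IsCyclic A ∧ z ∈ A ∧ orderOf z = 2 ∧ (∀ t : S, t * z = z * t) ∧
      c ∈ A ∧ c * c = z ∧ (∀ y : S, y ∉ A → y ^ 2 = 1 ∨ y ^ 2 = z) ∧
      (∀ y : S, y ∉ A → ∀ x ∈ A, x ^ 4 = 1 → y * x * y⁻¹ = x⁻¹) ∧
      (∀ y y' : S, y ∉ A → y' ∉ A → y⁻¹ * y' ∈ A) ∧
      (16 ∣ Nat.card S ∨ ∀ y : S, y ∉ A → y ^ 2 = 1) := by
  have hN : NeZero (4 * q) := ⟨by omega⟩
  obtain ⟨c0, hc0⟩ : ∃ c0 : S, c0 = e.symm (DihedralGroup.r 1) := ⟨_, rfl⟩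
  have hec : e c0 = DihedralGroup.r 1 := by rw [hc0]; simp
  have hmemA : ∀ (x : S) (k : ZMod (4 * q)), e x = DihedralGroup.r k →
      x ∈ Subgroup.zpowers c0 := by
    intro x k hk
    have h1 : x = c0 ^ k.val := by
      apply e.injective
      rw [hk, map_pow, hec, DihedralGroup.r_one_pow, ZMod.natCast_zmod_val]
    rw [h1]
    exact Subgroup.pow_mem _ (Subgroup.mem_zpowers _) _
  have hAmem : ∀ (x : S), x ∈ Subgroup.zpowers c0 → ∃ k, e x = DihedralGroup.r k := by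
    intro x hxA
    obtain ⟨m, hm⟩ := (Submonoid.mem_powers_iff _ _).mp (mem_powers_iff_mem_zpowers.mpr hxA)
    rw [← hm, map_pow, hec, DihedralGroup.r_one_pow]
    exact ⟨_, rfl⟩
  have hinva : ∀ l : ZMod (4 * q),
      (DihedralGroup.r l : DihedralGroup (4 * q))⁻¹ = DihedralGroup.r (-l) := by
    intro l
    rw [inv_eq_iff_mul_eq_one, DihedralGroup.r_mul_r, add_neg_cancel]
    rfl
  have hinvs : ∀ l : ZMod (4 * q),
      (DihedralGroup.sr l : DihedralGroup (4 * q))⁻¹ = DihedralGroup.sr l := by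
    intro l
    rw [inv_eq_iff_mul_eq_one, DihedralGroup.sr_mul_sr, sub_self]
    rfl
  have h4q : ((2 * q : ℕ) : ZMod (4 * q)) + ((2 * q : ℕ) : ZMod (4 * q)) = 0 := by
    rw [← Nat.cast_add]
    have : 2 * q + 2 * q = 4 * q := by ring
    rw [this]
    exact ZMod.natCast_self _
  have h2q : ((2 * q : ℕ) : ZMod (4 * q)) ≠ 0 := by
    intro h0
    rw [ZMod.natCast_eq_zero_iff] at h0
    have := Nat.le_of_dvd (by omega) h0
    omega
  have hsq : ∀ y : S, y ∉ Subgroup.zpowers c0 → y ^ 2 = 1 := by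
    intro y hyA
    rcases hk : e y with k | k
    · exact absurd (hmemA y k hk) hyA
    · apply e.injective
      rw [map_pow, hk, map_one, pow_two, DihedralGroup.sr_mul_sr, sub_self]
      rfl
  refine ⟨Subgroup.zpowers c0, e.symm (DihedralGroup.r ((2 * q : ℕ) : ZMod (4 * q))),
    e.symm (DihedralGroup.r ((q : ℕ) : ZMod (4 * q))), inferInstance,
    hmemA _ _ (MulEquiv.apply_symm_apply e _), ?_, ?_, hmemA _ _ (MulEquiv.apply_symm_apply e _), ?_,
    fun y hy => Or.inl (hsq y hy), ?_, ?_,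
    Or.inr hsq⟩
  · apply orderOf_eq_prime
    · apply e.injective
      rw [map_pow, MulEquiv.apply_symm_apply, map_one, pow_two, DihedralGroup.r_mul_r, h4q]
      rfl
    · intro h1
      have h2 := congrArg e h1
      rw [MulEquiv.apply_symm_apply, map_one] at h2
      have h3 : (DihedralGroup.r ((2 * q : ℕ) : ZMod (4 * q)) : DihedralGroup (4 * q)) =
          DihedralGroup.r 0 := h2
      exact h2q (DihedralGroup.r.inj h3)
  · intro t
    apply e.injective
    rw [map_mul, map_mul, MulEquiv.apply_symm_apply]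
    rcases hk : e t with k | k
    · rw [DihedralGroup.r_mul_r, DihedralGroup.r_mul_r, add_comm]
    · rw [DihedralGroup.sr_mul_r, DihedralGroup.r_mul_sr]
      congr 1
      have : k + ((2 * q : ℕ) : ZMod (4 * q)) - (k - ((2 * q : ℕ) : ZMod (4 * q))) = 0 := by
        rw [← h4q]; ring
      exact sub_eq_zero.mp this
  · apply e.injective
    rw [map_mul, MulEquiv.apply_symm_apply, MulEquiv.apply_symm_apply, DihedralGroup.r_mul_r]
    congr 1
    push_cast; ring
  · intro y hyA x hxA _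
    obtain ⟨l, hl⟩ := hAmem x hxA
    rcases hk : e y with k | k
    · exact absurd (hmemA y k hk) hyA
    · apply e.injective
      rw [map_mul, map_mul, map_inv, map_inv, hk, hl, hinvs, hinva, DihedralGroup.sr_mul_r,
        DihedralGroup.sr_mul_sr]
      congr 1; ring
  · intro y y' hyA hy'A
    rcases hk : e y with k | k
    · exact absurd (hmemA y k hk) hyA
    · rcases hk' : e y' with k' | k'
      · exact absurd (hmemA y' k' hk') hy'A
      · apply hmemA _ (k' - k)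
        rw [map_mul, map_inv, hk, hk', hinvs, DihedralGroup.sr_mul_sr]

theorem transport {G : Type*} [Group G] (T : Subgroup G)
    (h : ∃ (A : Subgroup T) (z c : T), IsCyclic A ∧ z ∈ A ∧ orderOf z = 2 ∧
      (∀ t : T, t * z = z * t) ∧
      c ∈ A ∧ c * c = z ∧ (∀ y : T, y ∉ A → y ^ 2 = 1 ∨ y ^ 2 = z) ∧
      (∀ y : T, y ∉ A → ∀ x ∈ A, x ^ 4 = 1 → y * x * y⁻¹ = x⁻¹) ∧
      (∀ y y' : T, y ∉ A → y' ∉ A → y⁻¹ * y' ∈ A) ∧
      (16 ∣ Nat.card T ∨ ∀ y : T, y ∉ A → y ^ 2 = 1)) :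
    ∃ (A : Subgroup G) (z c : G), A ≤ T ∧ IsCyclic A ∧ z ∈ A ∧ orderOf z = 2 ∧
      (∀ t ∈ T, t * z = z * t) ∧
      c ∈ A ∧ c * c = z ∧ (∀ y ∈ T, y ∉ A → y ^ 2 = 1 ∨ y ^ 2 = z) ∧
      (∀ y ∈ T, y ∉ A → ∀ x ∈ A, x ^ 4 = 1 → y * x * y⁻¹ = x⁻¹) ∧
      (∀ y ∈ T, ∀ y' ∈ T, y ∉ A → y' ∉ A → y⁻¹ * y' ∈ A) ∧
      (16 ∣ Nat.card T ∨ ∀ y ∈ T, y ∉ A → y ^ 2 = 1) := by
  obtain ⟨A, z, c, hAc, hzA, hz, hzc, hcA, hcc, hsq, hinv, hquot, hlast⟩ := h
  have hmem : ∀ (x : G) (hx : x ∈ T), x ∈ A.map T.subtype ↔ (⟨x, hx⟩ : T) ∈ A := by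
    intro x hx
    constructor
    · rintro ⟨y, hy, hyx⟩
      have : y = ⟨x, hx⟩ := Subtype.ext hyx
      rwa [← this]
    · intro h
      exact ⟨⟨x, hx⟩, h, rfl⟩
  have hAT : A.map T.subtype ≤ T := by
    rintro x ⟨y, -, rfl⟩
    exact y.2
  refine ⟨A.map T.subtype, (z : G), (c : G), hAT, ?_, ?_, ?_, ?_, ?_, ?_, ?_, ?_, ?_, ?_⟩
  · exact isCyclic_of_surjective (T.subtype.subgroupMap A) (T.subtype.subgroupMap_surjective A)
  · exact (hmem _ z.2).mpr hzA
  · rw [Subgroup.orderOf_coe]; exact hz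
  · intro t ht
    have := congrArg Subtype.val (hzc ⟨t, ht⟩)
    simpa using this
  · exact (hmem _ c.2).mpr hcA
  · have := congrArg Subtype.val hcc
    simpa using this
  · intro y hy hyA
    have hyA' : (⟨y, hy⟩ : T) ∉ A := fun h => hyA ((hmem y hy).mpr h)
    rcases hsq _ hyA' with h | h
    · left
      have := congrArg Subtype.val h
      simpa using this
    · right
      have := congrArg Subtype.val h
      simpa using this
  · intro y hy hyA x hxA hx4
    have hyA' : (⟨y, hy⟩ : T) ∉ A := fun h => hyA ((hmem y hy).mpr h)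
    have hxT : x ∈ T := hAT hxA
    have hxA' : (⟨x, hxT⟩ : T) ∈ A := (hmem x hxT).mp hxA
    have hx4' : (⟨x, hxT⟩ : T) ^ 4 = 1 := Subtype.ext (by simpa using hx4)
    have := congrArg Subtype.val (hinv _ hyA' _ hxA' hx4')
    simpa using this
  · intro y hy y' hy' hyA hy'A
    have hyA' : (⟨y, hy⟩ : T) ∉ A := fun h => hyA ((hmem y hy).mpr h)
    have hy'A' : (⟨y', hy'⟩ : T) ∉ A := fun h => hy'A ((hmem y' hy').mpr h)
    have h1 := hquot _ _ hyA' hy'A'
    exact (hmem _ (T.mul_mem (T.inv_mem hy) hy')).mpr h1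
  · rcases hlast with h | h
    · exact Or.inl h
    · right
      intro y hy hyA
      have hyA' : (⟨y, hy⟩ : T) ∉ A := fun h => hyA ((hmem y hy).mpr h)
      have := congrArg Subtype.val (h _ hyA')
      simpa using this

theorem core' {G : Type*} [Group G] [Finite G] (T A : Subgroup G) (z : G) (hAT : A ≤ T)
    (hAc : IsCyclic A) (h2 : ∀ x ∈ T, ∃ l : ℕ, orderOf x = 2 ^ l) (hzA : z ∈ A)
    (hz : orderOf z = 2)
    (hsq : ∀ y ∈ T, y ∉ A → y ^ 2 = 1 ∨ y ^ 2 = z)
    (hinv : ∀ y ∈ T, y ∉ A → ∀ x ∈ A, x ^ 4 = 1 → y * x * y⁻¹ = x⁻¹)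
    (hquot : ∀ y ∈ T, ∀ y' ∈ T, y ∉ A → y' ∉ A → y⁻¹ * y' ∈ A)
    (Q : Subgroup G) (hQT : Q ≤ T) (g : G) (hgN : g ∈ Subgroup.normalizer (Q : Set G))
    (hodd : Odd (orderOf g)) (hgC : g ∉ Subgroup.centralizer (Q : Set G))
    (hgz : g * z * g⁻¹ = z) :
    ∃ i : G, i ∈ Q ∧ i ∈ A ∧ (∀ x ∈ Q ⊓ A, x ∈ Subgroup.zpowers i) ∧ i ^ 4 = 1 ∧ i ^ 2 = z ∧
      g * i * g⁻¹ ∉ A ∧ (g * i * g⁻¹) ^ 2 = i ^ 2 ∧
      (g * i * g⁻¹) * i * (g * i * g⁻¹)⁻¹ = i⁻¹ ∧
      g * (g * i * g⁻¹) * g⁻¹ = i * (g * i * g⁻¹) := by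
  have hBc : IsCyclic (Q ⊓ A : Subgroup G) := by
    have hBA : Q ⊓ A ≤ A := inf_le_right
    exact isCyclic_of_injective (Subgroup.inclusion hBA) (Subgroup.inclusion_injective hBA)
  obtain ⟨⟨b, hbB⟩, hb⟩ := hBc.exists_generator
  have hBgen : ∀ x ∈ Q ⊓ A, x ∈ Subgroup.zpowers b := by
    intro x hx
    obtain ⟨m, hm⟩ := Subgroup.mem_zpowers_iff.mp (hb ⟨x, hx⟩)
    exact ⟨m, by simpa using congrArg Subtype.val hm⟩
  have hbQ : b ∈ Q := hbB.1
  have hbA : b ∈ A := hbB.2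
  have hconjQ : ∀ x ∈ Q, g * x * g⁻¹ ∈ Q := fun x hx =>
    (Subgroup.mem_normalizer_iff.mp hgN x).mp hx
  by_cases hcase : g * b * g⁻¹ ∈ A
  · -- Case I
    exfalso
    apply hgC
    have hgb : g * b * g⁻¹ = b := by
      obtain ⟨l, hl⟩ := h2 b (hQT hbQ)
      exact Cfsg.Agent.S0106.cyc_cent g b hodd hl (hBgen _ ⟨hconjQ b hbQ, hcase⟩)
    have hgB : ∀ x ∈ Q ⊓ A, g * x * g⁻¹ = x := by
      intro x hx
      obtain ⟨m, rfl⟩ := Subgroup.mem_zpowers_iff.mp (hBgen x hx)
      rw [← conj_zpow, hgb]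
    rw [Subgroup.mem_centralizer_iff]
    intro x hx
    by_cases hxA : x ∈ A
    · have := hgB x ⟨hx, hxA⟩
      calc x * g = (g * x * g⁻¹) * g := by rw [this]
        _ = g * x := by group
    · have hx'Q : g * x * g⁻¹ ∈ Q := hconjQ x hx
      have hx'A : g * x * g⁻¹ ∉ A := by
        intro h
        have h1 := hgB _ ⟨hx'Q, h⟩
        have h2' : g * x * g⁻¹ = x := by
          calc g * x * g⁻¹ = g⁻¹ * (g * (g * x * g⁻¹) * g⁻¹) * g := by group
            _ = g⁻¹ * (g * x * g⁻¹) * g := by rw [h1]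
            _ = x := by group
        rw [h2'] at h
        exact hxA h
      have hdA : x⁻¹ * (g * x * g⁻¹) ∈ A := hquot x (hQT hx) _ (hQT hx'Q) hxA hx'A
      have hdQ : x⁻¹ * (g * x * g⁻¹) ∈ Q := Q.mul_mem (Q.inv_mem hx) hx'Q
      obtain ⟨d, hd⟩ : ∃ d, d = x⁻¹ * (g * x * g⁻¹) := ⟨_, rfl⟩
      rw [← hd] at hdA hdQ
      have hgd : g * d * g⁻¹ = d := hgB d ⟨hdQ, hdA⟩
      have hgx : g * x * g⁻¹ = x * d := by rw [hd]; group
      have key : ∀ m : ℕ, g ^ m * x * (g ^ m)⁻¹ = x * d ^ m := by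
        intro m
        induction m with
        | zero => simp
        | succ m ih =>
          calc g ^ (m + 1) * x * (g ^ (m + 1))⁻¹ = g * (g ^ m * x * (g ^ m)⁻¹) * g⁻¹ := by
                rw [pow_succ']; group
            _ = g * (x * d ^ m) * g⁻¹ := by rw [ih]
            _ = (g * x * g⁻¹) * (g * d * g⁻¹) ^ m := by rw [conj_pow]; group
            _ = x * d ^ (m + 1) := by rw [hgx, hgd, pow_succ']; group
      have h1 := key (orderOf g)
      rw [pow_orderOf_eq_one] at h1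
      have hdm : d ^ orderOf g = 1 := by simpa using h1.symm
      have hd1 : d = 1 := by
        obtain ⟨l, hl⟩ := h2 d (hQT hdQ)
        have hdvd : orderOf d ∣ orderOf g := orderOf_dvd_of_pow_eq_one hdm
        have hodd' : Odd (orderOf d) := hodd.of_dvd_nat hdvd
        rw [hl] at hodd'
        have hl0 : l = 0 := by
          by_contra hl0
          have : Even (2 ^ l) := (Nat.even_pow.mpr ⟨even_two, hl0⟩)
          exact (Nat.not_odd_iff_even.mpr this) hodd'
        rw [hl0, pow_zero] at hl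
        exact orderOf_eq_one_iff.mp hl
      rw [hd1, mul_one] at hgx
      calc x * g = (g * x * g⁻¹) * g := by rw [hgx]
        _ = g * x := by group
  · -- Case II
    obtain ⟨j, hj⟩ : ∃ j, j = g * b * g⁻¹ := ⟨_, rfl⟩
    rw [← hj] at hcase
    have hjQ : j ∈ Q := hj ▸ hconjQ b hbQ
    have hjT : j ∈ T := hQT hjQ
    have hz1 : z ≠ 1 := by
      intro h
      rw [h, orderOf_one] at hz
      omega
    have hz2 : z ^ 2 = 1 := by rw [← hz]; exact pow_orderOf_eq_one z
    have hzinv : z⁻¹ = z := by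
      apply inv_eq_of_mul_eq_one_left
      rw [← pow_two]; exact hz2
    have hj2 : j ^ 2 = z := by
      rcases hsq j hjT hcase with h1 | h1
      · exfalso
        have hb2 : b ^ 2 = 1 := by
          have h3 : j ^ 2 = g * b ^ 2 * g⁻¹ := by rw [hj, conj_pow]
          rw [h1] at h3
          have h' : b ^ 2 = g⁻¹ * (g * b ^ 2 * g⁻¹) * g := by group
          rw [h', ← h3]; group
        by_cases hb1 : b = 1
        · apply hcase
          rw [hj, hb1, mul_one, mul_inv_cancel]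
          exact A.one_mem
        · have hbo : orderOf b = 2 := orderOf_eq_prime hb2 hb1
          have hbz : b = z :=
            Cfsg.Agent.Lib.helper2.Idx2.invol_unique_sub A hAc hbA hzA hbo hz
          apply hcase
          rw [hj, hbz, hgz]
          exact hzA
      · exact h1
    have hj4 : j ^ 4 = 1 := by
      calc j ^ 4 = (j ^ 2) ^ 2 := by rw [← pow_mul]
        _ = 1 := by rw [hj2, hz2]
    have hb4 : b ^ 4 = 1 := by
      have h1 : j ^ 4 = g * b ^ 4 * g⁻¹ := by rw [hj, conj_pow]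
      rw [hj4] at h1
      have h' : b ^ 4 = g⁻¹ * (g * b ^ 4 * g⁻¹) * g := by group
      rw [h', ← h1]; group
    have hb2ne : b ^ 2 ≠ 1 := by
      intro h
      have h1 : j ^ 2 = g * b ^ 2 * g⁻¹ := by rw [hj, conj_pow]
      rw [h, hj2] at h1
      apply hz1; rw [h1]; group
    have hb2ord : orderOf (b ^ 2) = 2 := by
      apply orderOf_eq_prime
      · rw [← pow_mul]; exact hb4
      · exact hb2ne
    have hb2 : b ^ 2 = z :=
      Cfsg.Agent.Lib.helper2.Idx2.invol_unique_sub A hAc (A.pow_mem hbA 2) hzA hb2ord hz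
    have hjb : j * b * j⁻¹ = b⁻¹ := hinv j hjT hcase b hbA hb4
    obtain ⟨k, hk⟩ : ∃ k, k = g * j * g⁻¹ := ⟨_, rfl⟩
    have hkQ : k ∈ Q := hk ▸ hconjQ j hjQ
    have hkA : k ∉ A := by
      intro hkA
      have hk' : k = g ^ 2 * b * (g ^ 2)⁻¹ := by rw [hk, hj, pow_two]; group
      have hmem : g ^ 2 * b * (g ^ 2)⁻¹ ∈ Subgroup.zpowers b := by
        rw [← hk']; exact hBgen k ⟨hkQ, hkA⟩
      have hodd2 : Odd (orderOf (g ^ 2)) := hodd.of_dvd_nat (orderOf_pow_dvd 2)
      obtain ⟨l, hl⟩ := h2 b (hQT hbQ)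
      have hc2 : g ^ 2 * b * (g ^ 2)⁻¹ = b := Cfsg.Agent.S0106.cyc_cent (g ^ 2) b hodd2 hl hmem
      obtain ⟨r, hr⟩ := hodd
      have hg : g = (g ^ 2) ^ (r + 1) := by
        rw [← pow_mul]
        have : 2 * (r + 1) = orderOf g + 1 := by omega
        rw [this, pow_succ, pow_orderOf_eq_one, one_mul]
      have hcomm : Commute (g ^ 2) b := by
        show g ^ 2 * b = b * g ^ 2
        calc g ^ 2 * b = (g ^ 2 * b * (g ^ 2)⁻¹) * g ^ 2 := by group
          _ = b * g ^ 2 := by rw [hc2]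
      have hcomm' : Commute g b := by rw [hg]; exact hcomm.pow_left _
      apply hcase
      rw [hj, hcomm'.eq, mul_inv_cancel_right]
      exact hbA
    have hkT : k ∈ T := hQT hkQ
    have hcA : j⁻¹ * k ∈ A := hquot j hjT k hkT hcase hkA
    have hcQ : j⁻¹ * k ∈ Q := Q.mul_mem (Q.inv_mem hjQ) hkQ
    obtain ⟨m, hm⟩ := Subgroup.mem_zpowers_iff.mp (hBgen _ ⟨hcQ, hcA⟩)
    have hb4z : b ^ (4 : ℤ) = 1 := by exact_mod_cast hb4
    have hm4 : b ^ m = b ^ (m % 4) := by
      conv_lhs => rw [← Int.emod_add_mul_ediv m 4]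
      rw [zpow_add, zpow_mul, hb4z, one_zpow, mul_one]
    have hmr : m % 4 = 0 ∨ m % 4 = 1 ∨ m % 4 = 2 ∨ m % 4 = 3 := by omega
    rw [hm4] at hm
    have hkeq : k = j * (j⁻¹ * k) := by group
    have hgj' : g * b⁻¹ * g⁻¹ = j⁻¹ := by rw [hj]; group
    rcases hmr with h0 | h1 | h2' | h3
    · exfalso
      rw [h0, zpow_zero] at hm
      have hkj : k = j := by rw [hkeq, ← hm, mul_one]
      have hgj : g * j = j * g := by
        calc g * j = (g * j * g⁻¹) * g := by group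
          _ = j * g := by rw [← hk, hkj]
      have hbj : b = j := by
        calc b = g⁻¹ * (g * b * g⁻¹) * g := by group
          _ = g⁻¹ * j * g := by rw [← hj]
          _ = g⁻¹ * (j * g) := by group
          _ = g⁻¹ * (g * j) := by rw [hgj]
          _ = j := by group
      exact hcase (hbj ▸ hbA)
    · rw [h1, zpow_one] at hm
      have hkj : k = j * b := by rw [hkeq, ← hm]
      refine ⟨b⁻¹, Q.inv_mem hbQ, A.inv_mem hbA, ?_, ?_, ?_, ?_, ?_, ?_, ?_⟩
      · rw [Subgroup.zpowers_inv]; exact hBgen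
      · rw [inv_pow, hb4, inv_one]
      · rw [inv_pow, hb2, hzinv]
      · rw [hgj']
        intro h
        exact hcase (by simpa using A.inv_mem h)
      · rw [hgj', inv_pow, inv_pow, hj2, hb2]
      · rw [hgj', inv_inv, inv_inv]
        calc j⁻¹ * b⁻¹ * j = j⁻¹ * (j * b * j⁻¹) * j := by rw [hjb]
          _ = b := by group
      · rw [hgj']
        calc g * j⁻¹ * g⁻¹ = (g * j * g⁻¹)⁻¹ := by group
          _ = (j * b)⁻¹ := by rw [← hk, hkj]
          _ = b⁻¹ * j⁻¹ := by group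
    · exfalso
      have hb2z : b ^ (2 : ℤ) = b ^ 2 := by norm_cast
      rw [h2', hb2z, hb2, ← hj2] at hm
      have hkj : k = j ^ 3 := by rw [hkeq, ← hm]; group
      have hmem : g * j * g⁻¹ ∈ Subgroup.zpowers j := by
        rw [← hk, hkj]; exact Subgroup.pow_mem _ (Subgroup.mem_zpowers _) _
      obtain ⟨l, hl⟩ := h2 j hjT
      have hc2 : g * j * g⁻¹ = j := Cfsg.Agent.S0106.cyc_cent g j hodd hl hmem
      rw [← hk, hkj] at hc2
      have h5 : j ^ 2 = 1 := by
        calc j ^ 2 = j ^ 3 * j⁻¹ := by group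
          _ = 1 := by rw [hc2]; group
      rw [hj2] at h5
      exact hz1 h5
    · have hb3z : b ^ (3 : ℤ) = b⁻¹ := by
        have h' : b ^ (3 : ℤ) = b ^ 3 := by norm_cast
        rw [h']
        exact eq_inv_of_mul_eq_one_left (by rw [← pow_succ]; exact hb4)
      rw [h3, hb3z] at hm
      have hkj : k = b * j := by
        calc k = j * (j⁻¹ * k) := hkeq
          _ = j * b⁻¹ := by rw [← hm]
          _ = (j * b * j⁻¹)⁻¹ * j := by group
          _ = b * j := by rw [hjb, inv_inv]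
      refine ⟨b, hbQ, hbA, hBgen, hb4, hb2, ?_, ?_, ?_, ?_⟩
      · rw [← hj]; exact hcase
      · rw [← hj, hj2, hb2]
      · rw [← hj]; exact hjb
      · rw [← hj, ← hk, hkj]

theorem card_le_mul {G : Type*} [Group G] [Finite G] (H K : Subgroup G) (S : Finset G)
    (f : G → G) (hS : ∀ x ∈ H, f x ∈ S) (hf : ∀ x ∈ H, ∀ y ∈ H, f x = f y → x⁻¹ * y ∈ K) :
    Nat.card H ≤ S.card * Nat.card (H ⊓ K : Subgroup G) := by
  classical
  have h1 := Subgroup.card_mul_index (K.subgroupOf H)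
  have h2 : Nat.card (K.subgroupOf H) = Nat.card (H ⊓ K : Subgroup G) := by
    rw [← Subgroup.inf_subgroupOf_left]
    exact Nat.card_congr (Subgroup.subgroupOfEquivOfLe inf_le_left).toEquiv
  have h3 : (K.subgroupOf H).index ≤ S.card := by
    have hinj : Function.Injective
        (fun q : H ⧸ K.subgroupOf H => (⟨f (q.out : G), hS _ q.out.2⟩ : S)) := by
      intro q q' hqq
      have h4 : f (q.out : G) = f (q'.out : G) := congrArg Subtype.val hqq
      have h5 := hf _ q.out.2 _ q'.out.2 h4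
      have h6 : (q.out : H)⁻¹ * q'.out ∈ K.subgroupOf H := by
        rw [Subgroup.mem_subgroupOf]; simpa using h5
      have h7 : (QuotientGroup.mk q.out : H ⧸ K.subgroupOf H) = QuotientGroup.mk q'.out :=
        QuotientGroup.eq.mpr h6
      rwa [QuotientGroup.out_eq', QuotientGroup.out_eq'] at h7
    have := Nat.card_le_card_of_injective _ hinj
    simpa [Subgroup.index] using this
  calc Nat.card H = Nat.card (K.subgroupOf H) * (K.subgroupOf H).index := h1.symm
    _ ≤ Nat.card (H ⊓ K : Subgroup G) * S.card := by rw [h2]; exact Nat.mul_le_mul_left _ h3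
    _ = _ := mul_comm _ _

theorem conj_eq_mem {G : Type*} [Group G] (a x y : G) (h : x * a * x⁻¹ = y * a * y⁻¹) :
    x⁻¹ * y ∈ Subgroup.centralizer ({a} : Set G) := by
  rw [Subgroup.mem_centralizer_iff]
  intro b hb
  have hb' : b = a := hb
  rw [hb']
  have h1 : a = x⁻¹ * (y * a * y⁻¹) * x := by rw [← h]; group
  calc a * (x⁻¹ * y) = (x⁻¹ * (y * a * y⁻¹) * x) * (x⁻¹ * y) := by rw [← h1]
    _ = x⁻¹ * y * a := by group

/-- Let G be a finite solvable group with O(G) = 1 whose Sylow 2-subgroup T is dihedral of order at least 8 or semidihedral, with G ≠ T and Z(T) normal in G. Then G has a normal subgroup isomorphic to SL₂(3). -/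
theorem result {G : Type*} [Group G] [Finite G] (hsol : IsSolvable G) (hO : Cfsg.oddCore G = ⊥) (T : Sylow 2 G) (hT : (∃ n : ℕ, 4 ≤ n ∧ Nonempty (↥(T : Subgroup G) ≃* DihedralGroup n)) ∨ Cfsg.IsQuasiDihedral ↥(T : Subgroup G)) (hne : (T : Subgroup G) ≠ ⊤) (hZ : ((T : Subgroup G) ⊓ Subgroup.centralizer ((T : Subgroup G) : Set G)).Normal) : ∃ U : Subgroup G, U.Normal ∧ Nonempty (↥U ≃* Matrix.SpecialLinearGroup (Fin 2) (ZMod 3)) := by
  classical
  have : Fact (Nat.Prime 2) := ⟨Nat.prime_two⟩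
  have hst : ∃ (A : Subgroup G) (z c : G), A ≤ (T : Subgroup G) ∧ IsCyclic A ∧ z ∈ A ∧
      orderOf z = 2 ∧ (∀ t ∈ (T : Subgroup G), t * z = z * t) ∧
      c ∈ A ∧ c * c = z ∧ (∀ y ∈ (T : Subgroup G), y ∉ A → y ^ 2 = 1 ∨ y ^ 2 = z) ∧
      (∀ y ∈ (T : Subgroup G), y ∉ A → ∀ x ∈ A, x ^ 4 = 1 → y * x * y⁻¹ = x⁻¹) ∧
      (∀ y ∈ (T : Subgroup G), ∀ y' ∈ (T : Subgroup G), y ∉ A → y' ∉ A → y⁻¹ * y' ∈ A) ∧
      (16 ∣ Nat.card (T : Subgroup G) ∨ ∀ y ∈ (T : Subgroup G), y ∉ A → y ^ 2 = 1) := by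
    apply transport
    rcases hT with ⟨n, hn, ⟨e⟩⟩ | hqd
    · have hcard : Nat.card (T : Subgroup G) = 2 * n := by
        rw [Nat.card_congr e.toEquiv, DihedralGroup.nat_card]
      obtain ⟨k, hk⟩ := (IsPGroup.iff_card).mp T.isPGroup'
      rw [hcard] at hk
      have h4 : 4 ∣ n := by
        rcases k with _ | k
        · exfalso; rw [pow_zero] at hk; omega
        · rw [pow_succ] at hk
          have hn' : n = 2 ^ k := by omega
          have hk2 : 2 ≤ k := by
            by_contra hlt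
            have hk01 : k = 0 ∨ k = 1 := by omega
            rcases hk01 with h0 | h0 <;> · rw [h0] at hn'; omega
          rw [hn']
          exact pow_dvd_pow 2 hk2
      obtain ⟨q, rfl⟩ := h4
      exact dih_struct q (by omega) e
    · exact qd_struct hqd
  obtain ⟨A, z, c, hAT, hAc, hzA, hz, hzc, hcA, hcc, hsq, hinv, hquot, hlast⟩ := hst
  have h2 : ∀ x ∈ (T : Subgroup G), ∃ l : ℕ, orderOf x = 2 ^ l := by
    intro x hx
    obtain ⟨k, hk⟩ := T.isPGroup' ⟨x, hx⟩
    have hk' : x ^ 2 ^ k = 1 := by simpa using congrArg Subtype.val hk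
    obtain ⟨l, _, hl⟩ := (Nat.dvd_prime_pow Nat.prime_two).mp (orderOf_dvd_of_pow_eq_one hk')
    exact ⟨l, hl⟩
  have hz1 : z ≠ 1 := by
    intro h
    rw [h, orderOf_one] at hz
    omega
  have hz2 : z ^ 2 = 1 := by rw [← hz]; exact pow_orderOf_eq_one z
  -- `z` is central in `G`
  have hzG : ∀ x : G, x * z * x⁻¹ = z := by
    intro x
    have hzZ : z ∈ (T : Subgroup G) ⊓ Subgroup.centralizer ((T : Subgroup G) : Set G) := by
      refine Subgroup.mem_inf.mpr ⟨hAT hzA, ?_⟩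
      rw [Subgroup.mem_centralizer_iff]
      intro t ht
      exact hzc t ht
    obtain ⟨h1T, h1C⟩ := hZ.conj_mem z hzZ x
    have ho : orderOf (x * z * x⁻¹) = 2 := by
      apply orderOf_eq_prime
      · rw [conj_pow, hz2]; group
      · intro h
        apply hz1
        calc z = x⁻¹ * (x * z * x⁻¹) * x := by group
          _ = 1 := by rw [h]; group
    by_cases hA' : x * z * x⁻¹ ∈ A
    · exact Cfsg.Agent.Lib.helper2.Idx2.invol_unique_sub A hAc hA' hzA ho hz
    · exfalso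
      have hc4 : c ^ 4 = 1 := by
        calc c ^ 4 = (c * c) ^ 2 := by rw [← pow_two, ← pow_mul]
          _ = 1 := by rw [hcc, hz2]
      have h3 := hinv _ h1T hA' c hcA hc4
      have h4 : c * (x * z * x⁻¹) = (x * z * x⁻¹) * c :=
        (Subgroup.mem_centralizer_iff.mp h1C) c (hAT hcA)
      have h5 : (x * z * x⁻¹) * c * (x * z * x⁻¹)⁻¹ = c := by rw [← h4]; group
      rw [h5] at h3
      apply hz1
      calc z = c * c := hcc.symm
        _ = c * c⁻¹ := by rw [← h3]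
        _ = 1 := by group
  -- the `2`-core
  obtain ⟨R, hR⟩ : ∃ R : Subgroup G, R = Cfsg.pCore 2 G := ⟨_, rfl⟩
  have hRn : R.Normal := hR ▸ Cfsg.pCore_normal 2 G
  have hRp : IsPGroup 2 R := hR ▸ Cfsg.Agent.Lib.helper15.pCore_isPGroup 2 G
  have hRT : R ≤ (T : Subgroup G) := Cfsg.Agent.Lib.helper16.normal_le_sylow R hRp T
  have hCR : Subgroup.centralizer (R : Set G) ≤ R := by
    rw [hR]
    exact Cfsg.Agent.Lib.helper16.centralizer_pCore_le_of_pSolvable
      (Cfsg.Agent.Lib.helper14.isPSolvable_of_solvable 2 hsol) hO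
  -- an element of odd prime order
  obtain ⟨p, hp, hpdvd, hp2⟩ : ∃ p : ℕ, p.Prime ∧ p ∣ Nat.card G ∧ p ≠ 2 := by
    by_contra hcon
    push Not at hcon
    apply hne
    have hG2 : IsPGroup 2 G := by
      rw [IsPGroup.iff_card]
      exact ⟨_, Nat.eq_prime_pow_of_unique_prime_dvd (Nat.card_pos.ne')
        (fun {d} hd hdd => hcon d hd hdd)⟩
    exact (T.is_maximal' (hG2.to_subgroup ⊤) le_top).symm
  have : Fact p.Prime := ⟨hp⟩
  obtain ⟨g, hg⟩ := exists_prime_orderOf_dvd_card' p hpdvd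
  have hodd : Odd (orderOf g) := by rw [hg]; exact hp.odd_of_ne_two hp2
  have hgN : g ∈ Subgroup.normalizer (R : Set G) := by
    rw [Subgroup.mem_normalizer_iff]
    intro h
    constructor
    · intro hh; exact hRn.conj_mem h hh g
    · intro hh
      have := hRn.conj_mem _ hh g⁻¹
      simpa [mul_assoc] using this
  have hgC : g ∉ Subgroup.centralizer (R : Set G) := by
    intro hgc
    have hgR := hCR hgc
    obtain ⟨l, hl⟩ := h2 g (hRT hgR)
    rw [hg] at hl
    have h1 : p ∣ 2 ^ l := by rw [← hl]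
    exact hp2 ((Nat.prime_dvd_prime_iff_eq hp Nat.prime_two).mp (hp.dvd_of_dvd_pow h1))
  obtain ⟨i, hiR, hiA, hgen, hi4, hi2, hjA, r2, r3, r5⟩ :=
    core' T A z hAT hAc h2 hzA hz hsq hinv hquot R hRT g hgN hodd hgC (hzG g)
  obtain ⟨j, hj⟩ : ∃ j, j = g * i * g⁻¹ := ⟨_, rfl⟩
  rw [← hj] at hjA r2 r3 r5
  have hjR : j ∈ R := hj ▸ hRn.conj_mem i hiR g
  have hj2 : j ^ 2 = z := by rw [r2, hi2]
  have h16 : 16 ∣ Nat.card (T : Subgroup G) := by
    rcases hlast with h | h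
    · exact h
    · exfalso
      have := h j (hRT hjR) hjA
      rw [hj2] at this
      exact hz1 this
  -- normal form in `R`
  have hnf : ∀ x ∈ R, ∃ a : ℕ, a < 4 ∧ (x = i ^ a ∨ x = j * i ^ a) := by
    have hpow : ∀ y ∈ R ⊓ A, ∃ a : ℕ, a < 4 ∧ y = i ^ a := by
      intro y hy
      obtain ⟨m, hm⟩ := Subgroup.mem_zpowers_iff.mp (hgen y hy)
      refine ⟨(m % 4).toNat, by omega, ?_⟩
      have hi4z : i ^ (4 : ℤ) = 1 := by exact_mod_cast hi4
      have hm4 : i ^ m = i ^ (m % 4) := by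
        conv_lhs => rw [← Int.emod_add_mul_ediv m 4]
        rw [zpow_add, zpow_mul, hi4z, one_zpow, mul_one]
      rw [← hm, hm4, ← zpow_natCast, Int.toNat_of_nonneg (by omega)]
    intro x hx
    by_cases hxA : x ∈ A
    · obtain ⟨a, ha, hxa⟩ := hpow x ⟨hx, hxA⟩
      exact ⟨a, ha, Or.inl hxa⟩
    · have h1 : j⁻¹ * x ∈ A := hquot j (hRT hjR) x (hRT hx) hjA hxA
      obtain ⟨a, ha, hxa⟩ := hpow _ ⟨R.mul_mem (R.inv_mem hjR) hx, h1⟩
      exact ⟨a, ha, Or.inr (by rw [← hxa]; group)⟩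
  have hji : ∀ a : ℕ, j * i ^ a * j⁻¹ = (i ^ a)⁻¹ := by
    intro a
    rw [← conj_pow, r3, inv_pow]
  have hii : i ≠ i⁻¹ := by
    intro h
    apply hz1
    calc z = i * i := by rw [← hi2, pow_two]
      _ = i * i⁻¹ := by rw [← h]
      _ = 1 := by group
  have hi3 : i ^ 3 = i⁻¹ := by
    apply eq_inv_of_mul_eq_one_left
    rw [← pow_succ]; exact hi4
  -- orbits
  have horb1 : ∀ x : G, x * i * x⁻¹ ∈ ({i, i ^ 3, j, j * i, j * i ^ 2, j * i ^ 3} : Finset G) := by
    intro x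
    have hy : x * i * x⁻¹ ∈ R := hRn.conj_mem i hiR x
    have hy2 : (x * i * x⁻¹) ^ 2 = z := by rw [conj_pow, hi2, hzG]
    obtain ⟨a, ha, hxa | hxa⟩ := hnf _ hy
    · rw [hxa] at hy2 ⊢
      interval_cases a
      · exfalso
        rw [pow_zero, one_pow] at hy2
        exact hz1 hy2.symm
      · simp
      · exfalso
        rw [hi2, hz2] at hy2
        exact hz1 hy2.symm
      · simp
    · rw [hxa]
      interval_cases a <;> simp
  have horb2 : ∀ x ∈ Subgroup.centralizer ({i} : Set G),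
      x * j * x⁻¹ ∈ ({j, j * i, j * i ^ 2, j * i ^ 3} : Finset G) := by
    intro x hx
    have hxi : i * x = x * i := (Subgroup.mem_centralizer_iff.mp hx) i rfl
    have hy : x * j * x⁻¹ ∈ R := hRn.conj_mem j hjR x
    have hyi : (x * j * x⁻¹) * i * (x * j * x⁻¹)⁻¹ = i⁻¹ := by
      have h1 : x⁻¹ * i * x = i := by
        calc x⁻¹ * i * x = x⁻¹ * (i * x) := by group
          _ = i := by rw [hxi]; group
      calc (x * j * x⁻¹) * i * (x * j * x⁻¹)⁻¹ = x * (j * (x⁻¹ * i * x) * j⁻¹) * x⁻¹ := by group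
        _ = x * i⁻¹ * x⁻¹ := by rw [h1, r3]
        _ = (x * i * x⁻¹)⁻¹ := by group
        _ = ((i * x) * x⁻¹)⁻¹ := by rw [hxi]
        _ = i⁻¹ := by group
    obtain ⟨a, ha, hxa | hxa⟩ := hnf _ hy
    · exfalso
      rw [hxa] at hyi
      have h1 : i ^ a * i * (i ^ a)⁻¹ = i := by
        rw [← pow_succ, pow_succ', mul_assoc, mul_inv_cancel, mul_one]
      rw [h1] at hyi
      exact hii hyi
    · rw [hxa]
      interval_cases a <;> simp
  have hcij : ∀ x ∈ (Subgroup.centralizer ({i} : Set G) ⊓ Subgroup.centralizer ({j} : Set G) :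
      Subgroup G), x ∈ ({1, z} : Finset G) := by
    intro x hx
    have hxi : i * x = x * i := (Subgroup.mem_centralizer_iff.mp hx.1) i rfl
    have hxj : j * x = x * j := (Subgroup.mem_centralizer_iff.mp hx.2) j rfl
    have hxR : x ∈ R := by
      apply hCR
      rw [Subgroup.mem_centralizer_iff]
      intro r hr
      have hci : Commute i x := hxi
      have hcj : Commute j x := hxj
      obtain ⟨a, -, hra | hra⟩ := hnf r hr
      · rw [hra]; exact (hci.pow_left a).eq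
      · rw [hra]; exact (hcj.mul_left (hci.pow_left a)).eq
    obtain ⟨a, ha, hxa | hxa⟩ := hnf x hxR
    · have h1 : j * x * j⁻¹ = x⁻¹ := by rw [hxa]; exact hji a
      have h2' : j * x * j⁻¹ = x := by rw [hxj]; group
      rw [h2'] at h1
      have h3 : x * x = 1 := by
        calc x * x = x * x⁻¹ := by rw [← h1]
          _ = 1 := by group
      rw [hxa] at h3 ⊢
      interval_cases a
      · simp
      · exfalso
        apply hz1
        rw [← hi2, pow_two]
        simpa using h3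
      · rw [hi2]; simp
      · exfalso
        apply hz1
        have h4 : i ^ 3 * i ^ 3 = i ^ 4 * i ^ 2 := by group
        rw [h4, hi4, one_mul, hi2] at h3
        exact h3
    · exfalso
      have h1 : x * i * x⁻¹ = i⁻¹ := by
        rw [hxa]
        calc j * i ^ a * i * (j * i ^ a)⁻¹ = j * (i ^ a * i * (i ^ a)⁻¹) * j⁻¹ := by group
          _ = j * i * j⁻¹ := by
            rw [← pow_succ, pow_succ', mul_assoc i, mul_inv_cancel, mul_one]
          _ = i⁻¹ := r3
      have h2' : x * i * x⁻¹ = i := by rw [← hxi]; group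
      rw [h2'] at h1
      exact hii h1
  -- counting
  have hc1 : Nat.card G ≤ 6 * Nat.card (Subgroup.centralizer ({i} : Set G)) := by
    have h1 := card_le_mul (⊤ : Subgroup G) (Subgroup.centralizer ({i} : Set G))
      ({i, i ^ 3, j, j * i, j * i ^ 2, j * i ^ 3} : Finset G) (fun x => x * i * x⁻¹)
      (fun x _ => horb1 x) (fun x _ y _ hxy => conj_eq_mem i x y hxy)
    rw [Subgroup.card_top, top_inf_eq] at h1
    exact h1.trans (Nat.mul_le_mul_right _ Finset.card_le_six)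
  have hc2 : Nat.card (Subgroup.centralizer ({i} : Set G)) ≤
      4 * Nat.card (Subgroup.centralizer ({i} : Set G) ⊓ Subgroup.centralizer ({j} : Set G) :
        Subgroup G) := by
    have h1 := card_le_mul (Subgroup.centralizer ({i} : Set G))
      (Subgroup.centralizer ({j} : Set G))
      ({j, j * i, j * i ^ 2, j * i ^ 3} : Finset G) (fun x => x * j * x⁻¹)
      horb2 (fun x _ y _ hxy => conj_eq_mem j x y hxy)
    exact h1.trans (Nat.mul_le_mul_right _ Finset.card_le_four)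
  have hc3 : Nat.card (Subgroup.centralizer ({i} : Set G) ⊓ Subgroup.centralizer ({j} : Set G) :
        Subgroup G) ≤ 2 := by
    have h1 : Nat.card (Subgroup.centralizer ({i} : Set G) ⊓ Subgroup.centralizer ({j} : Set G) :
        Subgroup G) ≤ Nat.card (({1, z} : Finset G) : Set G) := by
      apply Nat.card_le_card_of_injective (fun x => (⟨x.1, hcij x.1 x.2⟩ : (({1, z} : Finset G) : Set G)))
      intro x y hxy
      have h : (x.1 : G) = y.1 :=
        congrArg (fun t : (({1, z} : Finset G) : Set G) => (t : G)) hxy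
      exact Subtype.ext h
    have h2' : Nat.card (({1, z} : Finset G) : Set G) = ({1, z} : Finset G).card := by
      simp
    rw [h2'] at h1
    exact h1.trans Finset.card_le_two
  have h48 : Nat.card G ≤ 48 := by omega
  have hTdvd : Nat.card (T : Subgroup G) ∣ Nat.card G := Subgroup.card_subgroup_dvd_card _
  have h16G : 16 ∣ Nat.card G := h16.trans hTdvd
  have hcop : Nat.Coprime 16 p := by
    have h1 : Nat.Coprime 2 p := (Nat.coprime_primes Nat.prime_two hp).mpr (Ne.symm hp2)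
    exact Nat.Coprime.pow_left 4 h1
  have h16p : 16 * p ∣ Nat.card G := hcop.mul_dvd_of_dvd_of_dvd h16G hpdvd
  have hpos : 0 < Nat.card G := Nat.card_pos
  have hp3 : p = 3 := by
    have h1 := Nat.le_of_dvd hpos h16p
    have h2' := hp.two_le
    omega
  rw [hp3] at hg h16p
  have hcard : Nat.card G = 48 := by
    obtain ⟨k, hk⟩ := h16p
    omega
  have hg3 : g ^ 3 = 1 := by rw [← hg]; exact pow_orderOf_eq_one g
  obtain ⟨U, hU⟩ : ∃ U : Subgroup G, U = Subgroup.closure {i, g} := ⟨_, rfl⟩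
  have hiU : i ∈ U := by rw [hU]; exact Subgroup.subset_closure (by simp)
  have hgU : g ∈ U := by rw [hU]; exact Subgroup.subset_closure (by simp)
  obtain ⟨I, hI⟩ : ∃ I : U, (I : G) = i := ⟨⟨i, hiU⟩, rfl⟩
  obtain ⟨W, hW⟩ : ∃ W : U, (W : G) = g := ⟨⟨g, hgU⟩, rfl⟩
  have R1 : I ^ 4 = 1 := Subtype.ext (by
    simp only [Subgroup.coe_pow, Subgroup.coe_one, hI]; exact hi4)
  have R2 : (W * I * W⁻¹) ^ 2 = I ^ 2 := Subtype.ext (by
    simp only [Subgroup.coe_mul, Subgroup.coe_inv, Subgroup.coe_pow, hI, hW]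
    rw [← hj]; exact r2)
  have R3 : (W * I * W⁻¹) * I * (W * I * W⁻¹)⁻¹ = I⁻¹ := Subtype.ext (by
    simp only [Subgroup.coe_mul, Subgroup.coe_inv, hI, hW]
    rw [← hj]; exact r3)
  have R4 : W ^ 3 = 1 := Subtype.ext (by
    simp only [Subgroup.coe_pow, Subgroup.coe_one, hW]; exact hg3)
  have R5 : W * (W * I * W⁻¹) * W⁻¹ = I * (W * I * W⁻¹) := Subtype.ext (by
    simp only [Subgroup.coe_mul, Subgroup.coe_inv, hI, hW]
    rw [← hj]; exact r5)
  have Rne : I ^ 2 ≠ 1 := by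
    intro h
    have h1 := congrArg Subtype.val h
    simp only [Subgroup.coe_pow, Subgroup.coe_one, hI] at h1
    rw [hi2] at h1
    exact hz1 h1
  have hgen' : Subgroup.closure ({I, W} : Set U) = ⊤ := by
    apply Subgroup.map_injective U.subtype_injective
    rw [MonoidHom.map_closure, Set.image_pair, ← MonoidHom.range_eq_map, Subgroup.range_subtype]
    simp only [Subgroup.coe_subtype, hI, hW]
    exact hU.symm
  obtain ⟨φ⟩ := Cfsg.Agent.Lib.helper16.SL23.iso_of_rel I W R1 R2 R3 R4 R5 hgen' Rne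
  have hUcard : Nat.card U = 24 := by
    rw [Nat.card_congr φ.toEquiv]; exact Cfsg.Agent.Lib.helper16.SL23.card23
  have hidx : U.index = 2 := by
    have h1 := Subgroup.card_mul_index U
    rw [hUcard, hcard] at h1
    omega
  exact ⟨U, Subgroup.normal_of_index_eq_two hidx, ⟨φ⟩⟩

end Cfsg.Agent.S2879
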