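import Cfsg.Statements.S2880
import Mathlib
import Cfsg.Agent.Lib.helper1.PGroup

set_option autoImplicit false
open Cfsg

namespace Cfsg.Agent.S2880

open scoped commutatorElement

theorem half_of_bij {α : Type*} [DecidableEq α] (s : Finset α) (P : α → Prop) [DecidablePred P]
    (f g : α → α) (hf : ∀ a ∈ s, f a ∈ s) (hg : ∀ a ∈ s, g a ∈ s) (hgf : ∀ a ∈ s, g (f a) = a)
    (hfg : ∀ a ∈ s, f (g a) = a) (hsw : ∀ a ∈ s, P (f a) ↔ ¬ P a) :
    2 * (s.filter P).card = s.card := by
  have h1 : (s.filter P).card = (s.filter (fun a => ¬ P a)).card := by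
    refine Finset.card_bij' (fun a _ => g a) (fun a _ => f a) ?_ ?_ ?_ ?_
    · intro a ha
      rw [Finset.mem_filter] at ha ⊢
      refine ⟨hg a ha.1, ?_⟩
      have h := hsw (g a) (hg a ha.1)
      rw [hfg a ha.1] at h
      exact h.mp ha.2
    · intro a ha
      rw [Finset.mem_filter] at ha ⊢
      exact ⟨hf a ha.1, (hsw a ha.1).mpr ha.2⟩
    · intro a ha
      exact hfg a (Finset.mem_filter.mp ha).1
    · intro a ha
      exact hgf a (Finset.mem_filter.mp ha).1
  have h2 := Finset.card_filter_add_card_filter_not (s := s) P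
  omega

theorem sum_two {α : Type*} (s : Finset α) (Q : α → Prop) [DecidablePred Q] (F : α → ℕ) (N : ℕ)
    (h1 : ∀ a ∈ s, Q a → F a = N) (h2 : ∀ a ∈ s, ¬ Q a → 2 * F a = N) :
    2 * ∑ a ∈ s, F a = (s.card + (s.filter Q).card) * N := by
  rw [Finset.mul_sum]
  have h : ∀ a ∈ s, 2 * F a = N + (if Q a then N else 0) := by
    intro a ha
    by_cases hq : Q a
    · rw [if_pos hq, h1 a ha hq]; ring
    · rw [if_neg hq, h2 a ha hq]; ring
  rw [Finset.sum_congr rfl h, Finset.sum_add_distrib, Finset.sum_const, Finset.sum_ite,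
    Finset.sum_const, Finset.sum_const_zero, smul_eq_mul, smul_eq_mul]
  ring

theorem count {E : Type*} [Group E] [Finite E] (m : ℕ) (hE : Cfsg.IsExtraspecial 2 E)
    (hcard : Nat.card E = 2 ^ (2 * m + 1)) (A : Subgroup E) (hA : Cfsg.IsElementaryAbelian 2 A)
    (hAc : Nat.card A = 2 ^ (m + 1)) :
    Nat.card {x : E // orderOf x = 4} = 2 ^ (2 * m) - 2 ^ m := by
  classical
  obtain ⟨⟨hp, hΦ, hD⟩, hZ⟩ := hE
  obtain ⟨hAab, hAexp⟩ := hA
  have : Fintype E := Fintype.ofFinite E
  obtain ⟨⟨z, hzZ⟩, hz1, hzu⟩ := (Nat.card_eq_two_iff' (1 : Subgroup.center E)).mp hZ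
  have hz1' : z ≠ 1 := fun h => hz1 (Subtype.ext h)
  have hcen : ∀ c ∈ Subgroup.center E, c = 1 ∨ c = z := by
    intro c hc
    by_cases h : c = 1
    · exact Or.inl h
    · right
      have h' := hzu ⟨c, hc⟩ (fun h' => h (congrArg Subtype.val h'))
      exact congrArg Subtype.val h'
  have hzc : ∀ g : E, g * z = z * g := Subgroup.mem_center_iff.mp hzZ
  have hzz : z * z = 1 := by
    have h2 : z ^ 2 ∈ Subgroup.center E := Subgroup.pow_mem _ hzZ 2
    rcases hcen _ h2 with h | h
    · rw [← pow_two]; exact h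
    · exfalso; apply hz1'
      have h3 : z * z = z * 1 := by rw [← pow_two, h, mul_one]
      exact mul_left_cancel h3
  have hsq : ∀ x : E, x ^ 2 = 1 ∨ x ^ 2 = z := fun x =>
    hcen _ (hΦ ▸ Cfsg.Agent.Lib.helper1.pow_mem_frattini 2 hp x)
  have hK : ∀ x y : E, x * y = y * x ∨ x * y = z * (y * x) := by
    intro x y
    have h1 : ⁅x, y⁆ ∈ commutator E :=
      Subgroup.commutator_mem_commutator (Subgroup.mem_top x) (Subgroup.mem_top y)
    rw [hD] at h1
    have h2 : x * y = (x * y * x⁻¹ * y⁻¹) * (y * x) := by group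
    rcases hcen _ h1 with h | h
    · left
      rw [commutatorElement_def] at h
      rw [h2, h, one_mul]
    · right
      rw [commutatorElement_def] at h
      rw [h2, h]
  have hM : ∀ u v w : E, u * v = z * (v * u) → u * w = z * (w * u) →
      u * (v * w) = (v * w) * u := by
    intro u v w h1 h2
    calc u * (v * w) = (u * v) * w := (mul_assoc u v w).symm
      _ = z * (v * u) * w := by rw [h1]
      _ = z * v * (u * w) := by simp only [mul_assoc]
      _ = z * v * (z * (w * u)) := by rw [h2]
      _ = z * (v * z) * (w * u) := by simp only [mul_assoc]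
      _ = z * (z * v) * (w * u) := by rw [hzc v]
      _ = (z * z) * (v * (w * u)) := by simp only [mul_assoc]
      _ = v * w * u := by rw [hzz, one_mul, mul_assoc]
  have hT2 : ∀ u v w : E, u * v ≠ v * u → u * w ≠ w * u → u * (v * w) = (v * w) * u := by
    intro u v w h1 h2
    exact hM u v w ((hK u v).resolve_left h1) ((hK u w).resolve_left h2)
  have hT1 : ∀ u v w : E, u * v ≠ v * u → u * w = w * u → u * (v * w) ≠ (v * w) * u := by
    intro u v w h1 h2 h3
    apply h1
    have h4 : u * v * w = v * u * w := by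
      calc u * v * w = u * (v * w) := mul_assoc _ _ _
        _ = v * w * u := h3
        _ = v * (w * u) := mul_assoc _ _ _
        _ = v * (u * w) := by rw [h2]
        _ = v * u * w := (mul_assoc _ _ _).symm
    exact mul_right_cancel h4
  have hzne : ∀ w : E, z * w ≠ w := by
    intro w h
    apply hz1'
    have h' : z * w = 1 * w := by rw [h, one_mul]
    exact mul_right_cancel h'
  -- finsets
  obtain ⟨sA, hsA⟩ : ∃ sA : Finset E, sA = Finset.univ.filter (fun x => x ∈ A) := ⟨_, rfl⟩
  have hmemA : ∀ x, x ∈ sA ↔ x ∈ A := by intro x; rw [hsA]; simp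
  have hsAcard : sA.card = Nat.card A := (Nat.subtype_card sA hmemA).symm
  have hEcard : (Finset.univ : Finset E).card = Nat.card E := by
    rw [Finset.card_univ, Nat.card_eq_fintype_card]
  have hAsq : ∀ a ∈ A, a * a = 1 := fun a ha => by rw [← pow_two]; exact hAexp a ha
  have hAcomm : ∀ a ∈ A, ∀ b ∈ A, a * b = b * a := by
    intro a ha b hb
    have := hAab.is_comm.comm ⟨a, ha⟩ ⟨b, hb⟩
    exact congrArg Subtype.val this
  -- halving for x not centralizing A
  have hhalfA : ∀ x : E, (∃ a₀ ∈ A, a₀ * x ≠ x * a₀) →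
      2 * (sA.filter (fun a => a * x = x * a)).card = sA.card := by
    rintro x ⟨a₀, ha₀, hne⟩
    have hne' : x * a₀ ≠ a₀ * x := fun h => hne h.symm
    apply half_of_bij sA (fun a => a * x = x * a) (fun a => a₀ * a) (fun a => a₀ * a)
    · intro a ha; rw [hmemA] at ha ⊢; exact A.mul_mem ha₀ ha
    · intro a ha; rw [hmemA] at ha ⊢; exact A.mul_mem ha₀ ha
    · intro a _; rw [← mul_assoc, hAsq a₀ ha₀, one_mul]
    · intro a _; rw [← mul_assoc, hAsq a₀ ha₀, one_mul]
    · intro a _
      constructor
      · intro h1 h2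
        exact hT1 x a₀ a hne' h2.symm h1.symm
      · intro h2
        exact (hT2 x a₀ a hne' (fun h => h2 h.symm)).symm
  -- halving for a not central
  have hhalfE : ∀ a : E, a ∉ Subgroup.center E →
      2 * ((Finset.univ : Finset E).filter (fun x => a * x = x * a)).card =
        (Finset.univ : Finset E).card := by
    intro a ha
    obtain ⟨y₀, hy₀⟩ : ∃ y₀ : E, a * y₀ ≠ y₀ * a := by
      by_contra h
      push Not at h
      exact ha (Subgroup.mem_center_iff.mpr fun g => (h g).symm)
    apply half_of_bij Finset.univ (fun x => a * x = x * a) (fun x => y₀ * x) (fun x => y₀⁻¹ * x)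
    · intro x _; exact Finset.mem_univ _
    · intro x _; exact Finset.mem_univ _
    · intro x _; rw [inv_mul_cancel_left]
    · intro x _; rw [mul_inv_cancel_left]
    · intro x _
      constructor
      · intro h1 h2
        exact hT1 a y₀ x hy₀ h2 h1
      · intro h2
        exact hT2 a y₀ x hy₀ h2
  -- first double count: centralizer of A is A
  obtain ⟨C, hC⟩ : ∃ C : Subgroup E, C = Subgroup.centralizer (A : Set E) := ⟨_, rfl⟩
  have hmemC : ∀ x, x ∈ C ↔ ∀ a ∈ A, a * x = x * a := by
    intro x; rw [hC, Subgroup.mem_centralizer_iff]; rfl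
  have hAC : A ≤ C := by
    intro x hx
    rw [hmemC]
    intro a ha
    exact hAcomm a ha x hx
  have hdc1 := Finset.sum_card_bipartiteAbove_eq_sum_card_bipartiteBelow
    (s := sA) (t := (Finset.univ : Finset E)) (r := fun a x => a * x = x * a)
  have hL1 : 2 * ∑ a ∈ sA, ((Finset.univ : Finset E).bipartiteAbove (fun a x => a * x = x * a) a).card
      = (sA.card + (sA.filter (fun a => a ∈ Subgroup.center E)).card) * Nat.card E := by
    apply sum_two
    · intro a _ haZ
      rw [← hEcard]
      congr 1
      rw [Finset.bipartiteAbove, Finset.filter_true_of_mem]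
      intro x _
      exact (Subgroup.mem_center_iff.mp haZ x).symm
    · intro a _ haZ
      rw [← hEcard]
      exact hhalfE a haZ
  have hR1 : 2 * ∑ x ∈ (Finset.univ : Finset E), (sA.bipartiteBelow (fun a x => a * x = x * a) x).card
      = ((Finset.univ : Finset E).card + ((Finset.univ : Finset E).filter (fun x => x ∈ C)).card)
        * sA.card := by
    apply sum_two
    · intro x _ hxC
      congr 1
      rw [Finset.bipartiteBelow, Finset.filter_true_of_mem]
      intro a ha
      exact (hmemC x).mp hxC a ((hmemA a).mp ha)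
    · intro x _ hxC
      apply hhalfA x
      by_contra h
      push Not at h
      exact hxC ((hmemC x).mpr h)
  have hCcard : ((Finset.univ : Finset E).filter (fun x => x ∈ C)).card = Nat.card C :=
    (Nat.subtype_card _ (by intro x; simp)).symm
  have hk2 : (sA.filter (fun a => a ∈ Subgroup.center E)).card ≤ 2 := by
    have h1 : (sA.filter (fun a => a ∈ Subgroup.center E)).card ≤
        ((Finset.univ : Finset E).filter (fun a => a ∈ Subgroup.center E)).card := by
      apply Finset.card_le_card
      intro a ha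
      rw [Finset.mem_filter] at ha ⊢
      exact ⟨Finset.mem_univ _, ha.2⟩
    have h2 : ((Finset.univ : Finset E).filter (fun a => a ∈ Subgroup.center E)).card =
        Nat.card (Subgroup.center E) := (Nat.subtype_card _ (by intro x; simp)).symm
    omega
  have hCA : C = A := by
    symm
    apply Subgroup.eq_of_le_of_card_ge hAC
    have hCge : Nat.card A ≤ Nat.card C := Subgroup.card_le_of_le hAC
    obtain ⟨k, hk⟩ : ∃ k, k = (sA.filter (fun a => a ∈ Subgroup.center E)).card := ⟨_, rfl⟩
    obtain ⟨c, hc⟩ : ∃ c, c = Nat.card C := ⟨_, rfl⟩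
    rw [← hk] at hL1 hk2
    rw [hdc1, hR1, hCcard, hEcard, hsAcard, ← hc] at hL1
    rw [← hc] at hCge ⊢
    rw [hcard, hAc] at hL1
    rw [hAc] at hCge ⊢
    have e1 : 2 ^ (2 * m + 1) = 2 ^ m * 2 ^ (m + 1) := by rw [← pow_add]; congr 1; omega
    rw [e1] at hL1
    have hpos : 0 < 2 ^ (m + 1) := by positivity
    have h3 : k * 2 ^ m * 2 ^ (m + 1) = c * 2 ^ (m + 1) := by nlinarith [hL1]
    have h4 : k * 2 ^ m = c := Nat.eq_of_mul_eq_mul_right hpos h3
    have e2 : 2 ^ (m + 1) = 2 ^ m * 2 := pow_succ 2 m
    have hpos' : 0 < 2 ^ m := by positivity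
    rw [e2] at hCge ⊢
    nlinarith [hCge, hk2, hpos', h4]
  -- second double count
  obtain ⟨I, hI⟩ : ∃ I : Finset E, I = Finset.univ.filter (fun x => x ^ 2 = 1) := ⟨_, rfl⟩
  have hQ1 : ∀ x b : E, b * b = 1 → b * x = x * b → (x * b) ^ 2 = x ^ 2 := by
    intro x b hb h
    calc (x * b) ^ 2 = x * (b * x) * b := by rw [pow_two]; simp only [mul_assoc]
      _ = x * (x * b) * b := by rw [h]
      _ = x * x * (b * b) := by simp only [mul_assoc]
      _ = x ^ 2 := by rw [hb, mul_one, pow_two]
  have hQ2 : ∀ x b : E, b * b = 1 → b * x = z * (x * b) → (x * b) ^ 2 = z * x ^ 2 := by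
    intro x b hb h
    calc (x * b) ^ 2 = x * (b * x) * b := by rw [pow_two]; simp only [mul_assoc]
      _ = x * (z * (x * b)) * b := by rw [h]
      _ = (x * z) * (x * (b * b)) := by simp only [mul_assoc]
      _ = z * x ^ 2 := by rw [hb, mul_one, hzc x, mul_assoc, pow_two]
  have hdc2 := Finset.sum_card_bipartiteAbove_eq_sum_card_bipartiteBelow
    (s := sA) (t := (Finset.univ : Finset E)) (r := fun a x => (x * a) ^ 2 = 1)
  have hL2 : ∑ a ∈ sA, ((Finset.univ : Finset E).bipartiteAbove
      (fun a x => (x * a) ^ 2 = 1) a).card = sA.card * I.card := by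
    rw [Finset.sum_congr rfl (g := fun _ => I.card), Finset.sum_const, smul_eq_mul]
    intro a _
    rw [hI, Finset.bipartiteAbove]
    refine Finset.card_bij' (fun x _ => x * a) (fun y _ => y * a⁻¹) ?_ ?_ ?_ ?_
    · intro x hx
      rw [Finset.mem_filter] at hx ⊢
      exact ⟨Finset.mem_univ _, hx.2⟩
    · intro y hy
      rw [Finset.mem_filter] at hy ⊢
      refine ⟨Finset.mem_univ _, ?_⟩
      show (y * a⁻¹ * a) ^ 2 = 1
      rw [inv_mul_cancel_right]; exact hy.2
    · intro x _; exact mul_inv_cancel_right x a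
    · intro y _; exact inv_mul_cancel_right y a
  have hR2 : 2 * ∑ x ∈ (Finset.univ : Finset E),
      (sA.bipartiteBelow (fun a x => (x * a) ^ 2 = 1) x).card
      = ((Finset.univ : Finset E).card +
        ((Finset.univ : Finset E).filter (fun x => x ∈ A)).card) * sA.card := by
    apply sum_two
    · intro x _ hxA
      congr 1
      rw [Finset.bipartiteBelow, Finset.filter_true_of_mem]
      intro a ha
      exact hAexp _ (A.mul_mem hxA ((hmemA a).mp ha))
    · intro x _ hxA
      have hxC : x ∉ C := by rw [hCA]; exact hxA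
      obtain ⟨a₀, ha₀, hne⟩ : ∃ a₀ ∈ A, a₀ * x ≠ x * a₀ := by
        by_contra h
        push Not at h
        exact hxC ((hmemC x).mpr h)
      have hne' : x * a₀ ≠ a₀ * x := fun h => hne h.symm
      apply half_of_bij sA (fun a => (x * a) ^ 2 = 1) (fun a => a₀ * a) (fun a => a₀ * a)
      · intro a ha; rw [hmemA] at ha ⊢; exact A.mul_mem ha₀ ha
      · intro a ha; rw [hmemA] at ha ⊢; exact A.mul_mem ha₀ ha
      · intro a _; rw [← mul_assoc, hAsq a₀ ha₀, one_mul]
      · intro a _; rw [← mul_assoc, hAsq a₀ ha₀, one_mul]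
      · intro a ha
        rw [hmemA] at ha
        have haa := hAsq a ha
        have ha'a' := hAsq (a₀ * a) (A.mul_mem ha₀ ha)
        by_cases hcx : a * x = x * a
        · have h1 := hQ1 x a haa hcx
          have hnc : x * (a₀ * a) ≠ (a₀ * a) * x := hT1 x a₀ a hne' hcx.symm
          have h2 := hQ2 x (a₀ * a) ha'a' ((hK (a₀ * a) x).resolve_left (fun h => hnc h.symm))
          rw [h1, h2]
          rcases hsq x with h | h
          · rw [h, mul_one]; constructor
            · intro h3; exact absurd h3 hz1'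
            · intro h3; exact absurd rfl h3
          · rw [h, hzz]; constructor
            · intro _; exact hz1'
            · intro _; rfl
        · have h1 := hQ2 x a haa ((hK a x).resolve_left hcx)
          have hc' : x * (a₀ * a) = (a₀ * a) * x := hT2 x a₀ a hne' (fun h => hcx h.symm)
          have h2 := hQ1 x (a₀ * a) ha'a' hc'.symm
          rw [h1, h2]
          rcases hsq x with h | h
          · rw [h, mul_one]; constructor
            · intro _; exact hz1'
            · intro _; rfl
          · rw [h, hzz]; constructor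
            · intro h3; exact absurd h3 hz1'
            · intro h3; exact absurd rfl h3
  -- conclude
  have hI2 : 2 * I.card = Nat.card E + Nat.card A := by
    have hfA : ((Finset.univ : Finset E).filter (fun x => x ∈ A)).card = Nat.card A :=
      (Nat.subtype_card _ (by intro x; simp)).symm
    rw [← hdc2, hL2, hfA, hEcard, hsAcard] at hR2
    have hpos : 0 < Nat.card A := Nat.card_pos
    have h5 : (2 * I.card) * Nat.card A = (Nat.card E + Nat.card A) * Nat.card A := by
      linarith [hR2]
    exact Nat.eq_of_mul_eq_mul_right hpos h5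
  have h4 : ∀ x : E, orderOf x = 4 ↔ ¬ x ^ 2 = 1 := by
    intro x
    constructor
    · intro h h2
      have h3 := orderOf_dvd_of_pow_eq_one h2
      rw [h] at h3
      have h5 := Nat.le_of_dvd (by norm_num) h3
      omega
    · intro h
      have hxz : x ^ 2 = z := (hsq x).resolve_left h
      have h4' : x ^ 2 ^ (1 + 1) = 1 := by
        have h5 : x ^ 2 ^ (1 + 1) = (x ^ 2) ^ 2 := by rw [← pow_mul]; norm_num
        rw [h5, hxz, pow_two, hzz]
      have h6 := orderOf_eq_prime_pow (p := 2) (n := 1) (x := x) (by simpa using h) h4'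
      simpa using h6
  have hcount : Nat.card {x : E // orderOf x = 4} =
      ((Finset.univ : Finset E).filter (fun x => ¬ x ^ 2 = 1)).card :=
    Nat.subtype_card _ (by intro x; simp [h4 x])
  have hsplit := Finset.card_filter_add_card_filter_not (s := (Finset.univ : Finset E))
    (fun x => x ^ 2 = 1)
  rw [← hI, hEcard] at hsplit
  rw [hcount]
  rw [hcard, hAc] at hI2
  rw [hcard] at hsplit
  have e1 : 2 ^ (2 * m + 1) = 2 ^ (2 * m) * 2 := pow_succ 2 (2 * m)
  have e2 : 2 ^ (m + 1) = 2 ^ m * 2 := pow_succ 2 m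
  omega

/-- Let E be an extraspecial 2-group of order 2^(2m+1) of plus type, that is, containing an elementary abelian subgroup of order 2^(m+1) (equivalently, a central product of m dihedral groups of order 8). Then E has exactly 2^(2m) − 2^m elements of order 4. -/
theorem result {E : Type*} [Group E] [Finite E] (m : ℕ) (hm : 1 ≤ m) (hE : Cfsg.IsExtraspecial 2 E) (hcard : Nat.card E = 2 ^ (2 * m + 1)) (hplus : ∃ A : Subgroup E, Cfsg.IsElementaryAbelian 2 A ∧ Nat.card A = 2 ^ (m + 1)) : Nat.card {x : E // orderOf x = 4} = 2 ^ (2 * m) - 2 ^ m := by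
  obtain ⟨A, hA, hAc⟩ := hplus
  exact count m hE hcard A hA hAc

end Cfsg.Agent.S2880
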