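import Cfsg.Statements.S2881
import Mathlib
import Cfsg.Agent.S2880

set_option autoImplicit false
open Cfsg

namespace Cfsg.Agent.S2881

theorem order_two_mod_five : orderOf (2 : ZMod 5) = 2 ^ (1 + 1) :=
  orderOf_eq_prime_pow (p := 2) (n := 1) (x := (2 : ZMod 5)) (by decide) (by decide)

/-- Let E be an extraspecial 2-group of order 2^(2m+1) of plus type (containing an elementary abelian subgroup of order 2^(m+1)), and let ω be an automorphism of E of order 5 whose fixed points are exactly the centre of E. Then m is divisible by 4. -/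
theorem result {E : Type*} [Group E] [Finite E] (m : ℕ) (hm : 1 ≤ m) (hE : Cfsg.IsExtraspecial 2 E) (hcard : Nat.card E = 2 ^ (2 * m + 1)) (hplus : ∃ A : Subgroup E, Cfsg.IsElementaryAbelian 2 A ∧ Nat.card A = 2 ^ (m + 1)) (ω : E ≃* E) (hω : orderOf ω = 5) (hfix : ∀ x : E, ω x = x ↔ x ∈ Subgroup.center E) : 4 ∣ m := by
  classical
  obtain ⟨A, hA, hAc⟩ := hplus
  have hcount := Cfsg.Agent.S2880.count m hE hcard A hA hAc
  have hZ : Nat.card (Subgroup.center E) = 2 := hE.2
  have : Fintype E := Fintype.ofFinite E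
  have hω5 : ω ^ 5 = 1 := by rw [← hω]; exact pow_orderOf_eq_one ω
  obtain ⟨f, hf⟩ : ∃ f : Function.End {x : E // orderOf x = 4}, ∀ x, ((f x : {x : E // orderOf x = 4}) : E) = ω x :=
    ⟨fun x => ⟨ω x, by rw [MulEquiv.orderOf_eq]; exact x.2⟩, fun _ => rfl⟩
  have hpow : ∀ k : ℕ, ∀ x : {x : E // orderOf x = 4},
      (((f ^ k) x : {x : E // orderOf x = 4}) : E) = (ω ^ k) x := by
    intro k
    induction k with
    | zero => intro x; rfl
    | succ k ih =>
      intro x
      rw [pow_succ', pow_succ']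
      show ((f ((f ^ k) x) : {x : E // orderOf x = 4}) : E) = ω ((ω ^ k) x)
      rw [hf, ih]
  have hf5 : f ^ 5 ^ 1 = 1 := by
    funext x
    apply Subtype.ext
    rw [pow_one, hpow, hω5]
    rfl
  have hprime5 : Fact (Nat.Prime 5) := ⟨by norm_num⟩
  have hmod := Equiv.Perm.card_fixedPoints_modEq (p := 5) (n := 1) hf5
  have hfixempty : IsEmpty (Function.fixedPoints f) := by
    constructor
    rintro ⟨x, hx⟩
    have h1 : ω (x : E) = (x : E) := by
      rw [← hf]; exact congrArg Subtype.val hx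
    have h2 : (x : E) ∈ Subgroup.center E := (hfix _).mp h1
    have h3 : orderOf (⟨(x : E), h2⟩ : Subgroup.center E) ∣ Nat.card (Subgroup.center E) :=
      orderOf_dvd_natCard _
    rw [Subgroup.orderOf_mk, x.2, hZ] at h3
    have h5 := Nat.le_of_dvd (by norm_num) h3
    omega
  have h0 := @Nat.card_of_isEmpty _ hfixempty
  rw [Fintype.card_eq_nat_card, Fintype.card_eq_nat_card, h0, hcount] at hmod
  have h5 : 5 ∣ 2 ^ (2 * m) - 2 ^ m := (Nat.modEq_zero_iff_dvd).mp hmod
  have h1 : 2 ^ (2 * m) - 2 ^ m = 2 ^ m * (2 ^ m - 1) := by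
    rw [Nat.mul_sub, mul_one, ← pow_add]
    congr 2
    omega
  rw [h1] at h5
  have h2 : 5 ∣ 2 ^ m - 1 :=
    Nat.Coprime.dvd_of_dvd_mul_left ((by decide : Nat.Coprime 5 2).pow_right m) h5
  have h3 : (2 : ZMod 5) ^ m = 1 := by
    have h6 : ((2 ^ m - 1 : ℕ) : ZMod 5) = 0 := (ZMod.natCast_eq_zero_iff _ 5).mpr h2
    rw [Nat.cast_sub Nat.one_le_two_pow] at h6
    push_cast at h6
    exact sub_eq_zero.mp h6
  have h4 : orderOf (2 : ZMod 5) = 2 ^ (1 + 1) := order_two_mod_five
  have h7 := orderOf_dvd_of_pow_eq_one h3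
  rw [h4] at h7
  exact h7

end Cfsg.Agent.S2881
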