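import Cfsg.Statements.S2882
import Cfsg.Agent.Lib.helper25.MathieuFusion3
import Cfsg.Agent.Lib.helper25.MG24

set_option autoImplicit false
open Cfsg

namespace Cfsg.Agent.S2882

/-- In the Mathieu group of degree 24 (realised as the automorphism group of the extended binary Golay code) every Sylow 2-subgroup is self-normalizing. -/
theorem result (S : Sylow 2 ↥Cfsg.M24) : Subgroup.normalizer ((S : Subgroup ↥Cfsg.M24) : Set ↥Cfsg.M24) = (S : Subgroup ↥Cfsg.M24) := by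
  have key := Cfsg.Agent.Lib.helper25.mathieu_selfNormalizing2 [] Cfsg.Agent.Lib.helper25.MG24.chain
    Cfsg.Agent.Lib.helper25.MG24.pchain 244823040 10 239085 Cfsg.Agent.Lib.helper25.MG24.gensP
    Cfsg.Agent.Lib.helper25.MG24.tab Cfsg.Agent.Lib.helper25.MG24.ptab 1024 12
    Cfsg.Agent.Lib.helper25.MG24.zP Cfsg.Agent.Lib.helper25.card_m24 (by norm_num) (by norm_num)
    Cfsg.Agent.Lib.helper25.MG24.chain_ok Cfsg.Agent.Lib.helper25.MG24.chain_prod
    Cfsg.Agent.Lib.helper25.MG24.pchain_eq Cfsg.Agent.Lib.helper25.MG24.gens_ok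
    Cfsg.Agent.Lib.helper25.MG24.gens_inv (by norm_num) Cfsg.Agent.Lib.helper25.MG24.mem_complete
    Cfsg.Agent.Lib.helper25.MG24.mem_one Cfsg.Agent.Lib.helper25.MG24.closed
    Cfsg.Agent.Lib.helper25.MG24.par_ok Cfsg.Agent.Lib.helper25.MG24.sorted
    Cfsg.Agent.Lib.helper25.MG24.centre Cfsg.Agent.Lib.helper25.MG24.z_mem
    Cfsg.Agent.Lib.helper25.MG24.z_ne Cfsg.Agent.Lib.helper25.MG24.z_comm
    Cfsg.Agent.Lib.helper25.MG24.enum_ok
  exact Cfsg.Agent.Lib.helper25.normalizer_of_eq Cfsg.Agent.Lib.helper28.stabM_nil.symm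
    (fun S' => Cfsg.Agent.Lib.helper25.sylow_normalizer_of_data _ 2 _ key.1 key.2.1 key.2.2 S') S

end Cfsg.Agent.S2882
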