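import Cfsg.Statements.S2968
-- import your own Cfsg.Agent.* helpers here
import Mathlib.GroupTheory.Nilpotent

set_option autoImplicit false
open Cfsg

namespace Cfsg.Agent.S2968

theorem exists_sylow_conj {K : Type*} [Group K] [Finite K] {p : ℕ} [Fact p.Prime] (a b : K)
    (ha : ∃ k : ℕ, orderOf a = p ^ k) (hb : ∃ k : ℕ, orderOf b = p ^ k) :
    ∃ (P : Sylow p K) (n : K), a ∈ (P : Subgroup K) ∧ n * b * n⁻¹ ∈ (P : Subgroup K) := by
  obtain ⟨k, hk⟩ := ha
  obtain ⟨l, hl⟩ := hb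
  have hpa : IsPGroup p (Subgroup.zpowers a) :=
    IsPGroup.of_card (n := k) (by rw [Nat.card_zpowers, hk])
  have hpb : IsPGroup p (Subgroup.zpowers b) :=
    IsPGroup.of_card (n := l) (by rw [Nat.card_zpowers, hl])
  obtain ⟨P, hP⟩ := hpa.exists_le_sylow
  obtain ⟨P', hP'⟩ := hpb.exists_le_sylow
  obtain ⟨n, hn⟩ := MulAction.exists_smul_eq K P' P
  refine ⟨P, n, hP (Subgroup.mem_zpowers a), ?_⟩
  have hb' : b ∈ (P' : Subgroup K) := hP' (Subgroup.mem_zpowers b)
  rw [← hn, Sylow.coe_subgroup_smul]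
  exact Subgroup.smul_mem_pointwise_smul b (MulAut.conj n) _ hb'

theorem exists_pgroup_conj {G : Type*} [Group G] [Finite G] {p : ℕ} [Fact p.Prime] (N : Subgroup G)
    (a b : G) (haN : a ∈ N) (hbN : b ∈ N)
    (ha : ∃ k : ℕ, orderOf a = p ^ k) (hb : ∃ k : ℕ, orderOf b = p ^ k) :
    ∃ (R : Subgroup G) (n : G), IsPGroup p R ∧ R ≤ N ∧ n ∈ N ∧ a ∈ R ∧ n * b * n⁻¹ ∈ R := by
  have ha' : ∃ k : ℕ, orderOf (⟨a, haN⟩ : N) = p ^ k := by
    rw [Subgroup.orderOf_mk]; exact ha
  have hb' : ∃ k : ℕ, orderOf (⟨b, hbN⟩ : N) = p ^ k := by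
    rw [Subgroup.orderOf_mk]; exact hb
  obtain ⟨P, n, h1, h2⟩ := exists_sylow_conj (p := p) (⟨a, haN⟩ : N) (⟨b, hbN⟩ : N) ha' hb'
  refine ⟨(P : Subgroup N).map N.subtype, (n : G), P.isPGroup'.map N.subtype,
    Subgroup.map_subtype_le _, n.2, ?_, ?_⟩
  · exact Subgroup.mem_map.mpr ⟨⟨a, haN⟩, h1, rfl⟩
  · exact Subgroup.mem_map.mpr ⟨n * ⟨b, hbN⟩ * n⁻¹, h2, rfl⟩

theorem iso_central {G : Type*} [Group G] [Finite G] {p : ℕ} [Fact p.Prime] (x : G)
    (hiso : Cfsg.IsIsolated x) (R : Subgroup G) (hR : IsPGroup p R) (hxR : x ∈ R) :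
    R ≤ Subgroup.centralizer ({x} : Set G) := by
  by_contra hcon
  set C : Subgroup G := R ⊓ Subgroup.centralizer ({x} : Set G) with hC
  have hCR : C ≤ R := inf_le_left
  have hClt : C.subgroupOf R < ⊤ := by
    rw [lt_top_iff_ne_top, Ne, Subgroup.subgroupOf_eq_top]
    intro hle
    exact hcon (le_trans hle inf_le_right)
  have hnil : Group.IsNilpotent R := hR.isNilpotent
  have hnc := Group.normalizerCondition_of_isNilpotent (G := R) (C.subgroupOf R) hClt
  obtain ⟨q, hq1, hq2⟩ := SetLike.exists_of_lt hnc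
  rw [← Subgroup.subgroupOf_normalizer_eq hCR, Subgroup.mem_subgroupOf] at hq1
  rw [Subgroup.mem_subgroupOf] at hq2
  have hxC : x ∈ C :=
    Subgroup.mem_inf.mpr ⟨hxR, Subgroup.mem_centralizer_singleton_iff.mpr rfl⟩
  have h1 : (q : G) * x * (q : G)⁻¹ ∈ C := (Subgroup.mem_normalizer_iff.mp hq1 x).mp hxC
  have h2 : x * ((q : G) * x * (q : G)⁻¹) = ((q : G) * x * (q : G)⁻¹) * x :=
    (Subgroup.mem_centralizer_singleton_iff.mp (Subgroup.mem_inf.mp h1).2).symm
  have h3 : (q : G) * x * (q : G)⁻¹ = x := hiso (q : G) h2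
  have h4 : (q : G) * x = x * (q : G) := by
    rw [mul_inv_eq_iff_eq_mul] at h3
    exact h3
  exact hq2 (Subgroup.mem_inf.mpr ⟨q.2, Subgroup.mem_centralizer_singleton_iff.mpr h4⟩)

theorem iso_conj_eq {G : Type*} [Group G] [Finite G] {p : ℕ} [Fact p.Prime] (x : G)
    (hiso : Cfsg.IsIsolated x) (R : Subgroup G) (hR : IsPGroup p R) (hxR : x ∈ R)
    (g : G) (hg : g * x * g⁻¹ ∈ R) : g * x * g⁻¹ = x := by
  have h1 := iso_central x hiso R hR hxR hg
  exact hiso g (Subgroup.mem_centralizer_singleton_iff.mp h1).symm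

/-- Let G be a finite group, p a prime, P a Sylow p-subgroup of G and x ∈ P an element of p-power order which is isolated in G (the only conjugate of x commuting with x is x itself). Then x lies in the centre of P, and the subgroup generated by x is both strongly closed and weakly closed in P with respect to G. -/
theorem result {G : Type*} [Group G] [Finite G] {p : ℕ} [Fact p.Prime] (P : Sylow p G) (x : G) (hxP : x ∈ (P : Subgroup G)) (hx : ∃ k : ℕ, orderOf x = p ^ k) (hiso : Cfsg.IsIsolated x) : x ∈ (P : Subgroup G) ⊓ Subgroup.centralizer ((P : Subgroup G) : Set G) ∧ Cfsg.IsStronglyClosed (Subgroup.zpowers x) (P : Subgroup G) ∧ Cfsg.IsWeaklyClosed (Subgroup.zpowers x) (P : Subgroup G) := by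
  have hcen : (P : Subgroup G) ≤ Subgroup.centralizer ({x} : Set G) :=
    iso_central x hiso P P.isPGroup' hxP
  have hzP : Subgroup.zpowers x ≤ (P : Subgroup G) := by
    rw [Subgroup.zpowers_le]; exact hxP
  refine ⟨Subgroup.mem_inf.mpr ⟨hxP, ?_⟩, ⟨hzP, ?_⟩, ⟨hzP, ?_⟩⟩
  · rw [Subgroup.mem_centralizer_iff]
    intro h hh
    exact Subgroup.mem_centralizer_singleton_iff.mp (hcen hh)
  · intro y hy g hg
    obtain ⟨k, rfl⟩ := Subgroup.mem_zpowers_iff.mp hy
    set z := g * x * g⁻¹ with hz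
    have hw : g * x ^ k * g⁻¹ = z ^ k := by rw [hz, conj_zpow]
    rw [hw] at hg ⊢
    set H : Subgroup G := Subgroup.centralizer ({z ^ k} : Set G) with hH
    have hxH : x ∈ H := by
      rw [hH, Subgroup.mem_centralizer_singleton_iff]
      exact (Subgroup.mem_centralizer_singleton_iff.mp (hcen hg)).symm
    have hzH : z ∈ H := by
      rw [hH, Subgroup.mem_centralizer_singleton_iff]
      exact ((Commute.refl z).zpow_right k).eq
    have hz' : ∃ k : ℕ, orderOf z = p ^ k := by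
      obtain ⟨j, hj⟩ := hx
      exact ⟨j, by rw [← hj]; exact (MulAut.conj g).orderOf_eq x⟩
    obtain ⟨R, n, hR, hRH, hnH, hxR, hnR⟩ := exists_pgroup_conj (p := p) H x z hxH hzH hx hz'
    have e : n * z * n⁻¹ = (n * g) * x * (n * g)⁻¹ := by rw [hz]; group
    have h2 : n * z * n⁻¹ = x := by
      rw [e]
      rw [e] at hnR
      exact iso_conj_eq x hiso R hR hxR (n * g) hnR
    have h3 : n * z ^ k = z ^ k * n := Subgroup.mem_centralizer_singleton_iff.mp hnH
    have h4 : n * z ^ k * n⁻¹ = x ^ k := by rw [← conj_zpow, h2]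
    have h5 : z ^ k = x ^ k := by
      rw [← h4, h3]; group
    rw [h5]
    exact Subgroup.zpow_mem_zpowers x k
  · intro g hg
    have h1 : g * x * g⁻¹ ∈ (P : Subgroup G) := by
      apply hg
      exact Subgroup.mem_map.mpr ⟨x, Subgroup.mem_zpowers x, rfl⟩
    have h2 := iso_conj_eq x hiso P P.isPGroup' hxP g h1
    rw [MonoidHom.map_zpowers]
    show Subgroup.zpowers (g * x * g⁻¹) = Subgroup.zpowers x
    rw [h2]


end Cfsg.Agent.S2968
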