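import Cfsg.Statements.S2969
-- import your own Cfsg.Agent.* helpers here
import Mathlib.GroupTheory.Nilpotent

set_option autoImplicit false
open Cfsg

namespace Cfsg.Agent.S2969

theorem exists_sylow_conj {K : Type*} [Group K] [Finite K] {p : ℕ} [Fact p.Prime] (a b : K)
    (ha : ∃ k : ℕ, orderOf a = p ^ k) (hb : ∃ k : ℕ, orderOf b = p ^ k) :
    ∃ (P : Sylow p K) (n : K), a ∈ (P : Subgroup K) ∧ n * b * n⁻¹ ∈ (P : Subgroup K) := by
  obtain ⟨k, hk⟩ := ha
  obtain ⟨l, hl⟩ := hb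
  have hpa : IsPGroup p (Subgroup.zpowers a) :=
    IsPGroup.of_card (n := k) (by rw [Nat.card_zpowers, hk])
  have hpb : IsPGroup p (Subgroup.zpowers b) :=
    IsPGroup.of_card (n := l) (by rw [Nat.card_zpowers, hl])
  obtain ⟨P, hP⟩ := hpa.exists_le_sylow
  obtain ⟨P', hP'⟩ := hpb.exists_le_sylow
  obtain ⟨n, hn⟩ := MulAction.exists_smul_eq K P' P
  refine ⟨P, n, hP (Subgroup.mem_zpowers a), ?_⟩
  have hb' : b ∈ (P' : Subgroup K) := hP' (Subgroup.mem_zpowers b)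
  rw [← hn, Sylow.coe_subgroup_smul]
  exact Subgroup.smul_mem_pointwise_smul b (MulAut.conj n) _ hb'

theorem exists_pgroup_conj {G : Type*} [Group G] [Finite G] {p : ℕ} [Fact p.Prime] (N : Subgroup G)
    (a b : G) (haN : a ∈ N) (hbN : b ∈ N)
    (ha : ∃ k : ℕ, orderOf a = p ^ k) (hb : ∃ k : ℕ, orderOf b = p ^ k) :
    ∃ (R : Subgroup G) (n : G), IsPGroup p R ∧ R ≤ N ∧ n ∈ N ∧ a ∈ R ∧ n * b * n⁻¹ ∈ R := by
  have ha' : ∃ k : ℕ, orderOf (⟨a, haN⟩ : N) = p ^ k := by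
    rw [Subgroup.orderOf_mk]; exact ha
  have hb' : ∃ k : ℕ, orderOf (⟨b, hbN⟩ : N) = p ^ k := by
    rw [Subgroup.orderOf_mk]; exact hb
  obtain ⟨P, n, h1, h2⟩ := exists_sylow_conj (p := p) (⟨a, haN⟩ : N) (⟨b, hbN⟩ : N) ha' hb'
  refine ⟨(P : Subgroup N).map N.subtype, (n : G), P.isPGroup'.map N.subtype,
    Subgroup.map_subtype_le _, n.2, ?_, ?_⟩
  · exact Subgroup.mem_map.mpr ⟨⟨a, haN⟩, h1, rfl⟩
  · exact Subgroup.mem_map.mpr ⟨n * ⟨b, hbN⟩ * n⁻¹, h2, rfl⟩

theorem iso_central {G : Type*} [Group G] [Finite G] {p : ℕ} [Fact p.Prime] (x : G)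
    (hiso : Cfsg.IsIsolated x) (R : Subgroup G) (hR : IsPGroup p R) (hxR : x ∈ R) :
    R ≤ Subgroup.centralizer ({x} : Set G) := by
  by_contra hcon
  set C : Subgroup G := R ⊓ Subgroup.centralizer ({x} : Set G) with hC
  have hCR : C ≤ R := inf_le_left
  have hClt : C.subgroupOf R < ⊤ := by
    rw [lt_top_iff_ne_top, Ne, Subgroup.subgroupOf_eq_top]
    intro hle
    exact hcon (le_trans hle inf_le_right)
  have hnil : Group.IsNilpotent R := hR.isNilpotent
  have hnc := Group.normalizerCondition_of_isNilpotent (G := R) (C.subgroupOf R) hClt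
  obtain ⟨q, hq1, hq2⟩ := SetLike.exists_of_lt hnc
  rw [← Subgroup.subgroupOf_normalizer_eq hCR, Subgroup.mem_subgroupOf] at hq1
  rw [Subgroup.mem_subgroupOf] at hq2
  have hxC : x ∈ C :=
    Subgroup.mem_inf.mpr ⟨hxR, Subgroup.mem_centralizer_singleton_iff.mpr rfl⟩
  have h1 : (q : G) * x * (q : G)⁻¹ ∈ C := (Subgroup.mem_normalizer_iff.mp hq1 x).mp hxC
  have h2 : x * ((q : G) * x * (q : G)⁻¹) = ((q : G) * x * (q : G)⁻¹) * x :=
    (Subgroup.mem_centralizer_singleton_iff.mp (Subgroup.mem_inf.mp h1).2).symm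
  have h3 : (q : G) * x * (q : G)⁻¹ = x := hiso (q : G) h2
  have h4 : (q : G) * x = x * (q : G) := by
    rw [mul_inv_eq_iff_eq_mul] at h3
    exact h3
  exact hq2 (Subgroup.mem_inf.mpr ⟨q.2, Subgroup.mem_centralizer_singleton_iff.mpr h4⟩)

theorem iso_conj_eq {G : Type*} [Group G] [Finite G] {p : ℕ} [Fact p.Prime] (x : G)
    (hiso : Cfsg.IsIsolated x) (R : Subgroup G) (hR : IsPGroup p R) (hxR : x ∈ R)
    (g : G) (hg : g * x * g⁻¹ ∈ R) : g * x * g⁻¹ = x := by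
  have h1 := iso_central x hiso R hR hxR hg
  exact hiso g (Subgroup.mem_centralizer_singleton_iff.mp h1).symm

/-- Let G be a finite group, p a prime and x ∈ G an element of p-power order which is isolated in G. If R is a p-subgroup of G containing x, then N_G(R) ≤ C_G(x); in particular x lies in the centre of R. Moreover, if x lies in a normal subgroup N of a subgroup H of G, then H = N·C_H(x). -/
theorem result {G : Type*} [Group G] [Finite G] {p : ℕ} [Fact p.Prime] (x : G) (hx : ∃ k : ℕ, orderOf x = p ^ k) (hiso : Cfsg.IsIsolated x) : (∀ R : Subgroup G, IsPGroup p ↥R → x ∈ R → Subgroup.normalizer (R : Set G) ≤ Subgroup.centralizer ({x} : Set G)) ∧ (∀ H N : Subgroup G, N ≤ H → H ≤ Subgroup.normalizer (N : Set G) → x ∈ N → N ⊔ (H ⊓ Subgroup.centralizer ({x} : Set G)) = H) := by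
  refine ⟨?_, ?_⟩
  · intro R hR hxR n hn
    have h1 : n * x * n⁻¹ ∈ R := (Subgroup.mem_normalizer_iff.mp hn x).mp hxR
    have h2 := iso_conj_eq x hiso R hR hxR n h1
    rw [mul_inv_eq_iff_eq_mul] at h2
    exact Subgroup.mem_centralizer_singleton_iff.mpr h2
  · intro H N hNH hHN hxN
    apply le_antisymm (sup_le hNH inf_le_left)
    intro h hh
    have h1 : h * x * h⁻¹ ∈ N := (Subgroup.mem_normalizer_iff.mp (hHN hh) x).mp hxN
    have hx' : ∃ k : ℕ, orderOf (h * x * h⁻¹) = p ^ k := by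
      obtain ⟨k, hk⟩ := hx
      exact ⟨k, by rw [← hk]; exact (MulAut.conj h).orderOf_eq x⟩
    obtain ⟨R, n, hR, hRN, hnN, hxR, hnR⟩ := exists_pgroup_conj (p := p) N x (h * x * h⁻¹) hxN h1 hx hx'
    have e : n * (h * x * h⁻¹) * n⁻¹ = (n * h) * x * (n * h)⁻¹ := by group
    rw [e] at hnR
    have h2 := iso_conj_eq x hiso R hR hxR (n * h) hnR
    rw [mul_inv_eq_iff_eq_mul] at h2
    have h3 : n * h ∈ H ⊓ Subgroup.centralizer ({x} : Set G) :=
      Subgroup.mem_inf.mpr ⟨H.mul_mem (hNH hnN) hh, Subgroup.mem_centralizer_singleton_iff.mpr h2⟩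
    have e2 : h = n⁻¹ * (n * h) := by group
    rw [e2]
    exact Subgroup.mul_mem_sup (N.inv_mem hnN) h3


end Cfsg.Agent.S2969
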