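import Cfsg.Statements.S2970
-- import your own Cfsg.Agent.* helpers here
import Mathlib
import Cfsg.Agent.Lib.helper8.CoprimeAction

set_option autoImplicit false
open Cfsg

namespace Cfsg.Agent.S2970

theorem exists_sylow_conj {K : Type*} [Group K] [Finite K] {p : ℕ} [Fact p.Prime] (a b : K)
    (ha : ∃ k : ℕ, orderOf a = p ^ k) (hb : ∃ k : ℕ, orderOf b = p ^ k) :
    ∃ (P : Sylow p K) (n : K), a ∈ (P : Subgroup K) ∧ n * b * n⁻¹ ∈ (P : Subgroup K) := by
  obtain ⟨k, hk⟩ := ha
  obtain ⟨l, hl⟩ := hb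
  have hpa : IsPGroup p (Subgroup.zpowers a) :=
    IsPGroup.of_card (n := k) (by rw [Nat.card_zpowers, hk])
  have hpb : IsPGroup p (Subgroup.zpowers b) :=
    IsPGroup.of_card (n := l) (by rw [Nat.card_zpowers, hl])
  obtain ⟨P, hP⟩ := hpa.exists_le_sylow
  obtain ⟨P', hP'⟩ := hpb.exists_le_sylow
  obtain ⟨n, hn⟩ := MulAction.exists_smul_eq K P' P
  refine ⟨P, n, hP (Subgroup.mem_zpowers a), ?_⟩
  have hb' : b ∈ (P' : Subgroup K) := hP' (Subgroup.mem_zpowers b)
  rw [← hn, Sylow.coe_subgroup_smul]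
  exact Subgroup.smul_mem_pointwise_smul b (MulAut.conj n) _ hb'

theorem exists_pgroup_conj {G : Type*} [Group G] [Finite G] {p : ℕ} [Fact p.Prime] (N : Subgroup G)
    (a b : G) (haN : a ∈ N) (hbN : b ∈ N)
    (ha : ∃ k : ℕ, orderOf a = p ^ k) (hb : ∃ k : ℕ, orderOf b = p ^ k) :
    ∃ (R : Subgroup G) (n : G), IsPGroup p R ∧ R ≤ N ∧ n ∈ N ∧ a ∈ R ∧ n * b * n⁻¹ ∈ R := by
  have ha' : ∃ k : ℕ, orderOf (⟨a, haN⟩ : N) = p ^ k := by
    rw [Subgroup.orderOf_mk]; exact ha
  have hb' : ∃ k : ℕ, orderOf (⟨b, hbN⟩ : N) = p ^ k := by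
    rw [Subgroup.orderOf_mk]; exact hb
  obtain ⟨P, n, h1, h2⟩ := exists_sylow_conj (p := p) (⟨a, haN⟩ : N) (⟨b, hbN⟩ : N) ha' hb'
  refine ⟨(P : Subgroup N).map N.subtype, (n : G), P.isPGroup'.map N.subtype,
    Subgroup.map_subtype_le _, n.2, ?_, ?_⟩
  · exact Subgroup.mem_map.mpr ⟨⟨a, haN⟩, h1, rfl⟩
  · exact Subgroup.mem_map.mpr ⟨n * ⟨b, hbN⟩ * n⁻¹, h2, rfl⟩

theorem iso_central {G : Type*} [Group G] [Finite G] {p : ℕ} [Fact p.Prime] (x : G)
    (hiso : Cfsg.IsIsolated x) (R : Subgroup G) (hR : IsPGroup p R) (hxR : x ∈ R) :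
    R ≤ Subgroup.centralizer ({x} : Set G) := by
  by_contra hcon
  set C : Subgroup G := R ⊓ Subgroup.centralizer ({x} : Set G) with hC
  have hCR : C ≤ R := inf_le_left
  have hClt : C.subgroupOf R < ⊤ := by
    rw [lt_top_iff_ne_top, Ne, Subgroup.subgroupOf_eq_top]
    intro hle
    exact hcon (le_trans hle inf_le_right)
  have hnil : Group.IsNilpotent R := hR.isNilpotent
  have hnc := Group.normalizerCondition_of_isNilpotent (G := R) (C.subgroupOf R) hClt
  obtain ⟨q, hq1, hq2⟩ := SetLike.exists_of_lt hnc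
  rw [← Subgroup.subgroupOf_normalizer_eq hCR, Subgroup.mem_subgroupOf] at hq1
  rw [Subgroup.mem_subgroupOf] at hq2
  have hxC : x ∈ C :=
    Subgroup.mem_inf.mpr ⟨hxR, Subgroup.mem_centralizer_singleton_iff.mpr rfl⟩
  have h1 : (q : G) * x * (q : G)⁻¹ ∈ C := (Subgroup.mem_normalizer_iff.mp hq1 x).mp hxC
  have h2 : x * ((q : G) * x * (q : G)⁻¹) = ((q : G) * x * (q : G)⁻¹) * x :=
    (Subgroup.mem_centralizer_singleton_iff.mp (Subgroup.mem_inf.mp h1).2).symm
  have h3 : (q : G) * x * (q : G)⁻¹ = x := hiso (q : G) h2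
  have h4 : (q : G) * x = x * (q : G) := by
    rw [mul_inv_eq_iff_eq_mul] at h3
    exact h3
  exact hq2 (Subgroup.mem_inf.mpr ⟨q.2, Subgroup.mem_centralizer_singleton_iff.mpr h4⟩)

theorem iso_conj_eq {G : Type*} [Group G] [Finite G] {p : ℕ} [Fact p.Prime] (x : G)
    (hiso : Cfsg.IsIsolated x) (R : Subgroup G) (hR : IsPGroup p R) (hxR : x ∈ R)
    (g : G) (hg : g * x * g⁻¹ ∈ R) : g * x * g⁻¹ = x := by
  have h1 := iso_central x hiso R hR hxR hg
  exact hiso g (Subgroup.mem_centralizer_singleton_iff.mp h1).symm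

/-- In a finite cyclic group an element killed by `p` lies in the subgroup generated by any
element of order `p`. -/
theorem mem_zpowers_of_cyclic {C : Type*} [Group C] [Finite C] [IsCyclic C] (p : ℕ) (hp : 0 < p)
    (w v : C) (hw : orderOf w = p) (hv : v ^ p = 1) : v ∈ Subgroup.zpowers w := by
  classical
  have : Fintype C := Fintype.ofFinite C
  have h1 : (Finset.univ.filter (fun a : C => a ^ p = 1)).card ≤ p :=
    IsCyclic.card_pow_eq_one_le hp
  have hsub : ((Subgroup.zpowers w : Set C).toFinset) ⊆ Finset.univ.filter (fun a : C => a ^ p = 1) := by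
    intro g hg
    rw [Set.mem_toFinset] at hg
    rw [Finset.mem_filter]
    refine ⟨Finset.mem_univ _, ?_⟩
    obtain ⟨k, rfl⟩ := Subgroup.mem_zpowers_iff.mp hg
    rw [← zpow_natCast, ← zpow_mul, mul_comm, zpow_mul, zpow_natCast, ← hw, pow_orderOf_eq_one,
      one_zpow]
  have hcard : ((Subgroup.zpowers w : Set C).toFinset).card = p := by
    rw [Set.toFinset_card, ← Nat.card_eq_fintype_card]
    change Nat.card (Subgroup.zpowers w) = p
    rw [Nat.card_zpowers, hw]
  have heq := Finset.eq_of_subset_of_card_le hsub (by rw [hcard]; exact h1)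
  have hvm : v ∈ Finset.univ.filter (fun a : C => a ^ p = 1) := by
    rw [Finset.mem_filter]; exact ⟨Finset.mem_univ _, hv⟩
  rw [← heq, Set.mem_toFinset] at hvm
  exact hvm

theorem normalizer_le_centralizer_of_iso {G : Type*} [Group G] [Finite G] {p : ℕ} [Fact p.Prime]
    (x : G) (hiso : Cfsg.IsIsolated x) (hx1 : x ≠ 1) (P : Sylow p G) (hxP : x ∈ (P : Subgroup G))
    (hcyc : IsCyclic ↥(P : Subgroup G)) :
    Subgroup.normalizer ((P : Subgroup G) : Set G) ≤ Subgroup.centralizer ((P : Subgroup G) : Set G) := by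
  have hp : p.Prime := Fact.out
  have hcomm : IsMulCommutative ↥(P : Subgroup G) := IsCyclic.isMulCommutative
  have hPC : (P : Subgroup G) ≤ Subgroup.centralizer ((P : Subgroup G) : Set G) :=
    Subgroup.le_centralizer_iff_isMulCommutative.mpr hcomm
  -- an element of order `p` in `zpowers x`
  have hxp : p ∣ Nat.card (Subgroup.zpowers x) := by
    have hzp : IsPGroup p (Subgroup.zpowers x) := P.isPGroup'.to_le (Subgroup.zpowers_le.mpr hxP)
    obtain ⟨k, hk⟩ := IsPGroup.iff_card.mp hzp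
    rcases k with _ | k
    · exfalso
      rw [pow_zero, Nat.card_zpowers, orderOf_eq_one_iff] at hk
      exact hx1 hk
    · rw [hk]; exact dvd_pow_self p (Nat.succ_ne_zero k)
  obtain ⟨w, hw⟩ := exists_prime_orderOf_dvd_card' p hxp
  have hwo : orderOf (w : G) = p := by rw [Subgroup.orderOf_coe]; exact hw
  have hwP : (w : G) ∈ (P : Subgroup G) := (Subgroup.zpowers_le.mpr hxP) w.2
  intro n hn
  -- `n` centralizes `x`
  have hnx : n * x * n⁻¹ = x :=
    iso_conj_eq x hiso (P : Subgroup G) P.isPGroup' hxP n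
      ((Subgroup.mem_normalizer_iff.mp hn x).mp hxP)
  have hnx' : Commute n x := by
    have := hnx
    rw [mul_inv_eq_iff_eq_mul] at this
    exact this
  obtain ⟨a, m, hm, hnm⟩ := Nat.exists_eq_pow_mul_and_not_dvd (orderOf_pos n).ne' p hp.ne_one
  have hpa : p ^ a ≠ 0 := pow_ne_zero _ hp.ne_zero
  have hm0 : m ≠ 0 := by
    rintro rfl
    rw [mul_zero] at hnm
    exact (orderOf_pos n).ne' hnm
  -- the `p`-part
  have hd : n ^ m ∈ Subgroup.centralizer ((P : Subgroup G) : Set G) := by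
    apply hPC
    have hdo : orderOf (n ^ m) = p ^ a := by
      rw [orderOf_pow_of_dvd hm0 ⟨p ^ a, by rw [hnm, mul_comm]⟩, hnm,
        Nat.mul_div_cancel _ (Nat.pos_of_ne_zero hm0)]
    have hdp : IsPGroup p (Subgroup.zpowers (n ^ m)) :=
      IsPGroup.of_card (n := a) (by rw [Nat.card_zpowers, hdo])
    have hdn : Subgroup.zpowers (n ^ m) ≤ Subgroup.normalizer ((P : Subgroup G) : Set G) :=
      Subgroup.zpowers_le.mpr (Subgroup.pow_mem _ hn m)
    have hsup : IsPGroup p ↥((P : Subgroup G) ⊔ Subgroup.zpowers (n ^ m)) :=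
      P.isPGroup'.to_sup_of_normal_left' hdp hdn
    have heq := P.is_maximal' hsup le_sup_left
    have : n ^ m ∈ (P : Subgroup G) ⊔ Subgroup.zpowers (n ^ m) :=
      Subgroup.mem_sup_right (Subgroup.mem_zpowers _)
    rw [heq] at this
    exact this
  -- the `p'`-part
  have hc : n ^ p ^ a ∈ Subgroup.centralizer ((P : Subgroup G) : Set G) := by
    have hco : orderOf (n ^ p ^ a) = m := by
      rw [orderOf_pow_of_dvd hpa ⟨m, hnm⟩, hnm, Nat.mul_div_cancel_left m (Nat.pos_of_ne_zero hpa)]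
    have hcn : Subgroup.zpowers (n ^ p ^ a) ≤ Subgroup.normalizer ((P : Subgroup G) : Set G) :=
      Subgroup.zpowers_le.mpr (Subgroup.pow_mem _ hn _)
    have hcop : (Nat.card (Subgroup.zpowers (n ^ p ^ a))).Coprime (Nat.card (P : Subgroup G)) := by
      obtain ⟨k, hk⟩ := IsPGroup.iff_card.mp P.isPGroup'
      rw [hk, Nat.card_zpowers, hco]
      exact Nat.Coprime.pow_right k (Nat.Coprime.symm ((Nat.Prime.coprime_iff_not_dvd hp).mpr hm))
    have h := Cfsg.Agent.Lib.helper8.abelian_coprime_trivial_of_prime_order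
      (Subgroup.zpowers (n ^ p ^ a)) (P : Subgroup G) hcn hcop (by
        intro v hv hvprime c hc
        -- `v` has order `p`
        have hvo : orderOf v = p := by
          obtain ⟨k, hk⟩ := P.isPGroup' ⟨v, hv⟩
          have hk' : v ^ p ^ k = 1 := by simpa using congrArg Subtype.val hk
          have hdvd : orderOf v ∣ p ^ k := orderOf_dvd_of_pow_eq_one hk'
          exact ((Nat.prime_dvd_prime_iff_eq hvprime hp).mp
            (hvprime.dvd_of_dvd_pow hdvd))
        have hvz : (⟨v, hv⟩ : ↥(P : Subgroup G)) ∈ Subgroup.zpowers (⟨(w : G), hwP⟩ : ↥(P : Subgroup G)) := by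
          apply mem_zpowers_of_cyclic p hp.pos
          · rw [Subgroup.orderOf_mk]; exact hwo
          · apply Subtype.ext
            simp only [Subgroup.coe_pow, Subgroup.coe_one]
            rw [← hvo]; exact pow_orderOf_eq_one v
        obtain ⟨j, hj⟩ := Subgroup.mem_zpowers_iff.mp hvz
        have hj' : (w : G) ^ j = v := by simpa using congrArg Subtype.val hj
        obtain ⟨i, hi⟩ := Subgroup.mem_zpowers_iff.mp w.2
        obtain ⟨l, hl⟩ := Subgroup.mem_zpowers_iff.mp hc
        have h1 : Commute c x := by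
          rw [← hl]
          exact ((hnx'.pow_left _).zpow_left l)
        have h2 : Commute c v := by
          rw [← hj', ← hi]
          exact ((h1.zpow_right i).zpow_right j)
        exact h2.eq)
    exact h (Subgroup.mem_zpowers _)
  -- combine
  have hcop2 : IsCoprime ((p ^ a : ℕ) : ℤ) (m : ℤ) := by
    rw [Nat.isCoprime_iff_coprime]
    exact Nat.Coprime.pow_left a ((Nat.Prime.coprime_iff_not_dvd hp).mpr hm)
  obtain ⟨u, v, huv⟩ := hcop2
  have hn1 : n = (n ^ p ^ a) ^ u * (n ^ m) ^ v := by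
    rw [← zpow_natCast n (p ^ a), ← zpow_natCast n m, ← zpow_mul, ← zpow_mul, ← zpow_add,
      mul_comm _ u, mul_comm _ v, huv, zpow_one]
  rw [hn1]
  exact Subgroup.mul_mem _ (Subgroup.zpow_mem _ hc u) (Subgroup.zpow_mem _ hd v)

/-- Let G be a finite group, p a prime and x ∈ G an element of p-power order which is isolated in G. Then the image of x in any quotient G ⧸ N is isolated in G ⧸ N; and if x ≠ 1 and the Sylow p-subgroups of G are cyclic, then G has a normal p-complement. -/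
theorem result {G : Type*} [Group G] [Finite G] {p : ℕ} [Fact p.Prime] (x : G) (hx : ∃ k : ℕ, orderOf x = p ^ k) (hiso : Cfsg.IsIsolated x) : (∀ (N : Subgroup G) [N.Normal], Cfsg.IsIsolated (QuotientGroup.mk x : G ⧸ N)) ∧ (x ≠ 1 → (∀ P : Sylow p G, IsCyclic ↥(P : Subgroup G)) → Cfsg.HasNormalPComplement p G) := by
  refine ⟨?_, ?_⟩
  · intro N _ gbar hcomm
    obtain ⟨g, rfl⟩ := QuotientGroup.mk_surjective gbar
    have hLx : x ∈ (Subgroup.centralizer ({(QuotientGroup.mk x : G ⧸ N)} : Set (G ⧸ N))).comap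
        (QuotientGroup.mk' N) := by
      rw [Subgroup.mem_comap, Subgroup.mem_centralizer_singleton_iff]
      rfl
    have hLy : g * x * g⁻¹ ∈ (Subgroup.centralizer ({(QuotientGroup.mk x : G ⧸ N)} : Set (G ⧸ N))).comap
        (QuotientGroup.mk' N) := by
      rw [Subgroup.mem_comap, Subgroup.mem_centralizer_singleton_iff]
      exact hcomm.eq.symm
    have hy : ∃ k : ℕ, orderOf (g * x * g⁻¹) = p ^ k := by
      obtain ⟨k, hk⟩ := hx
      exact ⟨k, by rw [← hk]; exact (MulAut.conj g).orderOf_eq x⟩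
    obtain ⟨R, l, hR, -, hlL, hxR, hlR⟩ := exists_pgroup_conj (p := p) _ x (g * x * g⁻¹) hLx hLy hx hy
    have e : l * (g * x * g⁻¹) * l⁻¹ = (l * g) * x * (l * g)⁻¹ := by group
    rw [e] at hlR
    have h2 := iso_conj_eq x hiso R hR hxR (l * g) hlR
    rw [Subgroup.mem_comap, Subgroup.mem_centralizer_singleton_iff] at hlL
    have key : ∀ a b c : G ⧸ N, a * b * c * (a * b)⁻¹ = c → a * c = c * a → b * c * b⁻¹ = c := by
      intro a b c h3 hac
      calc b * c * b⁻¹ = a⁻¹ * (a * b * c * (a * b)⁻¹) * a := by group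
        _ = a⁻¹ * c * a := by rw [h3]
        _ = c := by rw [mul_assoc, ← hac, ← mul_assoc, inv_mul_cancel, one_mul]
    exact key (QuotientGroup.mk l) (QuotientGroup.mk g) (QuotientGroup.mk x) (by
      have := congrArg (QuotientGroup.mk (s := N)) h2
      simpa using this) hlL
  · intro hx1 hcyc
    have hzp : IsPGroup p (Subgroup.zpowers x) := by
      obtain ⟨k, hk⟩ := hx
      exact IsPGroup.of_card (n := k) (by rw [Nat.card_zpowers, hk])
    obtain ⟨P, hP⟩ := hzp.exists_le_sylow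
    have hxP : x ∈ (P : Subgroup G) := hP (Subgroup.mem_zpowers x)
    have hNC := normalizer_le_centralizer_of_iso x hiso hx1 P hxP (hcyc P)
    exact ⟨P, (MonoidHom.transferSylow P hNC).ker, MonoidHom.normal_ker _,
      MonoidHom.ker_transferSylow_isComplement' P hNC⟩


end Cfsg.Agent.S2970
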