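import Cfsg.Statements.S2975
import Mathlib
import Cfsg.Agent.Lib.lead.Frobenius
import Cfsg.Agent.Lib.helper9.PPrimeCore
import Cfsg.Agent.Lib.helper20.Ito
import Cfsg.Agent.Lib.helper20.Zipper

set_option autoImplicit false
open Cfsg

namespace Cfsg.Agent.S2975

open scoped Pointwise

/-- isolated elements are central in every `p`-subgroup containing them -/
theorem iso_central {G : Type*} [Group G] [Finite G] {p : ℕ} [Fact p.Prime] (x : G)
    (hiso : Cfsg.IsIsolated x) (P : Subgroup G) (hP : IsPGroup p P) (hxP : x ∈ P) :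
    ∀ s ∈ P, s * x * s⁻¹ = x := by
  have hCmem : ∀ g : G, g ∈ Subgroup.centralizer ({x} : Set G) ↔ x * g = g * x := by
    intro g; rw [Subgroup.mem_centralizer_iff]; simp
  have hCP : P ⊓ Subgroup.centralizer ({x} : Set G) = P := by
    by_contra hne
    have hlt : P ⊓ Subgroup.centralizer ({x} : Set G) < P := lt_of_le_of_ne inf_le_left hne
    have hgrow := Cfsg.Agent.Lib.lead.normalizer_grows P _ hP hlt
    obtain ⟨k, hk, hkC⟩ := SetLike.exists_of_lt hgrow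
    have hkP : k ∈ P := (Subgroup.mem_inf.1 hk).1
    have hkN := (Subgroup.mem_inf.1 hk).2
    have hxC : x ∈ P ⊓ Subgroup.centralizer ({x} : Set G) :=
      Subgroup.mem_inf.2 ⟨hxP, (hCmem x).2 rfl⟩
    have h1 : k * x * k⁻¹ ∈ P ⊓ Subgroup.centralizer ({x} : Set G) :=
      (Subgroup.mem_normalizer_iff.1 hkN x).1 hxC
    have h2 : Commute x (k * x * k⁻¹) := (hCmem _).1 (Subgroup.mem_inf.1 h1).2
    have h3 := hiso k h2
    apply hkC
    refine Subgroup.mem_inf.2 ⟨hkP, (hCmem k).2 ?_⟩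
    calc x * k = (k * x * k⁻¹) * k := by rw [h3]
      _ = k * x := by group
  intro s hs
  have : s ∈ P ⊓ Subgroup.centralizer ({x} : Set G) := by rw [hCP]; exact hs
  have h1 := (hCmem s).1 (Subgroup.mem_inf.1 this).2
  calc s * x * s⁻¹ = (x * s) * s⁻¹ := by rw [h1]
    _ = x := by group

/-- a `p`-element normalizing a `p'`-subgroup `M` normalizes one of its Sylow `q`-subgroups -/
theorem exists_inv_sylow {Γ : Type*} [Group Γ] [Finite Γ] {p q : ℕ} [Fact p.Prime] [Fact q.Prime]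
    (x : Γ) (hxp : x ^ p = 1) (M : Subgroup Γ) (hM : (Nat.card M).Coprime p)
    (h1 : ∀ m ∈ M, x * m * x⁻¹ ∈ M) (h2 : ∀ m ∈ M, x⁻¹ * m * x ∈ M) :
    ∃ P : Sylow q ↥M, (∀ m : ↥M, m ∈ (P : Subgroup ↥M) →
        (⟨x * m * x⁻¹, h1 m m.2⟩ : ↥M) ∈ (P : Subgroup ↥M)) ∧
      (∀ m : ↥M, m ∈ (P : Subgroup ↥M) →
        (⟨x⁻¹ * m * x, h2 m m.2⟩ : ↥M) ∈ (P : Subgroup ↥M)) := by
  classical
  have hp : p.Prime := Fact.out
  let φ : MulAut ↥M :=
    { toFun := fun m => ⟨x * m * x⁻¹, h1 m m.2⟩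
      invFun := fun m => ⟨x⁻¹ * m * x, h2 m m.2⟩
      left_inv := fun m => Subtype.ext (by simp [mul_assoc])
      right_inv := fun m => Subtype.ext (by simp [mul_assoc])
      map_mul' := fun a b => Subtype.ext (by simp [mul_assoc]) }
  have hφ : ∀ m : ↥M, ((φ m : ↥M) : Γ) = x * m * x⁻¹ := fun m => rfl
  have hpow : ∀ n : ℕ, ∀ m : ↥M, (((φ ^ n) m : ↥M) : Γ) = x ^ n * m * (x ^ n)⁻¹ := by
    intro n
    induction n with
    | zero => intro m; simp
    | succ n ih =>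
      intro m
      rw [pow_succ, MulAut.mul_apply, ih, hφ, pow_succ]
      group
  have hφp : φ ^ p = 1 := by
    ext m
    rw [hpow p m, hxp]
    simp
  haveI : Fintype (Sylow q ↥M) := Fintype.ofFinite _
  have hnd : ¬ p ∣ Fintype.card (Sylow q ↥M) := by
    obtain ⟨P₀⟩ := (inferInstance : Nonempty (Sylow q ↥M))
    intro hd
    have h3 : Nat.card (Sylow q ↥M) ∣ Nat.card ↥M :=
      (P₀.card_dvd_index).trans (Subgroup.index_dvd_card _)
    rw [← Nat.card_eq_fintype_card] at hd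
    have h4 : p ∣ Nat.card ↥M := hd.trans h3
    have := Nat.Coprime.eq_one_of_dvd hM.symm h4
    exact hp.one_lt.ne' this
  have hσ : (MulAction.toPermHom (MulAut ↥M) (Sylow q ↥M) φ) ^ p ^ 1 = 1 := by
    rw [pow_one, ← map_pow, hφp, map_one]
  obtain ⟨P, hP⟩ := Equiv.Perm.exists_fixed_point_of_prime hnd hσ
  have hP1 : φ • P = P := hP
  have hP2 : φ⁻¹ • P = P := by
    rw [inv_smul_eq_iff]; exact hP1.symm
  refine ⟨P, ?_, ?_⟩
  · intro m hm
    have h := Subgroup.smul_mem_pointwise_smul m φ (P : Subgroup ↥M) hm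
    rw [← Sylow.pointwise_smul_def, hP1] at h
    exact h
  · intro m hm
    have h := Subgroup.smul_mem_pointwise_smul m φ⁻¹ (P : Subgroup ↥M) hm
    rw [← Sylow.pointwise_smul_def, hP2] at h
    exact h

/-- the key step: a bigger invariant `q`-subgroup -/
theorem bigger_inv {Γ : Type*} [Group Γ] [Finite Γ] {p q : ℕ} [Fact p.Prime] [Fact q.Prime]
    (hpq : ¬ p = q) (x : Γ) (hxp : x ^ p = 1) (K : Subgroup Γ) [hKn : K.Normal]
    (hK : (Nat.card K).Coprime p) (hZ : ∀ h : Γ, h * x * h⁻¹ * x⁻¹ ∈ K)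
    (Q : Subgroup Γ) [hQn : Q.Normal] (hQ : IsPGroup q Q) (hQK : Q ≤ K)
    (s : Γ) (hsQ : s ∉ Q) (hs : ∃ a : ℕ, s ^ q ^ a = 1) :
    ∃ T : Subgroup Γ, IsPGroup q T ∧ (∀ t : Γ, t ∈ T ↔ x * t * x⁻¹ ∈ T) ∧ Q ≤ T ∧ T ≠ Q := by
  classical
  have hp : p.Prime := Fact.out
  have hq : q.Prime := Fact.out
  obtain ⟨M, hMdef⟩ : ∃ M : Subgroup Γ, M = Subgroup.zpowers s ⊔ K := ⟨_, rfl⟩
  have hKM : K ≤ M := by rw [hMdef]; exact le_sup_right
  have hsM : s ∈ M := by rw [hMdef]; exact Subgroup.mem_sup_left (Subgroup.mem_zpowers s)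
  have hMcop : (Nat.card M).Coprime p := by
    rw [hMdef]
    apply Cfsg.Agent.Lib.helper9.card_sup_coprime _ hK
    obtain ⟨a, ha⟩ := hs
    rw [Nat.card_zpowers]
    have : orderOf s ∣ q ^ a := orderOf_dvd_of_pow_eq_one ha
    exact Nat.Coprime.coprime_dvd_left this
      (Nat.Coprime.pow_left a ((Nat.coprime_primes hq hp).2 (Ne.symm hpq)))
  have h1 : ∀ m ∈ M, x * m * x⁻¹ ∈ M := by
    have hle : Subgroup.zpowers s ⊔ K ≤ M.comap (MulAut.conj x).toMonoidHom := by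
      refine sup_le (Subgroup.zpowers_le.2 ?_) ?_
      · show x * s * x⁻¹ ∈ M
        have e : x * s * x⁻¹ = (s * x * s⁻¹ * x⁻¹)⁻¹ * s := by group
        rw [e]
        exact M.mul_mem (hKM (K.inv_mem (hZ s))) hsM
      · intro k hk
        show x * k * x⁻¹ ∈ M
        exact hKM (hKn.conj_mem k hk x)
    intro m hm
    rw [hMdef] at hm
    exact hle hm
  have h2 : ∀ m ∈ M, x⁻¹ * m * x ∈ M := by
    have hle : Subgroup.zpowers s ⊔ K ≤ M.comap (MulAut.conj x⁻¹).toMonoidHom := by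
      refine sup_le (Subgroup.zpowers_le.2 ?_) ?_
      · show x⁻¹ * s * x⁻¹⁻¹ ∈ M
        have e : x⁻¹ * s * x⁻¹⁻¹ = (x⁻¹ * (s * x * s⁻¹ * x⁻¹) * x⁻¹⁻¹) * s := by group
        rw [e]
        exact M.mul_mem (hKM (hKn.conj_mem _ (hZ s) x⁻¹)) hsM
      · intro k hk
        show x⁻¹ * k * x⁻¹⁻¹ ∈ M
        exact hKM (hKn.conj_mem k hk x⁻¹)
    intro m hm
    rw [hMdef] at hm
    have := hle hm
    have e : x⁻¹ * m * x = x⁻¹ * m * x⁻¹⁻¹ := by rw [inv_inv]
    rw [e]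
    exact this
  obtain ⟨P, hP1, hP2⟩ := exists_inv_sylow (q := q) x hxp M hMcop h1 h2
  have hT1 : ∀ t ∈ (P : Subgroup ↥M).map M.subtype,
      x * t * x⁻¹ ∈ (P : Subgroup ↥M).map M.subtype := by
    rintro t ⟨m, hm, rfl⟩
    exact ⟨⟨x * m * x⁻¹, h1 m m.2⟩, hP1 m hm, rfl⟩
  have hT2 : ∀ t ∈ (P : Subgroup ↥M).map M.subtype,
      x⁻¹ * t * x ∈ (P : Subgroup ↥M).map M.subtype := by
    rintro t ⟨m, hm, rfl⟩
    exact ⟨⟨x⁻¹ * m * x, h2 m m.2⟩, hP2 m hm, rfl⟩
  have hQ'n : (Q.subgroupOf M).Normal := hQn.subgroupOf M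
  have hQ'P : Q.subgroupOf M ≤ (P : Subgroup ↥M) := by
    have hpg : IsPGroup q ↥(Q.subgroupOf M ⊔ (P : Subgroup ↥M)) :=
      IsPGroup.to_sup_of_normal_left hQ.comap_subtype P.isPGroup'
    have := P.is_maximal' hpg le_sup_right
    calc Q.subgroupOf M ≤ Q.subgroupOf M ⊔ (P : Subgroup ↥M) := le_sup_left
      _ = P := this
  refine ⟨(P : Subgroup ↥M).map M.subtype, P.isPGroup'.map _, ?_, ?_, ?_⟩
  · intro t
    constructor
    · exact hT1 t
    · intro ht
      have := hT2 _ ht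
      have e : x⁻¹ * (x * t * x⁻¹) * x = t := by group
      rwa [e] at this
  · intro g hg
    have hgM : g ∈ M := hKM (hQK hg)
    exact ⟨⟨g, hgM⟩, hQ'P (Subgroup.mem_subgroupOf.2 hg), rfl⟩
  · intro hTQ
    have hPQ : (P : Subgroup ↥M) = Q.subgroupOf M := by
      apply Subgroup.map_injective M.subtype_injective
      rw [hTQ, Subgroup.map_subgroupOf_eq_of_le (hQK.trans hKM)]
    haveI : (P : Subgroup ↥M).Normal := by rw [hPQ]; exact hQ'n
    have hsq : IsPGroup q ↥(Subgroup.zpowers (⟨s, hsM⟩ : ↥M)) := by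
      apply Cfsg.Agent.Lib.helper20.Ito.ispgroup_zpowers
      obtain ⟨a, ha⟩ := hs
      exact ⟨a, Subtype.ext (by simpa using ha)⟩
    have hpg : IsPGroup q ↥(Subgroup.zpowers (⟨s, hsM⟩ : ↥M) ⊔ (P : Subgroup ↥M)) :=
      IsPGroup.to_sup_of_normal_right hsq P.isPGroup'
    have hmax := P.is_maximal' hpg le_sup_right
    have hsP : (⟨s, hsM⟩ : ↥M) ∈ Subgroup.zpowers (⟨s, hsM⟩ : ↥M) ⊔ (P : Subgroup ↥M) :=
      Subgroup.mem_sup_left (Subgroup.mem_zpowers _)
    rw [hmax, hPQ] at hsP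
    exact hsQ (Subgroup.mem_subgroupOf.1 hsP)

/-- Let G be a finite group, p a prime and x ∈ G an isolated element of order p (the only conjugate of x commuting with x is x) which is not central modulo the largest normal subgroup of order prime to p, while x is central modulo the largest normal subgroup of order prime to p in every proper subgroup containing x, and the image of x is so in every quotient of G by a nontrivial normal subgroup (a minimal counterexample to the Z*_p statement). Then for every prime q, every q-subgroup of G that is normalized by x and maximal among the q-subgroups normalized by x is either trivial or a Sylow q-subgroup of G; and C_G(x) permutes the x-invariant Sylow q-subgroups of G transitively by conjugation. -/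
theorem result {G : Type*} [Group G] [Finite G] {p : ℕ} [Fact p.Prime] (x : G) (hx : orderOf x = p) (hiso : Cfsg.IsIsolated x) (hnz : ¬ Cfsg.InZStar p x) (hmin : ∀ (H : Subgroup G) (hxH : x ∈ H), H ≠ ⊤ → Cfsg.InZStar p (⟨x, hxH⟩ : ↥H)) (hquot : ∀ (N : Subgroup G) [N.Normal], N ≠ ⊥ → Cfsg.InZStar p (QuotientGroup.mk x : G ⧸ N)) (q : ℕ) [Fact q.Prime] : (∀ Q : Subgroup G, IsPGroup q ↥Q → x ∈ Subgroup.normalizer (Q : Set G) → (∀ R : Subgroup G, IsPGroup q ↥R → x ∈ Subgroup.normalizer (R : Set G) → Q ≤ R → R = Q) → Q = ⊥ ∨ ∃ S : Sylow q G, (S : Subgroup G) = Q) ∧ (∀ S₁ S₂ : Sylow q G, x ∈ Subgroup.normalizer ((S₁ : Subgroup G) : Set G) → x ∈ Subgroup.normalizer ((S₂ : Subgroup G) : Set G) → ∃ c ∈ Subgroup.centralizer ({x} : Set G), (S₁ : Subgroup G).map (MulAut.conj c).toMonoidHom = (S₂ : Subgroup G)) := by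
  classical
  have hp : p.Prime := Fact.out
  have hq : q.Prime := Fact.out
  have hxp : x ^ p = 1 := by rw [← hx]; exact pow_orderOf_eq_one x
  refine ⟨?_, ?_⟩
  · intro Q hQ hxN hmax
    by_cases hQ1 : Q = ⊥
    · exact Or.inl hQ1
    right
    obtain ⟨S, hQS⟩ := hQ.exists_le_sylow
    by_contra hno
    have hQneS : Q ≠ (S : Subgroup G) := fun h => hno ⟨S, h.symm⟩
    by_cases hpq : p = q
    · subst hpq
      have hR : IsPGroup p ↥(Q ⊔ Subgroup.zpowers x) :=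
        IsPGroup.to_sup_of_normal_left' hQ
          (Cfsg.Agent.Lib.helper20.Ito.ispgroup_zpowers ⟨1, by rw [pow_one]; exact hxp⟩)
          (Subgroup.zpowers_le.2 hxN)
      have hxR : x ∈ Q ⊔ Subgroup.zpowers x := Subgroup.mem_sup_right (Subgroup.mem_zpowers x)
      have hRQ := hmax _ hR (Subgroup.le_normalizer hxR) le_sup_left
      have hxQ : x ∈ Q := by rw [← hRQ]; exact hxR
      have := hmax (S : Subgroup G) S.isPGroup' (Subgroup.le_normalizer (hQS hxQ)) hQS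
      exact hQneS this.symm
    · have hlt : Q < (S : Subgroup G) := lt_of_le_of_ne hQS hQneS
      have hgrow := Cfsg.Agent.Lib.lead.normalizer_grows (S : Subgroup G) Q S.isPGroup' hlt
      obtain ⟨s, hs, hsQ⟩ := SetLike.exists_of_lt hgrow
      have hsS : s ∈ (S : Subgroup G) := (Subgroup.mem_inf.1 hs).1
      have hsN : s ∈ Subgroup.normalizer (Q : Set G) := (Subgroup.mem_inf.1 hs).2
      obtain ⟨a, ha⟩ := S.isPGroup' ⟨s, hsS⟩
      have ha' : s ^ q ^ a = 1 := by simpa using congrArg Subtype.val ha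
      obtain ⟨H, hHdef⟩ : ∃ H : Subgroup G, H = Subgroup.normalizer (Q : Set G) := ⟨_, rfl⟩
      have hxH : x ∈ H := by rw [hHdef]; exact hxN
      have hsH : s ∈ H := by rw [hHdef]; exact hsN
      have hQH : Q ≤ H := by rw [hHdef]; exact Subgroup.le_normalizer
      have hcopqp : Nat.Coprime q p := (Nat.coprime_primes hq hp).2 (Ne.symm hpq)
      have hQcop : (Nat.card Q).Coprime p := by
        obtain ⟨n, hn⟩ := IsPGroup.iff_card.1 hQ
        rw [hn]
        exact Nat.Coprime.pow_left n hcopqp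
      have hHtop : H ≠ ⊤ := by
        intro htop
        haveI hQn : Q.Normal := by
          rw [← Subgroup.normalizer_eq_top_iff, ← hHdef]; exact htop
        have hz := hquot Q hQ1
        apply hnz
        have hTn : (Cfsg.pPrimeCore p (G ⧸ Q)).Normal := Cfsg.Agent.Lib.helper9.ppc_normal p (G ⧸ Q)
        have hTc : (Nat.card (Cfsg.pPrimeCore p (G ⧸ Q))).Coprime p :=
          Cfsg.Agent.Lib.helper9.pPrimeCore_coprime p (G ⧸ Q)
        have hMn : ((Cfsg.pPrimeCore p (G ⧸ Q)).comap (QuotientGroup.mk' Q)).Normal := hTn.comap _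
        have hMc : (Nat.card ((Cfsg.pPrimeCore p (G ⧸ Q)).comap (QuotientGroup.mk' Q))).Coprime p := by
          rw [Cfsg.Agent.Lib.helper9.card_comap_of_surjective' (QuotientGroup.mk' Q)
            (QuotientGroup.mk'_surjective Q) (Cfsg.pPrimeCore p (G ⧸ Q)), QuotientGroup.ker_mk']
          exact Nat.coprime_mul_iff_left.2 ⟨hQcop, hTc⟩
        have hle := Cfsg.Agent.Lib.helper9.le_pPrimeCore hMn hMc
        intro g
        apply hle
        rw [Subgroup.mem_comap]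
        have := hz (QuotientGroup.mk g)
        simpa using this
      have hzH := hmin H hxH hHtop
      haveI hKn : (Cfsg.pPrimeCore p ↥H).Normal := Cfsg.Agent.Lib.helper9.ppc_normal p ↥H
      have hKc : (Nat.card (Cfsg.pPrimeCore p ↥H)).Coprime p :=
        Cfsg.Agent.Lib.helper9.pPrimeCore_coprime p ↥H
      haveI hQ'n : (Q.subgroupOf H).Normal := by
        rw [hHdef]; exact Subgroup.normal_in_normalizer
      have hQ'p : IsPGroup q ↥(Q.subgroupOf H) := hQ.comap_subtype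
      have hQ'c : (Nat.card ↥(Q.subgroupOf H)).Coprime p := by
        obtain ⟨n, hn⟩ := IsPGroup.iff_card.1 hQ'p
        rw [hn]
        exact Nat.Coprime.pow_left n hcopqp
      have hQ'K : Q.subgroupOf H ≤ Cfsg.pPrimeCore p ↥H :=
        Cfsg.Agent.Lib.helper9.le_pPrimeCore hQ'n hQ'c
      have hxHp : (⟨x, hxH⟩ : ↥H) ^ p = 1 := Subtype.ext (by simpa using hxp)
      have hs' : ∃ a : ℕ, (⟨s, hsH⟩ : ↥H) ^ q ^ a = 1 := ⟨a, Subtype.ext (by simpa using ha')⟩
      have hsQ' : (⟨s, hsH⟩ : ↥H) ∉ Q.subgroupOf H := fun h => hsQ (Subgroup.mem_subgroupOf.1 h)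
      obtain ⟨T, hTp, hTinv, hQT, hTQ⟩ := bigger_inv hpq (⟨x, hxH⟩ : ↥H) hxHp
        (Cfsg.pPrimeCore p ↥H) hKc (fun h => hzH h)
        (Q.subgroupOf H) hQ'p hQ'K (⟨s, hsH⟩ : ↥H) hsQ' hs'
      have hT'p : IsPGroup q ↥(T.map H.subtype) := hTp.map _
      have hT'N : x ∈ Subgroup.normalizer ((T.map H.subtype : Subgroup G) : Set G) := by
        rw [Subgroup.mem_normalizer_iff]
        intro g
        constructor
        · rintro ⟨t, ht, rfl⟩
          exact ⟨⟨x, hxH⟩ * t * ⟨x, hxH⟩⁻¹, (hTinv t).1 ht, rfl⟩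
        · rintro ⟨t, ht, hte⟩
          have hte' : (t : G) = x * g * x⁻¹ := hte
          have hg : g = ((⟨x, hxH⟩⁻¹ * t * ⟨x, hxH⟩ : ↥H) : G) := by
            simp only [Subgroup.coe_mul, Subgroup.coe_inv]
            rw [hte']; group
          rw [hg]
          refine ⟨⟨x, hxH⟩⁻¹ * t * ⟨x, hxH⟩, (hTinv _).2 ?_, rfl⟩
          have e : (⟨x, hxH⟩ : ↥H) * (⟨x, hxH⟩⁻¹ * t * ⟨x, hxH⟩) * (⟨x, hxH⟩ : ↥H)⁻¹ = t := by
            group
          rw [e]; exact ht
      have hQT' : Q ≤ T.map H.subtype := by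
        intro g hg
        exact ⟨⟨g, hQH hg⟩, hQT (Subgroup.mem_subgroupOf.2 hg), rfl⟩
      have hfin := hmax (T.map H.subtype) hT'p hT'N hQT'
      apply hTQ
      apply Subgroup.map_injective H.subtype_injective
      rw [hfin, Subgroup.map_subgroupOf_eq_of_le hQH]
  · intro S₁ S₂ hx1 hx2
    obtain ⟨g, hg⟩ := MulAction.exists_smul_eq G S₁ S₂
    have hmem : ∀ y : G, y ∈ (S₂ : Subgroup G) ↔ g⁻¹ * y * g ∈ (S₁ : Subgroup G) := by
      intro y
      have : (S₂ : Subgroup G) = MulAut.conj g • (S₁ : Subgroup G) := by rw [← hg]; rfl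
      rw [this]
      exact Cfsg.Agent.Lib.helper20.mem_conj_smul_iff
    obtain ⟨N₁, hN₁⟩ : ∃ N₁ : Subgroup G,
      N₁ = Subgroup.normalizer ((S₁ : Subgroup G) : Set G) := ⟨_, rfl⟩
    have hxN₁ : x ∈ N₁ := by rw [hN₁]; exact hx1
    have hx'N₁ : g⁻¹ * x * g ∈ N₁ := by
      rw [hN₁, Subgroup.mem_normalizer_iff]
      intro s
      have h1 := (Subgroup.mem_normalizer_iff.1 hx2) (g * s * g⁻¹)
      have h2 := hmem (g * s * g⁻¹)
      have h3 := hmem (x * (g * s * g⁻¹) * x⁻¹)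
      have e1 : g⁻¹ * (g * s * g⁻¹) * g = s := by group
      have e2 : g⁻¹ * (x * (g * s * g⁻¹) * x⁻¹) * g = g⁻¹ * x * g * s * (g⁻¹ * x * g)⁻¹ := by
        group
      rw [e1] at h2
      rw [e2] at h3
      exact h2.symm.trans (h1.trans h3)
    have hZa : IsPGroup p ↥(Subgroup.zpowers (⟨x, hxN₁⟩ : ↥N₁)) :=
      Cfsg.Agent.Lib.helper20.Ito.ispgroup_zpowers
        ⟨1, by rw [pow_one]; exact Subtype.ext (by simpa using hxp)⟩
    have hx'p : (g⁻¹ * x * g) ^ p = 1 := by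
      have e : g⁻¹ * x * g = g⁻¹ * x * g⁻¹⁻¹ := by rw [inv_inv]
      rw [e, conj_pow, hxp]; group
    have hZb : IsPGroup p ↥(Subgroup.zpowers (⟨g⁻¹ * x * g, hx'N₁⟩ : ↥N₁)) :=
      Cfsg.Agent.Lib.helper20.Ito.ispgroup_zpowers
        ⟨1, by rw [pow_one]; exact Subtype.ext (by simpa using hx'p)⟩
    obtain ⟨P₁, hP₁⟩ := hZa.exists_le_sylow
    obtain ⟨P₂, hP₂⟩ := hZb.exists_le_sylow
    obtain ⟨n, hn⟩ := MulAction.exists_smul_eq ↥N₁ P₂ P₁
    have hb : (⟨g⁻¹ * x * g, hx'N₁⟩ : ↥N₁) ∈ (P₂ : Subgroup ↥N₁) := hP₂ (Subgroup.mem_zpowers _)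
    have ha : (⟨x, hxN₁⟩ : ↥N₁) ∈ (P₁ : Subgroup ↥N₁) := hP₁ (Subgroup.mem_zpowers _)
    have hnb : n * ⟨g⁻¹ * x * g, hx'N₁⟩ * n⁻¹ ∈ (P₁ : Subgroup ↥N₁) := by
      have h := Subgroup.smul_mem_pointwise_smul _ (MulAut.conj n) (P₂ : Subgroup ↥N₁) hb
      have e : MulAut.conj n • (P₂ : Subgroup ↥N₁) = (P₁ : Subgroup ↥N₁) := by rw [← hn]; rfl
      rw [e] at h
      simpa [MulAut.smul_def] using h
    have hPg : IsPGroup p ↥((P₁ : Subgroup ↥N₁).map N₁.subtype) := P₁.isPGroup'.map _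
    have hxPg : x ∈ (P₁ : Subgroup ↥N₁).map N₁.subtype := ⟨⟨x, hxN₁⟩, ha, rfl⟩
    have hwPg : (n : G) * (g⁻¹ * x * g) * (n : G)⁻¹ ∈ (P₁ : Subgroup ↥N₁).map N₁.subtype :=
      ⟨_, hnb, rfl⟩
    have hc1 := iso_central x hiso _ hPg hxPg _ hwPg
    have hcomm : Commute x (((n : G) * g⁻¹) * x * ((n : G) * g⁻¹)⁻¹) := by
      have e : ((n : G) * g⁻¹) * x * ((n : G) * g⁻¹)⁻¹ = (n : G) * (g⁻¹ * x * g) * (n : G)⁻¹ := by
        group
      rw [e]
      show x * _ = _ * x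
      calc x * ((n : G) * (g⁻¹ * x * g) * (n : G)⁻¹)
          = ((n : G) * (g⁻¹ * x * g) * (n : G)⁻¹ * x * ((n : G) * (g⁻¹ * x * g) * (n : G)⁻¹)⁻¹) *
              ((n : G) * (g⁻¹ * x * g) * (n : G)⁻¹) := by rw [hc1]
        _ = (n : G) * (g⁻¹ * x * g) * (n : G)⁻¹ * x := by group
    have key := hiso _ hcomm
    have hnN : (n : G) ∈ Subgroup.normalizer ((S₁ : Subgroup G) : Set G) := by
      rw [← hN₁]; exact n.2
    refine ⟨g * (n : G)⁻¹, ?_, ?_⟩
    · rw [Subgroup.mem_centralizer_iff]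
      intro h hh
      rw [Set.mem_singleton_iff] at hh
      subst hh
      calc h * (g * (n : G)⁻¹)
          = (g * (n : G)⁻¹) * (((n : G) * g⁻¹) * h * ((n : G) * g⁻¹)⁻¹) := by group
        _ = (g * (n : G)⁻¹) * h := by rw [key]
    · ext y
      constructor
      · rintro ⟨s, hs, rfl⟩
        show g * (n : G)⁻¹ * s * (g * (n : G)⁻¹)⁻¹ ∈ (S₂ : Subgroup G)
        rw [hmem]
        have e : g⁻¹ * (g * (n : G)⁻¹ * s * (g * (n : G)⁻¹)⁻¹) * g = (n : G)⁻¹ * s * (n : G)⁻¹⁻¹ := by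
          group
        rw [e]
        exact (Subgroup.mem_normalizer_iff.1 (Subgroup.inv_mem _ hnN) s).1 hs
      · intro hy
        have h1 := (hmem y).1 hy
        have h2 := (Subgroup.mem_normalizer_iff.1 hnN (g⁻¹ * y * g)).1 h1
        refine ⟨(n : G) * (g⁻¹ * y * g) * (n : G)⁻¹, h2, ?_⟩
        show g * (n : G)⁻¹ * ((n : G) * (g⁻¹ * y * g) * (n : G)⁻¹) * (g * (n : G)⁻¹)⁻¹ = y
        group

end Cfsg.Agent.S2975
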