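import Cfsg.Statements.S3011
-- import your own Cfsg.Agent.* helpers here
import Cfsg.Agent.S0199
import Cfsg.Agent.S4355

set_option autoImplicit false
open Cfsg

namespace Cfsg.Agent.S3011

section
variable {G : Type*} [Group G]

theorem odd_sq_one {y : G} (ho : Odd (orderOf y)) (h2 : y * y = 1) : y = 1 := by
  have h1 : orderOf y ∣ 2 := orderOf_dvd_of_pow_eq_one (by rw [pow_two]; exact h2)
  rcases (Nat.dvd_prime Nat.prime_two).mp h1 with h | h
  · exact orderOf_eq_one_iff.mp h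
  · rw [h] at ho; exact absurd ho (by decide)

theorem inv_comm_one {v y : G} (ho : Odd (orderOf y)) (hinv : v * y * v⁻¹ = y⁻¹)
    (hc : v * y = y * v) : y = 1 := by
  apply odd_sq_one ho
  have h1 : v * y * v⁻¹ = y := by rw [hc]; group
  rw [h1] at hinv
  calc y * y = y * y⁻¹ := by rw [← hinv]
    _ = 1 := by group

theorem commute_of_sq {k h : G} (ho : Odd (orderOf k)) (hc : (k * k) * h = h * (k * k)) :
    k * h = h * k := by
  obtain ⟨j, hj⟩ := ho
  have e : k = (k * k) ^ (j + 1) := by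
    have h1 : (k * k) ^ (j + 1) = k ^ (orderOf k) * k := by
      rw [hj, ← pow_two, ← pow_mul, ← pow_succ]; congr 1
    rw [h1, pow_orderOf_eq_one, one_mul]
  have hcomm : Commute ((k * k) ^ (j + 1)) h := (show Commute (k * k) h from hc).pow_left _
  rw [← e] at hcomm
  exact hcomm

theorem odd_sq {k : G} (ho : Odd (orderOf k)) : Odd (orderOf (k * k)) := by
  apply ho.of_dvd_nat
  apply orderOf_dvd_of_pow_eq_one
  rw [← pow_two, ← pow_mul, mul_comm, pow_mul, pow_orderOf_eq_one, one_pow]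

theorem odd_invert {t y : G} (ht : Odd (orderOf t)) (hy : Odd (orderOf y))
    (hinv : t * y * t⁻¹ = y⁻¹) : y = 1 := by
  have h2 : (t * t) * y = y * (t * t) := by
    have e : (t * t) * y * (t * t)⁻¹ = y := by
      calc (t * t) * y * (t * t)⁻¹ = t * (t * y * t⁻¹) * t⁻¹ := by group
        _ = t * y⁻¹ * t⁻¹ := by rw [hinv]
        _ = (t * y * t⁻¹)⁻¹ := by group
        _ = y := by rw [hinv, inv_inv]
    calc (t * t) * y = ((t * t) * y * (t * t)⁻¹) * (t * t) := by group
      _ = y * (t * t) := by rw [e]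
  exact inv_comm_one hy hinv (commute_of_sq ht h2)

theorem conj_of_comm {x y : G} (h : x * y = y * x) : x * y * x⁻¹ = y := by
  rw [h]; group

/-- the configuration that cannot occur -/
theorem core (V : Subgroup G) (hS : Cfsg.IsSidkiPair V) (a b : G) (ha : a ∈ V) (hb : b ∈ V)
    (hV3 : ∀ w ∈ V, w ≠ 1 → w = a ∨ w = b ∨ w = a * b)
    (h k : G) (hh1 : h ≠ 1) (hk1 : k ≠ 1) (hho : Odd (orderOf h)) (hko : Odd (orderOf k))
    (hah : a * h * a⁻¹ = h⁻¹) (hbh : b * h = h * b) (hbk : b * k * b⁻¹ = k⁻¹)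
    (hak : a * k = k * a) : False := by
  have hbh' : b * h * b⁻¹ = h := conj_of_comm hbh
  have hak' : a * k * a⁻¹ = k := conj_of_comm hak
  -- Step A: k and h commute
  have hkh : k * h = h * k := by
    have hy'o : Odd (orderOf (k * h * k⁻¹)) := by
      have : orderOf (k * h * k⁻¹) = orderOf h := (MulAut.conj k).orderOf_eq h
      rw [this]; exact hho
    have hay' : a * (k * h * k⁻¹) * a⁻¹ = (k * h * k⁻¹)⁻¹ := by
      calc a * (k * h * k⁻¹) * a⁻¹ = (a * k) * h * (a * k)⁻¹ := by group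
        _ = (k * a) * h * (k * a)⁻¹ := by rw [hak]
        _ = k * (a * h * a⁻¹) * k⁻¹ := by group
        _ = k * h⁻¹ * k⁻¹ := by rw [hah]
        _ = (k * h * k⁻¹)⁻¹ := by group
    have hby' : b * (k * h * k⁻¹) * b⁻¹ = k⁻¹ * h * k := by
      calc b * (k * h * k⁻¹) * b⁻¹ = (b * k * b⁻¹) * (b * h * b⁻¹) * (b * k * b⁻¹)⁻¹ := by group
        _ = k⁻¹ * h * k⁻¹⁻¹ := by rw [hbk, hbh']
        _ = k⁻¹ * h * k := by rw [inv_inv]
    obtain ⟨w, hw, hw1, hwc⟩ := hS _ a ha hy'o hay'
    rcases hV3 w hw hw1 with rfl | rfl | rfl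
    · exfalso
      have h1 := inv_comm_one hy'o hay' hwc
      apply hh1
      calc h = k⁻¹ * (k * h * k⁻¹) * k := by group
        _ = 1 := by rw [h1]; group
    · have e2 : k⁻¹ * h * k = k * h * k⁻¹ := by rw [← hby']; exact conj_of_comm hwc
      apply commute_of_sq hko
      calc (k * k) * h = k * (k * h * k⁻¹) * k := by group
        _ = k * (k⁻¹ * h * k) * k := by rw [← e2]
        _ = h * (k * k) := by group
    · exfalso
      have e3 : (a * b) * (k * h * k⁻¹) * (a * b)⁻¹ = k⁻¹ * h⁻¹ * k := by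
        calc (a * b) * (k * h * k⁻¹) * (a * b)⁻¹ = a * (b * (k * h * k⁻¹) * b⁻¹) * a⁻¹ := by group
          _ = a * (k⁻¹ * h * k) * a⁻¹ := by rw [hby']
          _ = (a * k * a⁻¹)⁻¹ * (a * h * a⁻¹) * (a * k * a⁻¹) := by group
          _ = k⁻¹ * h⁻¹ * k := by rw [hak', hah]
      have e4 : k⁻¹ * h⁻¹ * k = k * h * k⁻¹ := by rw [← e3]; exact conj_of_comm hwc
      have e5 : (k * k) * h * (k * k)⁻¹ = h⁻¹ := by
        calc (k * k) * h * (k * k)⁻¹ = k * (k * h * k⁻¹) * k⁻¹ := by group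
          _ = k * (k⁻¹ * h⁻¹ * k) * k⁻¹ := by rw [← e4]
          _ = h⁻¹ := by group
      exact hh1 (odd_invert (odd_sq hko) hho e5)
  -- Step B
  have hyo : Odd (orderOf (h * k)) := by
    have hc : Commute h k := hkh.symm
    exact (hho.mul hko).of_dvd_nat (dvd_trans hc.orderOf_mul_dvd_lcm (Nat.lcm_dvd_mul _ _))
  have hbk' : b * (h * k) * b⁻¹ = h * k⁻¹ := by
    calc b * (h * k) * b⁻¹ = (b * h * b⁻¹) * (b * k * b⁻¹) := by group
      _ = h * k⁻¹ := by rw [hbh', hbk]
  have hak'' : a * (h * k) * a⁻¹ = h⁻¹ * k := by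
    calc a * (h * k) * a⁻¹ = (a * h * a⁻¹) * (a * k * a⁻¹) := by group
      _ = h⁻¹ * k := by rw [hah, hak']
  have hcy : (a * b) * (h * k) * (a * b)⁻¹ = (h * k)⁻¹ := by
    calc (a * b) * (h * k) * (a * b)⁻¹ = a * (b * (h * k) * b⁻¹) * a⁻¹ := by group
      _ = a * (h * k⁻¹) * a⁻¹ := by rw [hbk']
      _ = (a * h * a⁻¹) * (a * k * a⁻¹)⁻¹ := by group
      _ = h⁻¹ * k⁻¹ := by rw [hah, hak']
      _ = (k * h)⁻¹ := by group
      _ = (h * k)⁻¹ := by rw [hkh]
  obtain ⟨w, hw, hw1, hwc⟩ := hS _ (a * b) (mul_mem ha hb) hyo hcy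
  rcases hV3 w hw hw1 with rfl | rfl | rfl
  · have e : h⁻¹ * k = h * k := by rw [← hak'']; exact conj_of_comm hwc
    apply hh1
    apply odd_sq_one hho
    calc h * h = h * (h * k) * k⁻¹ := by group
      _ = h * (h⁻¹ * k) * k⁻¹ := by rw [e]
      _ = 1 := by group
  · have e : h * k⁻¹ = h * k := by rw [← hbk']; exact conj_of_comm hwc
    apply hk1
    apply odd_sq_one hko
    calc k * k = k * (h⁻¹ * (h * k)) := by group
      _ = k * (h⁻¹ * (h * k⁻¹)) := by rw [e]
      _ = 1 := by group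
  · have h1 := inv_comm_one hyo hcy hwc
    have hkeq : k = h⁻¹ := by
      calc k = h⁻¹ * (h * k) := by group
        _ = h⁻¹ := by rw [h1, mul_one]
    rw [hkeq] at hak
    have hah2 : a * h = h * a := by
      calc a * h = h * (a * h⁻¹) * h := by rw [hak]; group
        _ = h * a := by group
    exact hh1 (inv_comm_one hho hah hah2)

variable [Finite G]

/-- an element of order dividing 2 outside `O_2(G)` inverts a nontrivial element of odd order
(a form of the Baer–Suzuki theorem) -/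
theorem exists_inverted (v : G) (hv2 : v ^ 2 = 1) (hv : v ∉ Cfsg.pCore 2 G) :
    ∃ h : G, h ≠ 1 ∧ Odd (orderOf h) ∧ v * h * v⁻¹ = h⁻¹ := by
  have : Fact (Nat.Prime 2) := ⟨Nat.prime_two⟩
  have hvv : v * v = 1 := by rw [← pow_two]; exact hv2
  have hvinv : v⁻¹ = v := by
    rw [inv_eq_iff_mul_eq_one]; exact hvv
  have hX : IsPGroup 2 (Subgroup.zpowers v) := by
    have h1 : orderOf v ∣ 2 := orderOf_dvd_of_pow_eq_one hv2
    rcases (Nat.dvd_prime Nat.prime_two).mp h1 with h | h
    · exact IsPGroup.of_card (n := 0) (by rw [Nat.card_zpowers, h]; rfl)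
    · exact IsPGroup.of_card (n := 1) (by rw [Nat.card_zpowers, h]; rfl)
  by_contra hcon
  push Not at hcon
  have key : ∀ g : G, IsPGroup 2
      ↥(Subgroup.zpowers v ⊔ (Subgroup.zpowers v).map (MulAut.conj g).toMonoidHom) := by
    intro g
    obtain ⟨u, hu⟩ : ∃ u : G, u = g * v * g⁻¹ := ⟨_, rfl⟩
    have hu2 : u * u = 1 := by
      rw [hu]
      calc g * v * g⁻¹ * (g * v * g⁻¹) = g * (v * v) * g⁻¹ := by group
        _ = 1 := by rw [hvv]; group
    have h1 : v * (v * u) * v⁻¹ = (v * u)⁻¹ := by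
      have e : (v * u)⁻¹ = u * v := by
        rw [inv_eq_iff_mul_eq_one]
        calc v * u * (u * v) = v * (u * u) * v := by group
          _ = 1 := by rw [hu2, mul_one, hvv]
      rw [e, hvinv]
      calc v * (v * u) * v = (v * v) * u * v := by group
        _ = u * v := by rw [hvv, one_mul]
    have hpow : ∃ e : ℕ, orderOf (v * u) = 2 ^ e := by
      obtain ⟨e, m, hm, hn⟩ := Nat.exists_eq_two_pow_mul_odd (orderOf_pos (v * u)).ne'
      have hdvd : 2 ^ e ∣ orderOf (v * u) := ⟨m, hn⟩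
      have hord : orderOf ((v * u) ^ (2 ^ e)) = m := by
        rw [orderOf_pow_of_dvd (by positivity) hdvd, hn]
        exact Nat.mul_div_cancel_left m (by positivity)
      have hinv : v * (v * u) ^ (2 ^ e) * v⁻¹ = ((v * u) ^ (2 ^ e))⁻¹ := by
        rw [← inv_pow, ← h1, conj_pow]
      by_cases h1' : (v * u) ^ (2 ^ e) = 1
      · have hm1 : m = 1 := by rw [← hord, h1', orderOf_one]
        exact ⟨e, by rw [hn, hm1, mul_one]⟩
      · exact absurd hinv (hcon _ h1' (by rw [hord]; exact hm))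
    obtain ⟨e, he⟩ := hpow
    have hH : IsPGroup 2 (Subgroup.zpowers (v * u)) :=
      IsPGroup.of_card (n := e) (by rw [Nat.card_zpowers, he])
    have hnorm : Subgroup.zpowers v ≤
        Subgroup.normalizer ((Subgroup.zpowers (v * u) : Subgroup G) : Set G) := by
      rw [Subgroup.zpowers_le]
      apply Cfsg.Agent.S4355.conj_normalizer
      intro x hx
      obtain ⟨i, rfl⟩ := Subgroup.mem_zpowers_iff.mp hx
      have : v * (v * u) ^ i * v⁻¹ = ((v * u)⁻¹) ^ i := by
        rw [← h1]; simp [conj_zpow]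
      rw [this]
      exact zpow_mem (inv_mem (Subgroup.mem_zpowers _)) _
    refine (hH.to_sup_of_normal_left' hX hnorm).to_le ?_
    apply sup_le le_sup_right
    rintro _ ⟨x, hx, rfl⟩
    obtain ⟨i, rfl⟩ := Subgroup.mem_zpowers_iff.mp hx
    have e1 : (MulAut.conj g).toMonoidHom (v ^ i) = u ^ i := by
      rw [hu]; simp [conj_zpow]
    rw [e1]
    apply zpow_mem
    have hmem : v⁻¹ * (v * u) ∈ Subgroup.zpowers (v * u) ⊔ Subgroup.zpowers v :=
      mul_mem (inv_mem ((le_sup_right : Subgroup.zpowers v ≤ _) (Subgroup.mem_zpowers v)))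
        ((le_sup_left : Subgroup.zpowers (v * u) ≤ _) (Subgroup.mem_zpowers _))
    have e2 : v⁻¹ * (v * u) = u := by group
    rw [e2] at hmem
    exact hmem
  obtain ⟨N, hNn, hNp, hXN⟩ := Cfsg.Agent.S0199.result (Subgroup.zpowers v) hX key
  apply hv
  have hle : N ≤ Cfsg.pCore 2 G := le_sSup ⟨hNn, hNp⟩
  exact hle (hXN (Subgroup.mem_zpowers v))

end

/-- Let G be a finite group and V a nontrivial elementary abelian 2-subgroup of G of order at most 4 such that, whenever an element of V inverts an element h of G of odd order, some nontrivial element of V commutes with h. Then V meets O₂(G) nontrivially. (The case of order at most 4 has a short argument from the Baer–Suzuki theorem.) -/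
theorem result {G : Type*} [Group G] [Finite G] (V : Subgroup G) (hV : Cfsg.IsElementaryAbelian 2 V) (hV1 : V ≠ ⊥) (hS : Cfsg.IsSidkiPair V) (h4 : Nat.card V ≤ 4) : V ⊓ Cfsg.pCore 2 G ≠ ⊥ := by
  intro hbot
  obtain ⟨hcomm, hexp⟩ := hV
  have hnot : ∀ v ∈ V, v ≠ 1 → v ∉ Cfsg.pCore 2 G := by
    intro v hv hv1 hvc
    have : v ∈ V ⊓ Cfsg.pCore 2 G := Subgroup.mem_inf.mpr ⟨hv, hvc⟩
    rw [hbot] at this
    exact hv1 (Subgroup.mem_bot.mp this)
  have hdata : ∀ v ∈ V, v ≠ 1 → ∃ h : G, h ≠ 1 ∧ Odd (orderOf h) ∧ v * h * v⁻¹ = h⁻¹ ∧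
      ∃ w ∈ V, w ≠ 1 ∧ w ≠ v ∧ w * h = h * w := by
    intro v hv hv1
    obtain ⟨h, h1, hodd, hinv⟩ := exists_inverted v (hexp v hv) (hnot v hv hv1)
    obtain ⟨w, hw, hw1, hwc⟩ := hS h v hv hodd hinv
    refine ⟨h, h1, hodd, hinv, w, hw, hw1, ?_, hwc⟩
    rintro rfl
    exact h1 (inv_comm_one hodd hinv hwc)
  have hVc : ∀ x ∈ V, ∀ y ∈ V, x * y = y * x := fun x hx y hy =>
    congrArg Subtype.val (hcomm.is_comm.comm (⟨x, hx⟩ : V) ⟨y, hy⟩)
  have hsq : ∀ x ∈ V, x * x = 1 := fun x hx => by rw [← pow_two]; exact hexp x hx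
  obtain ⟨⟨v, hv⟩, hv1'⟩ := Subgroup.ne_bot_iff_exists_ne_one.mp hV1
  have hv1 : v ≠ 1 := fun h => hv1' (Subtype.ext h)
  obtain ⟨h₁, hh1, hho, hvh, w, hw, hw1, hwv, hwh⟩ := hdata v hv hv1
  have hvw := hVc v hv w hw
  have hvv := hsq v hv
  have hww := hsq w hw
  have hu1 : v * w ≠ 1 := by
    intro h
    apply hwv
    calc w = v * (v * w) := by rw [← mul_assoc, hvv, one_mul]
      _ = v := by rw [h, mul_one]
  have hall : ∀ x ∈ V, x = 1 ∨ x = v ∨ x = w ∨ x = v * w := by
    intro x hx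
    by_contra hcon
    push Not at hcon
    obtain ⟨c1, c2, c3, c4⟩ := hcon
    have h5 : 5 ≤ Nat.card V := by
      classical
      have : Fintype V := Fintype.ofFinite V
      rw [Nat.card_eq_fintype_card]
      have hcard : ({⟨1, one_mem V⟩, ⟨v, hv⟩, ⟨w, hw⟩, ⟨v * w, mul_mem hv hw⟩, ⟨x, hx⟩} :
          Finset V).card = 5 := by
        have n1 : (1 : G) ≠ v := fun h => hv1 h.symm
        have n2 : (1 : G) ≠ w := fun h => hw1 h.symm
        have n3 : (1 : G) ≠ v * w := fun h => hu1 h.symm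
        have n4 : (1 : G) ≠ x := fun h => c1 h.symm
        have n5 : v ≠ w := fun h => hwv h.symm
        have n6 : v ≠ v * w := fun h => hw1 (by
          have : v * 1 = v * w := by rw [mul_one]; exact h
          exact (mul_left_cancel this).symm)
        have n7 : v ≠ x := fun h => c2 h.symm
        have n8 : w ≠ v * w := fun h => hv1 (by
          have : 1 * w = v * w := by rw [one_mul]; exact h
          exact (mul_right_cancel this).symm)
        have n9 : w ≠ x := fun h => c3 h.symm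
        have n10 : v * w ≠ x := fun h => c4 h.symm
        rw [Finset.card_insert_of_notMem, Finset.card_insert_of_notMem,
          Finset.card_insert_of_notMem, Finset.card_insert_of_notMem, Finset.card_singleton]
        · simp only [Finset.mem_singleton, Subtype.mk.injEq]; exact n10
        · simp only [Finset.mem_insert, Finset.mem_singleton, Subtype.mk.injEq]; tauto
        · simp only [Finset.mem_insert, Finset.mem_singleton, Subtype.mk.injEq]; tauto
        · simp only [Finset.mem_insert, Finset.mem_singleton, Subtype.mk.injEq]; tauto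
      rw [← hcard]; exact Finset.card_le_univ _
    omega
  have hV3 : ∀ x ∈ V, x ≠ 1 → x = v ∨ x = w ∨ x = v * w := by
    intro x hx hx1
    rcases hall x hx with h | h | h | h
    · exact absurd h hx1
    · exact Or.inl h
    · exact Or.inr (Or.inl h)
    · exact Or.inr (Or.inr h)
  obtain ⟨k, hk1, hko, hwk, w', hw', hw'1, hw'w, hw'k⟩ := hdata w hw hw1
  rcases hV3 w' hw' hw'1 with rfl | rfl | rfl
  · exact core V hS w' w hw' hw hV3 h₁ k hh1 hk1 hho hko hvh hwh hwk hw'k
  · exact hw'w rfl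
  · -- v * w centralizes k
    obtain ⟨l, hl1, hlo, hul, w'', hw'', hw''1, hw''u, hw''l⟩ :=
      hdata (v * w) (mul_mem hv hw) hu1
    have hV3' : ∀ x ∈ V, x ≠ 1 → x = v * w ∨ x = w ∨ x = v * w * w := by
      intro x hx hx1
      have e : v * w * w = v := by rw [mul_assoc, hww, mul_one]
      rw [e]
      rcases hV3 x hx hx1 with h | h | h
      · exact Or.inr (Or.inr h)
      · exact Or.inr (Or.inl h)
      · exact Or.inl h
    have hV3'' : ∀ x ∈ V, x ≠ 1 → x = v * w ∨ x = v ∨ x = v * w * v := by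
      intro x hx hx1
      have e : v * w * v = w := by rw [hvw, mul_assoc, hvv, mul_one]
      rw [e]
      rcases hV3 x hx hx1 with h | h | h
      · exact Or.inr (Or.inl h)
      · exact Or.inr (Or.inr h)
      · exact Or.inl h
    rcases hV3 w'' hw'' hw''1 with rfl | rfl | rfl
    · -- w'' = v centralizes l
      have hwinv : w⁻¹ = w := by rw [inv_eq_iff_mul_eq_one]; exact hww
      have e1 : w⁻¹ * k * w = k⁻¹ := by
        have : w⁻¹ * k * w = w * k * w⁻¹ := by rw [hwinv]
        rw [this, hwk]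
      have hvk : w'' * k * w''⁻¹ = k⁻¹ := by
        calc w'' * k * w''⁻¹ = (w'' * w) * (w⁻¹ * k * w) * (w'' * w)⁻¹ := by group
          _ = (w'' * w) * k⁻¹ * (w'' * w)⁻¹ := by rw [e1]
          _ = ((w'' * w) * k * (w'' * w)⁻¹)⁻¹ := by group
          _ = k⁻¹ := by rw [conj_of_comm hw'k]
      exact core V hS (w'' * w) w'' (mul_mem hw'' hw) hw'' hV3'' l k hl1 hk1 hlo hko hul hw''l hvk hw'k
    · exact core V hS (v * w'') w'' (mul_mem hv hw'') hw'' hV3' l k hl1 hk1 hlo hko hul hw''l hwk hw'k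
    · exact hw''u rfl

end Cfsg.Agent.S3011
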