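import Cfsg.Statements.S3061
-- import your own Cfsg.Agent.* helpers here
import Mathlib

set_option autoImplicit false
open Cfsg

namespace Cfsg.Agent.S3061

open scoped commutatorElement

theorem mem_normalizer_of_conj_le {G : Type*} [Group G] [Finite G] (R : Subgroup G) (n : G)
    (h : ∀ r ∈ R, n * r * n⁻¹ ∈ R) : n ∈ Subgroup.normalizer (R : Set G) := by
  have hle : R.map (MulAut.conj n).toMonoidHom ≤ R := by
    rintro _ ⟨r, hr, rfl⟩
    exact h r hr
  have hcard : Nat.card R ≤ Nat.card (R.map (MulAut.conj n).toMonoidHom) := by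
    rw [Subgroup.card_map_of_injective (MulAut.conj n).injective]
  have heq := Subgroup.eq_of_le_of_card_ge hle hcard
  exact Subgroup.mem_normalizer_iff_map_conj_eq.mpr heq

theorem comm_le_left {S : Type*} [Group S] (A B : Subgroup S) (hB : IsMulCommutative B)
    (hBA : B ≤ Subgroup.normalizer (A : Set S)) : ⁅A ⊔ B, A ⊔ B⁆ ≤ A := by
  rw [Subgroup.commutator_le]
  intro s hs t ht
  have hs' : s ∈ ((A ⊔ B : Subgroup S) : Set S) := hs
  have ht' : t ∈ ((A ⊔ B : Subgroup S) : Set S) := ht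
  rw [Subgroup.coe_mul_of_right_le_normalizer_left A B hBA] at hs' ht'
  obtain ⟨a₁, ha₁, b₁, hb₁, rfl⟩ := Set.mem_mul.mp hs'
  obtain ⟨a₂, ha₂, b₂, hb₂, rfl⟩ := Set.mem_mul.mp ht'
  have hb : b₂ * b₁⁻¹ = b₁⁻¹ * b₂ := setLike_mul_comm hb₂ (B.inv_mem hb₁)
  have e : ⁅a₁ * b₁, a₂ * b₂⁆ = a₁ * (b₁ * a₂ * b₁⁻¹) * (b₂ * a₁⁻¹ * b₂⁻¹) * a₂⁻¹ := by
    rw [commutatorElement_def]
    have e1 : a₁ * b₁ * (a₂ * b₂) * (a₁ * b₁)⁻¹ * (a₂ * b₂)⁻¹ =
        a₁ * b₁ * a₂ * (b₂ * b₁⁻¹) * a₁⁻¹ * b₂⁻¹ * a₂⁻¹ := by group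
    rw [e1, hb]; group
  rw [e]
  have h1 : b₁ * a₂ * b₁⁻¹ ∈ A := (Subgroup.mem_normalizer_iff.mp (hBA hb₁) a₂).mp ha₂
  have h2 : b₂ * a₁⁻¹ * b₂⁻¹ ∈ A :=
    (Subgroup.mem_normalizer_iff.mp (hBA hb₂) a₁⁻¹).mp (A.inv_mem ha₁)
  exact A.mul_mem (A.mul_mem (A.mul_mem ha₁ h1) h2) (A.inv_mem ha₂)

theorem class_two {S : Type*} [Group S] (A B : Subgroup S) (hA : IsMulCommutative A)
    (hB : IsMulCommutative B) (hAB : A ≤ Subgroup.normalizer (B : Set S))
    (hBA : B ≤ Subgroup.normalizer (A : Set S)) : ⁅⁅A ⊔ B, A ⊔ B⁆, A ⊔ B⁆ = ⊥ := by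
  rw [Subgroup.commutator_eq_bot_iff_le_centralizer]
  have h1 : ⁅A ⊔ B, A ⊔ B⁆ ≤ A := comm_le_left A B hB hBA
  have h2 : ⁅A ⊔ B, A ⊔ B⁆ ≤ B := by
    have := comm_le_left B A hA hAB
    rwa [sup_comm] at this
  intro c hc
  have hcA := h1 hc
  have hcB := h2 hc
  have h3 : A ⊔ B ≤ Subgroup.centralizer ({c} : Set S) := by
    apply sup_le
    · intro a ha
      rw [Subgroup.mem_centralizer_singleton_iff]
      exact setLike_mul_comm ha hcA
    · intro b hb
      rw [Subgroup.mem_centralizer_singleton_iff]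
      exact setLike_mul_comm hb hcB
  rw [Subgroup.mem_centralizer_iff]
  intro h hh
  exact Subgroup.mem_centralizer_singleton_iff.mp (h3 hh)

theorem comm_of_mem_family {S : Type*} [Group S] (A B : Subgroup S)
    (hA : A ∈ Cfsg.dStarFamily S) (hB : IsMulCommutative B)
    (hAB : A ≤ Subgroup.normalizer (B : Set S)) (hBA : B ≤ Subgroup.normalizer (A : Set S)) :
    ∀ a ∈ A, ∀ b ∈ B, a * b = b * a := by
  intro a ha b hb
  refine hA.2 b ?_ a ha
  have hle : A ⊔ Subgroup.zpowers b ≤ A ⊔ B :=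
    sup_le_sup_left (by rw [Subgroup.zpowers_le]; exact hb) A
  have h := class_two A B hA.1 hB hAB hBA
  rw [eq_bot_iff] at h ⊢
  exact le_trans (Subgroup.commutator_mono (Subgroup.commutator_mono hle hle) hle) h

theorem sup_mem_family {S : Type*} [Group S] (A B : Subgroup S) (hA : A ∈ Cfsg.dStarFamily S)
    (hB : B ∈ Cfsg.dStarFamily S) (hc : ∀ a ∈ A, ∀ b ∈ B, a * b = b * a) :
    A ⊔ B ∈ Cfsg.dStarFamily S := by
  have hA1 := hA.1
  have hB1 := hB.1
  refine ⟨?_, ?_⟩
  · rw [← Subgroup.le_centralizer_iff_isMulCommutative]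
    apply sup_le
    · rw [Subgroup.le_centralizer_iff]
      apply sup_le
      · exact Subgroup.le_centralizer A
      · intro b hb
        rw [Subgroup.mem_centralizer_iff]
        intro a ha
        exact hc a ha b hb
    · rw [Subgroup.le_centralizer_iff]
      apply sup_le
      · intro a ha
        rw [Subgroup.mem_centralizer_iff]
        intro b hb
        exact (hc a ha b hb).symm
      · exact Subgroup.le_centralizer B
  · intro x hx s hs
    have hleA : A ⊔ Subgroup.zpowers x ≤ (A ⊔ B) ⊔ Subgroup.zpowers x :=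
      sup_le_sup_right le_sup_left _
    have hleB : B ⊔ Subgroup.zpowers x ≤ (A ⊔ B) ⊔ Subgroup.zpowers x :=
      sup_le_sup_right le_sup_right _
    rw [eq_bot_iff] at hx
    have hxA := hA.2 x (by
      rw [eq_bot_iff]
      exact le_trans (Subgroup.commutator_mono (Subgroup.commutator_mono hleA hleA) hleA) hx)
    have hxB := hB.2 x (by
      rw [eq_bot_iff]
      exact le_trans (Subgroup.commutator_mono (Subgroup.commutator_mono hleB hleB) hleB) hx)
    have h3 : A ⊔ B ≤ Subgroup.centralizer ({x} : Set S) := by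
      apply sup_le
      · intro a ha
        exact Subgroup.mem_centralizer_singleton_iff.mpr (hxA a ha)
      · intro b hb
        exact Subgroup.mem_centralizer_singleton_iff.mpr (hxB b hb)
    exact Subgroup.mem_centralizer_singleton_iff.mp (h3 hs)

theorem conj_mem_family {S : Type*} [Group S] (A : Subgroup S) (hA : A ∈ Cfsg.dStarFamily S)
    (g : S) : A.map (MulAut.conj g).toMonoidHom ∈ Cfsg.dStarFamily S := by
  have hA1 := hA.1
  refine ⟨Subgroup.map_isMulCommutative _ _, ?_⟩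
  intro x hx a' ha'
  obtain ⟨a, ha, rfl⟩ := ha'
  have hφx : (MulAut.conj g).toMonoidHom (g⁻¹ * x * g) = x := by
    show g * (g⁻¹ * x * g) * g⁻¹ = x
    group
  have e : A.map (MulAut.conj g).toMonoidHom ⊔ Subgroup.zpowers x =
      (A ⊔ Subgroup.zpowers (g⁻¹ * x * g)).map (MulAut.conj g).toMonoidHom := by
    rw [Subgroup.map_sup, MonoidHom.map_zpowers, hφx]
  rw [e, ← Subgroup.map_commutator, ← Subgroup.map_commutator,
    Subgroup.map_eq_bot_iff_of_injective _ (MulAut.conj g).injective] at hx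
  have h := hA.2 (g⁻¹ * x * g) hx a ha
  rw [← hφx, ← map_mul, ← map_mul, h]

theorem maximal_normal {S : Type*} [Group S] [Finite S] {p : ℕ} [Fact p.Prime]
    (hS : IsPGroup p S) (M : Subgroup S) (hM : M ∈ Cfsg.dStarFamily S)
    (hmax : ∀ A ∈ Cfsg.dStarFamily S, M ≤ A → A = M) :
    Subgroup.normalizer (M : Set S) = ⊤ := by
  by_contra hne
  have hlt : Subgroup.normalizer (M : Set S) < ⊤ := lt_top_iff_ne_top.mpr hne
  have hnil : Group.IsNilpotent S := hS.isNilpotent
  have hnc := Group.normalizerCondition_of_isNilpotent (G := S) _ hlt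
  obtain ⟨g, hg1, hg2⟩ := SetLike.exists_of_lt hnc
  have hM'f : M.map (MulAut.conj g).toMonoidHom ∈ Cfsg.dStarFamily S := conj_mem_family M hM g
  have h1 : M.map (MulAut.conj g).toMonoidHom ≤ Subgroup.normalizer (M : Set S) := by
    rintro _ ⟨m, hm, rfl⟩
    exact (Subgroup.mem_normalizer_iff.mp hg1 m).mp (Subgroup.le_normalizer hm)
  have h2 : M ≤ Subgroup.normalizer ((M.map (MulAut.conj g).toMonoidHom : Subgroup S) : Set S) := by
    rw [← Subgroup.map_normalizer_eq_of_bijective M (MulAut.conj g).bijective]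
    intro m hm
    refine ⟨g⁻¹ * m * g, ?_, ?_⟩
    · have hg' : g⁻¹ ∈ Subgroup.normalizer
          ((Subgroup.normalizer (M : Set S) : Subgroup S) : Set S) := Subgroup.inv_mem _ hg1
      have := (Subgroup.mem_normalizer_iff.mp hg' m).mp (Subgroup.le_normalizer hm)
      simpa using this
    · show g * (g⁻¹ * m * g) * g⁻¹ = m
      group
  have hc := comm_of_mem_family M _ hM hM'f.1 h2 h1
  have hsup := sup_mem_family M _ hM hM'f hc
  have heq := hmax _ hsup le_sup_left
  have hle : M.map (MulAut.conj g).toMonoidHom ≤ M := le_trans le_sup_right (le_of_eq heq)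
  exact hg2 (mem_normalizer_of_conj_le M g (fun r hr => hle ⟨r, hr, rfl⟩))

/-- Let S be a finite p-group. Then D*(S) itself belongs to the family that generates it: D*(S) is abelian, and every x ∈ S with ⟨D*(S), x⟩ of class at most two centralizes D*(S). Hence D*(S) is the unique maximal member of that family. -/
theorem result {S : Type*} [Group S] [Finite S] {p : ℕ} [Fact p.Prime] (hS : IsPGroup p S) :
    Cfsg.dStar S ∈ Cfsg.dStarFamily S := by
  classical
  have hbot : (⊥ : Subgroup S) ∈ Cfsg.dStarFamily S := by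
    refine ⟨?_, ?_⟩
    · rw [← Subgroup.le_centralizer_iff_isMulCommutative]; exact bot_le
    · intro x _ a ha
      rw [Subgroup.mem_bot] at ha
      rw [ha]; simp
  have ex_max : ∀ A ∈ Cfsg.dStarFamily S, ∃ M ∈ Cfsg.dStarFamily S, A ≤ M ∧
      ∀ X ∈ Cfsg.dStarFamily S, M ≤ X → X = M := by
    intro A hA
    obtain ⟨M, ⟨hM1, hM2⟩, hM3⟩ := Set.exists_max_image {X | X ∈ Cfsg.dStarFamily S ∧ A ≤ X}
      (fun X => Nat.card X) (Set.toFinite _) ⟨A, hA, le_rfl⟩
    refine ⟨M, hM1, hM2, ?_⟩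
    intro X hX hMX
    have := hM3 X ⟨hX, le_trans hM2 hMX⟩
    exact (Subgroup.eq_of_le_of_card_ge hMX this).symm
  obtain ⟨M, hM, -, hMmax⟩ := ex_max ⊥ hbot
  have hMn := maximal_normal hS M hM hMmax
  have hle : ∀ A ∈ Cfsg.dStarFamily S, A ≤ M := by
    intro A hA
    obtain ⟨A', hA', hAA', hA'max⟩ := ex_max A hA
    have hA'n := maximal_normal hS A' hA' hA'max
    have hc := comm_of_mem_family M A' hM hA'.1 (by rw [hA'n]; exact le_top)
      (by rw [hMn]; exact le_top)
    have hsup := sup_mem_family M A' hM hA' hc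
    have heq := hMmax _ hsup le_sup_left
    exact le_trans hAA' (le_trans le_sup_right (le_of_eq heq))
  have : Cfsg.dStar S = M := le_antisymm (sSup_le hle) (le_sSup hM)
  rw [this]; exact hM


end Cfsg.Agent.S3061
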