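import Cfsg.Statements.S3062
-- import your own Cfsg.Agent.* helpers here
import Cfsg.Agent.S3061
import Cfsg.Agent.S0649
import Cfsg.Agent.S0650

set_option autoImplicit false
open Cfsg

namespace Cfsg.Agent.S3062

open Cfsg.Agent.S3061

theorem sup_comm_of_comm {S : Type*} [Group S] (A B : Subgroup S) (hA : IsMulCommutative A)
    (hB : IsMulCommutative B) (hc : ∀ a ∈ A, ∀ b ∈ B, a * b = b * a) :
    IsMulCommutative ↥(A ⊔ B) := by
  rw [← Subgroup.le_centralizer_iff_isMulCommutative]
  apply sup_le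
  · rw [Subgroup.le_centralizer_iff]
    apply sup_le
    · exact Subgroup.le_centralizer A
    · intro b hb
      rw [Subgroup.mem_centralizer_iff]
      intro a ha
      exact hc a ha b hb
  · rw [Subgroup.le_centralizer_iff]
    apply sup_le
    · intro a ha
      rw [Subgroup.mem_centralizer_iff]
      intro b hb
      exact (hc a ha b hb).symm
    · exact Subgroup.le_centralizer B

theorem dStar_normal {S : Type*} [Group S] [Finite S] {p : ℕ} [Fact p.Prime]
    (hS : IsPGroup p S) : (Cfsg.dStar S).Normal := by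
  have hD := Cfsg.Agent.S3061.result hS
  constructor
  intro d hd g
  have h1 := conj_mem_family (Cfsg.dStar S) hD g
  have h2 : (Cfsg.dStar S).map (MulAut.conj g).toMonoidHom ≤ Cfsg.dStar S := le_sSup h1
  exact h2 ⟨d, hd, rfl⟩

/-- `D*(S)` lies in every abelian subgroup of largest order. -/
theorem dStar_le_maxAb {S : Type*} [Group S] [Finite S] {p : ℕ} [Fact p.Prime]
    (hS : IsPGroup p S) (A₀ : Subgroup S) (hA₀ : A₀ ∈ Cfsg.maxAbelianSubgroups S) :
    Cfsg.dStar S ≤ A₀ := by
  have hD := Cfsg.Agent.S3061.result hS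
  have hDn : (Cfsg.dStar S).Normal := dStar_normal hS
  have hDc : IsMulCommutative ↥(Cfsg.dStar S) := hD.1
  by_contra hcon
  obtain ⟨A, ⟨hA, hDA⟩, hAmax⟩ := Set.exists_max_image
    {A : Subgroup S | A ∈ Cfsg.maxAbelianSubgroups S ∧ ¬ Cfsg.dStar S ≤ A}
    (fun A => Nat.card ↥(A ⊓ Cfsg.dStar S)) (Set.toFinite _) ⟨A₀, hA₀, hcon⟩
  have hAc : IsMulCommutative ↥A := hA.1
  by_cases hN : Cfsg.dStar S ≤ Subgroup.normalizer (A : Set S)
  · apply hDA
    have hc := comm_of_mem_family (Cfsg.dStar S) A hD hAc hN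
      (by rw [Subgroup.normalizer_eq_top]; exact le_top)
    have hsup : IsMulCommutative ↥(A ⊔ Cfsg.dStar S) :=
      sup_comm_of_comm A (Cfsg.dStar S) hAc hDc (fun a ha d hd => (hc d hd a ha).symm)
    have hle := hA.2 _ hsup
    have heq := Subgroup.eq_of_le_of_card_ge (le_sup_left : A ≤ A ⊔ Cfsg.dStar S) hle
    rw [heq]; exact le_sup_right
  · have hBB : ⁅Cfsg.dStar S, Cfsg.dStar S⁆ ≤ A := by
      have h0 : ⁅Cfsg.dStar S, Cfsg.dStar S⁆ = ⊥ := by
        rw [Subgroup.commutator_eq_bot_iff_le_centralizer]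
        exact Subgroup.le_centralizer (Cfsg.dStar S)
      rw [h0]; exact bot_le
    obtain ⟨b, hb, hbN, hbA⟩ := Cfsg.Agent.S0649.result hS (Cfsg.dStar S) (fun _ => hDc) A hAc
      hBB hN
    obtain ⟨h1, h2, -, h4, h5, -⟩ := Cfsg.Agent.S0650.result hS (Cfsg.dStar S)
      (fun _ => hDc) A hAc hBB hN b hb hbN hbA
    set Astar := (A ⊓ A.map (MulAut.conj (b⁻¹)).toMonoidHom) ⊔
      Subgroup.closure {g : S | ∃ a ∈ A, g = a * b⁻¹ * a⁻¹ * b} with hAstar
    have hAs : Astar ∈ Cfsg.maxAbelianSubgroups S := ⟨h2, fun B hB => by rw [h1]; exact hA.2 B hB⟩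
    have hDAs : ¬ Cfsg.dStar S ≤ Astar := by
      intro hle
      exact h5.ne (inf_eq_right.mpr hle)
    have hmax := hAmax Astar ⟨hAs, hDAs⟩
    have heq := Subgroup.eq_of_le_of_card_ge h4.le hmax
    exact h4.ne heq

/-- Let S be a finite p-group, J(S) the subgroup generated by the abelian subgroups of S of largest order and Z(J(S)) its centre. Then Z(S) ≤ D*(S) ≤ Z(J(S)), and every maximal normal abelian subgroup of S contains D*(S). -/
theorem result {S : Type*} [Group S] [Finite S] {p : ℕ} [Fact p.Prime]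
    (hS : IsPGroup p S) :
    Subgroup.center S ≤ Cfsg.dStar S ∧
    Cfsg.dStar S ≤ Cfsg.thompsonSubgroupA S ⊓ Subgroup.centralizer (Cfsg.thompsonSubgroupA S : Set S) ∧
    ∀ A : Subgroup S, A.Normal → IsMulCommutative A →
      (∀ B : Subgroup S, B.Normal → IsMulCommutative B → A ≤ B → B = A) → Cfsg.dStar S ≤ A := by
  have hD := Cfsg.Agent.S3061.result hS
  have hDn : (Cfsg.dStar S).Normal := dStar_normal hS
  have hDc : IsMulCommutative ↥(Cfsg.dStar S) := hD.1
  refine ⟨?_, ?_, ?_⟩
  · apply le_sSup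
    refine ⟨inferInstance, ?_⟩
    intro x _ a ha
    exact (Subgroup.mem_center_iff.mp ha x).symm
  · -- an abelian subgroup of largest order exists
    obtain ⟨A₀, hA₀c, hA₀max⟩ := Set.exists_max_image {B : Subgroup S | IsMulCommutative ↥B}
      (fun B => Nat.card ↥B) (Set.toFinite _)
      ⟨⊥, by
        show IsMulCommutative ↥(⊥ : Subgroup S)
        rw [← Subgroup.le_centralizer_iff_isMulCommutative]; exact bot_le⟩
    have hA₀ : A₀ ∈ Cfsg.maxAbelianSubgroups S := ⟨hA₀c, fun B hB => hA₀max B hB⟩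
    apply le_inf
    · exact (dStar_le_maxAb hS A₀ hA₀).trans (le_sSup hA₀)
    · rw [Subgroup.le_centralizer_iff]
      apply sSup_le
      intro A hA a ha
      rw [Subgroup.mem_centralizer_iff]
      intro d hd
      have hAc : IsMulCommutative ↥A := hA.1
      exact setLike_mul_comm (dStar_le_maxAb hS A hA hd) ha
  · intro A hAn hAc hAmax
    have hc := comm_of_mem_family (Cfsg.dStar S) A hD hAc
      (by rw [Subgroup.normalizer_eq_top]; exact le_top)
      (by rw [Subgroup.normalizer_eq_top]; exact le_top)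
    have hsup : IsMulCommutative ↥(A ⊔ Cfsg.dStar S) :=
      sup_comm_of_comm A (Cfsg.dStar S) hAc hDc (fun a ha d hd => (hc d hd a ha).symm)
    have hn : (A ⊔ Cfsg.dStar S).Normal := Subgroup.sup_normal A (Cfsg.dStar S)
    have heq := hAmax _ hn hsup le_sup_left
    rw [← heq]; exact le_sup_right


end Cfsg.Agent.S3062
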