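import Cfsg.Statements.S3060
-- import your own Cfsg.Agent.* helpers here
import Cfsg.Agent.S3061
import Cfsg.Agent.S3062
import Cfsg.Agent.Lib.helper15.SylGen
import Cfsg.Agent.Lib.helper15.SubnSyl
import Cfsg.Agent.Lib.helper15.PCore
import Cfsg.Agent.Lib.helper8.CoprimeAction

set_option autoImplicit false
open Cfsg

namespace Cfsg.Agent.S3060

open Cfsg.Agent.S3061 Cfsg.Agent.S3062 Cfsg.Agent.Lib.helper15 Cfsg.Agent.Lib.helper8
open scoped commutatorElement

theorem class2_map {G H : Type*} [Group G] [Group H] (f : G →* H) (U : Subgroup G)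
    (h : ⁅⁅U, U⁆, U⁆ = ⊥) : ⁅⁅U.map f, U.map f⁆, U.map f⁆ = ⊥ := by
  rw [← Subgroup.map_commutator, ← Subgroup.map_commutator, h, Subgroup.map_bot]

theorem class2_of_map {G H : Type*} [Group G] [Group H] (f : G →* H)
    (hf : Function.Injective f) (U : Subgroup G)
    (h : ⁅⁅U.map f, U.map f⁆, U.map f⁆ = ⊥) : ⁅⁅U, U⁆, U⁆ = ⊥ := by
  rw [← Subgroup.map_commutator, ← Subgroup.map_commutator] at h
  exact (Subgroup.map_eq_bot_iff_of_injective _ hf).mp h

theorem class2_mono {G : Type*} [Group G] {U V : Subgroup G} (hUV : U ≤ V)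
    (h : ⁅⁅V, V⁆, V⁆ = ⊥) : ⁅⁅U, U⁆, U⁆ = ⊥ := by
  rw [eq_bot_iff] at h ⊢
  exact le_trans (Subgroup.commutator_mono (Subgroup.commutator_mono hUV hUV) hUV) h

/-- The D*-Theorem. For a finite p-group S let D*(S) be the subgroup generated by the abelian subgroups A of S such that every x ∈ S with ⟨A, x⟩ of nilpotency class at most two centralizes A. Let p be an odd prime and H a finite p-stable group with Sylow p-subgroup S. Here H is p-stable in the following sense: the largest normal p-subgroup O_p(H) contains its centralizer in H, and for every normal p-subgroup P of H, every element acting quadratically on P has image in O_p(H/C_H(P)). Then D*(S) is a normal subgroup of H. -/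
theorem result {G : Type*} [Group G] [Finite G] {p : ℕ} [Fact p.Prime] (hp : p ≠ 2)
    (hc : Subgroup.centralizer (Cfsg.pCore p G : Set G) ≤ Cfsg.pCore p G)
    (hst : ∀ (P : Subgroup G) [P.Normal], IsPGroup p P → Cfsg.IsPStableOn p P) (S : Sylow p G) :
    (Cfsg.dStarOf (S : Subgroup G)).Normal := by
  have hSp : IsPGroup p ↥(S : Subgroup G) := S.2
  have hDt := Cfsg.Agent.S3061.result hSp
  have hDtn : (Cfsg.dStar ↥(S : Subgroup G)).Normal := dStar_normal hSp
  have hDtc : IsMulCommutative ↥(Cfsg.dStar ↥(S : Subgroup G)) := hDt.1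
  have hDdef : Cfsg.dStarOf (S : Subgroup G) =
      (Cfsg.dStar ↥(S : Subgroup G)).map (S : Subgroup G).subtype := rfl
  set D : Subgroup G := Cfsg.dStarOf (S : Subgroup G) with hD
  have hDS : D ≤ (S : Subgroup G) := by rw [hDdef]; exact Subgroup.map_subtype_le _
  have hDc : IsMulCommutative ↥D := by rw [hDdef]; exact Subgroup.map_isMulCommutative _ _
  have hSD : ∀ s ∈ (S : Subgroup G), ∀ d ∈ D, s * d * s⁻¹ ∈ D := by
    intro s hs d hd
    rw [hDdef] at hd ⊢
    obtain ⟨d', hd', rfl⟩ := hd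
    exact ⟨⟨s, hs⟩ * d' * ⟨s, hs⟩⁻¹, hDtn.conj_mem d' hd' ⟨s, hs⟩, rfl⟩
  have FP : ∀ x ∈ (S : Subgroup G),
      ⁅⁅D ⊔ Subgroup.zpowers x, D ⊔ Subgroup.zpowers x⁆, D ⊔ Subgroup.zpowers x⁆ = ⊥ →
      ∀ d ∈ D, d * x = x * d := by
    intro x hx hcl d hd
    have e : (Cfsg.dStar ↥(S : Subgroup G) ⊔
        Subgroup.zpowers (⟨x, hx⟩ : ↥(S : Subgroup G))).map (S : Subgroup G).subtype =
        D ⊔ Subgroup.zpowers x := by
      rw [Subgroup.map_sup, MonoidHom.map_zpowers]; rfl
    rw [← e] at hcl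
    have hcl' := class2_of_map (S : Subgroup G).subtype (S : Subgroup G).subtype_injective _ hcl
    rw [hDdef] at hd
    obtain ⟨d', hd', rfl⟩ := hd
    have h1 := hDt.2 ⟨x, hx⟩ hcl' d' hd'
    exact congrArg Subtype.val h1
  have hQn : (Cfsg.pCore p G).Normal := pCore_normal p G
  have hQp : IsPGroup p ↥(Cfsg.pCore p G) := pCore_isPGroup p G
  have hQS : Cfsg.pCore p G ≤ (S : Subgroup G) := pCore_le_sylow S
  -- step 1: D ≤ O_p(G)
  have hDQ : D ≤ Cfsg.pCore p G := by
    intro d hd
    have hzd : Subgroup.zpowers d ≤ D := Subgroup.zpowers_le.mpr hd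
    have hquad : ⁅⁅Cfsg.pCore p G, Subgroup.zpowers d⁆, Subgroup.zpowers d⁆ = ⊥ := by
      have h1 : ⁅Cfsg.pCore p G, Subgroup.zpowers d⁆ ≤ D := by
        rw [Subgroup.commutator_le]
        intro q hq z hz
        rw [commutatorElement_def]
        exact D.mul_mem (hSD q (hQS hq) z (hzd hz)) (D.inv_mem (hzd hz))
      have h2 : ⁅D, D⁆ = ⊥ := by
        rw [Subgroup.commutator_eq_bot_iff_le_centralizer]; exact Subgroup.le_centralizer D
      rw [eq_bot_iff, ← h2]
      exact Subgroup.commutator_mono h1 hzd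
    have hmem := hst (Cfsg.pCore p G) hQp d hquad
    have hLn : ((Cfsg.pCore p (G ⧸ Subgroup.centralizer (Cfsg.pCore p G : Set G))).comap
        (QuotientGroup.mk' (Subgroup.centralizer (Cfsg.pCore p G : Set G)))).Normal :=
      Subgroup.Normal.comap (pCore_normal p _) _
    have hLp : IsPGroup p ↥((Cfsg.pCore p (G ⧸ Subgroup.centralizer (Cfsg.pCore p G : Set G))).comap
        (QuotientGroup.mk' (Subgroup.centralizer (Cfsg.pCore p G : Set G)))) := by
      intro g
      have hg : QuotientGroup.mk' (Subgroup.centralizer (Cfsg.pCore p G : Set G)) (g : G) ∈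
          Cfsg.pCore p (G ⧸ Subgroup.centralizer (Cfsg.pCore p G : Set G)) := g.2
      obtain ⟨k, hk⟩ :=
        (pCore_isPGroup p (G ⧸ Subgroup.centralizer (Cfsg.pCore p G : Set G))) ⟨_, hg⟩
      have hk' : (QuotientGroup.mk' (Subgroup.centralizer (Cfsg.pCore p G : Set G)) (g : G)) ^
          p ^ k = 1 := by
        have := congrArg Subtype.val hk
        simpa using this
      rw [← map_pow, ← MonoidHom.mem_ker, QuotientGroup.ker_mk'] at hk'
      obtain ⟨j, hj⟩ := hQp ⟨_, hc hk'⟩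
      have hj' : ((g : G) ^ p ^ k) ^ p ^ j = 1 := by
        have := congrArg Subtype.val hj
        simpa using this
      refine ⟨k + j, ?_⟩
      apply Subtype.ext
      rw [Subgroup.coe_pow, Subgroup.coe_one, pow_add, pow_mul]; exact hj'
    exact le_pCore hLn hLp hmem
  -- step 2: the conjugates of D commute with D
  have hcomm : ∀ g : G, ∀ d ∈ D, ∀ e ∈ D, d * (g * e * g⁻¹) = (g * e * g⁻¹) * d := by
    intro g d hd e he
    have hDgc : IsMulCommutative ↥(D.map (MulAut.conj g).toMonoidHom) :=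
      Subgroup.map_isMulCommutative _ _
    have hDgQ : D.map (MulAut.conj g).toMonoidHom ≤ Cfsg.pCore p G := by
      rintro _ ⟨y, hy, rfl⟩
      exact hQn.conj_mem y (hDQ hy) g
    have h1 : D ≤ Subgroup.normalizer ((D.map (MulAut.conj g).toMonoidHom : Subgroup G) : Set G) := by
      apply le_normalizer_of_conj_mem
      rintro a ha _ ⟨y, hy, rfl⟩
      have ha' : g⁻¹ * a * g ∈ (S : Subgroup G) := by
        have h3 := hQn.conj_mem a (hDQ ha) g⁻¹
        rw [inv_inv] at h3
        exact hQS h3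
      refine ⟨(g⁻¹ * a * g) * y * (g⁻¹ * a * g)⁻¹, hSD _ ha' y hy, ?_⟩
      show g * ((g⁻¹ * a * g) * y * (g⁻¹ * a * g)⁻¹) * g⁻¹ = a * (g * y * g⁻¹) * a⁻¹
      group
    have h2 : D.map (MulAut.conj g).toMonoidHom ≤ Subgroup.normalizer (D : Set G) := by
      apply le_normalizer_of_conj_mem
      intro a ha y hy
      exact hSD a (hQS (hDgQ ha)) y hy
    have hcl := class_two D (D.map (MulAut.conj g).toMonoidHom) hDc hDgc h1 h2
    have hx : g * e * g⁻¹ ∈ D.map (MulAut.conj g).toMonoidHom := ⟨e, he, rfl⟩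
    apply FP (g * e * g⁻¹) (hQS (hDgQ hx)) _ d hd
    apply class2_mono _ hcl
    exact sup_le_sup_left (Subgroup.zpowers_le.mpr hx) D
  -- step 3: the normal closure of D is abelian
  have hD₁n : (Subgroup.normalClosure (D : Set G)).Normal := Subgroup.normalClosure_normal
  have hDD₁ : D ≤ Subgroup.normalClosure (D : Set G) := Subgroup.le_normalClosure
  have hD₁Q : Subgroup.normalClosure (D : Set G) ≤ Cfsg.pCore p G :=
    Subgroup.normalClosure_le_normal hDQ
  have hD₁c : IsMulCommutative ↥(Subgroup.normalClosure (D : Set G)) := by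
    show IsMulCommutative ↥(Subgroup.closure (Group.conjugatesOfSet (D : Set G)))
    apply Subgroup.isMulCommutative_closure
    intro x hx y hy
    obtain ⟨d₁, hd₁, hc₁⟩ := Group.mem_conjugatesOfSet_iff.mp hx
    obtain ⟨d₂, hd₂, hc₂⟩ := Group.mem_conjugatesOfSet_iff.mp hy
    obtain ⟨g₁, rfl⟩ := isConj_iff.mp hc₁
    obtain ⟨g₂, rfl⟩ := isConj_iff.mp hc₂
    have h := hcomm (g₁⁻¹ * g₂) d₁ hd₁ d₂ hd₂
    calc g₁ * d₁ * g₁⁻¹ * (g₂ * d₂ * g₂⁻¹)
        = g₁ * (d₁ * (g₁⁻¹ * g₂ * d₂ * (g₁⁻¹ * g₂)⁻¹)) * g₁⁻¹ := by group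
      _ = g₁ * ((g₁⁻¹ * g₂ * d₂ * (g₁⁻¹ * g₂)⁻¹) * d₁) * g₁⁻¹ := by rw [h]
      _ = g₂ * d₂ * g₂⁻¹ * (g₁ * d₁ * g₁⁻¹) := by group
  -- step 4: the normal closure lies in the family of S
  have hD₁S : Subgroup.normalClosure (D : Set G) ≤ (S : Subgroup G) := hD₁Q.trans hQS
  have hD₁p : IsPGroup p ↥(Subgroup.normalClosure (D : Set G)) := hQp.to_le hD₁Q
  have hfam : (Subgroup.normalClosure (D : Set G)).subgroupOf (S : Subgroup G) ∈
      Cfsg.dStarFamily ↥(S : Subgroup G) := by
    refine ⟨Subgroup.subgroupOf_isMulCommutative _ _, ?_⟩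
    intro x' hcl' a' ha'
    have hcl : ⁅⁅Subgroup.normalClosure (D : Set G) ⊔ Subgroup.zpowers (x' : G),
        Subgroup.normalClosure (D : Set G) ⊔ Subgroup.zpowers (x' : G)⁆,
        Subgroup.normalClosure (D : Set G) ⊔ Subgroup.zpowers (x' : G)⁆ = ⊥ := by
      have h1 := class2_map (S : Subgroup G).subtype _ hcl'
      rwa [Subgroup.map_sup, MonoidHom.map_zpowers, Subgroup.map_subgroupOf_eq_of_le hD₁S] at h1
    suffices hall : ∀ a ∈ Subgroup.normalClosure (D : Set G), a * (x' : G) = (x' : G) * a by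
      exact Subtype.ext (hall a' (Subgroup.mem_subgroupOf.mp ha'))
    have hxS : (x' : G) ∈ (S : Subgroup G) := x'.2
    have hquad : ⁅⁅Subgroup.normalClosure (D : Set G), Subgroup.zpowers (x' : G)⁆,
        Subgroup.zpowers (x' : G)⁆ = ⊥ := by
      rw [eq_bot_iff] at hcl ⊢
      exact le_trans (Subgroup.commutator_mono
        (Subgroup.commutator_mono le_sup_left le_sup_right) le_sup_right) hcl
    have hmem := hst (Subgroup.normalClosure (D : Set G)) hD₁p (x' : G) hquad
    have hCn : (Subgroup.centralizer ((Subgroup.normalClosure (D : Set G) : Subgroup G) : Set G)).Normal :=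
      Subgroup.normal_centralizer
    set C : Subgroup G :=
      Subgroup.centralizer ((Subgroup.normalClosure (D : Set G) : Subgroup G) : Set G) with hC
    set R : Subgroup G := (Cfsg.pCore p (G ⧸ C)).comap (QuotientGroup.mk' C) with hR
    have hRn : R.Normal := Subgroup.Normal.comap (pCore_normal p _) _
    have hxR : (x' : G) ∈ R := hmem
    have hRle : R ≤ C ⊔ ((S : Subgroup G) ⊓ R) := by
      obtain ⟨k, hk⟩ := IsPGroup.iff_card.mp (pCore_isPGroup p (G ⧸ C))
      apply le_sup_of_ppow_of_pprime (p := p) k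
      · have h1 : C.relIndex R = Nat.card ↥(R.map (QuotientGroup.mk' C)) := by
          have h2 := Subgroup.relIndex_ker R (QuotientGroup.mk' C)
          rwa [QuotientGroup.ker_mk'] at h2
        rw [h1, hR, Subgroup.map_comap_eq_self_of_surjective (QuotientGroup.mk'_surjective C), hk]
      · rw [Subgroup.inf_relIndex_right]
        exact sylow_inf_normal_not_dvd S R
    have hfr := (frattini_inf S R).1
    have hdecomp : ∀ g : G, ∃ n ∈ Subgroup.normalizer ((((S : Subgroup G) ⊓ R : Subgroup G)) : Set G),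
        ∃ c ∈ C, n * c = g := by
      intro g
      have h1 : g ∈ Subgroup.normalizer ((((S : Subgroup G) ⊓ R : Subgroup G)) : Set G) ⊔ C := by
        have h2 : (⊤ : Subgroup G) ≤
            Subgroup.normalizer ((((S : Subgroup G) ⊓ R : Subgroup G)) : Set G) ⊔ C := by
          rw [← hfr]
          apply sup_le le_sup_left
          exact hRle.trans (sup_le le_sup_right (Subgroup.le_normalizer.trans le_sup_left))
        exact h2 (Subgroup.mem_top g)
      exact Subgroup.mem_sup_of_normal_right.mp h1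
    have hgen : ∀ y ∈ Group.conjugatesOfSet (D : Set G), y * (x' : G) = (x' : G) * y := by
      intro y hy
      obtain ⟨d, hd, hcj⟩ := Group.mem_conjugatesOfSet_iff.mp hy
      obtain ⟨g, rfl⟩ := isConj_iff.mp hcj
      obtain ⟨n, hn, c, hc', rfl⟩ := hdecomp g
      have hcd : c * d * c⁻¹ = d := by
        have h3 := Subgroup.mem_centralizer_iff.mp hc' d (hDD₁ hd)
        rw [← h3]; group
      have e1 : n * c * d * (n * c)⁻¹ = n * d * n⁻¹ := by
        calc n * c * d * (n * c)⁻¹ = n * (c * d * c⁻¹) * n⁻¹ := by group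
          _ = n * d * n⁻¹ := by rw [hcd]
      rw [e1]
      have hx₁ : n⁻¹ * (x' : G) * n ∈ (S : Subgroup G) ⊓ R :=
        conj_mem_of_mem_normalizer' hn ⟨hxS, hxR⟩
      have hcl₁ : ⁅⁅D ⊔ Subgroup.zpowers (n⁻¹ * (x' : G) * n),
          D ⊔ Subgroup.zpowers (n⁻¹ * (x' : G) * n)⁆,
          D ⊔ Subgroup.zpowers (n⁻¹ * (x' : G) * n)⁆ = ⊥ := by
        have h3 := class2_map (MulAut.conj n⁻¹).toMonoidHom _ hcl
        apply class2_mono _ h3
        have e2 : (MulAut.conj n⁻¹).toMonoidHom (x' : G) = n⁻¹ * (x' : G) * n := by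
          show n⁻¹ * (x' : G) * n⁻¹⁻¹ = _
          rw [inv_inv]
        rw [Subgroup.map_sup, MonoidHom.map_zpowers, e2]
        apply sup_le_sup_right
        intro d' hd'
        refine ⟨n * d' * n⁻¹, hD₁n.conj_mem d' (hDD₁ hd') n, ?_⟩
        show n⁻¹ * (n * d' * n⁻¹) * n⁻¹⁻¹ = d'
        group
      have h4 := FP _ hx₁.1 hcl₁ d hd
      calc n * d * n⁻¹ * (x' : G) = n * (d * (n⁻¹ * (x' : G) * n)) * n⁻¹ := by group
        _ = n * ((n⁻¹ * (x' : G) * n) * d) * n⁻¹ := by rw [h4]
        _ = (x' : G) * (n * d * n⁻¹) := by group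
    intro a ha
    have hle : Subgroup.normalClosure (D : Set G) ≤ Subgroup.centralizer ({(x' : G)} : Set G) := by
      show Subgroup.closure (Group.conjugatesOfSet (D : Set G)) ≤ _
      rw [Subgroup.closure_le]
      intro y hy
      exact Subgroup.mem_centralizer_singleton_iff.mpr (hgen y hy)
    exact Subgroup.mem_centralizer_singleton_iff.mp (hle ha)
  -- step 5
  have hle : Subgroup.normalClosure (D : Set G) ≤ D := by
    have h1 : (Subgroup.normalClosure (D : Set G)).subgroupOf (S : Subgroup G) ≤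
        Cfsg.dStar ↥(S : Subgroup G) := le_sSup hfam
    have h2 := Subgroup.map_mono (f := (S : Subgroup G).subtype) h1
    rwa [Subgroup.map_subgroupOf_eq_of_le hD₁S] at h2
  have heq : D = Subgroup.normalClosure (D : Set G) := le_antisymm hDD₁ hle
  rw [heq]; exact hD₁n


end Cfsg.Agent.S3060
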