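import Cfsg.Statements.S3063
-- import your own Cfsg.Agent.* helpers here
import Cfsg.Agent.S3061
import Cfsg.Agent.S3062
import Cfsg.Agent.S0649
import Cfsg.Agent.S0650
import Cfsg.Agent.Lib.helper15.SubnSyl
import Cfsg.Agent.Lib.helper8.CoprimeAction

set_option autoImplicit false
open Cfsg

namespace Cfsg.Agent.S3063

open Cfsg.Agent.S3062 Cfsg.Agent.Lib.helper15 Cfsg.Agent.Lib.helper8
open scoped commutatorElement

theorem comm_mem {S : Type*} [Group S] (g h : S) : g * h * g⁻¹ * h⁻¹ ∈ commutator S := by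
  rw [commutator_def, ← commutatorElement_def]
  exact Subgroup.commutator_mem_commutator (Subgroup.mem_top g) (Subgroup.mem_top h)

theorem comm_of_le {S : Type*} [Group S] {A B : Subgroup S} (h : A ≤ B)
    (hB : IsMulCommutative ↥B) : IsMulCommutative ↥A :=
  ⟨⟨fun a b => Subtype.ext (setLike_mul_comm (h a.2) (h b.2))⟩⟩

/-- A weak replacement Theorem for metabelian p-groups: let S be a finite p-group whose derived subgroup is abelian and A an abelian subgroup of S of largest possible order. Then the normal closure of A in S contains an abelian subgroup B of the same order as A that is normal in S. -/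
theorem result {S : Type*} [Group S] [Finite S] {p : ℕ} [Fact p.Prime]
    (hS : IsPGroup p S) (hmeta : IsMulCommutative ↥(commutator S))
    (A : Subgroup S) (hA : A ∈ Cfsg.maxAbelianSubgroups S) :
    ∃ B ∈ Cfsg.maxAbelianSubgroups S, B.Normal ∧ B ≤ Subgroup.normalClosure (A : Set S) := by
  classical
  have hMn : (commutator S).Normal := inferInstance
  have hMc : IsMulCommutative ↥(commutator S) := hmeta
  have hNn : (Subgroup.normalClosure (A : Set S)).Normal := Subgroup.normalClosure_normal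
  obtain ⟨A₁, ⟨hA₁, hA₁N⟩, hmax⟩ := Set.exists_max_image
    {X : Subgroup S | X ∈ Cfsg.maxAbelianSubgroups S ∧ X ≤ Subgroup.normalClosure (A : Set S)}
    (fun X => Nat.card ↥(X ⊓ commutator S)) (Set.toFinite _) ⟨A, hA, Subgroup.le_normalClosure⟩
  have hA₁c : IsMulCommutative ↥A₁ := hA₁.1
  -- Step 1: the derived subgroup normalizes A₁
  have hMN : commutator S ≤ Subgroup.normalizer (A₁ : Set S) := by
    by_contra hnot
    have hBB : ⁅commutator S, commutator S⁆ ≤ A₁ := by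
      have h0 : ⁅commutator S, commutator S⁆ = ⊥ := by
        rw [Subgroup.commutator_eq_bot_iff_le_centralizer]
        exact Subgroup.le_centralizer (commutator S)
      rw [h0]; exact bot_le
    obtain ⟨b, hb, hbN, hbA⟩ := Cfsg.Agent.S0649.result hS (commutator S) (fun _ => hMc) A₁
      hA₁c hBB hnot
    obtain ⟨h1, h2, -, h4, -⟩ := Cfsg.Agent.S0650.result hS (commutator S) (fun _ => hMc) A₁
      hA₁c hBB hnot b hb hbN hbA
    have hAsN : (A₁ ⊓ A₁.map (MulAut.conj (b⁻¹)).toMonoidHom) ⊔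
        Subgroup.closure {g : S | ∃ a ∈ A₁, g = a * b⁻¹ * a⁻¹ * b} ≤
        Subgroup.normalClosure (A : Set S) := by
      apply sup_le (inf_le_left.trans hA₁N)
      rw [Subgroup.closure_le]
      rintro g ⟨a, ha, rfl⟩
      have h5 := hNn.conj_mem _ (Subgroup.inv_mem _ (hA₁N ha)) b⁻¹
      rw [inv_inv] at h5
      have e : a * b⁻¹ * a⁻¹ * b = a * (b⁻¹ * a⁻¹ * b) := by group
      rw [e]; exact Subgroup.mul_mem _ (hA₁N ha) h5
    have hAs : (A₁ ⊓ A₁.map (MulAut.conj (b⁻¹)).toMonoidHom) ⊔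
        Subgroup.closure {g : S | ∃ a ∈ A₁, g = a * b⁻¹ * a⁻¹ * b} ∈
        Cfsg.maxAbelianSubgroups S := ⟨h2, fun B hB => by rw [h1]; exact hA₁.2 B hB⟩
    have h6 := hmax _ ⟨hAs, hAsN⟩
    exact h4.ne (Subgroup.eq_of_le_of_card_ge h4.le h6)
  -- Step 2: it normalizes every conjugate of A₁
  have hMNs : ∀ s : S, commutator S ≤
      Subgroup.normalizer ((A₁.map (MulAut.conj s).toMonoidHom : Subgroup S) : Set S) := by
    intro s
    apply le_normalizer_of_conj_mem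
    rintro m hm _ ⟨a, ha, rfl⟩
    have hm' : s⁻¹ * m * s ∈ commutator S := by
      have h1 := hMn.conj_mem m hm s⁻¹
      rwa [inv_inv] at h1
    refine ⟨(s⁻¹ * m * s) * a * (s⁻¹ * m * s)⁻¹, conj_mem_of_mem_normalizer (hMN hm') ha, ?_⟩
    show s * ((s⁻¹ * m * s) * a * (s⁻¹ * m * s)⁻¹) * s⁻¹ = m * (s * a * s⁻¹) * m⁻¹
    group
  -- Step 3: A₁ ⊓ S' is normal in S
  have hDs : ∀ s : S, ∀ d ∈ A₁ ⊓ commutator S, s * d * s⁻¹ ∈ A₁ := by
    intro s d hd
    have hAsc : IsMulCommutative ↥(A₁.map (MulAut.conj s).toMonoidHom) :=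
      Subgroup.map_isMulCommutative _ _
    have hdAs : s * d * s⁻¹ ∈ A₁.map (MulAut.conj s).toMonoidHom := ⟨d, hd.1, rfl⟩
    have hdM : s * d * s⁻¹ ∈ commutator S := hMn.conj_mem d hd.2 s
    have hcomm : ∀ a ∈ A₁, a * (s * d * s⁻¹) = (s * d * s⁻¹) * a := by
      intro a ha
      have hm : (s * a * s⁻¹)⁻¹ * a ∈ commutator S := by
        have h1 := comm_mem s a⁻¹
        rw [inv_inv] at h1
        have e : (s * a * s⁻¹)⁻¹ * a = s * a⁻¹ * s⁻¹ * a := by group
        rw [e]; exact h1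
      have haAs : s * a * s⁻¹ ∈ A₁.map (MulAut.conj s).toMonoidHom := ⟨a, ha, rfl⟩
      have h1 : (s * a * s⁻¹) * (s * d * s⁻¹) = (s * d * s⁻¹) * (s * a * s⁻¹) :=
        setLike_mul_comm haAs hdAs
      have h2 : ((s * a * s⁻¹)⁻¹ * a) * (s * d * s⁻¹) = (s * d * s⁻¹) * ((s * a * s⁻¹)⁻¹ * a) :=
        setLike_mul_comm hm hdM
      calc a * (s * d * s⁻¹)
          = (s * a * s⁻¹) * (((s * a * s⁻¹)⁻¹ * a) * (s * d * s⁻¹)) := by group
        _ = (s * a * s⁻¹) * ((s * d * s⁻¹) * ((s * a * s⁻¹)⁻¹ * a)) := by rw [h2]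
        _ = ((s * a * s⁻¹) * (s * d * s⁻¹)) * ((s * a * s⁻¹)⁻¹ * a) := by group
        _ = ((s * d * s⁻¹) * (s * a * s⁻¹)) * ((s * a * s⁻¹)⁻¹ * a) := by rw [h1]
        _ = (s * d * s⁻¹) * a := by group
    have hsup : IsMulCommutative ↥(A₁ ⊔ Subgroup.zpowers (s * d * s⁻¹)) := by
      apply sup_comm_of_comm A₁ _ hA₁c inferInstance
      intro a ha z hz
      obtain ⟨i, rfl⟩ := Subgroup.mem_zpowers_iff.mp hz
      exact ((show Commute a (s * d * s⁻¹) from hcomm a ha).zpow_right i).eq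
    have hle := hA₁.2 _ hsup
    have heq := Subgroup.eq_of_le_of_card_ge
      (le_sup_left : A₁ ≤ A₁ ⊔ Subgroup.zpowers (s * d * s⁻¹)) hle
    rw [heq]; exact Subgroup.mem_sup_right (Subgroup.mem_zpowers _)
  -- Step 4: every x normalizes A₁
  have hnorm : ∀ x : S, x ∈ Subgroup.normalizer (A₁ : Set S) := by
    intro x
    have hAxc : IsMulCommutative ↥(A₁.map (MulAut.conj x).toMonoidHom) :=
      Subgroup.map_isMulCommutative _ _
    have hw : ∀ a : S, a⁻¹ * (x * a * x⁻¹) ∈ commutator S := by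
      intro a
      have h1 := comm_mem a⁻¹ x
      rw [inv_inv] at h1
      have e : a⁻¹ * (x * a * x⁻¹) = a⁻¹ * x * a * x⁻¹ := by group
      rw [e]; exact h1
    have hAxle : A₁.map (MulAut.conj x).toMonoidHom ≤ A₁ ⊔ commutator S := by
      rintro _ ⟨a, ha, rfl⟩
      show x * a * x⁻¹ ∈ _
      have e : x * a * x⁻¹ = a * (a⁻¹ * (x * a * x⁻¹)) := by group
      rw [e]
      exact Subgroup.mul_mem _ (Subgroup.mem_sup_left ha) (Subgroup.mem_sup_right (hw a))
    have hA₁le : A₁ ≤ A₁.map (MulAut.conj x).toMonoidHom ⊔ commutator S := by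
      intro a ha
      have e : a = (x * a * x⁻¹) * (a⁻¹ * (x * a * x⁻¹))⁻¹ := by group
      rw [e]
      exact Subgroup.mul_mem _ (Subgroup.mem_sup_left ⟨a, ha, rfl⟩)
        (Subgroup.mem_sup_right (Subgroup.inv_mem _ (hw a)))
    have hAxN : A₁.map (MulAut.conj x).toMonoidHom ≤ Subgroup.normalizer (A₁ : Set S) :=
      hAxle.trans (sup_le Subgroup.le_normalizer hMN)
    have hA₁N' : A₁ ≤ Subgroup.normalizer
        ((A₁.map (MulAut.conj x).toMonoidHom : Subgroup S) : Set S) :=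
      hA₁le.trans (sup_le Subgroup.le_normalizer (hMNs x))
    have hK1 : ⁅A₁ ⊔ A₁.map (MulAut.conj x).toMonoidHom,
        A₁ ⊔ A₁.map (MulAut.conj x).toMonoidHom⁆ ≤ A₁ :=
      Cfsg.Agent.S3061.comm_le_left A₁ _ hAxc hAxN
    have hK2 : ⁅A₁ ⊔ A₁.map (MulAut.conj x).toMonoidHom,
        A₁ ⊔ A₁.map (MulAut.conj x).toMonoidHom⁆ ≤ A₁.map (MulAut.conj x).toMonoidHom := by
      have h1 := Cfsg.Agent.S3061.comm_le_left (A₁.map (MulAut.conj x).toMonoidHom) A₁ hA₁c hA₁N'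
      rwa [sup_comm] at h1
    obtain ⟨Ax, hAx⟩ : ∃ Ax : Subgroup S, Ax = A₁.map (MulAut.conj x).toMonoidHom := ⟨_, rfl⟩
    rw [← hAx] at hAxc hAxle hA₁le hAxN hA₁N' hK1 hK2
    obtain ⟨W, hW⟩ : ∃ W : Subgroup S,
        W = Subgroup.closure {g : S | ∃ a ∈ A₁, g = a⁻¹ * (x * a * x⁻¹)} := ⟨_, rfl⟩
    have hmemAx : ∀ a ∈ A₁, x * a * x⁻¹ ∈ Ax := by
      intro a ha; rw [hAx]; exact ⟨a, ha, rfl⟩
    have hgenW : ∀ a ∈ A₁, a⁻¹ * (x * a * x⁻¹) ∈ W := by
      intro a ha; rw [hW]; exact Subgroup.subset_closure ⟨a, ha, rfl⟩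
    have hWM : W ≤ commutator S := by
      rw [hW, Subgroup.closure_le]
      rintro g ⟨a, ha, rfl⟩
      exact hw a
    have hWK : W ≤ A₁ ⊔ Ax := by
      rw [hW, Subgroup.closure_le]
      rintro g ⟨a, ha, rfl⟩
      exact Subgroup.mul_mem _ (Subgroup.mem_sup_left (A₁.inv_mem ha))
        (Subgroup.mem_sup_right (hmemAx a ha))
    have hUK : ∀ u ∈ A₁ ⊓ Ax, ∀ k ∈ A₁ ⊔ Ax, u * k = k * u := by
      intro u hu k hk
      have hle : A₁ ⊔ Ax ≤ Subgroup.centralizer ({u} : Set S) := by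
        apply sup_le
        · intro a ha
          exact Subgroup.mem_centralizer_singleton_iff.mpr (setLike_mul_comm ha hu.1)
        · intro a ha
          exact Subgroup.mem_centralizer_singleton_iff.mpr (setLike_mul_comm ha hu.2)
      exact (Subgroup.mem_centralizer_singleton_iff.mp (hle hk)).symm
    have hUc : IsMulCommutative ↥(A₁ ⊓ Ax) := comm_of_le inf_le_left hA₁c
    have hWc : IsMulCommutative ↥W := comm_of_le hWM hMc
    have hAstarc : IsMulCommutative ↥((A₁ ⊓ Ax) ⊔ W) :=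
      sup_comm_of_comm _ W hUc hWc (fun u hu w hw' => hUK u hu w (hWK hw'))
    have hAstarK : (A₁ ⊓ Ax) ⊔ W ≤ A₁ ⊔ Ax := sup_le (inf_le_left.trans le_sup_left) hWK
    have hA₁Nstar : A₁ ≤ Subgroup.normalizer ((((A₁ ⊓ Ax) ⊔ W : Subgroup S)) : Set S) := by
      apply le_normalizer_of_conj_mem
      intro a ha y hy
      have h1 : a * y * a⁻¹ * y⁻¹ ∈ ⁅A₁ ⊔ Ax, A₁ ⊔ Ax⁆ := by
        rw [← commutatorElement_def]
        exact Subgroup.commutator_mem_commutator (Subgroup.mem_sup_left ha) (hAstarK hy)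
      have h2 : a * y * a⁻¹ * y⁻¹ ∈ (A₁ ⊓ Ax) ⊔ W :=
        Subgroup.mem_sup_left ⟨hK1 h1, hK2 h1⟩
      have e : a * y * a⁻¹ = (a * y * a⁻¹ * y⁻¹) * y := by group
      rw [e]; exact Subgroup.mul_mem _ h2 hy
    have hsupeq : A₁ ⊔ Ax = A₁ ⊔ ((A₁ ⊓ Ax) ⊔ W) := by
      apply le_antisymm
      · apply sup_le le_sup_left
        rw [hAx]
        rintro _ ⟨a, ha, rfl⟩
        show x * a * x⁻¹ ∈ _
        have e : x * a * x⁻¹ = a * (a⁻¹ * (x * a * x⁻¹)) := by group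
        rw [e]
        exact Subgroup.mul_mem _ (Subgroup.mem_sup_left ha)
          (Subgroup.mem_sup_right (Subgroup.mem_sup_right (hgenW a ha)))
      · exact sup_le le_sup_left hAstarK
    have c1 := card_sup_mul_card_inf A₁ Ax hA₁N'
    have c2 := card_sup_mul_card_inf A₁ ((A₁ ⊓ Ax) ⊔ W) hA₁Nstar
    have c3 : Nat.card ↥Ax = Nat.card ↥A₁ := by
      rw [hAx]; exact Subgroup.card_map_of_injective (MulAut.conj x).injective
    have c4 : Nat.card ↥(A₁ ⊓ Ax : Subgroup S) ≤ Nat.card ↥(A₁ ⊓ ((A₁ ⊓ Ax) ⊔ W) : Subgroup S) :=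
      Subgroup.card_le_of_le (le_inf inf_le_left le_sup_left)
    have hcardge : Nat.card ↥A₁ ≤ Nat.card ↥((A₁ ⊓ Ax) ⊔ W : Subgroup S) := by
      rw [← hsupeq] at c2
      rw [c3] at c1
      have h1 : Nat.card ↥A₁ * Nat.card ↥A₁ ≤
          Nat.card ↥A₁ * Nat.card ↥((A₁ ⊓ Ax) ⊔ W : Subgroup S) := by
        rw [← c1, ← c2]; exact Nat.mul_le_mul_left _ c4
      exact Nat.le_of_mul_le_mul_left h1 Nat.card_pos
    have hAs : (A₁ ⊓ Ax) ⊔ W ∈ Cfsg.maxAbelianSubgroups S :=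
      ⟨hAstarc, fun B hB => (hA₁.2 B hB).trans hcardge⟩
    have hAsN : (A₁ ⊓ Ax) ⊔ W ≤ Subgroup.normalClosure (A : Set S) := by
      refine hAstarK.trans (sup_le hA₁N ?_)
      rw [hAx]
      rintro _ ⟨a, ha, rfl⟩
      exact hNn.conj_mem a (hA₁N ha) x
    have h6 := hmax _ ⟨hAs, hAsN⟩
    have hDU : A₁ ⊓ commutator S ≤ A₁ ⊓ Ax := by
      intro d hd
      refine ⟨hd.1, ?_⟩
      have h7 := hDs x⁻¹ d hd
      rw [inv_inv] at h7
      have h8 := hmemAx _ h7
      have e : x * (x⁻¹ * d * x) * x⁻¹ = d := by group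
      rwa [e] at h8
    have hle2 : (A₁ ⊓ commutator S) ⊔ W ≤ ((A₁ ⊓ Ax) ⊔ W) ⊓ commutator S := by
      apply sup_le
      · exact le_inf (hDU.trans le_sup_left) inf_le_right
      · exact le_inf le_sup_right hWM
    have hcard2 : Nat.card ↥((A₁ ⊓ commutator S) ⊔ W : Subgroup S) ≤
        Nat.card ↥(A₁ ⊓ commutator S : Subgroup S) := (Subgroup.card_le_of_le hle2).trans h6
    have heq2 := Subgroup.eq_of_le_of_card_ge
      (le_sup_left : A₁ ⊓ commutator S ≤ (A₁ ⊓ commutator S) ⊔ W) hcard2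
    have hWA : W ≤ A₁ := by
      have h9 : W ≤ (A₁ ⊓ commutator S) ⊔ W := le_sup_right
      rw [← heq2] at h9
      exact h9.trans inf_le_left
    apply Cfsg.Agent.S3061.mem_normalizer_of_conj_le
    intro a ha
    have e : x * a * x⁻¹ = a * (a⁻¹ * (x * a * x⁻¹)) := by group
    rw [e]
    exact A₁.mul_mem ha (hWA (hgenW a ha))
  refine ⟨A₁, hA₁, ?_, hA₁N⟩
  rw [← Subgroup.normalizer_eq_top_iff, eq_top_iff]
  intro x _
  exact hnorm x


end Cfsg.Agent.S3063
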