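import Cfsg.Statements.S3178
import Mathlib
import Cfsg.Agent.Lib.helper16.Burn
import Cfsg.Agent.S3225

set_option autoImplicit false
open Cfsg

namespace Cfsg.Agent.S3178

open Cfsg.Agent.Lib.helper16

structure MR {G : Type*} [Group G] (a b z : G) : Prop where
  zz : z * z = 1
  za : Commute z a
  zb : Commute z b
  bb : b * b = 1
  ba : b * a = z * a * b

namespace MR
variable {G : Type*} [Group G] {a b z : G}

theorem zpow_two (h : MR a b z) (i : ℕ) : z ^ (2 * i) = 1 := by
  rw [pow_mul, pow_two, h.zz, one_pow]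

theorem zpow_eq_one_iff (h : MR a b z) (hz : z ≠ 1) (i : ℕ) : z ^ i = 1 ↔ Even i := by
  constructor
  · intro e
    by_contra hodd
    rw [Nat.not_even_iff_odd] at hodd
    obtain ⟨m, rfl⟩ := hodd
    rw [pow_succ, h.zpow_two, one_mul] at e
    exact hz e
  · rintro ⟨m, rfl⟩
    rw [← two_mul, h.zpow_two]

theorem zpow_odd (h : MR a b z) (i : ℕ) (hi : Odd i) : z ^ i = z := by
  obtain ⟨m, rfl⟩ := hi
  rw [pow_succ, h.zpow_two, one_mul]

theorem zpow_eq_of_even (h : MR a b z) (i j : ℕ) (he : Even (i + j)) : z ^ i = z ^ j := by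
  have h1 : z ^ (i + j) = 1 := by
    obtain ⟨m, hm⟩ := he
    rw [hm, ← two_mul, h.zpow_two]
  have h2 : z ^ j * z ^ j = 1 := by rw [← pow_add, ← two_mul, h.zpow_two]
  rw [pow_add] at h1
  calc z ^ i = z ^ i * (z ^ j * z ^ j) := by rw [h2, mul_one]
    _ = (z ^ i * z ^ j) * z ^ j := by rw [mul_assoc]
    _ = z ^ j := by rw [h1, one_mul]

theorem b_pow (h : MR a b z) (i : ℕ) : b * a ^ i = z ^ i * a ^ i * b := by
  induction i with
  | zero => simp
  | succ i ih =>
    have hc : Commute (a ^ i) z := (h.za.pow_right i).symm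
    calc b * a ^ (i + 1) = (b * a ^ i) * a := by rw [pow_succ, mul_assoc]
      _ = z ^ i * a ^ i * (b * a) := by rw [ih]; simp only [mul_assoc]
      _ = z ^ i * a ^ i * (z * a * b) := by rw [h.ba]
      _ = z ^ i * (a ^ i * z) * a * b := by simp only [mul_assoc]
      _ = z ^ i * (z * a ^ i) * a * b := by rw [hc.eq]
      _ = z ^ (i + 1) * a ^ (i + 1) * b := by rw [pow_succ, pow_succ]; simp only [mul_assoc]

theorem mul_bb (h : MR a b z) (i j : ℕ) : (a ^ i * b) * (a ^ j * b) = z ^ j * a ^ (i + j) := by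
  have hc : Commute (a ^ i) (z ^ j) := ((h.za.pow_right i).pow_left j).symm
  calc (a ^ i * b) * (a ^ j * b) = a ^ i * (b * a ^ j) * b := by simp only [mul_assoc]
    _ = a ^ i * (z ^ j * a ^ j * b) * b := by rw [h.b_pow]
    _ = (a ^ i * z ^ j) * a ^ j * (b * b) := by simp only [mul_assoc]
    _ = z ^ j * a ^ (i + j) := by rw [hc.eq, h.bb, mul_one, pow_add, mul_assoc]

theorem comm_b_pow (h : MR a b z) (i : ℕ) : b * a ^ i = a ^ i * b ↔ z ^ i = 1 := by
  rw [h.b_pow]
  constructor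
  · intro e
    have : z ^ i * (a ^ i * b) = 1 * (a ^ i * b) := by rw [one_mul, ← mul_assoc]; exact e
    exact mul_right_cancel this
  · intro e; rw [e, one_mul]

theorem comm_b_pow_b (h : MR a b z) (i : ℕ) : b * (a ^ i * b) = (a ^ i * b) * b ↔ z ^ i = 1 := by
  rw [← mul_assoc, mul_left_inj]
  exact h.comm_b_pow i

end MR

/-- Groups with a modular Sylow 2-subgroup have a normal 2-complement. Let S, of order 2^(n+1) with n ≥ 3, be a Sylow 2-subgroup of a finite group G, and suppose S contains an element a of order 2^n and an involution b with b a b⁻¹ = a^(2^(n-1) + 1); so S is the non-abelian 2-group with a cyclic subgroup of index 2 that is neither dihedral, semidihedral nor generalized quaternion. Then G has a normal 2-complement. -/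
theorem result {G : Type*} [Group G] [Finite G]
    (S : Sylow 2 G) (n : ℕ) (hn : 3 ≤ n) (hS : Nat.card ↥(S : Subgroup G) = 2 ^ (n + 1))
    (a b : G) (ha : a ∈ (S : Subgroup G)) (hb : b ∈ (S : Subgroup G))
    (hao : orderOf a = 2 ^ n) (hbo : orderOf b = 2) (hrel : b * a * b⁻¹ = a ^ (2 ^ (n - 1) + 1)) :
    Cfsg.HasNormalPComplement 2 G := by
  have h2 : Fact (Nat.Prime 2) := ⟨Nat.prime_two⟩
  obtain ⟨k, rfl⟩ : ∃ k, n = k + 3 := ⟨n - 3, by omega⟩
  have hrel' : b * a * b⁻¹ = a ^ (2 ^ (k + 2) + 1) := hrel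
  obtain ⟨z, hz⟩ : ∃ z, z = a ^ 2 ^ (k + 2) := ⟨_, rfl⟩
  have hz1 : z ≠ 1 := by
    intro h
    rw [hz] at h
    have := orderOf_dvd_of_pow_eq_one h
    rw [hao] at this
    have := (Nat.pow_dvd_pow_iff_le_right (by norm_num : 1 < 2)).mp this
    omega
  have hzz : z * z = 1 := by
    rw [hz, ← pow_add, ← two_mul, ← pow_succ', ← hao, pow_orderOf_eq_one]
  have hza : Commute z a := by rw [hz]; exact (Commute.refl a).pow_left _
  have hbb : b * b = 1 := by rw [← pow_two, ← hbo, pow_orderOf_eq_one]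
  have hbinv : b⁻¹ = b := inv_eq_of_mul_eq_one_left hbb
  have hba : b * a = z * a * b := by
    have : b * a = a ^ (2 ^ (k + 2) + 1) * b := by rw [← hrel']; simp [mul_assoc]
    rw [this, pow_succ, hz]
  have hz2k : ∀ m : ℕ, z ^ (2 * m) = 1 := by
    intro m; rw [pow_mul, pow_two, hzz, one_pow]
  have hzb : Commute z b := by
    have e1 : b * z * b⁻¹ = (b * a * b⁻¹) ^ 2 ^ (k + 2) := by rw [hz, conj_pow]
    rw [hrel', pow_succ, ← hz, hza.mul_pow, ← hz, pow_succ' 2 (k + 1), hz2k, one_mul] at e1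
    have : b * z = z * b := by
      calc b * z = (b * z * b⁻¹) * b := by simp [mul_assoc]
        _ = z * b := by rw [e1]
    exact this.symm
  have hmr : MR a b z := ⟨hzz, hza, hzb, hbb, hba⟩
  have hP4 : ∀ i : ℕ, (a ^ i) ^ 2 ^ (k + 2) = z ^ i := by
    intro i; rw [hz, ← pow_mul, ← pow_mul, mul_comm]
  have hP5 : ∀ i : ℕ, (a ^ i * b) ^ 2 ^ (k + 2) = z ^ i := by
    intro i
    have hc : Commute (z ^ i) (a ^ (i + i)) := (hza.pow_right _).pow_left _
    rw [pow_succ' 2 (k + 1), pow_mul, pow_two, hmr.mul_bb, hc.mul_pow, ← pow_mul, ← pow_mul,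
      pow_succ' 2 k, show i * (2 * 2 ^ k) = 2 * (i * 2 ^ k) by ring, hz2k, one_mul, hz, ← pow_mul]
    congr 1
    ring
  -- normal form
  have hAS : Subgroup.zpowers a ≤ (S : Subgroup G) := by rw [Subgroup.zpowers_le]; exact ha
  have hAidx : (Subgroup.zpowers a).relIndex (S : Subgroup G) = 2 := by
    have h1 := Subgroup.relIndex_mul_relIndex ⊥ (Subgroup.zpowers a) (S : Subgroup G) bot_le hAS
    rw [Subgroup.relIndex_bot_left, Subgroup.relIndex_bot_left, Nat.card_zpowers, hao, hS] at h1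
    have : 2 ^ (k + 3) * (Subgroup.zpowers a).relIndex (S : Subgroup G) = 2 ^ (k + 3) * 2 := by
      rw [h1]; ring
    exact Nat.eq_of_mul_eq_mul_left (by positivity) this
  have hbA : b ∉ Subgroup.zpowers a := by
    intro hb'
    obtain ⟨j, hj⟩ := Subgroup.mem_zpowers_iff.mp hb'
    have hc : Commute b a := by rw [← hj]; exact (Commute.refl a).zpow_left j
    have h1 : z * (a * b) = 1 * (a * b) := by
      rw [one_mul, ← mul_assoc, ← hba]; exact hc.eq
    exact hz1 (mul_right_cancel h1)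
  have hNF : ∀ x ∈ (S : Subgroup G), ∃ i : ℕ, x = a ^ i ∨ x = a ^ i * b := by
    intro x hx
    have hidx : ((Subgroup.zpowers a).subgroupOf (S : Subgroup G)).index = 2 := hAidx
    by_cases hxA : x ∈ Subgroup.zpowers a
    · rw [← mem_powers_iff_mem_zpowers] at hxA
      obtain ⟨i, hi⟩ := hxA
      have hi' : a ^ i = x := hi
      exact ⟨i, Or.inl hi'.symm⟩
    · have h1 := Subgroup.mul_mem_iff_of_index_two hidx (a := (⟨x, hx⟩ : S)) (b := ⟨b, hb⟩)
      have h3 : x * b ∈ Subgroup.zpowers a := by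
        have : (⟨x, hx⟩ : S) * ⟨b, hb⟩ ∈ (Subgroup.zpowers a).subgroupOf (S : Subgroup G) := by
          rw [h1]
          simp only [Subgroup.mem_subgroupOf]
          exact ⟨fun h => absurd h hxA, fun h => absurd h hbA⟩
        exact Subgroup.mem_subgroupOf.mp this
      rw [← mem_powers_iff_mem_zpowers] at h3
      obtain ⟨i, hi⟩ := h3
      have hi' : a ^ i = x * b := hi
      refine ⟨i, Or.inr ?_⟩
      rw [hi', mul_assoc, hbb, mul_one]
  -- the subgroup M
  obtain ⟨M, hMdef⟩ : ∃ M : Subgroup G, M = (S : Subgroup G) ⊓ Subgroup.centralizer {b} := ⟨_, rfl⟩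
  have hmemM : ∀ x, x ∈ M ↔ x ∈ (S : Subgroup G) ∧ b * x = x * b := by
    intro x
    rw [hMdef, Subgroup.mem_inf, Subgroup.mem_centralizer_singleton_iff]
    constructor
    · rintro ⟨h1, h2⟩; exact ⟨h1, h2.symm⟩
    · rintro ⟨h1, h2⟩; exact ⟨h1, h2.symm⟩
  have hzS : z ∈ (S : Subgroup G) := by rw [hz]; exact Subgroup.pow_mem _ ha _
  have hM1 : ∀ i : ℕ, a ^ i ∈ M ↔ Even i := by
    intro i
    rw [hmemM, hmr.comm_b_pow, hmr.zpow_eq_one_iff hz1]
    exact and_iff_right (Subgroup.pow_mem _ ha _)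
  have hM2 : ∀ i : ℕ, a ^ i * b ∈ M ↔ Even i := by
    intro i
    rw [hmemM, hmr.comm_b_pow_b, hmr.zpow_eq_one_iff hz1]
    exact and_iff_right (Subgroup.mul_mem _ (Subgroup.pow_mem _ ha _) hb)
  have hzM : z ∈ M := by
    rw [hmemM]; exact ⟨hzS, hzb.eq.symm⟩
  have hMS : M ≤ (S : Subgroup G) := by rw [hMdef]; exact inf_le_left
  have hMidx : M.relIndex (S : Subgroup G) = 2 := by
    rw [Subgroup.relIndex_eq_two_iff]
    refine ⟨a, ha, fun x hx => ?_⟩
    obtain ⟨i, rfl | rfl⟩ := hNF x hx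
    · rw [← pow_succ, hM1, hM1, Nat.even_add_one]
      by_cases he : Even i
      · exact Or.inr ⟨he, fun h => h he⟩
      · exact Or.inl ⟨he, he⟩
    · have e : a ^ i * b * a = z * (a ^ (i + 1) * b) := by
        have hc : Commute (a ^ i) z := (hza.pow_right i).symm
        calc a ^ i * b * a = a ^ i * (b * a) := by rw [mul_assoc]
          _ = a ^ i * (z * a * b) := by rw [hba]
          _ = (a ^ i * z) * a * b := by simp only [mul_assoc]
          _ = z * (a ^ (i + 1) * b) := by rw [hc.eq, pow_succ]; simp only [mul_assoc]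
      rw [e, Subgroup.mul_mem_cancel_left _ hzM, hM2, hM2, Nat.even_add_one]
      by_cases he : Even i
      · exact Or.inr ⟨he, fun h => h he⟩
      · exact Or.inl ⟨he, he⟩
  have hpowz : ∀ y ∈ (S : Subgroup G), y ∉ M → y ^ 2 ^ (k + 2) ≠ 1 := by
    intro y hy hyM
    obtain ⟨i, rfl | rfl⟩ := hNF y hy
    · rw [hM1] at hyM
      rw [hP4, Ne, hmr.zpow_eq_one_iff hz1]; exact hyM
    · rw [hM2] at hyM
      rw [hP5, Ne, hmr.zpow_eq_one_iff hz1]; exact hyM
  have hpowM : ∀ y ∈ M, y ^ 2 ^ (k + 2) = 1 := by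
    intro y hyM
    obtain ⟨i, rfl | rfl⟩ := hNF y (hMS hyM)
    · rw [hM1] at hyM
      rw [hP4, hmr.zpow_eq_one_iff hz1]; exact hyM
    · rw [hM2] at hyM
      rw [hP5, hmr.zpow_eq_one_iff hz1]; exact hyM
  have hord : ∀ y ∈ (S : Subgroup G), y ∉ M → 2 ^ (k + 3 - 1) < orderOf y := by
    intro y hy hyM
    have h1 := hpowz y hy hyM
    have h3 : orderOf y ∣ 2 ^ (k + 3 + 1) := by
      rw [← hS]
      have := orderOf_dvd_natCard (⟨y, hy⟩ : S)
      rwa [← Subgroup.orderOf_coe] at this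
    obtain ⟨e, he, hye⟩ := (Nat.dvd_prime_pow Nat.prime_two).mp h3
    rw [hye]
    apply Nat.pow_lt_pow_right (by norm_num)
    by_contra hlt
    apply h1
    apply orderOf_dvd_iff_pow_eq_one.mp
    rw [hye]
    exact pow_dvd_pow 2 (by omega)
  have hnoconj : ∀ g : G, g * a * g⁻¹ ∉ M := by
    intro g hg
    have := hpowM _ hg
    rw [conj_pow, ← hz] at this
    apply hz1
    have h3 : z = g⁻¹ * (g * z * g⁻¹) * g := by simp [mul_assoc]
    rw [h3, this]; simp
  have hev : Even (Nat.card G) := by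
    have h1 : Nat.card (S : Subgroup G) ∣ Nat.card G := Subgroup.card_subgroup_dvd_card _
    rw [hS] at h1
    exact even_iff_two_dvd.mpr (dvd_trans (dvd_pow_self 2 (by omega)) h1)
  obtain ⟨H, hH⟩ : ∃ H : Subgroup G, H.index = 2 := by
    by_contra hno
    push Not at hno
    obtain ⟨g, hg⟩ := Cfsg.Agent.S3225.result hev hno S M hMS hMidx (k + 3) (by omega) hord a ha hao
    exact hnoconj g hg
  have hHn : H.Normal := Subgroup.normal_of_index_eq_two hH
  obtain ⟨hHS, hSH⟩ := sylow_inf_index_two H hH S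
  have mmi : ∀ x y : G, x * y ∈ H ↔ (x ∈ H ↔ y ∈ H) := fun x y =>
    Subgroup.mul_mem_iff_of_index_two hH
  have haaH : a * a ∈ H := (mmi a a).mpr Iff.rfl
  have hevH : ∀ m : ℕ, a ^ (2 * m) ∈ H := by
    intro m; rw [pow_mul, pow_two]; exact H.pow_mem haaH m
  have hzH : z ∈ H := by rw [hz, pow_succ' 2 (k + 1)]; exact hevH _
  have hoddH : ∀ i : ℕ, Odd i → a ^ i ∈ H → a ∈ H := by
    rintro i ⟨m, rfl⟩ hi
    rw [pow_succ] at hi
    exact (Subgroup.mul_mem_cancel_left _ (hevH m)).mp hi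
  have hC3 : a ∈ H → b ∈ H → False := by
    intro haH hbH
    have : (S : Subgroup G) ≤ H := by
      intro x hx
      obtain ⟨i, rfl | rfl⟩ := hNF x hx
      · exact H.pow_mem haH i
      · exact H.mul_mem (H.pow_mem haH i) hbH
    rw [← Subgroup.relIndex_eq_one, hHS] at this
    omega
  have hcen : ∀ i : ℕ, Even i → ∀ y ∈ (S : Subgroup G), a ^ i * y = y * a ^ i := by
    intro i hi y hy
    have hzi : z ^ i = 1 := (hmr.zpow_eq_one_iff hz1 i).mpr hi
    have hbi : b * a ^ i = a ^ i * b := (hmr.comm_b_pow i).mpr hzi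
    obtain ⟨j, rfl | rfl⟩ := hNF y hy
    · exact pow_mul_comm a i j
    · calc a ^ i * (a ^ j * b) = a ^ j * (a ^ i * b) := by
            rw [← mul_assoc, ← mul_assoc, pow_mul_comm a i j]
        _ = a ^ j * b * a ^ i := by rw [← hbi, mul_assoc]
  have hT1 : ∀ x ∈ (S : Subgroup G) ⊓ H, ∀ y ∈ (S : Subgroup G) ⊓ H, x * y = y * x := by
    rintro x ⟨hxS, hxH⟩ y ⟨hyS, hyH⟩
    obtain ⟨i, hxi | hxi⟩ := hNF x hxS <;> obtain ⟨j, hyj | hyj⟩ := hNF y hyS
    · rw [hxi, hyj]; exact pow_mul_comm a i j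
    · rcases Nat.even_or_odd i with he | ho
      · rw [hxi]; exact hcen i he y hyS
      · exfalso
        have haH : a ∈ H := hoddH i ho (hxi ▸ hxH)
        rw [hyj] at hyH
        exact hC3 haH ((Subgroup.mul_mem_cancel_left _ (H.pow_mem haH j)).mp hyH)
    · rcases Nat.even_or_odd j with he | ho
      · rw [hyj]; exact (hcen j he x hxS).symm
      · exfalso
        have haH : a ∈ H := hoddH j ho (hyj ▸ hyH)
        rw [hxi] at hxH
        exact hC3 haH ((Subgroup.mul_mem_cancel_left _ (H.pow_mem haH i)).mp hxH)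
    · rcases Nat.even_or_odd (i + j) with he | ho
      · rw [hxi, hyj, hmr.mul_bb, hmr.mul_bb, hmr.zpow_eq_of_even i j he, add_comm]
      · exfalso
        have hxy : x * y ∈ H := H.mul_mem hxH hyH
        rw [hxi, hyj, hmr.mul_bb] at hxy
        have h1 : a ^ (i + j) ∈ H := (Subgroup.mul_mem_cancel_left _ (H.pow_mem hzH j)).mp hxy
        have haH : a ∈ H := hoddH _ ho h1
        rw [hxi] at hxH
        exact hC3 haH ((Subgroup.mul_mem_cancel_left _ (H.pow_mem haH i)).mp hxH)
  -- involutions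
  have hpowz' : ∀ m : ℕ, a ^ (2 ^ (k + 2) * m) = 1 ∨ a ^ (2 ^ (k + 2) * m) = z := by
    intro m
    rw [pow_mul, ← hz]
    rcases Nat.even_or_odd m with he | ho
    · exact Or.inl ((hmr.zpow_eq_one_iff hz1 m).mpr he)
    · exact Or.inr (hmr.zpow_odd m ho)
  have hINVA : ∀ j : ℕ, a ^ j * a ^ j = 1 → a ^ j = 1 ∨ a ^ j = z := by
    intro j hj
    rw [← pow_add] at hj
    have h1 := orderOf_dvd_of_pow_eq_one hj
    rw [hao, ← two_mul, pow_succ' 2 (k + 2)] at h1
    have h3 : 2 ^ (k + 2) ∣ j := (Nat.mul_dvd_mul_iff_left (by norm_num)).mp h1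
    obtain ⟨m, rfl⟩ := h3
    exact hpowz' m
  have hSQ : ∀ w ∈ (S : Subgroup G), ∃ j : ℕ, w * w = a ^ j := by
    intro w hw
    obtain ⟨i, rfl | rfl⟩ := hNF w hw
    · exact ⟨i + i, (pow_add a i i).symm⟩
    · refine ⟨2 ^ (k + 2) * i + (i + i), ?_⟩
      rw [hmr.mul_bb, pow_add a (2 ^ (k + 2) * i), pow_mul, ← hz]
  have hINV : ∀ u ∈ (S : Subgroup G), u * u = 1 → u = 1 ∨ u = z ∨ u = b ∨ u = z * b := by
    intro u hu huu
    obtain ⟨i, rfl | rfl⟩ := hNF u hu
    · rcases hINVA i huu with h | h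
      · exact Or.inl h
      · exact Or.inr (Or.inl h)
    · rw [hmr.mul_bb, hz, ← pow_mul, ← pow_add] at huu
      have h1 := orderOf_dvd_of_pow_eq_one huu
      rw [hao] at h1
      have h3 : 2 ^ (k + 2) * i + (i + i) = 2 * (i * (2 ^ (k + 1) + 1)) := by ring
      rw [h3, pow_succ' 2 (k + 2)] at h1
      have h4 : 2 ^ (k + 2) ∣ i * (2 ^ (k + 1) + 1) := (Nat.mul_dvd_mul_iff_left (by norm_num)).mp h1
      have hcop : Nat.Coprime (2 ^ (k + 2)) (2 ^ (k + 1) + 1) :=
        Nat.Coprime.pow_left _ (Nat.coprime_two_left.mpr ⟨2 ^ k, by ring⟩)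
      obtain ⟨m, rfl⟩ := hcop.dvd_of_dvd_mul_right h4
      rcases hpowz' m with h | h
      · right; right; left; rw [h, one_mul]
      · right; right; right; rw [h]
  have hb1 : b ≠ 1 := by
    intro h; rw [h] at hbo; simp at hbo
  have hbz : b ≠ z := by
    intro h; apply hbA; rw [h, hz]; exact Subgroup.pow_mem _ (Subgroup.mem_zpowers a) _
  have hzb1 : z * b ≠ 1 := by
    intro h
    apply hbz
    calc b = (z * z) * b := by rw [hzz, one_mul]
      _ = z * (z * b) := by rw [mul_assoc]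
      _ = z := by rw [h, mul_one]
  have hzbz : z * b ≠ z := by
    intro h; apply hb1
    exact mul_left_cancel (h.trans (mul_one z).symm)
  have hT2 : ∀ x ∈ (S : Subgroup G) ⊓ H, ∃ j : ℕ, x ^ 2 ^ j = 1 := by
    rintro x ⟨hx, -⟩
    obtain ⟨j, hj⟩ := S.2 ⟨x, hx⟩
    exact ⟨j, by simpa using congrArg Subtype.val hj⟩
  have hinv : ∀ (g : G) (r : ℕ), Odd r → g ^ r = 1 →
      (∀ t ∈ (S : Subgroup G) ⊓ H, g * t * g⁻¹ ∈ (S : Subgroup G) ⊓ H) →
      ∀ u ∈ (S : Subgroup G) ⊓ H, u * u = 1 → g * u = u * g := by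
    intro g r hr hgr hgT
    have hyT : a ^ 2 ^ (k + 1) ∈ (S : Subgroup G) ⊓ H :=
      ⟨Subgroup.pow_mem _ ha _, by rw [pow_succ' 2 k]; exact hevH _⟩
    have hyy : a ^ 2 ^ (k + 1) * a ^ 2 ^ (k + 1) = z := by
      rw [hz, ← pow_add, ← two_mul, ← pow_succ']
    have hw := hgT _ hyT
    obtain ⟨j, hj⟩ := hSQ _ hw.1
    rw [conj_mul, hyy] at hj
    have hgz : g * z * g⁻¹ = z := by
      have h1 : a ^ j * a ^ j = 1 := by
        rw [← hj, conj_mul, hzz]; simp
      rcases hINVA j h1 with h | h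
      · exfalso
        apply hz1
        rw [h] at hj
        have h3 : z = g⁻¹ * (g * z * g⁻¹) * g := by simp [mul_assoc]
        rw [h3, hj]; simp
      · rw [hj, h]
    have hgz' : g * z = z * g := by
      calc g * z = (g * z * g⁻¹) * g := by simp [mul_assoc]
        _ = z * g := by rw [hgz]
    -- the key claim
    have key : ∀ u ∈ (S : Subgroup G) ⊓ H, u * u = 1 → u ≠ 1 → u ≠ z →
        (g * u * g⁻¹ = u ∨ g * u * g⁻¹ = z * u) := by
      intro u hu huu hu1 huz
      have hv := hgT u hu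
      have hvv : (g * u * g⁻¹) * (g * u * g⁻¹) = 1 := by rw [conj_mul, huu]; simp
      have hv1 : g * u * g⁻¹ ≠ 1 := by
        intro h
        apply hu1
        have h3 : u = g⁻¹ * (g * u * g⁻¹) * g := by simp [mul_assoc]
        rw [h3, h]; simp
      have hvz : g * u * g⁻¹ ≠ z := by
        intro h
        apply huz
        calc u = g⁻¹ * (g * u * g⁻¹) * g := by simp [mul_assoc]
          _ = g⁻¹ * (z * g) := by rw [h, mul_assoc]
          _ = g⁻¹ * (g * z) := by rw [hgz']
          _ = z := by simp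
      have hucase : u = b ∨ u = z * b := by
        rcases hINV u hu.1 huu with h | h | h | h
        · exact absurd h hu1
        · exact absurd h huz
        · exact Or.inl h
        · exact Or.inr h
      have hvcase : g * u * g⁻¹ = b ∨ g * u * g⁻¹ = z * b := by
        rcases hINV _ hv.1 hvv with h | h | h | h
        · exact absurd h hv1
        · exact absurd h hvz
        · exact Or.inl h
        · exact Or.inr h
      rcases hucase with h | h <;> rcases hvcase with h' | h'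
      · left; rw [h', h]
      · right; rw [h', h]
      · right; rw [h', h, ← mul_assoc, hzz, one_mul]
      · left; rw [h', h]
    intro u hu huu
    by_cases hu1 : u = 1
    · rw [hu1]; simp
    by_cases huz : u = z
    · rw [huz]; exact hgz'
    rcases key u hu huu hu1 huz with h | h
    · calc g * u = (g * u * g⁻¹) * g := by simp [mul_assoc]
        _ = u * g := by rw [h]
    · have hgg : (g * g) * u * (g * g)⁻¹ = u := by
        calc (g * g) * u * (g * g)⁻¹ = g * (g * u * g⁻¹) * g⁻¹ := by simp [mul_assoc]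
          _ = g * (z * u) * g⁻¹ := by rw [h]
          _ = (g * z * g⁻¹) * (g * u * g⁻¹) := by simp [mul_assoc]
          _ = z * (z * u) := by rw [hgz, h]
          _ = u := by rw [← mul_assoc, hzz, one_mul]
      have hc : Commute (g * g) u := by
        have : (g * g) * u = u * (g * g) := by
          calc (g * g) * u = ((g * g) * u * (g * g)⁻¹) * (g * g) := by simp [mul_assoc]
            _ = u * (g * g) := by rw [hgg]
        exact this
      obtain ⟨m, rfl⟩ := hr
      have hg : g = (g * g) ^ (m + 1) := by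
        rw [← pow_two, ← pow_mul, show 2 * (m + 1) = (2 * m + 1) + 1 by ring, pow_succ, hgr, one_mul]
      have hc' : Commute ((g * g) ^ (m + 1)) u := hc.pow_left _
      rw [← hg] at hc'
      exact hc'.eq
  -- Sylow 2-subgroup of H
  have hTp : IsPGroup 2 ((S : Subgroup G).subgroupOf H) := S.2.comap_subtype
  have hTi : ¬ 2 ∣ ((S : Subgroup G).subgroupOf H).index := by
    have : ((S : Subgroup G).subgroupOf H).index = (S : Subgroup G).index := hSH
    rw [this]; exact S.not_dvd_index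
  have hmemT : ∀ t : H, t ∈ ((hTp.toSylow hTi : Sylow 2 H) : Subgroup H) ↔
      (t : G) ∈ (S : Subgroup G) := by
    intro t
    rw [IsPGroup.toSylow_coe]
    exact Subgroup.mem_subgroupOf
  have hcompl : Cfsg.HasNormalPComplement 2 H := by
    apply normal_two_complement_of_abelian_sylow (hTp.toSylow hTi)
    · intro x hx y hy
      rw [hmemT] at hx hy
      exact Subtype.ext (hT1 x ⟨hx, x.2⟩ y ⟨hy, y.2⟩)
    · intro g hgo hgT t ht
      rw [hmemT] at ht
      have hgpow : (g : G) ^ orderOf g = 1 := by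
        rw [← Subgroup.orderOf_coe]; exact pow_orderOf_eq_one _
      have hgT' : ∀ t ∈ (S : Subgroup G) ⊓ H, (g : G) * t * (g : G)⁻¹ ∈ (S : Subgroup G) ⊓ H := by
        rintro t ⟨htS, htH⟩
        have h1 := hgT ⟨t, htH⟩ ((hmemT _).mpr htS)
        rw [hmemT] at h1
        exact Subgroup.mem_inf.mpr
          ⟨by simpa using h1, H.mul_mem (H.mul_mem g.2 htH) (H.inv_mem g.2)⟩
      have h3 := odd_centralizes_abelian ((S : Subgroup G) ⊓ H) hT1 hT2 (g : G) (orderOf g) hgo
        hgpow hgT' (hinv (g : G) (orderOf g) hgo hgpow hgT') (t : G) ⟨ht, t.2⟩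
      exact Subtype.ext h3
  exact hasNormalPComplement_of_normal_index 2 H 1 (by rw [hH]; norm_num) hcompl

end Cfsg.Agent.S3178
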