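import Cfsg.Statements.S3309
import Mathlib
import Cfsg.Agent.S3225
import Cfsg.Agent.Lib.helper16.Syl

set_option autoImplicit false
open Cfsg

namespace Cfsg.Agent.S3309

open Cfsg.Agent.Lib.helper16
open scoped Pointwise

abbrev A16 := Multiplicative (ZMod 2) × DihedralGroup 4

def cA : A16 := (Multiplicative.ofAdd 1, 1)
def zA : A16 := (1, DihedralGroup.r 2)
def rA : A16 := (1, DihedralGroup.r 1)
def s0 : A16 := (1, DihedralGroup.sr 0)
def s1 : A16 := (1, DihedralGroup.sr 1)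
def t0 : A16 := (Multiplicative.ofAdd 1, DihedralGroup.sr 0)
def t1 : A16 := (Multiplicative.ofAdd 1, DihedralGroup.sr 1)

def sgF (a : A16) : Multiplicative (ZMod 2) :=
  match a.2 with
  | DihedralGroup.r _ => 1
  | DihedralGroup.sr _ => Multiplicative.ofAdd 1

def cen (a : A16) : Prop := ∀ b : A16, a * b = b * a
instance : DecidablePred cen := fun a => by unfold cen; infer_instance

theorem d1 : ∀ a : A16, a * a = 1 ∨ a * a = zA := by decide
theorem d3 : ∀ a : A16, cen a → a = 1 ∨ a = cA ∨ a = zA ∨ a = cA * zA := by decide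
theorem d5 : ∀ a : A16, a * a = 1 → ¬ cen a → a.1 = 1 →
    ∃ u : A16, u * a * u⁻¹ = s0 ∨ u * a * u⁻¹ = s1 := by decide
theorem d5' : ∀ a : A16, a * a = 1 → ¬ cen a → a.1 * sgF a = 1 →
    ∃ u : A16, u * a * u⁻¹ = t0 ∨ u * a * u⁻¹ = t1 := by decide
theorem d5'' : ∀ a : A16, a * a = 1 → ¬ cen a →
    ∃ u : A16, u * a * u⁻¹ = s0 ∨ u * a * u⁻¹ = s1 ∨ u * a * u⁻¹ = t0 ∨ u * a * u⁻¹ = t1 := by decide
theorem d6 : ∀ a : A16, a * a = 1 → ¬ cen a → ∃ u : A16, u * a * u⁻¹ = a * zA := by decide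
theorem d7 : cen cA ∧ cen zA ∧ cen (cA * zA) := by decide
theorem d8 : ∀ u v : Multiplicative (ZMod 2), v ≠ 1 → Xor (u * v = 1) (u = 1) := by
  unfold Xor; decide
theorem d9 : ∀ a b : A16, (a * b).1 * sgF (a * b) = a.1 * sgF a * (b.1 * sgF b) := by decide
theorem e1 : zA ≠ 1 := by decide
theorem e2 : cA ≠ 1 := by decide
theorem e3 : cA ≠ zA := by decide
theorem e4 : cA * zA * zA = cA := by decide
theorem e5 : cA ≠ cA * zA := by decide
theorem e6 : zA = rA * rA := by decide
def chi1 : A16 →* Multiplicative (ZMod 2) := MonoidHom.mk' (fun a : A16 => a.1) (fun _ _ => rfl)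
def chi2 : A16 →* Multiplicative (ZMod 2) := MonoidHom.mk' (fun a : A16 => a.1 * sgF a) d9
theorem e7 : chi1 cA ≠ 1 := by decide
theorem e8 : chi2 cA ≠ 1 := by decide
theorem e9 : cA * cA = 1 := by decide
theorem e10 : cA * zA * (cA * zA) = 1 := by decide
theorem e11 : cA * zA ≠ 1 := by decide
theorem e12 : cA * zA ≠ zA := by decide
theorem e13 : zA ≠ cA * zA := by decide
theorem e14 : zA * zA = 1 := by decide
theorem e15 : cA ≠ s0 := by decide
theorem e16 : cA ≠ s1 := by decide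
theorem d10 : ∀ x : A16, cen x → x ≠ 1 → x.1 = 1 → x = zA := by decide
theorem d10' : ∀ x : A16, cen x → x ≠ 1 → x.1 * sgF x = 1 → x = zA := by decide

section
variable {G : Type*} [Group G]

def Cj (f : A16 →* G) (a b : A16) : Prop := ∃ g : G, g * f a * g⁻¹ = f b

theorem Cj.symm {f : A16 →* G} {a b : A16} (h : Cj f a b) : Cj f b a := by
  obtain ⟨g, hg⟩ := h
  exact ⟨g⁻¹, by rw [← hg]; simp [mul_assoc]⟩

theorem Cj.trans {f : A16 →* G} {a b c : A16} (h : Cj f a b) (h' : Cj f b c) : Cj f a c := by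
  obtain ⟨g, hg⟩ := h
  obtain ⟨g', hg'⟩ := h'
  exact ⟨g' * g, by rw [← hg', ← hg]; simp [mul_assoc]⟩

theorem Cj.inner (f : A16 →* G) (a u : A16) : Cj f a (u * a * u⁻¹) := ⟨f u, by simp⟩

theorem Cj.sq {f : A16 →* G} (hf : Function.Injective f) {a b : A16} (h : Cj f a b)
    (ha : a * a = 1) : b * b = 1 := by
  obtain ⟨g, hg⟩ := h
  apply hf
  rw [map_mul, ← hg, map_one]
  have h1 : f a * f a = 1 := by rw [← map_mul, ha, map_one]
  calc g * f a * g⁻¹ * (g * f a * g⁻¹) = g * (f a * f a) * g⁻¹ := by simp [mul_assoc]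
    _ = 1 := by rw [h1]; simp

theorem Cj.ne_one {f : A16 →* G} (hf : Function.Injective f) {a b : A16} (h : Cj f a b)
    (ha : a ≠ 1) : b ≠ 1 := by
  obtain ⟨g, hg⟩ := h
  rintro rfl
  apply ha
  apply hf
  rw [map_one] at hg ⊢
  have h1 : f a = g⁻¹ * (g * f a * g⁻¹) * g := by simp [mul_assoc]
  rw [h1, hg]; simp

theorem thompson_step [Finite G] (hev : Even (Nat.card G)) (hG2 : ∀ H : Subgroup G, H.index ≠ 2)
    (S : Sylow 2 G) (f : A16 →* G) (hf : Function.Injective f) (hr : f.range = (S : Subgroup G))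
    (χ : A16 →* Multiplicative (ZMod 2)) (a0 : A16) (ha0 : χ a0 ≠ 1) (x : A16) (hx : x * x = 1)
    (hx1 : x ≠ 1) : ∃ y, χ y = 1 ∧ Cj f x y := by
  have hmem : ∀ a, f a ∈ (S : Subgroup G) := fun a => by rw [← hr]; exact ⟨a, rfl⟩
  have hM : ∀ a, f a ∈ χ.ker.map f ↔ χ a = 1 := by
    intro a
    rw [Subgroup.mem_map_iff_mem hf, MonoidHom.mem_ker]
  have hMS : χ.ker.map f ≤ (S : Subgroup G) := by
    rw [← hr]
    rintro _ ⟨a, -, rfl⟩
    exact ⟨a, rfl⟩
  have hidx : (χ.ker.map f).relIndex (S : Subgroup G) = 2 := by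
    rw [Subgroup.relIndex_eq_two_iff]
    refine ⟨f a0, hmem a0, ?_⟩
    intro b hb
    rw [← hr] at hb
    obtain ⟨b0, rfl⟩ := hb
    rw [← map_mul, hM, hM, map_mul]
    exact d8 _ _ ha0
  have hord : ∀ y ∈ (S : Subgroup G), y ∉ χ.ker.map f → 2 ^ (1 - 1) < orderOf y := by
    intro y hy hyM
    have hy1 : y ≠ 1 := fun h => hyM (h ▸ Subgroup.one_mem _)
    have h1 : orderOf y ≠ 1 := fun h => hy1 (orderOf_eq_one_iff.mp h)
    have h2 : 0 < orderOf y := orderOf_pos y
    simp only [le_refl, tsub_eq_zero_of_le, pow_zero]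
    omega
  have hox : orderOf (f x) = 2 ^ 1 := by
    rw [pow_one]
    apply orderOf_eq_prime
    · rw [pow_two, ← map_mul, hx, map_one]
    · intro h; exact hx1 (hf (by rw [h, map_one]))
  obtain ⟨g, hg⟩ := Cfsg.Agent.S3225.result hev hG2 S _ hMS hidx 1 le_rfl hord (f x) (hmem x) hox
  have hgS : g * f x * g⁻¹ ∈ (S : Subgroup G) := hMS hg
  rw [← hr] at hgS
  obtain ⟨y, hy⟩ := hgS
  refine ⟨y, ?_, g, hy.symm⟩
  rw [← hM, hy]; exact hg

theorem normalizer_fix [Finite G] (S : Sylow 2 G) (f : A16 →* G) (hf : Function.Injective f)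
    (hr : f.range = (S : Subgroup G)) (n : G) (hn : n ∈ Subgroup.normalizer ((S : Subgroup G) : Set G)) :
    n * f zA * n⁻¹ = f zA ∧ n * f cA * n⁻¹ = f cA := by
  have : Fact (Nat.Prime 2) := ⟨Nat.prime_two⟩
  have hmem : ∀ a, f a ∈ (S : Subgroup G) := fun a => by rw [← hr]; exact ⟨a, rfl⟩
  have hex : ∀ a, ∃ a', f a' = n * f a * n⁻¹ := by
    intro a
    have h1 : n * f a * n⁻¹ ∈ (S : Subgroup G) :=
      (Subgroup.mem_normalizer_iff.mp hn (f a)).mp (hmem a)
    rw [← hr] at h1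
    exact h1
  choose φ hφ using hex
  have hφmul : ∀ a b, φ (a * b) = φ a * φ b := by
    intro a b
    apply hf
    rw [hφ, map_mul, map_mul, hφ, hφ]
    simp [mul_assoc]
  have hφinj : Function.Injective φ := by
    intro a b hab
    apply hf
    have h1 := hφ a
    rw [hab, hφ b] at h1
    exact (mul_left_cancel (mul_right_cancel h1)).symm
  have hφsurj : Function.Surjective φ := Finite.surjective_of_injective hφinj
  have hφ1 : φ 1 = 1 := by
    apply hf; rw [hφ]; simp
  have hz : φ zA = zA := by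
    have h1 : φ zA = φ rA * φ rA := by
      rw [← hφmul, ← e6]
    rcases d1 (φ rA) with h | h
    · exfalso
      rw [h, ← hφ1] at h1
      exact absurd (hφinj h1) e1
    · rw [h1, h]
  have hc : φ cA = cA := by
    have hcen : cen (φ cA) := by
      intro b
      obtain ⟨b', rfl⟩ := hφsurj b
      rw [← hφmul, ← hφmul]
      congr 1
      exact d7.1 b'
    rcases d3 _ hcen with h | h | h | h
    · rw [← hφ1] at h; exact absurd (hφinj h) e2
    · exact h
    · rw [← hz] at h; exact absurd (hφinj h) e3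
    · exfalso
      have h2 : φ (cA * zA) = cA := by
        rw [hφmul, h, hz]; exact e4
      have hC2 : n * n ∈ Subgroup.centralizer {f cA} := by
        rw [Subgroup.mem_centralizer_singleton_iff]
        have e1 : n * (n * f cA * n⁻¹) * n⁻¹ = f cA := by
          rw [← hφ, h, ← hφ, h2]
        calc n * n * f cA = n * (n * f cA * n⁻¹) * n⁻¹ * (n * n) := by simp [mul_assoc]
          _ = f cA * (n * n) := by rw [e1]
      have hSC : (S : Subgroup G) ≤ Subgroup.centralizer {f cA} := by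
        intro s hs
        rw [← hr] at hs
        obtain ⟨u, rfl⟩ := hs
        rw [Subgroup.mem_centralizer_singleton_iff, ← map_mul, ← map_mul, d7.1 u]
      have hk : (⟨n, hn⟩ : ↥(Subgroup.normalizer ((S : Subgroup G) : Set G))) ^
          (((S : Subgroup G).subgroupOf (Subgroup.normalizer ((S : Subgroup G) : Set G))).index) ∈
          (S : Subgroup G).subgroupOf (Subgroup.normalizer ((S : Subgroup G) : Set G)) :=
        Subgroup.pow_index_mem _ _
      rw [Subgroup.mem_subgroupOf] at hk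
      have hk' : n ^ (((S : Subgroup G).subgroupOf (Subgroup.normalizer ((S : Subgroup G) : Set G))).index) ∈
          (S : Subgroup G) := by simpa using hk
      have hodd : ¬ 2 ∣ ((S : Subgroup G).subgroupOf (Subgroup.normalizer ((S : Subgroup G) : Set G))).index := by
        intro h2
        have h3 : (S : Subgroup G).relIndex (Subgroup.normalizer ((S : Subgroup G) : Set G)) ∣ (S : Subgroup G).index :=
          Subgroup.relIndex_dvd_index_of_le Subgroup.le_normalizer
        exact S.not_dvd_index (dvd_trans h2 h3)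
      obtain ⟨j, hj⟩ : ∃ j, ((S : Subgroup G).subgroupOf (Subgroup.normalizer ((S : Subgroup G) : Set G))).index
          = 2 * j + 1 := ⟨_, (Nat.odd_iff.mpr (by omega) : Odd _).choose_spec⟩
      rw [hj] at hk'
      have h5 : n ^ (2 * j + 1) = (n * n) ^ j * n := by
        rw [pow_succ, pow_mul, pow_two]
      have h6 : n = ((n * n) ^ j)⁻¹ * n ^ (2 * j + 1) := by rw [h5]; simp
      have h7 : n ∈ Subgroup.centralizer {f cA} := by
        rw [h6]
        exact mul_mem (inv_mem (pow_mem hC2 j)) (hSC hk')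
      rw [Subgroup.mem_centralizer_singleton_iff] at h7
      have h8 : n * f cA * n⁻¹ = f cA := by rw [h7]; simp
      rw [← hφ, h] at h8
      exact absurd (hf h8) e5.symm
  exact ⟨by rw [← hφ, hz], by rw [← hφ, hc]⟩

theorem burnside_step [Finite G] (S : Sylow 2 G) (f : A16 →* G) (hf : Function.Injective f)
    (hr : f.range = (S : Subgroup G)) (a b : A16) (ha : cen a) (hb : cen b) (h : Cj f a b) :
    a = b := by
  have : Fact (Nat.Prime 2) := ⟨Nat.prime_two⟩
  obtain ⟨g, hg⟩ := h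
  have hcent : ∀ a, cen a → f a ∈ Subgroup.centralizer ((S : Subgroup G) : Set G) := by
    intro a ha
    rw [Subgroup.mem_centralizer_iff]
    intro s hs
    have hs' : s ∈ (S : Subgroup G) := hs
    rw [← hr] at hs'
    obtain ⟨u, rfl⟩ := hs'
    rw [← map_mul, ← map_mul, ha u]
  have h1 := Sylow.conj_eq_normalizer_conj_of_mem_centralizer S (f a) g⁻¹ (hcent a ha)
    (by rw [inv_inv, hg]; exact hcent b hb)
  obtain ⟨n, hn, hn'⟩ := h1
  rw [inv_inv, hg] at hn'
  have hn1 := normalizer_fix S f hf hr n⁻¹ (inv_mem hn)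
  rw [inv_inv] at hn1
  apply hf
  rcases d3 a ha with rfl | rfl | rfl | rfl
  · rw [hn', map_one]; simp
  · rw [hn', hn1.2]
  · rw [hn', hn1.1]
  · rw [hn', map_mul]
    calc f cA * f zA = (n⁻¹ * f cA * n) * (n⁻¹ * f zA * n) := by rw [hn1.1, hn1.2]
      _ = n⁻¹ * (f cA * f zA) * n := by simp [mul_assoc]

end

/-- A finite group whose Sylow 2-subgroups are isomorphic to the direct product of a group of order 2 and the dihedral group of order 8 is not a non-abelian simple group. -/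
theorem result {G : Type*} [Group G] [Finite G] (S : Sylow 2 G) (hS : Nonempty (↥(S : Subgroup G) ≃* Multiplicative (ZMod 2) × DihedralGroup 4))
    [IsSimpleGroup G] (hG : ¬ IsMulCommutative G) : False := by
  classical
  have : Fact (Nat.Prime 2) := ⟨Nat.prime_two⟩
  obtain ⟨e⟩ := hS
  let f : A16 →* G := (S : Subgroup G).subtype.comp e.symm.toMonoidHom
  have hfa : ∀ a, f a = ((e.symm a : ↥(S : Subgroup G)) : G) := fun a => rfl
  have hf : Function.Injective f := by
    intro a b h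
    rw [hfa, hfa] at h
    exact e.symm.injective (Subtype.ext h)
  have hr : f.range = (S : Subgroup G) := by
    ext x; constructor
    · rintro ⟨a, rfl⟩; exact (e.symm a).2
    · intro hx; exact ⟨e ⟨x, hx⟩, by rw [hfa]; simp⟩
  have hmem : ∀ a, f a ∈ (S : Subgroup G) := fun a => (e.symm a).2
  have h16 : Nat.card (S : Subgroup G) = 16 := by
    rw [Nat.card_congr e.toEquiv, Nat.card_prod]
    simp [DihedralGroup.card]
  have hdvd : 16 ∣ Nat.card G := h16 ▸ Subgroup.card_subgroup_dvd_card (S : Subgroup G)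
  have hpos : 0 < Nat.card G := Nat.card_pos
  have hG2 : ∀ H : Subgroup G, H.index ≠ 2 := by
    intro H h2
    have hn : H.Normal := Subgroup.normal_of_index_eq_two h2
    have h16le := Nat.le_of_dvd hpos hdvd
    rcases hn.eq_bot_or_eq_top with h | h
    · rw [h, Subgroup.index_bot] at h2; omega
    · rw [h, Subgroup.index_top] at h2; omega
  have hev : Even (Nat.card G) := even_iff_two_dvd.mpr (dvd_trans (by norm_num) hdvd)
  have hBurn := burnside_step S f hf hr
  have hTh := thompson_step hev hG2 S f hf hr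
  have key : ∀ (χ : A16 →* Multiplicative (ZMod 2)) (r1 r2 : A16), χ cA ≠ 1 →
      (∀ y, cen y → y ≠ 1 → χ y = 1 → y = zA) →
      (∀ y, y * y = 1 → ¬ cen y → χ y = 1 → ∃ u : A16, u * y * u⁻¹ = r1 ∨ u * y * u⁻¹ = r2) →
      ∀ x, cen x → x * x = 1 → x ≠ 1 → x ≠ zA → Cj f x r1 ∨ Cj f x r2 := by
    intro χ r1 r2 hχc hχ hd x hxc hx hx1 hxz
    obtain ⟨y, hy, hxy⟩ := hTh χ cA hχc x hx hx1
    have hy2 := hxy.sq hf hx
    have hy1 := hxy.ne_one hf hx1
    by_cases hyc : cen y
    · have h1 := hBurn x y hxc hyc hxy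
      subst h1
      exact absurd (hχ x hxc hx1 hy) hxz
    · obtain ⟨u, hu⟩ := hd y hy2 hyc hy
      rcases hu with hu | hu
      · left; exact hxy.trans (hu ▸ Cj.inner f y u)
      · right; exact hxy.trans (hu ▸ Cj.inner f y u)
  have key1 := key chi1 s0 s1 e7
    (fun y hc h1 h => d10 y hc h1 h) (fun y h2 hc h => d5 y h2 hc h)
  have key2 := key chi2 t0 t1 e8
    (fun y hc h1 h => d10' y hc h1 h) (fun y h2 hc h => d5' y h2 hc h)
  have hcd : ¬ Cj f cA (cA * zA) := fun h => e5 (hBurn _ _ d7.1 d7.2.2 h)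
  have hc_s := key1 cA d7.1 e9 e2 e3
  have hd_s := key1 (cA * zA) d7.2.2 e10 e11 e12
  have hc_t := key2 cA d7.1 e9 e2 e3
  have hd_t := key2 (cA * zA) d7.2.2 e10 e11 e12
  have aux : ∀ r r', (Cj f cA r ∨ Cj f cA r') → (Cj f (cA * zA) r ∨ Cj f (cA * zA) r') →
      (Cj f cA r ∨ Cj f (cA * zA) r) ∧ (Cj f cA r' ∨ Cj f (cA * zA) r') := by
    intro r r' h1 h2
    rcases h1 with h1 | h1 <;> rcases h2 with h2 | h2
    · exact absurd (h1.trans h2.symm) hcd
    · exact ⟨Or.inl h1, Or.inr h2⟩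
    · exact ⟨Or.inr h2, Or.inl h1⟩
    · exact absurd (h1.trans h2.symm) hcd
  have hs := aux s0 s1 hc_s hd_s
  have ht := aux t0 t1 hc_t hd_t
  have hnc : ∀ a, a * a = 1 → ¬ cen a → Cj f cA a ∨ Cj f (cA * zA) a := by
    intro a ha hac
    obtain ⟨u, hu⟩ := d5'' a ha hac
    have hau : Cj f a (u * a * u⁻¹) := Cj.inner f a u
    rcases hu with hu | hu | hu | hu <;> rw [hu] at hau
    · rcases hs.1 with h | h
      · exact Or.inl (h.trans hau.symm)
      · exact Or.inr (h.trans hau.symm)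
    · rcases hs.2 with h | h
      · exact Or.inl (h.trans hau.symm)
      · exact Or.inr (h.trans hau.symm)
    · rcases ht.1 with h | h
      · exact Or.inl (h.trans hau.symm)
      · exact Or.inr (h.trans hau.symm)
    · rcases ht.2 with h | h
      · exact Or.inl (h.trans hau.symm)
      · exact Or.inr (h.trans hau.symm)
  have hT1 : ∀ a, Cj f zA a → a = zA := by
    intro a ha
    have ha2 := ha.sq hf e14
    by_cases hac : cen a
    · exact (hBurn zA a d7.2.1 hac ha).symm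
    · exfalso
      rcases hnc a ha2 hac with h | h
      · exact e3 (hBurn zA cA d7.2.1 d7.1 (ha.trans h.symm)).symm
      · exact absurd (hBurn zA (cA * zA) d7.2.1 d7.2.2 (ha.trans h.symm)) e13
  -- final
  obtain ⟨s', hs', hcs'⟩ : ∃ s', (s' = s0 ∨ s' = s1) ∧ Cj f cA s' := by
    rcases hc_s with h | h
    · exact ⟨s0, Or.inl rfl, h⟩
    · exact ⟨s1, Or.inr rfl, h⟩
  obtain ⟨g, hg⟩ := hcs'
  have hmemU : ∀ x, x ∈ ((g • S : Sylow 2 G) : Subgroup G) ↔ g⁻¹ * x * g ∈ (S : Subgroup G) := by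
    intro x
    rw [Sylow.coe_subgroup_smul, Subgroup.mem_pointwise_smul_iff_inv_smul_mem]
    simp [MulAut.smul_def]
  have hUC : ((g • S : Sylow 2 G) : Subgroup G) ≤ Subgroup.centralizer {f s'} := by
    intro x hx
    rw [hmemU] at hx
    rw [← hr] at hx
    obtain ⟨u, hu⟩ := hx
    have hxu : x = g * f u * g⁻¹ := by rw [hu]; simp [mul_assoc]
    rw [Subgroup.mem_centralizer_singleton_iff, hxu, ← hg]
    have h1 : f u * f cA = f cA * f u := by rw [← map_mul, ← map_mul, d7.1 u]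
    calc g * f u * g⁻¹ * (g * f cA * g⁻¹) = g * (f u * f cA) * g⁻¹ := by simp [mul_assoc]
      _ = g * (f cA * f u) * g⁻¹ := by rw [h1]
      _ = _ := by simp [mul_assoc]
  have hpB : IsPGroup 2 (((S : Subgroup G) ⊓ Subgroup.centralizer {f s'} : Subgroup G)) :=
    S.2.to_le inf_le_left
  obtain ⟨h, hhC, hh⟩ := exists_conj_mem_sylow (Subgroup.centralizer {f s'}) (g • S) hUC _
    inf_le_right hpB
  have hk : ∀ b : A16, b * s' = s' * b → ∃ β, g⁻¹ * h * f b * (g⁻¹ * h)⁻¹ = f β := by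
    intro b hb
    have hbB : f b ∈ (S : Subgroup G) ⊓ Subgroup.centralizer {f s'} := by
      refine Subgroup.mem_inf.mpr ⟨hmem b, ?_⟩
      rw [Subgroup.mem_centralizer_singleton_iff, ← map_mul, ← map_mul, hb]
    have h1 := hh _ hbB
    rw [hmemU, ← hr] at h1
    obtain ⟨β, hβ⟩ := h1
    exact ⟨β, by rw [hβ]; simp [mul_assoc]⟩
  have hks : g⁻¹ * h * f s' * (g⁻¹ * h)⁻¹ = f cA := by
    rw [Subgroup.mem_centralizer_singleton_iff] at hhC
    calc g⁻¹ * h * f s' * (g⁻¹ * h)⁻¹ = g⁻¹ * (h * f s') * h⁻¹ * g := by simp [mul_assoc]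
      _ = g⁻¹ * (f s' * h) * h⁻¹ * g := by rw [hhC]
      _ = g⁻¹ * (g * f cA * g⁻¹) * g := by rw [hg]; simp [mul_assoc]
      _ = f cA := by simp [mul_assoc]
  obtain ⟨βz, hβz⟩ := hk zA (d7.2.1 s')
  obtain ⟨βc, hβc⟩ := hk cA (d7.1 s')
  obtain ⟨βd, hβd⟩ := hk (cA * zA) (d7.2.2 s')
  have hz' : βz = zA := hT1 βz ⟨_, hβz⟩
  subst hz'
  have hβ : βc = βd * zA := by
    apply hf
    rw [map_mul, ← hβd, ← hβz, ← hβc]
    have h1 : f cA = f (cA * zA) * f zA := by rw [← map_mul, e4]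
    rw [h1]; simp [mul_assoc]
  have hd2 : βd * βd = 1 := Cj.sq hf ⟨_, hβd⟩ e10
  by_cases hdc : cen βd
  · have h1 : cA * zA = βd := hBurn _ _ d7.2.2 hdc ⟨_, hβd⟩
    rw [← h1, e4] at hβ
    have h3 : g⁻¹ * h * f cA * (g⁻¹ * h)⁻¹ = g⁻¹ * h * f s' * (g⁻¹ * h)⁻¹ := by
      rw [hβc, hβ, hks]
    have h4 := hf (mul_left_cancel (mul_right_cancel h3))
    rcases hs' with rfl | rfl
    · exact e15 h4
    · exact e16 h4
  · obtain ⟨u, hu⟩ := d6 βd hd2 hdc
    have h1 : Cj f (cA * zA) βd := ⟨_, hβd⟩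
    have h2 : Cj f βd βc := by rw [hβ, ← hu]; exact Cj.inner f βd u
    have h3 : Cj f cA βc := ⟨_, hβc⟩
    exact hcd ((h3.trans h2.symm).trans h1.symm)

end Cfsg.Agent.S3309
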