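import Mathlib
import Cfsg.Statements.S3494

set_option autoImplicit false
open Cfsg

namespace Cfsg.Agent.S3494

/-- Manning's theorem, general form: `G` primitive, `H = G_α`, `H` acts primitively on every orbit;
an element of `H` fixing pointwise an `H`-orbit of a point `ω ≠ α` is trivial. -/
theorem manning {G : Type*} [Group G] [Finite G] {Ω : Type*} [Fintype Ω] [MulAction G Ω] [FaithfulSMul G Ω]
    (hprim : MulAction.IsPreprimitive G Ω)
    (α : Ω) (hep : ∀ (ω : Ω), MulAction.IsPreprimitive (MulAction.stabilizer G α) (MulAction.orbit (MulAction.stabilizer G α) ω))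
    (ω : Ω) (hω : ω ≠ α) (h : G) (hh : h ∈ MulAction.stabilizer G α)
    (hfix : ∀ x ∈ MulAction.orbit (MulAction.stabilizer G α) ω, h • x = x) : h = 1 := by
  classical
  by_contra hne
  set H := MulAction.stabilizer G α with hHdef
  have hnt : Nontrivial Ω := ⟨⟨ω, α, hω⟩⟩
  have hco : IsCoatom H := MulAction.IsPreprimitive.isCoatom_stabilizer_of_isPreprimitive G α
  set Γ : Set Ω := MulAction.orbit H ω with hΓ
  let K : Subgroup G :=
    { carrier := {k | k ∈ H ∧ ∀ x ∈ Γ, k • x = x}
      one_mem' := ⟨H.one_mem, fun x _ => one_smul _ x⟩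
      mul_mem' := by
        rintro a b ⟨ha, ha'⟩ ⟨hb, hb'⟩
        exact ⟨H.mul_mem ha hb, fun x hx => by rw [mul_smul, hb' x hx, ha' x hx]⟩
      inv_mem' := by
        rintro a ⟨ha, ha'⟩
        exact ⟨H.inv_mem ha, fun x hx => by rw [inv_smul_eq_iff, ha' x hx]⟩ }
  have hk0 : h ∈ K := ⟨hh, fun x hx => hfix x hx⟩
  have hΓinv : ∀ a ∈ H, ∀ x ∈ Γ, a • x ∈ Γ := by
    intro a ha x hx
    exact MulAction.mem_orbit_of_mem_orbit (⟨a, ha⟩ : H) hx
  have hKnorm : ∀ a ∈ H, ∀ k ∈ K, a * k * a⁻¹ ∈ K := by
    rintro a ha k ⟨hk, hk'⟩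
    refine ⟨H.mul_mem (H.mul_mem ha hk) (H.inv_mem ha), fun x hx => ?_⟩
    rw [mul_smul, mul_smul, hk' _ (hΓinv a⁻¹ (H.inv_mem ha) x hx), smul_inv_smul]
  have hωΓ : ω ∈ Γ := MulAction.mem_orbit_self ω
  have hαΓ : α ∉ Γ := by
    rintro ⟨b, hb⟩
    apply hω
    have hb' : (b : G) • ω = α := hb
    have h2 : (b : G)⁻¹ • α = α := H.inv_mem b.2
    calc ω = (b : G)⁻¹ • ((b : G) • ω) := (inv_smul_smul _ _).symm
      _ = (b : G)⁻¹ • α := by rw [hb']
      _ = α := h2
  obtain ⟨g, hg⟩ := MulAction.exists_smul_eq G α ω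
  have hgH : g ∉ H := fun hmem => hω (hg.symm.trans hmem)
  let R : Ω → Ω → Prop := fun γ δ => ∃ x : G, x • α = γ ∧ x • ω = δ
  have hR : ∀ (y : G) (γ δ : Ω), R γ δ → R (y • γ) (y • δ) := by
    rintro y γ δ ⟨x, rfl, rfl⟩
    exact ⟨y * x, mul_smul _ _ _, mul_smul _ _ _⟩
  have hRα : ∀ δ, R α δ ↔ δ ∈ Γ := by
    intro δ
    constructor
    · rintro ⟨x, hx, rfl⟩; exact ⟨⟨x, hx⟩, rfl⟩
    · rintro ⟨b, rfl⟩; exact ⟨b, b.2, rfl⟩
  -- Step 2
  have step2 : ∃ ω', R ω ω' ∧ ∃ k ∈ K, k • ω' ≠ ω' := by
    by_contra hcon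
    push Not at hcon
    have hconj : ∀ k ∈ K, g⁻¹ * k * g ∈ K := by
      rintro k hk
      have hkω : k • ω = ω := hk.2 ω hωΓ
      refine ⟨?_, fun x hx => ?_⟩
      · show (g⁻¹ * k * g) • α = α
        rw [mul_smul, mul_smul, hg, hkω, ← hg, inv_smul_smul]
      · have hRx : R ω (g • x) := by
          have := hR g α x ((hRα x).mpr hx)
          rwa [hg] at this
        rw [mul_smul, mul_smul, hcon _ hRx k hk, inv_smul_smul]
    have hgN : g⁻¹ ∈ Subgroup.normalizer (K : Set G) := by
      rw [Subgroup.mem_normalizer_iff]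
      intro k
      constructor
      · intro hk; simpa using hconj k hk
      · intro hk
        let f : K → K := fun k => ⟨g⁻¹ * k * g, hconj k k.2⟩
        have hf : Function.Injective f := by
          intro a b hab
          have : g⁻¹ * (a : G) * g = g⁻¹ * b * g := congrArg Subtype.val hab
          exact Subtype.ext (by simpa using this)
        obtain ⟨k', hk'⟩ := Finite.surjective_of_injective hf ⟨g⁻¹ * k * g⁻¹⁻¹, hk⟩
        have h1 : g⁻¹ * (k' : G) * g = g⁻¹ * k * g⁻¹⁻¹ := congrArg Subtype.val hk'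
        have h2 : (k' : G) = k := by simpa using h1
        rw [← h2]; exact k'.2
    have hHN : H ≤ Subgroup.normalizer (K : Set G) := by
      intro a ha
      rw [Subgroup.mem_normalizer_iff]
      intro k
      constructor
      · exact hKnorm a ha k
      · intro hk
        have := hKnorm a⁻¹ (H.inv_mem ha) _ hk
        simpa [mul_assoc] using this
    have hNtop : Subgroup.normalizer (K : Set G) = ⊤ :=
      hco.2 _ (lt_of_le_not_ge hHN (fun hle => hgH (by
        have := H.inv_mem (hle hgN); simpa using this)))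
    have : h = 1 := by
      apply FaithfulSMul.eq_of_smul_eq_smul (α := Ω)
      intro x
      obtain ⟨y, rfl⟩ := MulAction.exists_smul_eq G α x
      have hyN : y⁻¹ ∈ Subgroup.normalizer (K : Set G) := by rw [hNtop]; trivial
      have h3 := (Subgroup.mem_normalizer_iff.mp hyN h).mp hk0
      have h4 : (y⁻¹ * h * y⁻¹⁻¹) • α = α := h3.1
      rw [one_smul]
      calc h • y • α = y • ((y⁻¹ * h * y⁻¹⁻¹) • α) := by simp [mul_smul]
        _ = y • α := by rw [h4]
    exact hne this
  obtain ⟨ω', hRω', k₁, hk₁, hk₁ω'⟩ := step2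
  -- Step 3
  have step3 : ∀ θ ∈ MulAction.orbit H ω', ∃ k ∈ K, k • ω' = θ := by
    have hpre := hep ω'
    let KH : Subgroup H := K.subgroupOf H
    have hKHn : KH.Normal := by
      refine ⟨fun k hk a => ?_⟩
      exact hKnorm a a.2 k hk
    have hfp : MulAction.fixedPoints KH (MulAction.orbit H ω') ≠ Set.univ := by
      intro htop
      have hmem : (⟨ω', MulAction.mem_orbit_self ω'⟩ : MulAction.orbit H ω') ∈
          MulAction.fixedPoints KH (MulAction.orbit H ω') := by rw [htop]; trivial
      have := hmem ⟨⟨k₁, hk₁.1⟩, hk₁⟩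
      exact hk₁ω' (congrArg Subtype.val this)
    have htr : MulAction.IsPretransitive KH (MulAction.orbit H ω') :=
      MulAction.IsQuasiPreprimitive.isPretransitive_of_normal hfp
    intro θ hθ
    obtain ⟨k, hk⟩ := htr.exists_smul_eq ⟨ω', MulAction.mem_orbit_self ω'⟩ ⟨θ, hθ⟩
    exact ⟨((k : H) : G), k.2, congrArg Subtype.val hk⟩
  -- Step 5
  have step5 : ∀ γ ∈ Γ, R γ ω' := by
    rintro _ ⟨a, rfl⟩
    obtain ⟨k, hk, hkθ⟩ := step3 ((a : G)⁻¹ • ω') ⟨a⁻¹, rfl⟩
    have h1 := hR k ω ω' hRω'
    rw [hk.2 ω hωΓ, hkθ] at h1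
    have h2 := hR (a : G) _ _ h1
    rwa [smul_inv_smul] at h2
  -- Step 6: counting
  have step6 : ∀ γ, R γ ω' → γ ∈ Γ := by
    have hout : ∀ (y : G) (γ : Ω), (Finset.univ.filter (fun δ => R (y • γ) δ)).card =
        (Finset.univ.filter (fun δ => R γ δ)).card := by
      intro y γ
      symm
      apply Finset.card_bij (fun δ _ => y • δ)
      · intro δ hδ
        simp only [Finset.mem_filter, Finset.mem_univ, true_and] at hδ ⊢
        exact hR y γ δ hδ
      · intro a _ b _ hab
        exact smul_left_cancel y hab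
      · intro δ' hδ'
        simp only [Finset.mem_filter, Finset.mem_univ, true_and] at hδ'
        refine ⟨y⁻¹ • δ', ?_, smul_inv_smul y δ'⟩
        simp only [Finset.mem_filter, Finset.mem_univ, true_and]
        have := hR y⁻¹ _ _ hδ'
        rwa [inv_smul_smul] at this
    have hin : ∀ (y : G) (δ : Ω), (Finset.univ.filter (fun γ => R γ (y • δ))).card =
        (Finset.univ.filter (fun γ => R γ δ)).card := by
      intro y δ
      symm
      apply Finset.card_bij (fun γ _ => y • γ)
      · intro γ hγ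
        simp only [Finset.mem_filter, Finset.mem_univ, true_and] at hγ ⊢
        exact hR y γ δ hγ
      · intro a _ b _ hab
        exact smul_left_cancel y hab
      · intro γ' hγ'
        simp only [Finset.mem_filter, Finset.mem_univ, true_and] at hγ'
        refine ⟨y⁻¹ • γ', ?_, smul_inv_smul y γ'⟩
        simp only [Finset.mem_filter, Finset.mem_univ, true_and]
        have := hR y⁻¹ _ _ hγ'
        rwa [inv_smul_smul] at this
    have hdc := Finset.sum_card_bipartiteAbove_eq_sum_card_bipartiteBelow (s := (Finset.univ : Finset Ω))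
      (t := (Finset.univ : Finset Ω)) (r := R)
    have hL : ∀ γ ∈ (Finset.univ : Finset Ω), ((Finset.univ : Finset Ω).bipartiteAbove R γ).card =
        (Finset.univ.filter (fun δ => R α δ)).card := by
      intro γ _
      obtain ⟨y, rfl⟩ := MulAction.exists_smul_eq G α γ
      exact hout y α
    have hR' : ∀ δ ∈ (Finset.univ : Finset Ω), ((Finset.univ : Finset Ω).bipartiteBelow R δ).card =
        (Finset.univ.filter (fun γ => R γ ω')).card := by
      intro δ _
      obtain ⟨y, rfl⟩ := MulAction.exists_smul_eq G ω' δ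
      exact hin y ω'
    rw [Finset.sum_congr rfl hL, Finset.sum_congr rfl hR', Finset.sum_const, Finset.sum_const,
      smul_eq_mul, smul_eq_mul] at hdc
    have hcard : (Finset.univ.filter (fun δ => R α δ)).card = (Finset.univ.filter (fun γ => R γ ω')).card := by
      have hpos : 0 < (Finset.univ : Finset Ω).card := Finset.card_pos.mpr ⟨α, Finset.mem_univ α⟩
      exact Nat.eq_of_mul_eq_mul_left hpos hdc
    have hsub : Finset.univ.filter (fun δ => R α δ) ⊆ Finset.univ.filter (fun γ => R γ ω') := by
      intro δ hδ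
      simp only [Finset.mem_filter, Finset.mem_univ, true_and] at hδ ⊢
      exact step5 δ ((hRα δ).mp hδ)
    have heq := Finset.eq_of_subset_of_card_le hsub (le_of_eq hcard.symm)
    intro γ hγ
    have : γ ∈ Finset.univ.filter (fun γ => R γ ω') := by
      simp only [Finset.mem_filter, Finset.mem_univ, true_and]; exact hγ
    rw [← heq] at this
    simp only [Finset.mem_filter, Finset.mem_univ, true_and] at this
    exact (hRα γ).mp this
  -- Step 8
  let T : Subgroup G :=
    { carrier := {x | ∀ γ, x • γ ∈ Γ ↔ γ ∈ Γ}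
      one_mem' := fun γ => by rw [one_smul]
      mul_mem' := by
        intro a b ha hb γ
        rw [mul_smul, ha, hb]
      inv_mem' := by
        intro a ha γ
        rw [← ha (a⁻¹ • γ), smul_inv_smul] }
  have hHT : H ≤ T := by
    intro a ha γ
    constructor
    · intro hγ
      have := hΓinv a⁻¹ (H.inv_mem ha) _ hγ
      rwa [inv_smul_smul] at this
    · exact hΓinv a ha γ
  have hST : MulAction.stabilizer G ω' ≤ T := by
    intro x hx γ
    have hx' : x • ω' = ω' := hx
    constructor
    · intro hγ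
      have h1 := step5 _ hγ
      have h2 := hR x⁻¹ _ _ h1
      rw [inv_smul_smul] at h2
      have hx'' : x⁻¹ • ω' = ω' := by rw [inv_smul_eq_iff, hx']
      rw [hx''] at h2
      exact step6 γ h2
    · intro hγ
      have h1 := step5 _ hγ
      have h2 := hR x _ _ h1
      rw [hx'] at h2
      exact step6 _ h2
  rcases hco.le_iff.mp hHT with hT | hT
  · obtain ⟨y, hy⟩ := MulAction.exists_smul_eq G ω α
    have hyT : y ∈ T := by rw [hT]; trivial
    have := (hyT ω).mpr hωΓ
    rw [hy] at this
    exact hαΓ this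
  · have hco' : IsCoatom (MulAction.stabilizer G ω') :=
      MulAction.IsPreprimitive.isCoatom_stabilizer_of_isPreprimitive G ω'
    have hle : MulAction.stabilizer G ω' ≤ H := by rw [← hT]; exact hST
    rcases hco'.le_iff.mp hle with h1 | h1
    · exact hco.1 h1
    · have : k₁ ∈ MulAction.stabilizer G ω' := by rw [← h1]; exact hk₁.1
      exact hk₁ω' this

/-- Manning's Theorem on extremely primitive groups. Let a finite group G act faithfully and primitively on a finite set Ω with non-trivial point stabilizers, and suppose every point stabilizer G_α acts primitively on each of its orbits. Then G_α acts faithfully on each of its orbits other than {α}: an element of G_α fixing every point of one such orbit is the identity. -/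
theorem result {G : Type*} [Group G] [Finite G] {Ω : Type*} [Fintype Ω] [MulAction G Ω] [FaithfulSMul G Ω] (hprim : MulAction.IsPreprimitive G Ω) (hH : ∀ α : Ω, MulAction.stabilizer G α ≠ ⊥) (hep : ∀ (α : Ω) (ω : Ω), MulAction.IsPreprimitive (MulAction.stabilizer G α) (MulAction.orbit (MulAction.stabilizer G α) ω))
    (α ω : Ω) (hω : ω ≠ α) (h : MulAction.stabilizer G α) (hfix : ∀ x ∈ MulAction.orbit (MulAction.stabilizer G α) ω, h • x = x) : h = 1 := by
  apply Subtype.ext
  exact manning hprim α (hep α) ω hω (h : G) h.2 (fun x hx => hfix x hx)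

end Cfsg.Agent.S3494
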