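import Mathlib
import Cfsg.Statements.S3497
import Cfsg.Agent.S3494
import Cfsg.Agent.S3356
import Cfsg.Agent.Lib.helper1.Fitting

set_option autoImplicit false
open Cfsg

namespace Cfsg.Agent.S3497

lemma center_ne_bot_of_nilpotent {F : Type*} [Group F] [Group.IsNilpotent F] [Nontrivial F] :
    Subgroup.center F ≠ ⊥ := by
  intro hc
  obtain ⟨n, hn⟩ := Group.IsNilpotent.nilpotent F
  have : ∀ k, Subgroup.upperCentralSeries F k = ⊥ := by
    intro k
    induction k with
    | zero => exact Subgroup.upperCentralSeries_zero F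
    | succ k ih =>
      rw [eq_bot_iff]
      intro x hx
      rw [Subgroup.mem_upperCentralSeries_succ_iff] at hx
      have hxc : x ∈ Subgroup.center F := by
        rw [Subgroup.mem_center_iff]
        intro y
        have h1 := hx y
        rw [ih, Subgroup.mem_bot] at h1
        exact (commutatorElement_eq_one_iff_mul_comm.mp h1).symm
      rw [hc] at hxc
      exact hxc
  rw [this n] at hn
  exact bot_ne_top hn

lemma gl_of_module (p e : ℕ) [Fact p.Prime] {H A : Type*} [Group H] [AddCommGroup A]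
    [Module (ZMod p) A] [Finite A]
    (hcard : Nat.card A = p ^ e) (ρ : H →* Module.End (ZMod p) A) :
    ∃ φ : H →* GL (Fin e) (ZMod p), ∀ h, φ h = 1 ↔ ρ h = 1 := by
  have hfr : Module.finrank (ZMod p) A = e := by
    have h1 := Module.natCard_eq_pow_finrank (K := ZMod p) (V := A)
    rw [hcard, Nat.card_zmod] at h1
    exact (Nat.pow_right_injective (Fact.out : p.Prime).two_le h1).symm
  let b : Module.Basis (Fin e) (ZMod p) A := (Module.finBasis (ZMod p) A).reindex (finCongr hfr)
  let E : Module.End (ZMod p) A ≃* Matrix (Fin e) (Fin e) (ZMod p) :=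
    (LinearMap.toMatrixAlgEquiv b).toMulEquiv
  refine ⟨(Units.mapEquiv E).toMonoidHom.comp ρ.toHomUnits, ?_⟩
  intro h
  simp only [MonoidHom.coe_comp, MulEquiv.coe_toMonoidHom, Function.comp_apply]
  rw [MulEquiv.map_eq_one_iff, ← Units.val_inj]
  simp

lemma gl_of_commGroup' (p e : ℕ) [Fact p.Prime] {H F : Type*} [Group H] [CommGroup F] [Finite F]
    [Module (ZMod p) (Additive F)]
    (hcard : Nat.card F = p ^ e) (c : H →* MulAut F) :
    ∃ φ : H →* GL (Fin e) (ZMod p), ∀ h, φ h = 1 ↔ c h = 1 := by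
  let ρ : H →* Module.End (ZMod p) (Additive F) :=
    { toFun := fun h => (MonoidHom.toAdditive (c h).toMonoidHom).toZModLinearMap p
      map_one' := by
        apply LinearMap.ext; intro x
        rw [map_one]
        rfl
      map_mul' := by
        intro g h; apply LinearMap.ext; intro x
        rw [map_mul]
        rfl }
  obtain ⟨φ, hφ⟩ := gl_of_module p e (A := Additive F)
    (by rw [← hcard]; exact Nat.card_congr Additive.toMul) ρ
  refine ⟨φ, fun h => ?_⟩
  rw [hφ]
  constructor
  · intro h1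
    ext x
    have h2 := congrArg (fun f => f (Additive.ofMul x)) h1
    exact congrArg Additive.toMul h2
  · intro h1
    apply LinearMap.ext; intro x
    show Additive.ofMul ((c h) x.toMul) = x
    rw [h1]; rfl

lemma gl_of_commGroup (p e : ℕ) [Fact p.Prime] {H F : Type*} [Group H] [CommGroup F] [Finite F]
    (hexp : ∀ x : F, x ^ p = 1) (hcard : Nat.card F = p ^ e) (c : H →* MulAut F) :
    ∃ φ : H →* GL (Fin e) (ZMod p), ∀ h, φ h = 1 ↔ c h = 1 := by
  letI : Module (ZMod p) (Additive F) := AddCommGroup.zmodModule (n := p) (fun x => by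
    show Additive.ofMul (x.toMul ^ p) = 0
    rw [hexp]; rfl)
  exact gl_of_commGroup' p e hcard c

lemma gl_of_subgroup (p e : ℕ) [Fact p.Prime] {H : Type*} [Group H] [Finite H] (F : Subgroup H)
    [F.Normal]
    (hcomm : ∀ a ∈ F, ∀ b ∈ F, a * b = b * a) (hexp : ∀ x ∈ F, x ^ p = 1)
    (hcard : Nat.card F = p ^ e) :
    ∃ φ : H →* GL (Fin e) (ZMod p), ∀ h, φ h = 1 ↔ ∀ f ∈ F, h * f * h⁻¹ = f := by
  letI : CommGroup ↥F :=
    { (inferInstance : Group ↥F) with
      mul_comm := fun a b => Subtype.ext (hcomm a.1 a.2 b.1 b.2) }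
  obtain ⟨φ, hφ⟩ := gl_of_commGroup p e (F := ↥F)
    (fun x => Subtype.ext (by simpa using hexp x.1 x.2)) hcard (MulAut.conjNormal (H := F))
  refine ⟨φ, fun h => ?_⟩
  rw [hφ]
  constructor
  · intro h1 f hf
    have h2 := congrArg (fun σ => ((σ ⟨f, hf⟩ : F) : H)) h1
    simpa using h2
  · intro h1
    ext ⟨f, hf⟩
    simp [h1 f hf]

/-- Restrictions on the point stabilizer of an extremely primitive group. Let a finite group G act faithfully and primitively on a finite set Ω with point stabilizers H = G_α whose order is neither 1 nor a prime, each acting primitively on every one of its orbits. Then H has trivial center, the Fitting subgroup F(H) is an elementary abelian p-group for some prime p, and if F(H) ≠ 1 has order p ^ e then p ^ e divides the number of points minus one and H / F(H) embeds in GL_e(p) (there is a homomorphism from H to GL_e(p) with kernel exactly F(H)). -/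
theorem result {G : Type*} [Group G] [Finite G] {Ω : Type*} [Fintype Ω] [MulAction G Ω] [FaithfulSMul G Ω] (hprim : MulAction.IsPreprimitive G Ω) (hep : ∀ (α : Ω) (ω : Ω), MulAction.IsPreprimitive (MulAction.stabilizer G α) (MulAction.orbit (MulAction.stabilizer G α) ω)) (α : Ω)
    (hH1 : MulAction.stabilizer G α ≠ ⊥) (hHp : ¬ (Nat.card (MulAction.stabilizer G α)).Prime) :
    Subgroup.center (MulAction.stabilizer G α) = ⊥ ∧
    IsMulCommutative (Cfsg.fittingSubgroup (MulAction.stabilizer G α)) ∧
    ∃ p e : ℕ, p.Prime ∧ Nat.card (Cfsg.fittingSubgroup (MulAction.stabilizer G α)) = p ^ e ∧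
      (∀ x ∈ Cfsg.fittingSubgroup (MulAction.stabilizer G α), x ^ p = 1) ∧
      (Cfsg.fittingSubgroup (MulAction.stabilizer G α) ≠ ⊥ →
        p ^ e ∣ Fintype.card Ω - 1 ∧
        ∃ φ : MulAction.stabilizer G α →* GL (Fin e) (ZMod p), φ.ker = Cfsg.fittingSubgroup (MulAction.stabilizer G α)) := by
  classical
  set H := MulAction.stabilizer G α with hHdef
  have hman : ∀ ω : Ω, ω ≠ α → ∀ h : G, h ∈ H →
      (∀ x ∈ MulAction.orbit H ω, h • x = x) → h = 1 :=
    fun ω hω h hh hfix => Cfsg.Agent.S3494.manning hprim α (hep α) ω hω h hh hfix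
  have L1 : ∀ (K : Subgroup H), K.Normal → K ≠ ⊥ → ∀ ω : Ω, ω ≠ α →
      ∀ θ ∈ MulAction.orbit H ω, ∃ k ∈ K, ((k : H) : G) • ω = θ := by
    intro K hKn hK ω hω θ hθ
    have hpre := hep α ω
    have hfp : MulAction.fixedPoints K (MulAction.orbit H ω) ≠ Set.univ := by
      intro htop
      apply hK
      rw [eq_bot_iff]
      intro m hm
      rw [Subgroup.mem_bot]
      have h1 : (m : G) = 1 := by
        apply hman ω hω (m : G) m.2
        intro x hx
        have hmem : (⟨x, hx⟩ : MulAction.orbit H ω) ∈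
            MulAction.fixedPoints K (MulAction.orbit H ω) := by
          rw [htop]; trivial
        have h2 := hmem ⟨m, hm⟩
        exact congrArg Subtype.val h2
      exact Subtype.ext h1
    have htr : MulAction.IsPretransitive K (MulAction.orbit H ω) :=
      MulAction.IsQuasiPreprimitive.isPretransitive_of_normal hfp
    obtain ⟨k, hk⟩ := htr.exists_smul_eq ⟨ω, MulAction.mem_orbit_self ω⟩ ⟨θ, hθ⟩
    exact ⟨k.1, k.2, congrArg Subtype.val hk⟩
  have L2 : ∀ (K : Subgroup H) (ω : Ω), ω ≠ α →
      (∀ θ ∈ MulAction.orbit H ω, ∃ k ∈ K, ((k : H) : G) • ω = θ) →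
      ∀ c : H, (c : G) • ω = ω → (∀ k ∈ K, c * k = k * c) → c = 1 := by
    intro K ω hω htr c hc hcomm
    apply Subtype.ext
    apply hman ω hω (c : G) c.2
    intro θ hθ
    obtain ⟨k, hk, rfl⟩ := htr θ hθ
    have h1 : (c : G) * (k : G) = (k : G) * (c : G) := congrArg Subtype.val (hcomm k hk)
    rw [← mul_smul, h1, mul_smul, hc]
  obtain ⟨ω, hω⟩ : ∃ ω : Ω, ω ≠ α := by
    by_contra hcon
    push Not at hcon
    apply hH1
    rw [eq_bot_iff]
    intro h hh
    rw [Subgroup.mem_bot]
    apply FaithfulSMul.eq_of_smul_eq_smul (α := Ω)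
    intro θ
    rw [hcon θ, one_smul]
    exact hh
  have part1 : Subgroup.center H = ⊥ := by
    rw [eq_bot_iff]
    intro z hz
    rw [Subgroup.mem_bot]
    by_contra hz1
    let K : Subgroup H := Subgroup.zpowers z
    have hKc : ∀ k ∈ K, k ∈ Subgroup.center H := fun k hk => (Subgroup.zpowers_le.mpr hz) hk
    have hKn : K.Normal := by
      constructor
      intro k hk g
      have h1 : g * k * g⁻¹ = k := by
        rw [Subgroup.mem_center_iff.mp (hKc k hk) g]; group
      rw [h1]; exact hk
    have hKbot : K ≠ ⊥ := by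
      intro h
      apply hz1
      have h1 : z ∈ K := Subgroup.mem_zpowers z
      rw [h, Subgroup.mem_bot] at h1
      exact h1
    have htr := L1 K hKn hKbot ω hω
    have hKcomm : ∀ c : H, ∀ k ∈ K, c * k = k * c := by
      intro c k hk
      exact Subgroup.mem_center_iff.mp (hKc k hk) c
    have hstab : ∀ c : H, (c : G) • ω = ω → c = 1 := fun c hc => L2 K ω hω htr c hc (hKcomm c)
    have hzω : (z : G) • ω ≠ ω := fun h => hz1 (hstab z h)
    have hpre := hep α ω
    have hnt : Nontrivial (MulAction.orbit H ω) :=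
      ⟨⟨⟨ω, MulAction.mem_orbit_self ω⟩, ⟨(z : G) • ω, ⟨z, rfl⟩⟩,
        fun h => hzω (congrArg Subtype.val h).symm⟩⟩
    have hco : IsCoatom (MulAction.stabilizer H
        (⟨ω, MulAction.mem_orbit_self ω⟩ : MulAction.orbit H ω)) :=
      MulAction.IsPreprimitive.isCoatom_stabilizer_of_isPreprimitive H _
    have hst : MulAction.stabilizer H
        (⟨ω, MulAction.mem_orbit_self ω⟩ : MulAction.orbit H ω) = ⊥ := by
      rw [eq_bot_iff]
      intro c hc
      rw [Subgroup.mem_bot]
      apply hstab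
      have h1 := MulAction.mem_stabilizer_iff.mp hc
      exact congrArg Subtype.val h1
    rw [hst] at hco
    have hHnt : Nontrivial H := ⟨⟨z, 1, hz1⟩⟩
    obtain ⟨p, hp, hpd⟩ := Nat.exists_prime_and_dvd (show Nat.card H ≠ 1 from by
      have := Finite.one_lt_card (α := H)
      omega)
    have hpF : Fact p.Prime := ⟨hp⟩
    obtain ⟨y, hy⟩ := exists_prime_orderOf_dvd_card' p hpd
    have hY : Subgroup.zpowers y = ⊤ := by
      apply hco.2
      rw [bot_lt_iff_ne_bot]
      intro h
      have h1 : y ∈ Subgroup.zpowers y := Subgroup.mem_zpowers y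
      rw [h, Subgroup.mem_bot] at h1
      rw [h1, orderOf_one] at hy
      exact hp.one_lt.ne hy
    apply hHp
    have h2 : Nat.card H = p := by
      rw [← Subgroup.card_top (G := H), ← hY, Nat.card_zpowers, hy]
    rw [h2]; exact hp
  set F := Cfsg.fittingSubgroup H with hF
  have hFn : F.Normal := Cfsg.Agent.Lib.helper1.fitting_normal H
  have hFnil : Group.IsNilpotent F := Cfsg.Agent.Lib.helper1.fitting_isNilpotent H
  refine ⟨part1, ?_⟩
  by_cases hFbot : F = ⊥
  · have hF1 : ∀ x ∈ F, x = 1 := fun x hx => by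
      rw [hFbot] at hx
      exact Subgroup.mem_bot.mp hx
    refine ⟨⟨⟨fun a b => ?_⟩⟩, 2, 0, Nat.prime_two, ?_, ?_, fun h => absurd hFbot h⟩
    · have ha : a = 1 := Subtype.ext (hF1 a.1 a.2)
      rw [ha, one_mul, mul_one]
    · rw [hFbot, Subgroup.card_bot, pow_zero]
    · intro x hx
      rw [hFbot, Subgroup.mem_bot] at hx
      rw [hx, one_pow]
  · have hFnt : Nontrivial F := (Subgroup.nontrivial_iff_ne_bot F).mpr hFbot
    let Z : Subgroup H := (Subgroup.center F).map F.subtype
    have hZn : Z.Normal := ConjAct.normal_of_characteristic_of_normal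
    have hZbot : Z ≠ ⊥ := by
      intro h
      apply center_ne_bot_of_nilpotent (F := F)
      rw [eq_bot_iff]
      intro x hx
      rw [Subgroup.mem_bot]
      have h1 : (x : H) ∈ Z := ⟨x, hx, rfl⟩
      rw [h, Subgroup.mem_bot] at h1
      exact Subtype.ext h1
    have htrZ := L1 Z hZn hZbot
    have hFstab : ∀ θ : Ω, θ ≠ α → ∀ c ∈ F, (c : G) • θ = θ → c = 1 := by
      intro θ hθ c hc hfix
      apply L2 Z θ hθ (htrZ θ hθ) c hfix
      rintro k ⟨k', hk', rfl⟩
      have h1 := Subgroup.mem_center_iff.mp hk' ⟨c, hc⟩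
      exact congrArg Subtype.val h1
    have hFab : ∀ a ∈ F, ∀ b ∈ F, a * b = b * a := by
      intro a ha b hb
      obtain ⟨k, hk, hkω⟩ := htrZ ω hω ((a : G) • ω) ⟨a, rfl⟩
      have hkF : k ∈ F := by
        obtain ⟨k', _, rfl⟩ := hk
        exact k'.2
      have h1 : k⁻¹ * a = 1 := by
        apply hFstab ω hω _ (F.mul_mem (F.inv_mem hkF) ha)
        show ((k⁻¹ * a : H) : G) • ω = ω
        rw [Subgroup.coe_mul, mul_smul, ← hkω, Subgroup.coe_inv, inv_smul_smul]
      have hak : a = k := (inv_mul_eq_one.mp h1).symm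
      obtain ⟨k', hk', rfl⟩ := hk
      rw [hak]
      have h2 := Subgroup.mem_center_iff.mp hk' ⟨b, hb⟩
      exact (congrArg Subtype.val h2).symm
    obtain ⟨p, hp, hpd⟩ := Nat.exists_prime_and_dvd (show Nat.card F ≠ 1 from by
      have := Finite.one_lt_card (α := F)
      omega)
    have hpF : Fact p.Prime := ⟨hp⟩
    obtain ⟨y, hy⟩ := exists_prime_orderOf_dvd_card' p hpd
    let P : Subgroup H :=
      { carrier := {x | x ∈ F ∧ x ^ p = 1}
        mul_mem' := by
          rintro a c ⟨ha, hap⟩ ⟨hc, hcp⟩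
          refine ⟨F.mul_mem ha hc, ?_⟩
          have hcomm : Commute a c := hFab a ha c hc
          rw [hcomm.mul_pow, hap, hcp, one_mul]
        one_mem' := ⟨F.one_mem, one_pow _⟩
        inv_mem' := by
          rintro a ⟨ha, hap⟩
          exact ⟨F.inv_mem ha, by rw [inv_pow, hap, inv_one]⟩ }
    have hPmem : ∀ x, x ∈ P ↔ x ∈ F ∧ x ^ p = 1 := fun x => Iff.rfl
    have hPn : P.Normal := by
      constructor
      intro a ha g
      rw [hPmem] at ha ⊢
      refine ⟨hFn.conj_mem a ha.1 g, ?_⟩
      rw [conj_pow, ha.2, mul_one, mul_inv_cancel]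
    have hPbot : P ≠ ⊥ := by
      intro h
      have hyP : (y : H) ∈ P := by
        rw [hPmem]
        refine ⟨y.2, ?_⟩
        have h1 : y ^ p = 1 := by rw [← hy]; exact pow_orderOf_eq_one y
        have h2 : ((y ^ p : F) : H) = 1 := by rw [h1]; rfl
        simpa using h2
      rw [h, Subgroup.mem_bot] at hyP
      have hy1 : y = 1 := Subtype.ext hyP
      rw [hy1, orderOf_one] at hy
      exact hp.one_lt.ne hy
    have htrP := L1 P hPn hPbot ω hω
    have hFexp : ∀ x ∈ F, x ^ p = 1 := by
      intro x hx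
      obtain ⟨u, hu, huω⟩ := htrP ((x : G) • ω) ⟨x, rfl⟩
      have h1 : u⁻¹ * x = 1 := by
        apply hFstab ω hω _ (F.mul_mem (F.inv_mem hu.1) hx)
        show ((u⁻¹ * x : H) : G) • ω = ω
        rw [Subgroup.coe_mul, mul_smul, ← huω, Subgroup.coe_inv, inv_smul_smul]
      have hxu : x = u := (inv_mul_eq_one.mp h1).symm
      rw [hxu]; exact hu.2
    have hFp : IsPGroup p F := by
      intro x
      refine ⟨1, ?_⟩
      rw [pow_one]
      exact Subtype.ext (by simpa using hFexp x.1 x.2)
    obtain ⟨e, he⟩ := IsPGroup.iff_card.mp hFp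
    refine ⟨⟨⟨fun a b => Subtype.ext (hFab a.1 a.2 b.1 b.2)⟩⟩, p, e, hp, he, hFexp,
      fun _ => ⟨?_, ?_⟩⟩
    · rw [← he]
      let F' : Subgroup G := F.map H.subtype
      have hF'card : Nat.card F' = Nat.card F :=
        Subgroup.card_map_of_injective H.subtype_injective
      have hF'mem : ∀ g ∈ F', ∃ hg : g ∈ H, (⟨g, hg⟩ : H) ∈ F := by
        rintro g ⟨f, hf, rfl⟩
        exact ⟨f.2, hf⟩
      have h := Cfsg.Agent.S3356.dvd_card_of_orbits (S := ↥F') (Finset.univ.erase α)
        (Nat.card F) ?_ ?_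
      · rwa [Finset.card_erase_of_mem (Finset.mem_univ _), Finset.card_univ] at h
      · intro s δ hδ
        rw [Finset.mem_erase] at hδ ⊢
        refine ⟨?_, Finset.mem_univ _⟩
        intro h
        apply hδ.1
        obtain ⟨hs, -⟩ := hF'mem s.1 s.2
        have h1 : δ = s⁻¹ • α := eq_inv_smul_iff.mpr h
        rw [h1]
        have h2 : (s : G) • α = α := hs
        show (s : G)⁻¹ • α = α
        exact inv_smul_eq_iff.mpr h2.symm
      · intro δ hδ
        have hδα := Finset.ne_of_mem_erase hδ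
        have h1 := Cfsg.Agent.S3356.orbit_stab F' δ
        have h2 : F' ⊓ MulAction.stabilizer G δ = ⊥ := by
          rw [eq_bot_iff]
          intro g hg
          rw [Subgroup.mem_bot]
          obtain ⟨hgH, hgF⟩ := hF'mem g hg.1
          have h3 := hFstab δ hδα ⟨g, hgH⟩ hgF hg.2
          exact congrArg Subtype.val h3
        rw [h2, Subgroup.card_bot, mul_one, hF'card] at h1
        exact h1
    · obtain ⟨φ, hφ⟩ := gl_of_subgroup p e F hFab hFexp he
      refine ⟨φ, ?_⟩
      ext c
      rw [MonoidHom.mem_ker, hφ]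
      constructor
      · intro hc
        have htrF : ∀ θ ∈ MulAction.orbit H ω, ∃ k ∈ F, ((k : H) : G) • ω = θ :=
          L1 F hFn hFbot ω hω
        obtain ⟨f, hf, hfω⟩ := htrF ((c : G) • ω) ⟨c, rfl⟩
        have h1 : f⁻¹ * c = 1 := by
          apply L2 F ω hω htrF
          · show ((f⁻¹ * c : H) : G) • ω = ω
            rw [Subgroup.coe_mul, mul_smul, ← hfω, Subgroup.coe_inv, inv_smul_smul]
          · intro k hk
            have e1 : c * k = k * c := mul_inv_eq_iff_eq_mul.mp (hc k hk)
            have e2 : f⁻¹ * k = k * f⁻¹ := hFab _ (F.inv_mem hf) k hk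
            rw [mul_assoc, e1, ← mul_assoc, e2, mul_assoc]
        rw [← (inv_mul_eq_one.mp h1)]; exact hf
      · intro hc f hf
        have h1 := hFab c hc f hf
        rw [h1]; group

end Cfsg.Agent.S3497
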