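import Mathlib
import Cfsg.Statements.S3370
import Cfsg.Agent.S3497
import Cfsg.Agent.Lib.helper1.Quat

set_option autoImplicit false
open Cfsg

namespace Cfsg.Agent.S3370

lemma geom_identity (r n : ℕ) :
    (∑ i ∈ Finset.range n, (r + 1) ^ i) * r + 1 = (r + 1) ^ n := by
  induction n with
  | zero => simp
  | succ n ih =>
    rw [Finset.sum_range_succ, add_mul, pow_succ, ← ih]
    ring

lemma geom_parity (q : ℕ) (hq : Odd q) (n : ℕ) :
    Odd (∑ i ∈ Finset.range n, q ^ i) ↔ Odd n := by
  induction n with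
  | zero => simp
  | succ n ih =>
    rw [Finset.sum_range_succ, Nat.odd_add, ih, Nat.odd_add_one]
    have h1 : ¬ Even (q ^ n) := by
      rw [Nat.not_even_iff_odd]; exact hq.pow
    tauto

lemma nt1 (n p k : ℕ) (hp : p.Prime) (hk : 1 ≤ k) (h : 2 ^ n = p ^ k + 1) : k = 1 := by
  have hp2 : p ≠ 2 := by
    rintro rfl
    have h1 : Even (2 ^ k) := (Nat.even_pow.mpr ⟨even_two, by omega⟩)
    have h2 : Odd (2 ^ n) := by rw [h]; exact h1.add_one
    have h3 : n = 0 := by
      by_contra hn
      have : Even (2 ^ n) := Nat.even_pow.mpr ⟨even_two, hn⟩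
      exact (Nat.not_even_iff_odd.mpr h2) this
    rw [h3] at h
    have : 0 < 2 ^ k := by positivity
    omega
  have hpodd : Odd p := hp.odd_of_ne_two hp2
  have hp3 : 3 ≤ p := by
    have := hp.two_le
    omega
  have hpk3 : 3 ≤ p ^ k := by
    calc 3 ≤ p := hp3
      _ = p ^ 1 := (pow_one p).symm
      _ ≤ p ^ k := Nat.pow_le_pow_right (by omega) hk
  have hn2 : 2 ≤ n := by
    by_contra hn
    have : n = 0 ∨ n = 1 := by omega
    rcases this with rfl | rfl <;> omega
  rcases Nat.even_or_odd k with hke | hko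
  · exfalso
    obtain ⟨l, rfl⟩ := hke
    have h4 : 2 ^ n % 4 = 0 := by
      obtain ⟨m, rfl⟩ : ∃ m, n = m + 2 := ⟨n - 2, by omega⟩
      rw [pow_add]; simp
    have h5 : p ^ (l + l) % 4 = 1 := by
      rw [← two_mul, pow_mul, Nat.pow_mod]
      have h6 : p ^ 2 % 4 = 1 := by
        obtain ⟨c, rfl⟩ := hpodd
        have : (2 * c + 1) ^ 2 = 4 * (c * c + c) + 1 := by ring
        rw [this]; omega
      rw [h6]; simp
    omega
  · obtain ⟨s, hs⟩ : p + 1 ∣ p ^ k + 1 := by
      have := Odd.nat_add_dvd_pow_add_pow p 1 hko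
      rwa [one_pow] at this
    have hs2 : s ∣ 2 ^ n := ⟨p + 1, by rw [h, hs]; ring⟩
    obtain ⟨c, hc, hsc⟩ := (Nat.dvd_prime_pow Nat.prime_two).mp hs2
    have hc0 : c = 0 := by
      by_contra hc0
      have h2s : 2 ∣ s := by rw [hsc]; exact dvd_pow_self 2 hc0
      obtain ⟨s', rfl⟩ := h2s
      -- 2 (p+1) ∣ p^k + 1
      have hM : p ^ k + 1 ≡ 0 [MOD 2 * (p + 1)] := by
        rw [Nat.modEq_zero_iff_dvd]
        exact ⟨s', by rw [hs]; ring⟩
      have hsq : p ^ 2 ≡ 1 [MOD 2 * (p + 1)] := by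
        obtain ⟨d, rfl⟩ := hpodd
        have : (2 * d + 1) ^ 2 = 1 + d * (2 * (2 * d + 1 + 1)) := by ring
        rw [this]
        show (1 + d * (2 * (2 * d + 1 + 1))) % (2 * (2 * d + 1 + 1)) = 1 % (2 * (2 * d + 1 + 1))
        rw [Nat.add_mul_mod_self_right]
      obtain ⟨l, rfl⟩ := hko
      have hpk : p ^ (2 * l + 1) ≡ p [MOD 2 * (p + 1)] := by
        rw [pow_succ, pow_mul]
        have := (hsq.pow l).mul_right p
        rwa [one_pow, one_mul] at this
      have h7 : p + 1 ≡ 0 [MOD 2 * (p + 1)] := ((hpk.add_right 1).symm.trans hM)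
      rw [Nat.modEq_zero_iff_dvd] at h7
      have := Nat.le_of_dvd (by omega) h7
      omega
    rw [hc0, pow_zero] at hsc
    rw [hsc, mul_one] at hs
    have h8 : p ^ k = p ^ 1 := by rw [pow_one]; omega
    exact Nat.pow_right_injective hp.two_le h8

lemma nt2 (q n k : ℕ) (hq : q.Prime) (hq2 : q ≠ 2) (hn : 1 ≤ n) (h : q ^ n = 2 ^ k + 1) :
    n = 1 ∨ (q = 3 ∧ n = 2 ∧ k = 3) := by
  have hqodd : Odd q := hq.odd_of_ne_two hq2
  have hq3 : 3 ≤ q := by
    have := hq.two_le
    omega
  rcases Nat.even_or_odd n with hne | hno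
  · right
    obtain ⟨j, rfl⟩ := hne
    have hj : 1 ≤ j := by omega
    obtain ⟨A, hA⟩ : ∃ A, A = q ^ j := ⟨_, rfl⟩
    have hA3 : 3 ≤ A := by
      rw [hA]
      calc 3 ≤ q := hq3
        _ = q ^ 1 := (pow_one q).symm
        _ ≤ q ^ j := Nat.pow_le_pow_right (by omega) hj
    have hAA : A * A = 2 ^ k + 1 := by rw [hA, ← pow_add]; exact h
    have h1 : (A - 1) * (A + 1) = 2 ^ k := by
      obtain ⟨B, rfl⟩ : ∃ B, A = B + 1 := ⟨A - 1, by omega⟩
      simp only [Nat.add_sub_cancel]
      have : (B + 1) * (B + 1) = B * (B + 1 + 1) + 1 := by ring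
      omega
    obtain ⟨a, ha, haA⟩ := (Nat.dvd_prime_pow Nat.prime_two).mp (Dvd.intro _ h1 : A - 1 ∣ 2 ^ k)
    obtain ⟨b, hb, hbA⟩ := (Nat.dvd_prime_pow Nat.prime_two).mp (Dvd.intro_left _ h1 : A + 1 ∣ 2 ^ k)
    have hab : 2 ^ b = 2 ^ a + 2 := by omega
    have ha1 : a = 1 := by
      by_contra ha1
      have ha0 : a ≠ 0 := by
        rintro rfl
        simp at haA
        omega
      have ha2 : 2 ≤ a := by omega
      have hb2 : 2 ≤ b := by
        by_contra hb2
        have : b = 0 ∨ b = 1 := by omega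
        rcases this with rfl | rfl <;> simp at hbA <;> omega
      obtain ⟨a', rfl⟩ : ∃ a', a = a' + 2 := ⟨a - 2, by omega⟩
      obtain ⟨b', rfl⟩ : ∃ b', b = b' + 2 := ⟨b - 2, by omega⟩
      rw [pow_add, pow_add] at hab
      omega
    rw [ha1] at haA
    have hA3' : A = 3 := by omega
    rw [hA] at hA3'
    have hq3' : q = 3 := by
      have hd : q ∣ 3 := by rw [← hA3']; exact dvd_pow_self q (by omega)
      exact (Nat.prime_dvd_prime_iff_eq hq Nat.prime_three).mp hd
    have hj1 : j = 1 := by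
      rw [hq3'] at hA3'
      have h33 : 3 ^ j = 3 ^ 1 := by rw [pow_one]; exact hA3'
      exact Nat.pow_right_injective (by norm_num : 2 ≤ 3) h33
    refine ⟨hq3', by omega, ?_⟩
    rw [hq3', hj1] at h
    have h9 : 2 ^ k = 2 ^ 3 := by norm_num at h ⊢; omega
    exact Nat.pow_right_injective (le_refl 2) h9
  · left
    obtain ⟨r, rfl⟩ : ∃ r, q = r + 1 := ⟨q - 1, by omega⟩
    have h1 := geom_identity r n
    have h2 := (geom_parity (r + 1) hqodd n).mpr hno
    obtain ⟨t, ht⟩ : ∃ t, t = ∑ i ∈ Finset.range n, (r + 1) ^ i := ⟨_, rfl⟩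
    rw [← ht] at h1 h2
    have h3 : t ∣ 2 ^ k := ⟨r, by omega⟩
    obtain ⟨c, hc, htc⟩ := (Nat.dvd_prime_pow Nat.prime_two).mp h3
    have hc0 : c = 0 := by
      by_contra hc0
      have : Even t := by rw [htc]; exact Nat.even_pow.mpr ⟨even_two, hc0⟩
      exact (Nat.not_even_iff_odd.mpr h2) this
    rw [hc0, pow_zero] at htc
    by_contra hn1
    obtain ⟨m, rfl⟩ : ∃ m, n = m + 2 := ⟨n - 2, by omega⟩
    rw [Finset.sum_range_succ, Finset.sum_range_succ] at ht
    have : 0 < (r + 1) ^ (m + 1) := by positivity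
    have : 0 < (r + 1) ^ m := by positivity
    omega

section act

variable {q : ℕ} [Fact q.Prime] {V : Type*} [AddCommGroup V] [Module (ZMod q) V] [Finite V]
  {G : Type*} [Group G] [Finite G]

lemma orbit_count (ρ : G →* (V ≃ₗ[ZMod q] V))
    (htrans : ∀ v w : V, v ≠ 0 → w ≠ 0 → ∃ g : G, ρ g v = w) (v₀ : V) (hv₀ : v₀ ≠ 0) :
    Nat.card {g : G // ρ g v₀ = v₀} * (Nat.card V - 1) = Nat.card G := by
  letI : MulAction G V := MulAction.compHom V ρ
  have hsmul : ∀ (g : G) (v : V), g • v = ρ g v := fun g v => rfl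
  have h1 := Subgroup.card_mul_index (MulAction.stabilizer G v₀)
  rw [MulAction.index_stabilizer] at h1
  have h2 : MulAction.orbit G v₀ = ({0} : Set V)ᶜ := by
    ext v
    simp only [Set.mem_compl_iff, Set.mem_singleton_iff]
    constructor
    · rintro ⟨g, rfl⟩
      show ¬ g • v₀ = 0
      rw [hsmul]
      intro h
      exact hv₀ ((ρ g).map_eq_zero_iff.mp h)
    · intro hv
      obtain ⟨g, hg⟩ := htrans v₀ v hv₀ hv
      exact ⟨g, hg⟩
  rw [h2, Set.ncard_compl, Set.ncard_singleton] at h1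
  rw [← h1]
  rfl

lemma fix_all (ρ : G →* (V ≃ₗ[ZMod q] V)) (hρ : Function.Injective ρ) (g : G)
    (h : ∀ v : V, v ≠ 0 → ρ g v = v) : g = 1 := by
  apply hρ
  rw [map_one]
  apply LinearEquiv.ext
  intro v
  by_cases hv : v = 0
  · rw [hv, map_zero]; rfl
  · exact h v hv

lemma card_dvd_factorial (ρ : G →* (V ≃ₗ[ZMod q] V)) (hρ : Function.Injective ρ) :
    Nat.card G ∣ (Nat.card V - 1).factorial := by
  classical
  have := Fintype.ofFinite V
  let f : G →* Equiv.Perm {v : V // v ≠ 0} :=
    { toFun := fun g =>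
        { toFun := fun v => ⟨ρ g v.1, fun h => v.2 ((ρ g).map_eq_zero_iff.mp h)⟩
          invFun := fun v => ⟨ρ g⁻¹ v.1, fun h => v.2 ((ρ g⁻¹).map_eq_zero_iff.mp h)⟩
          left_inv := by
            intro v
            apply Subtype.ext
            show ρ g⁻¹ (ρ g v.1) = v.1
            rw [map_inv]
            exact (ρ g).symm_apply_apply v.1
          right_inv := by
            intro v
            apply Subtype.ext
            show ρ g (ρ g⁻¹ v.1) = v.1
            rw [map_inv]
            exact (ρ g).apply_symm_apply v.1 }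
      map_one' := by
        ext v
        show ρ 1 v.1 = v.1
        rw [map_one]; rfl
      map_mul' := by
        intro g h
        ext v
        show ρ (g * h) v.1 = ρ g (ρ h v.1)
        rw [map_mul]; rfl }
  have hf : Function.Injective f := by
    rw [injective_iff_map_eq_one]
    intro g hg
    apply fix_all ρ hρ
    intro v hv
    have h1 := congrArg (fun σ : Equiv.Perm {v : V // v ≠ 0} => (σ ⟨v, hv⟩).1) hg
    exact h1
  have h1 := Subgroup.card_dvd_of_injective f hf
  have h2 : Nat.card (Equiv.Perm {v : V // v ≠ 0}) = (Nat.card V - 1).factorial := by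
    rw [Nat.card_eq_fintype_card, Fintype.card_perm, Nat.card_eq_fintype_card,
      Fintype.card_subtype_compl, Fintype.card_subtype_eq]
  rwa [h2] at h1

lemma dim1 (ρ : G →* (V ≃ₗ[ZMod q] V)) (hρ : Function.Injective ρ)
    (htrans : ∀ v w : V, v ≠ 0 → w ≠ 0 → ∃ g : G, ρ g v = w) (hV : Nat.card V = q) :
    IsCyclic G ∧ Nat.card G = q - 1 := by
  have hq : q.Prime := Fact.out
  have hnt : Nontrivial V := by
    rw [← Finite.one_lt_card_iff_nontrivial, hV]; exact hq.one_lt
  obtain ⟨v₀, hv₀⟩ := exists_ne (0 : V)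
  have hinj : Function.Injective (fun c : ZMod q => c • v₀) := smul_left_injective (ZMod q) hv₀
  have hbij : Function.Bijective (fun c : ZMod q => c • v₀) :=
    (Nat.bijective_iff_injective_and_card _).mpr ⟨hinj, by rw [Nat.card_zmod, hV]⟩
  have hfree : ∀ g : G, ρ g v₀ = v₀ → g = 1 := by
    intro g hg
    apply fix_all ρ hρ
    intro v _
    obtain ⟨c, rfl⟩ := hbij.2 v
    show ρ g (c • v₀) = c • v₀
    rw [map_smul, hg]
  constructor
  · have hex : ∀ g : G, ∃ c : ZMod q, c • v₀ = ρ g v₀ := fun g => hbij.2 (ρ g v₀)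
    choose f hf using hex
    let F : G →* ZMod q :=
      { toFun := f
        map_one' := by
          apply hinj
          show f 1 • v₀ = (1 : ZMod q) • v₀
          rw [hf, map_one, one_smul]; rfl
        map_mul' := by
          intro g h
          apply hinj
          show f (g * h) • v₀ = (f g * f h) • v₀
          rw [hf, map_mul, mul_comm (f g) (f h), mul_smul, hf, ← map_smul, hf]; rfl }
    have hF : Function.Injective F := by
      intro g h hgh
      have hgh' : f g = f h := hgh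
      have h1 : ρ g v₀ = ρ h v₀ := by rw [← hf g, ← hf h, hgh']
      have h2 : h⁻¹ * g = 1 := by
        apply hfree
        rw [map_mul, map_inv]
        show (ρ h).symm (ρ g v₀) = v₀
        rw [h1]
        exact (ρ h).symm_apply_apply v₀
      exact (inv_mul_eq_one.mp h2).symm
    exact isCyclic_of_subgroup_isDomain F hF
  · have h1 := orbit_count ρ htrans v₀ hv₀
    have h2 : Nat.card {g : G // ρ g v₀ = v₀} = 1 := by
      rw [Nat.card_eq_one_iff_unique]
      exact ⟨⟨fun a b => Subtype.ext ((hfree a.1 a.2).trans (hfree b.1 b.2).symm)⟩,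
        ⟨⟨1, by rw [map_one]; rfl⟩⟩⟩
    rw [h2, one_mul, hV] at h1
    exact h1.symm

end act

def Xm : Matrix (Fin 2) (Fin 2) (ZMod 3) := !![0, 1; 1, 1]
def Xi : Matrix (Fin 2) (Fin 2) (ZMod 3) := !![2, 1; 1, 0]
def Ym : Matrix (Fin 2) (Fin 2) (ZMod 3) := !![1, 0; 1, 2]

def X : GL (Fin 2) (ZMod 3) := ⟨Xm, Xi, by decide, by decide⟩
def Y : GL (Fin 2) (ZMod 3) := ⟨Ym, Ym, by decide, by decide⟩

lemma hX8 : orderOf X = 8 := by
  have h1 : ¬ X ^ 2 ^ 2 = 1 := by
    intro h
    have h2 := congrArg (fun u : GL (Fin 2) (ZMod 3) => (u : Matrix (Fin 2) (Fin 2) (ZMod 3))) h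
    revert h2
    decide
  have h2 : X ^ 2 ^ (2 + 1) = 1 := by
    apply Units.ext
    decide
  exact orderOf_eq_prime_pow h1 h2

lemma hY2 : orderOf Y = 2 := by
  apply orderOf_eq_prime
  · apply Units.ext
    decide
  · intro h
    have h2 := congrArg (fun u : GL (Fin 2) (ZMod 3) => (u : Matrix (Fin 2) (Fin 2) (ZMod 3))) h
    revert h2
    decide

lemma hYX : Y * X * Y⁻¹ = X ^ 3 := by
  apply Units.ext
  decide

lemma hYX' : Y⁻¹ * X * Y = X ^ 3 := by
  apply Units.ext
  decide

lemma card_GL23 : Nat.card (GL (Fin 2) (ZMod 3)) = 48 := by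
  rw [Matrix.card_GL_field]
  simp [Fin.prod_univ_two]

lemma dim2 {V : Type*} [AddCommGroup V] [Module (ZMod 3) V] [Finite V] {G : Type*} [Group G]
    [Finite G] (hG : IsPGroup 2 G) (ρ : G →* (V ≃ₗ[ZMod 3] V)) (hρ : Function.Injective ρ)
    (htrans : ∀ v w : V, v ≠ 0 → w ≠ 0 → ∃ g : G, ρ g v = w) (hV : Nat.card V = 9) :
    (IsCyclic G ∧ Nat.card G = 8) ∨ Nonempty (G ≃* QuaternionGroup 2) ∨
      (Cfsg.IsQuasiDihedral G ∧ Nat.card G = 16) := by
  have hnt : Nontrivial V := by
    rw [← Finite.one_lt_card_iff_nontrivial, hV]; norm_num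
  obtain ⟨v₀, hv₀⟩ := exists_ne (0 : V)
  have hcount := orbit_count ρ htrans v₀ hv₀
  rw [hV] at hcount
  let ρ' : G →* Module.End (ZMod 3) V :=
    { toFun := fun g => (ρ g).toLinearMap
      map_one' := by rw [map_one]; rfl
      map_mul' := by intro g h; rw [map_mul]; rfl }
  obtain ⟨φ, hφ⟩ := Cfsg.Agent.S3497.gl_of_module 3 2 (by rw [hV]; norm_num) ρ'
  have hφinj : Function.Injective φ := by
    rw [injective_iff_map_eq_one]
    intro g hg
    rw [hφ] at hg
    apply hρ
    rw [map_one]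
    apply LinearEquiv.ext
    intro v
    exact congrArg (fun f : Module.End (ZMod 3) V => f v) hg
  have hdvd48 : Nat.card G ∣ 48 := by
    rw [← card_GL23]; exact Subgroup.card_dvd_of_injective φ hφinj
  obtain ⟨a, ha⟩ := IsPGroup.iff_card.mp hG
  have h8 : 8 ∣ Nat.card G := ⟨_, by rw [← hcount]; ring⟩
  have hcard : Nat.card G = 8 ∨ Nat.card G = 16 := by
    rw [ha] at h8 hdvd48 ⊢
    have h3 : 3 ≤ a := by
      by_contra h
      have h2 : a ≤ 2 := by omega
      interval_cases a <;> norm_num at h8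
    have h4 : a ≤ 4 := by
      by_contra h
      have h5 : 2 ^ 5 ∣ 2 ^ a := Nat.pow_dvd_pow 2 (by omega)
      have h6 := h5.trans hdvd48
      norm_num at h6
    interval_cases a <;> simp
  rcases hcard with h8c | h16
  · -- order 8
    have hs1 : ∀ v : V, v ≠ 0 → ∀ g : G, ρ g v = v → g = 1 := by
      intro v hv g hg
      have h1 := orbit_count ρ htrans v hv
      rw [hV, h8c] at h1
      have h2 : Nat.card {g : G // ρ g v = v} = 1 := by omega
      rw [Nat.card_eq_one_iff_unique] at h2
      obtain ⟨hsub, -⟩ := h2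
      have h3 := hsub.elim ⟨g, hg⟩ ⟨1, by rw [map_one]; rfl⟩
      exact congrArg Subtype.val h3
    have hmul : ∀ (g h : G) (v : V), ρ (g * h) v = ρ g (ρ h v) := by
      intro g h v; rw [map_mul]; rfl
    have hone : ∀ v : V, ρ 1 v = v := by
      intro v; rw [map_one]; rfl
    have hinv : ∀ t : G, t * t = 1 → t ≠ 1 → ∀ v : V, ρ t v = -v := by
      intro t htt ht1 v
      by_contra hne
      have hw : v + ρ t v ≠ 0 := fun h => hne (neg_eq_of_add_eq_zero_right h).symm
      apply ht1
      apply hs1 _ hw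
      rw [map_add, ← hmul, htt, hone, add_comm]
    have huniq : ∀ t t' : G, t * t = 1 → t ≠ 1 → t' * t' = 1 → t' ≠ 1 → t = t' := by
      intro t t' h1 h2 h3 h4
      apply hρ
      apply LinearEquiv.ext
      intro v
      rw [hinv t h1 h2, hinv t' h3 h4]
    by_cases hc : ∃ g : G, orderOf g = 8
    · left
      obtain ⟨g, hg⟩ := hc
      exact ⟨isCyclic_of_orderOf_eq_card g (by rw [hg, h8c]), h8c⟩
    · right; left
      push Not at hc
      have hpow4 : ∀ g : G, g ^ 4 = 1 := by
        intro g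
        have h1 : orderOf g ∣ 2 ^ 3 := by
          have h := orderOf_dvd_natCard g
          rwa [h8c] at h
        obtain ⟨i, hi, hoi⟩ := (Nat.dvd_prime_pow Nat.prime_two).mp h1
        have hi2 : i ≤ 2 := by
          by_contra h
          have h3 : i = 3 := by omega
          rw [h3] at hoi
          exact hc g (by rw [hoi]; norm_num)
        have h4 : orderOf g ∣ 2 ^ 2 := by
          rw [hoi]
          exact Nat.pow_dvd_pow 2 hi2
        exact orderOf_dvd_iff_pow_eq_one.mp h4
      have hF2 : Fact (Nat.Prime 2) := ⟨Nat.prime_two⟩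
      obtain ⟨z, hz⟩ := exists_prime_orderOf_dvd_card' (G := G) 2 (by rw [h8c]; norm_num)
      have hzz : z * z = 1 := by rw [← pow_two, ← hz]; exact pow_orderOf_eq_one z
      have hz1 : z ≠ 1 := by
        intro h; rw [h, orderOf_one] at hz; omega
      have hlt : ∀ (K : Subgroup G), Nat.card K < 8 → ∃ a : G, a ∉ K := by
        intro K hK
        by_contra hcon
        push Not at hcon
        have h1 : K = ⊤ := by
          rw [eq_top_iff]; intro x _; exact hcon x
        rw [h1, Subgroup.card_top, h8c] at hK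
        omega
      have hsq : ∀ g : G, g ^ 2 ≠ 1 → g ^ 2 = z := by
        intro g hg
        apply huniq
        · rw [← pow_two, ← pow_mul]; exact hpow4 g
        · exact hg
        · exact hzz
        · exact hz1
      obtain ⟨a, ha'⟩ := hlt (Subgroup.zpowers z) (by rw [Nat.card_zpowers, hz]; norm_num)
      have ha2 : a ^ 2 ≠ 1 := by
        intro h
        have haa : a * a = 1 := by rw [← pow_two]; exact h
        by_cases ha1 : a = 1
        · exact ha' (ha1 ▸ Subgroup.one_mem _)
        · exact ha' (huniq a z haa ha1 hzz hz1 ▸ Subgroup.mem_zpowers z)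
      have hao : orderOf a = 4 :=
        orderOf_eq_prime_pow (p := 2) (n := 1) (by simpa using ha2) (by simpa using hpow4 a)
      have haz : a ^ 2 = z := hsq a ha2
      obtain ⟨b, hb⟩ := hlt (Subgroup.zpowers a) (by rw [Nat.card_zpowers, hao]; norm_num)
      have hb2 : b ^ 2 ≠ 1 := by
        intro h
        have hbb : b * b = 1 := by rw [← pow_two]; exact h
        by_cases hb1 : b = 1
        · exact hb (hb1 ▸ Subgroup.one_mem _)
        · have h1 : b = z := huniq b z hbb hb1 hzz hz1
          apply hb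
          rw [h1, ← haz]
          exact Subgroup.pow_mem _ (Subgroup.mem_zpowers a) 2
      have hbz : b ^ 2 = z := hsq b hb2
      have hidx : (Subgroup.zpowers a).index = 2 := by
        have h := Subgroup.card_mul_index (Subgroup.zpowers a)
        rw [Nat.card_zpowers, hao, h8c] at h
        omega
      have hnorm : (Subgroup.zpowers a).Normal := Subgroup.normal_of_index_eq_two hidx
      have hc_mem : b * a * b⁻¹ ∈ Subgroup.zpowers a :=
        hnorm.conj_mem a (Subgroup.mem_zpowers a) b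
      have hconj : b * a * b⁻¹ = a⁻¹ := by
        rw [← mem_powers_iff_mem_zpowers] at hc_mem
        obtain ⟨i, hi⟩ := hc_mem
        have hi' : a ^ (i % 4) = b * a * b⁻¹ := by
          have h := pow_mod_orderOf a i
          rw [hao] at h
          rw [h]; exact hi
        have hord : orderOf (b * a * b⁻¹) = 4 := by
          have h := (MulAut.conj b).orderOf_eq a
          rw [MulAut.conj_apply] at h
          rw [h, hao]
        have ha3 : a ^ 3 = a⁻¹ := by
          rw [eq_inv_iff_mul_eq_one, ← pow_succ]; exact hpow4 a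
        have hlt4 : i % 4 < 4 := Nat.mod_lt _ (by norm_num)
        obtain ⟨r, hr⟩ : ∃ r, r = i % 4 := ⟨_, rfl⟩
        rw [← hr] at hi' hlt4
        interval_cases r
        · exfalso
          rw [pow_zero] at hi'; rw [← hi', orderOf_one] at hord; omega
        · exfalso
          rw [pow_one] at hi'
          have hcomm : b⁻¹ * a = a * b⁻¹ := by
            nth_rewrite 1 [hi']; group
          have hdd : (a * b⁻¹) * (a * b⁻¹) = 1 := by
            calc (a * b⁻¹) * (a * b⁻¹) = a * (b⁻¹ * a) * b⁻¹ := by group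
              _ = a * (a * b⁻¹) * b⁻¹ := by rw [hcomm]
              _ = a ^ 2 * (b ^ 2)⁻¹ := by rw [pow_two, pow_two, mul_inv_rev]; simp only [mul_assoc]
              _ = 1 := by rw [haz, hbz, mul_inv_cancel]
          by_cases hd1 : a * b⁻¹ = 1
          · apply hb
            have h1 : b = a := (mul_inv_eq_one.mp hd1).symm
            rw [h1]; exact Subgroup.mem_zpowers a
          · have h1 : a * b⁻¹ = z := huniq _ z hdd hd1 hzz hz1
            apply hb
            have h2 : b = a⁻¹ := by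
              rw [← haz, pow_two] at h1
              have h3 : b⁻¹ = a := mul_left_cancel h1
              rw [← h3, inv_inv]
            rw [h2]; exact Subgroup.inv_mem _ (Subgroup.mem_zpowers a)
        · exfalso
          rw [← hi'] at hord
          have h1 : orderOf (a ^ 2) ∣ 2 :=
            orderOf_dvd_of_pow_eq_one (by rw [← pow_mul]; exact hpow4 a)
          have h2 := Nat.le_of_dvd (by norm_num) h1
          omega
        · rw [← hi', ha3]
      have hρ4 : a ^ (2 * 2) = 1 := hpow4 a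
      have hx : b * b = a ^ 2 := by rw [← pow_two, hbz, haz]
      have hΦinj : Function.Injective (Cfsg.Agent.Lib.helper1.quatHom b a 2 hρ4 hx hconj) :=
        Cfsg.Agent.Lib.helper1.quatHom_injective b a 2 hρ4 hx hconj (by rw [hao]) hb
      have hΦbij : Function.Bijective (Cfsg.Agent.Lib.helper1.quatHom b a 2 hρ4 hx hconj) := by
        rw [Nat.bijective_iff_injective_and_card]
        refine ⟨hΦinj, ?_⟩
        rw [h8c, Nat.card_eq_fintype_card, QuaternionGroup.card]
      exact ⟨(MulEquiv.ofBijective _ hΦbij).symm⟩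
  · right; right
    refine ⟨?_, h16⟩
    have hF2 : Fact (Nat.Prime 2) := ⟨Nat.prime_two⟩
    have hR : Nat.card φ.range = 16 := by
      rw [← h16]; exact (Nat.card_congr (MonoidHom.ofInjective hφinj).toEquiv).symm
    have hRp : IsPGroup 2 φ.range := IsPGroup.of_card (n := 4) (by rw [hR]; norm_num)
    obtain ⟨P, hP⟩ := hRp.exists_le_sylow
    have hPeq : φ.range = (P : Subgroup (GL (Fin 2) (ZMod 3))) := by
      apply Subgroup.eq_of_le_of_card_ge hP
      obtain ⟨m, hm⟩ := IsPGroup.iff_card.mp P.isPGroup'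
      have hPd : Nat.card P ∣ 48 := by
        rw [← card_GL23]; exact Subgroup.card_subgroup_dvd_card _
      rw [hR, hm]; rw [hm] at hPd
      have hm4 : m ≤ 4 := by
        by_contra h
        have h5 : 2 ^ 5 ∣ 2 ^ m := Nat.pow_dvd_pow 2 (by omega)
        have h6 := h5.trans hPd
        norm_num at h6
      calc 2 ^ m ≤ 2 ^ 4 := Nat.pow_le_pow_right (by norm_num) hm4
        _ = 16 := by norm_num
    have hXp : IsPGroup 2 (Subgroup.zpowers X) :=
      IsPGroup.of_card (n := 3) (by rw [Nat.card_zpowers, hX8]; norm_num)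
    have hYp : IsPGroup 2 (Subgroup.zpowers Y) :=
      IsPGroup.of_card (n := 1) (by rw [Nat.card_zpowers, hY2]; norm_num)
    have hnorm : Subgroup.zpowers Y ≤ Subgroup.normalizer (Subgroup.zpowers X : Set _) := by
      rw [Subgroup.zpowers_le, Subgroup.mem_normalizer_iff]
      intro h
      constructor
      · intro hh
        obtain ⟨k, rfl⟩ := Subgroup.mem_zpowers_iff.mp hh
        rw [← conj_zpow, hYX]
        exact Subgroup.zpow_mem _ (Subgroup.pow_mem _ (Subgroup.mem_zpowers X) 3) k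
      · intro hh
        obtain ⟨k, hk⟩ := Subgroup.mem_zpowers_iff.mp hh
        have h1 : h = Y⁻¹ * X ^ k * Y⁻¹⁻¹ := by rw [hk]; group
        rw [h1, ← conj_zpow, inv_inv, hYX']
        exact Subgroup.zpow_mem _ (Subgroup.pow_mem _ (Subgroup.mem_zpowers X) 3) k
    have hS₀ : IsPGroup 2 (Subgroup.zpowers Y ⊔ Subgroup.zpowers X : Subgroup _) :=
      IsPGroup.to_sup_of_normal_right' hYp hXp hnorm
    obtain ⟨Q, hQ⟩ := hS₀.exists_le_sylow
    obtain ⟨g, hg⟩ := MulAction.exists_smul_eq (GL (Fin 2) (ZMod 3)) Q P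
    have hmemP : ∀ u ∈ (Q : Subgroup (GL (Fin 2) (ZMod 3))),
        g * u * g⁻¹ ∈ (P : Subgroup (GL (Fin 2) (ZMod 3))) := by
      intro u hu
      rw [← hg, Sylow.coe_subgroup_smul]
      exact Subgroup.smul_mem_pointwise_smul u (MulAut.conj g) _ hu
    have hXP := hmemP X (hQ (Subgroup.mem_sup_right (Subgroup.mem_zpowers X)))
    have hYP := hmemP Y (hQ (Subgroup.mem_sup_left (Subgroup.mem_zpowers Y)))
    rw [← hPeq] at hXP hYP
    obtain ⟨x, hx⟩ := hXP
    obtain ⟨y, hy⟩ := hYP
    refine ⟨3, le_refl 3, by rw [h16]; norm_num, x, y, ?_, ?_, ?_⟩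
    · rw [← orderOf_injective φ hφinj x, hx]
      have h := (MulAut.conj g).orderOf_eq X
      rw [MulAut.conj_apply] at h
      rw [h, hX8]; norm_num
    · rw [← orderOf_injective φ hφinj y, hy]
      have h := (MulAut.conj g).orderOf_eq Y
      rw [MulAut.conj_apply] at h
      rw [h, hY2]
    · apply hφinj
      rw [map_mul, map_mul, map_inv, map_pow, hx, hy]
      have h1 : (g * X * g⁻¹) ^ (2 ^ (3 - 1) - 1) = g * X ^ 3 * g⁻¹ := by
        rw [conj_pow]
        norm_num
      rw [h1, ← hYX]; group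

/-- Let q be a prime, V a non-trivial finite vector space over the field with q elements, and G a non-trivial finite p-group (p prime) acting faithfully and linearly on V and transitively on the non-zero vectors. Then either q = 2 and G has prime order p = |V| − 1; or p = 2, V has q elements with q = 2^m + 1 and G is cyclic of order 2^m; or p = 2, q = 3, V has 9 elements and G is cyclic of order 8, quaternion of order 8, or semidihedral of order 16. -/
theorem result (q : ℕ) [Fact q.Prime] {V : Type*} [AddCommGroup V] [Module (ZMod q) V] [Finite V] [Nontrivial V]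
    {G : Type*} [Group G] [Finite G] [Nontrivial G] (p : ℕ) [Fact p.Prime] (hG : IsPGroup p G)
    (ρ : G →* (V ≃ₗ[ZMod q] V)) (hρ : Function.Injective ρ)
    (htrans : ∀ v w : V, v ≠ 0 → w ≠ 0 → ∃ g : G, ρ g v = w) :
    (q = 2 ∧ p = Nat.card V - 1 ∧ Nat.card G = p) ∨
    (p = 2 ∧ Nat.card V = q ∧ (∃ m : ℕ, q = 2 ^ m + 1 ∧ Nat.card G = 2 ^ m) ∧ IsCyclic G) ∨
    (p = 2 ∧ q = 3 ∧ Nat.card V = 9 ∧
      ((IsCyclic G ∧ Nat.card G = 8) ∨ Nonempty (G ≃* QuaternionGroup 2) ∨ (Cfsg.IsQuasiDihedral G ∧ Nat.card G = 16))) := by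
  have hq : q.Prime := Fact.out
  have hp : p.Prime := Fact.out
  obtain ⟨v₀, hv₀⟩ := exists_ne (0 : V)
  have hcount := orbit_count ρ htrans v₀ hv₀
  obtain ⟨a, ha⟩ := IsPGroup.iff_card.mp hG
  have hN : Nat.card V = q ^ Module.finrank (ZMod q) V := by
    have h := Module.natCard_eq_pow_finrank (K := ZMod q) (V := V)
    rwa [Nat.card_zmod] at h
  obtain ⟨n, hn⟩ : ∃ n, n = Module.finrank (ZMod q) V := ⟨_, rfl⟩
  rw [← hn] at hN
  have hn1 : 1 ≤ n := by
    rw [hn]; exact Module.finrank_pos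
  have hN2 : 2 ≤ Nat.card V := Finite.one_lt_card
  have hdvd : Nat.card V - 1 ∣ p ^ a := ⟨_, by rw [← ha, ← hcount, mul_comm]⟩
  obtain ⟨k, hka, hk⟩ := (Nat.dvd_prime_pow hp).mp hdvd
  have hk1 : 1 ≤ k := by
    by_contra h
    have hk0 : k = 0 := by omega
    rw [hk0, pow_zero] at hk
    have hN2' : Nat.card V = 2 := by omega
    obtain ⟨g, hg⟩ := exists_ne (1 : G)
    apply hg
    apply fix_all ρ hρ
    intro v hv
    obtain ⟨w, -, hw⟩ := (Nat.card_eq_two_iff' (0 : V)).mp hN2'
    have h1 : ρ g v ≠ 0 := fun h => hv ((ρ g).map_eq_zero_iff.mp h)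
    have e1 := hw v hv
    have e2 := hw (ρ g v) h1
    rw [e2, e1]
  have hNeq : q ^ n = p ^ k + 1 := by rw [← hN, ← hk]; omega
  by_cases hq2 : q = 2
  · left
    have hk' : k = 1 := nt1 n p k hp hk1 (by rw [← hq2]; exact hNeq)
    rw [hk', pow_one] at hk
    refine ⟨hq2, hk.symm, ?_⟩
    have h1 := card_dvd_factorial ρ hρ
    rw [hk, ha] at h1
    have ha1 : a ≤ 1 := by
      by_contra h
      have h2 : p ^ 2 ∣ p.factorial := (Nat.pow_dvd_pow p (by omega)).trans h1
      obtain ⟨m, hm⟩ : ∃ m, p = m + 1 := ⟨p - 1, by have := hp.one_lt; omega⟩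
      rw [hm, Nat.factorial_succ, ← hm, pow_two] at h2
      have h3 : p ∣ m.factorial := Nat.dvd_of_mul_dvd_mul_left hp.pos h2
      have h4 := (hp.dvd_factorial).mp h3
      omega
    have ha0 : a ≠ 0 := by
      rintro rfl
      rw [pow_zero] at ha
      have := Finite.one_lt_card (α := G)
      omega
    have ha' : a = 1 := by omega
    rw [ha, ha', pow_one]
  · right
    have hp2 : p = 2 := by
      have hqodd : Odd q := hq.odd_of_ne_two hq2
      have h1 : Odd (q ^ n) := hqodd.pow
      rw [hNeq] at h1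
      have h2 : Even (p ^ k) := by
        rcases Nat.even_or_odd (p ^ k) with h | h
        · exact h
        · exact absurd h1 (Nat.not_odd_iff_even.mpr h.add_one)
      have h3 : Even p := (Nat.even_pow.mp h2).1
      exact (hp.even_iff).mp h3
    rw [hp2] at hNeq hk ha
    rcases nt2 q n k hq hq2 hn1 hNeq with h1 | ⟨h3, h2, h3k⟩
    · left
      have hVq : Nat.card V = q := by rw [hN, h1, pow_one]
      obtain ⟨hcyc, hcard⟩ := dim1 ρ hρ htrans hVq
      rw [h1, pow_one] at hNeq
      refine ⟨hp2, hVq, ⟨k, hNeq, ?_⟩, hcyc⟩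
      rw [hcard]; omega
    · right
      subst h3
      have hV9 : Nat.card V = 9 := by rw [hN, h2]; norm_num
      have hG2 : IsPGroup 2 G := hp2 ▸ hG
      exact ⟨hp2, rfl, hV9, dim2 hG2 ρ hρ htrans hV9⟩

end Cfsg.Agent.S3370
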