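import Mathlib
import Cfsg.Statements.S3495
import Cfsg.Agent.S3494

set_option autoImplicit false
open Cfsg

namespace Cfsg.Agent.S3495

/-- Let a finite group G act faithfully and primitively on a finite set Ω with non-trivial point stabilizers, each acting primitively on every one of its orbits (an extremely primitive group), and suppose G has an elementary abelian normal p-subgroup N acting regularly on Ω (affine type). Then every non-trivial subgroup M of a point stabilizer G_α that is normal in G_α has the same orbits on Ω as G_α, and normalizes no subgroup of N other than 1 and N. -/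
theorem result {G : Type*} [Group G] [Finite G] {Ω : Type*} [Fintype Ω] [MulAction G Ω] [FaithfulSMul G Ω] (hprim : MulAction.IsPreprimitive G Ω) (hH : ∀ α : Ω, MulAction.stabilizer G α ≠ ⊥) (hep : ∀ (α : Ω) (ω : Ω), MulAction.IsPreprimitive (MulAction.stabilizer G α) (MulAction.orbit (MulAction.stabilizer G α) ω))
    (N : Subgroup G) [N.Normal] (hNc : IsMulCommutative N) (p : ℕ) (hp : p.Prime) (hNp : ∀ n ∈ N, n ^ p = 1)
    (hNtr : MulAction.IsPretransitive N Ω) (hNreg : ∀ ω : Ω, MulAction.stabilizer N ω = ⊥) (α : Ω) (M : Subgroup G) (hM : M ≠ ⊥) (hMle : M ≤ MulAction.stabilizer G α)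
    (hMn : MulAction.stabilizer G α ≤ Subgroup.normalizer (M : Set G)) :
    (∀ ω : Ω, MulAction.orbit M ω = MulAction.orbit (MulAction.stabilizer G α) ω) ∧
    (∀ L : Subgroup G, L ≤ N → M ≤ Subgroup.normalizer (L : Set G) → L = ⊥ ∨ L = N) := by
  classical
  have hNn : N.Normal := inferInstance
  set H := MulAction.stabilizer G α with hHdef
  -- regularity in element form
  have hreg : ∀ n ∈ N, ∀ ω : Ω, n • ω = ω → n = 1 := by
    intro n hn ω hfix
    have : (⟨n, hn⟩ : N) ∈ MulAction.stabilizer N ω := hfix
    rw [hNreg ω, Subgroup.mem_bot] at this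
    exact congrArg Subtype.val this
  have part1 : ∀ ω : Ω, MulAction.orbit M ω = MulAction.orbit H ω := by
    intro ω
    apply Set.Subset.antisymm
    · rintro _ ⟨m, rfl⟩
      exact ⟨⟨m, hMle m.2⟩, rfl⟩
    · by_cases hωα : ω = α
      · rintro _ ⟨a, rfl⟩
        have : (a : G) • ω = ω := by rw [hωα]; exact a.2
        show (a : G) • ω ∈ MulAction.orbit M ω
        rw [this]
        exact MulAction.mem_orbit_self ω
      · -- M' normal in H acts nontrivially on the orbit
        have hpre := hep α ω
        let MH : Subgroup H := M.subgroupOf H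
        have hMHn : MH.Normal := by
          refine ⟨fun k hk a => ?_⟩
          have := (Subgroup.mem_normalizer_iff.mp (hMn a.2) (k : G)).mp hk
          exact this
        have hfp : MulAction.fixedPoints MH (MulAction.orbit H ω) ≠ Set.univ := by
          intro htop
          apply hM
          rw [eq_bot_iff]
          intro m hm
          rw [Subgroup.mem_bot]
          apply Cfsg.Agent.S3494.manning hprim α (hep α) ω hωα m (hMle hm)
          intro x hx
          have hmem : (⟨x, hx⟩ : MulAction.orbit H ω) ∈ MulAction.fixedPoints MH (MulAction.orbit H ω) := by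
            rw [htop]; trivial
          have := hmem ⟨⟨m, hMle hm⟩, hm⟩
          exact congrArg Subtype.val this
        have htr : MulAction.IsPretransitive MH (MulAction.orbit H ω) :=
          MulAction.IsQuasiPreprimitive.isPretransitive_of_normal hfp
        intro θ hθ
        obtain ⟨k, hk⟩ := htr.exists_smul_eq ⟨ω, MulAction.mem_orbit_self ω⟩ ⟨θ, hθ⟩
        exact ⟨⟨((k : H) : G), k.2⟩, congrArg Subtype.val hk⟩
  refine ⟨part1, ?_⟩
  intro L hLN hML
  by_cases hL : L = ⊥
  · left; exact hL
  · right
    -- H normalizes L (one direction)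
    have hconj : ∀ a ∈ H, ∀ n ∈ L, a * n * a⁻¹ ∈ L := by
      intro a ha n hn
      have hω : a • (n • α) ∈ MulAction.orbit M (n • α) := by
        rw [part1]; exact ⟨⟨a, ha⟩, rfl⟩
      obtain ⟨m, hm⟩ := hω
      have hm' : (m : G) • (n • α) = a • (n • α) := hm
      have h1 : (a * n * a⁻¹) • α = a • (n • α) := by
        have : a⁻¹ • α = α := H.inv_mem ha
        rw [mul_smul, mul_smul, this]
      have h2 : ((m : G) * n * (m : G)⁻¹) • α = (m : G) • (n • α) := by
        have : (m : G)⁻¹ • α = α := H.inv_mem (hMle m.2)
        rw [mul_smul, mul_smul, this]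
      have h3 : (a * n * a⁻¹) ∈ N := hNn.conj_mem n (hLN hn) a
      have h4 : ((m : G) * n * (m : G)⁻¹) ∈ N := hNn.conj_mem n (hLN hn) m
      have h5 : ((m : G) * n * (m : G)⁻¹)⁻¹ * (a * n * a⁻¹) = 1 := by
        apply hreg _ (N.mul_mem (N.inv_mem h4) h3) α
        rw [mul_smul, h1, ← hm', ← h2, inv_smul_smul]
      have h6 : a * n * a⁻¹ = (m : G) * n * (m : G)⁻¹ := (inv_mul_eq_one.mp h5).symm
      rw [h6]
      exact (Subgroup.mem_normalizer_iff.mp (hML m.2) n).mp hn
    have hHL : H ≤ Subgroup.normalizer (L : Set G) := by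
      intro a ha
      rw [Subgroup.mem_normalizer_iff]
      intro n
      constructor
      · exact hconj a ha n
      · intro hn
        have := hconj a⁻¹ (H.inv_mem ha) _ hn
        simpa [mul_assoc] using this
    have hNL : N ≤ Subgroup.normalizer (L : Set G) := by
      intro n hn
      rw [Subgroup.mem_normalizer_iff]
      intro l
      have key : ∀ l ∈ N, n * l * n⁻¹ = l := by
        intro l hl
        have := hNc.is_comm.comm ⟨n, hn⟩ ⟨l, hl⟩
        have h' : n * l = l * n := congrArg Subtype.val this
        rw [h']; group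
      constructor
      · intro hl; rw [key l (hLN hl)]; exact hl
      · intro hl
        have : l = n⁻¹ * (n * l * n⁻¹) * n := by group
        rw [this]
        have h2 := hLN hl
        have h3 : n⁻¹ * (n * l * n⁻¹) * n⁻¹⁻¹ = n * l * n⁻¹ := by
          have hc := hNc.is_comm.comm ⟨n⁻¹, N.inv_mem hn⟩ ⟨n * l * n⁻¹, h2⟩
          have h' : n⁻¹ * (n * l * n⁻¹) = (n * l * n⁻¹) * n⁻¹ := congrArg Subtype.val hc
          rw [h']; group
        rw [inv_inv] at h3
        rw [h3]; exact hl
    have hLnorm : L.Normal := by
      have htop : Subgroup.normalizer (L : Set G) = ⊤ := by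
        rw [eq_top_iff]
        intro g _
        obtain ⟨n, hn⟩ := hNtr.exists_smul_eq α (g • α)
        have hn' : (n : G) • α = g • α := hn
        have : (n : G)⁻¹ * g ∈ H := by
          show ((n : G)⁻¹ * g) • α = α
          rw [mul_smul, ← hn', inv_smul_smul]
        have h2 := Subgroup.mul_mem _ (hNL n.2) (hHL this)
        simpa using h2
      exact Subgroup.normalizer_eq_top_iff.mp htop
    have hfpL : MulAction.fixedPoints L Ω ≠ Set.univ := by
      intro htop
      apply hL
      rw [eq_bot_iff]
      intro l hl
      rw [Subgroup.mem_bot]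
      apply FaithfulSMul.eq_of_smul_eq_smul (α := Ω)
      intro x
      have hx : x ∈ MulAction.fixedPoints L Ω := by rw [htop]; trivial
      rw [one_smul]
      exact hx ⟨l, hl⟩
    have htrL : MulAction.IsPretransitive L Ω :=
      MulAction.IsQuasiPreprimitive.isPretransitive_of_normal hfpL
    apply le_antisymm hLN
    intro n hn
    obtain ⟨l, hl⟩ := htrL.exists_smul_eq α (n • α)
    have hl' : (l : G) • α = n • α := hl
    have h1 : (l : G)⁻¹ * n = 1 := by
      apply hreg _ (N.mul_mem (N.inv_mem (hLN l.2)) hn) α
      rw [mul_smul, ← hl', inv_smul_smul]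
    rw [← inv_mul_eq_one.mp h1]
    exact l.2

end Cfsg.Agent.S3495
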