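import Mathlib
import Cfsg.Statements.S3501
import Cfsg.Agent.S0721

set_option autoImplicit false
open Cfsg

namespace Cfsg.Agent.S3501

/-- Jordan: a transitive finite group on at least two points has a derangement. -/
theorem jordan {K : Type*} [Group K] [Finite K] {X : Type*} [Finite X] [MulAction K X]
    [MulAction.IsPretransitive K X] (h : 2 ≤ Nat.card X) : ∃ k : K, ∀ x : X, k • x ≠ x := by
  classical
  have := Fintype.ofFinite K
  have := Fintype.ofFinite X
  by_contra hcon
  push Not at hcon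
  have hB := MulAction.sum_card_fixedBy_eq_card_orbits_mul_card_group K X
  have hne : Nonempty X := (Nat.card_pos_iff.mp (by omega : 0 < Nat.card X)).1
  obtain ⟨x0⟩ := hne
  have horb : Fintype.card (Quotient (MulAction.orbitRel K X)) = 1 := by
    rw [Fintype.card_eq_one_iff]
    refine ⟨Quotient.mk'' x0, ?_⟩
    intro q
    induction q using Quotient.inductionOn' with
    | h a =>
      apply Quotient.sound'
      exact MulAction.exists_smul_eq K _ _
  rw [horb, one_mul] at hB
  have h1 : ∀ k : K, 1 ≤ Fintype.card (MulAction.fixedBy X k) := fun k => by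
    obtain ⟨x, hx⟩ := hcon k
    exact Fintype.card_pos_iff.mpr ⟨⟨x, hx⟩⟩
  have h2 : 1 < Fintype.card (MulAction.fixedBy X (1:K)) := by
    have : Fintype.card (MulAction.fixedBy X (1:K)) = Fintype.card X := by
      apply Fintype.card_of_subtype Finset.univ
      intro x
      simp
    rw [this, ← Nat.card_eq_fintype_card]
    omega
  have h3 : ∑ k : K, 1 < ∑ k : K, Fintype.card (MulAction.fixedBy X k) :=
    Finset.sum_lt_sum (fun k _ => h1 k) ⟨1, Finset.mem_univ _, h2⟩
  simp only [Finset.sum_const, Finset.card_univ, smul_eq_mul, mul_one] at h3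
  omega

/-- A proper subgroup of a finite group misses a conjugacy class. -/
theorem union_conj {T : Type*} [Group T] [Finite T] (U : Subgroup T)
    (h : ∀ a : T, ∃ x : T, x * a * x⁻¹ ∈ U) : U = ⊤ := by
  by_contra hU
  have h2 : 2 ≤ Nat.card (T ⧸ U) := by
    have h1 : U.index ≠ 1 := Subgroup.index_eq_one.not.mpr hU
    have h0 : U.index ≠ 0 := Subgroup.index_ne_zero_of_finite
    unfold Subgroup.index at h1 h0
    omega
  obtain ⟨k, hk⟩ := jordan (K := T) (X := T ⧸ U) h2
  obtain ⟨x, hx⟩ := h k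
  apply hk (QuotientGroup.mk x⁻¹)
  rw [MulAction.Quotient.smul_mk, QuotientGroup.eq, smul_eq_mul]
  have : (k * x⁻¹)⁻¹ * x⁻¹ = (x * k * x⁻¹)⁻¹ := by group
  rw [this]
  exact U.inv_mem hx

/-- A finite group whose non-identity elements are all conjugate under automorphisms is abelian. -/
theorem comm_of_aut_trans {N : Type*} [Group N] [Finite N]
    (h : ∀ x y : N, x ≠ 1 → y ≠ 1 → ∃ σ : N ≃* N, σ x = y) : ∀ x y : N, x * y = y * x := by
  classical
  by_cases hN : Subsingleton N
  · intro x y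
    exact Subsingleton.elim _ _
  rw [not_subsingleton_iff_nontrivial] at hN
  have hc1 : Nat.card N ≠ 1 := by
    intro h1
    have := (Nat.card_eq_one_iff_unique.mp h1).1
    exact not_subsingleton N this
  obtain ⟨p, hp, hpd⟩ := Nat.exists_prime_and_dvd hc1
  have hpf : Fact p.Prime := ⟨hp⟩
  obtain ⟨x, hx⟩ := exists_prime_orderOf_dvd_card' p hpd
  have hx1 : x ≠ 1 := by
    intro h1
    rw [h1, orderOf_one] at hx
    exact hp.one_lt.ne hx
  have hpg : IsPGroup p N := by
    intro y
    by_cases hy : y = 1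
    · exact ⟨0, by rw [hy, one_pow]⟩
    · obtain ⟨σ, hσ⟩ := h x y hx1 hy
      refine ⟨1, ?_⟩
      rw [pow_one, ← hσ, ← map_pow, ← hx, pow_orderOf_eq_one, map_one]
  have hcn := hpg.center_nontrivial
  obtain ⟨⟨z, hz⟩, hz1⟩ := exists_ne (1 : Subgroup.center N)
  have hz1' : z ≠ 1 := fun h1 => hz1 (Subtype.ext h1)
  have hcent : ∀ y w : N, y ≠ 1 → y * w = w * y := by
    intro y w hy
    obtain ⟨σ, hσ⟩ := h z y hz1' hy
    have h3 := Subgroup.mem_center_iff.mp hz (σ.symm w)
    have h4 := congrArg σ h3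
    rw [map_mul, map_mul, MulEquiv.apply_symm_apply, hσ] at h4
    exact h4.symm
  intro x y
  by_cases hx' : x = 1
  · rw [hx', one_mul, mul_one]
  · exact hcent x y hx'

/-- the embedding of `T × T` into the power on coordinates `i₀`, `i₁` -/
def mu {T : Type*} [Group T] {m : ℕ} (i₀ i₁ : Fin m) : T × T →* (Fin m → T) where
  toFun p := fun j => if j = i₀ then p.1 else if j = i₁ then p.2 else 1
  map_one' := by
    funext j
    simp
  map_mul' := by
    intro p q
    funext j
    simp only [Pi.mul_apply, Prod.fst_mul, Prod.snd_mul]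
    split_ifs <;> simp

theorem mu_apply {T : Type*} [Group T] {m : ℕ} (i₀ i₁ : Fin m) (p : T × T) (j : Fin m) :
    mu i₀ i₁ p j = if j = i₀ then p.1 else if j = i₁ then p.2 else 1 := rfl

theorem mu_conj {T : Type*} [Group T] {m : ℕ} (i₀ i₁ : Fin m) (p : T × T) (y : Fin m → T) :
    y⁻¹ * mu i₀ i₁ p * y = mu i₀ i₁ ((y i₀)⁻¹ * p.1 * y i₀, (y i₁)⁻¹ * p.2 * y i₁) := by
  funext j
  simp only [Pi.mul_apply, Pi.inv_apply, mu_apply]
  split_ifs with h1 h2
  · rw [h1]
  · rw [h2]
  · simp

/-- elements supported on coordinate `i₀` -/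
def R0 {T : Type*} [Group T] {m : ℕ} (i₀ : Fin m) : Subgroup (Fin m → T) where
  carrier := {x | ∀ j, j ≠ i₀ → x j = 1}
  mul_mem' := by
    intro a b ha hb j hj
    simp [ha j hj, hb j hj]
  one_mem' := by
    intro j hj
    rfl
  inv_mem' := by
    intro a ha j hj
    simp [ha j hj]

theorem R0_normal {T : Type*} [Group T] {m : ℕ} (i₀ : Fin m) : (R0 (T := T) i₀).Normal := by
  refine ⟨fun x hx g j hj => ?_⟩
  simp [hx j hj]

theorem lemmaB {T : Type*} [Group T] [Finite T] [IsSimpleGroup T] (hT : ¬ ∀ x y : T, x * y = y * x)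
    {m : ℕ} (i₀ i₁ : Fin m) (h01 : i₀ ≠ i₁)
    {G : Type*} [Group G] {Ω : Type*} [MulAction G Ω] (φ : (Fin m → T) →* G)
    (htr : ∀ a b : Ω, ∃ x : Fin m → T, φ x • a = b)
    (hfaith : ∀ x : Fin m → T, (∀ ω : Ω, φ x • ω = ω) → x = 1) (α : Ω) :
    ∃ d d' : Fin m → T, (∀ ω : Ω, φ d • ω ≠ ω) ∧ (∀ ω : Ω, φ d' • ω ≠ ω) ∧
      ∀ σ : (Fin m → T) ≃* (Fin m → T), σ d ≠ d' := by
  classical
  have h10 : i₁ ≠ i₀ := fun h => h01 h.symm
  -- T is not trivial in a usable form
  have hTnt : ¬ ∀ t : T, t = 1 := by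
    intro h
    apply hT
    intro x y
    rw [h x, h y]
  obtain ⟨S, hS⟩ : ∃ S : Subgroup (T × T), S = (MulAction.stabilizer G α).comap (φ.comp (mu i₀ i₁)) :=
    ⟨_, rfl⟩
  have hSmem : ∀ p : T × T, p ∈ S ↔ φ (mu i₀ i₁ p) • α = α := by
    intro p
    rw [hS]
    rfl
  -- moving fixed points to α
  have hfix : ∀ (p : T × T) (ω : Ω), φ (mu i₀ i₁ p) • ω = ω →
      ∃ y : Fin m → T, ((y i₀)⁻¹ * p.1 * y i₀, (y i₁)⁻¹ * p.2 * y i₁) ∈ S := by
    intro p ω hω
    obtain ⟨y, hy⟩ := htr α ω
    refine ⟨y, ?_⟩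
    rw [hSmem, ← mu_conj, map_mul, map_mul, mul_smul, mul_smul, hy, hω, ← hy, ← mul_smul,
      ← map_mul, inv_mul_cancel, map_one, one_smul]
  have triv : ∀ p : T × T,
      (∀ y : Fin m → T, ((y i₀)⁻¹ * p.1 * y i₀, (y i₁)⁻¹ * p.2 * y i₁) ∈ S) → mu i₀ i₁ p = 1 := by
    intro p hp
    apply hfaith
    intro ω
    obtain ⟨y, hy⟩ := htr α ω
    have h1 := (hSmem _).mp (hp y)
    rw [← mu_conj, map_mul, map_mul, mul_smul, mul_smul, hy, map_inv, inv_smul_eq_iff, hy] at h1
    exact h1
  -- step (i)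
  have step1 : ∃ a : T, ∀ ω : Ω, φ (mu i₀ i₁ (a, 1)) • ω ≠ ω := by
    by_contra hcon
    push Not at hcon
    have hU : S.comap (MonoidHom.inl T T) = ⊤ := by
      apply union_conj
      intro a
      obtain ⟨ω, hω⟩ := hcon a
      obtain ⟨y, hy⟩ := hfix (a, 1) ω hω
      refine ⟨(y i₀)⁻¹, ?_⟩
      rw [Subgroup.mem_comap, MonoidHom.inl_apply, inv_inv]
      simpa using hy
    apply hTnt
    intro t
    have h1 : mu i₀ i₁ (t, 1) = 1 := by
      apply triv
      intro y
      have h2 : (y i₀)⁻¹ * t * y i₀ ∈ S.comap (MonoidHom.inl T T) := by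
        rw [hU]; exact Subgroup.mem_top _
      rw [Subgroup.mem_comap, MonoidHom.inl_apply] at h2
      simpa using h2
    have h3 := congrFun h1 i₀
    simpa [mu_apply] using h3
  obtain ⟨a, ha⟩ := step1
  have ha1 : a ≠ 1 := by
    intro h1
    apply ha α
    rw [h1]
    have : ((1 : T), (1 : T)) = 1 := rfl
    rw [this, map_one, map_one, one_smul]
  -- step (ii)
  have step2 : ∃ b : T, b ≠ 1 ∧ ∀ ω : Ω, φ (mu i₀ i₁ (a, b)) • ω ≠ ω := by
    by_contra hcon
    push Not at hcon
    have hpair : ∀ b : T, b ≠ 1 → ∃ u v : T, (u⁻¹ * a * u, v⁻¹ * b * v) ∈ S := by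
      intro b hb
      obtain ⟨ω, hω⟩ := hcon b hb
      obtain ⟨y, hy⟩ := hfix (a, b) ω hω
      exact ⟨y i₀, y i₁, hy⟩
    have hU1 : S.map (MonoidHom.snd T T) = ⊤ := by
      apply union_conj
      intro b
      by_cases hb : b = 1
      · refine ⟨1, ?_⟩
        rw [hb]
        simp
      · obtain ⟨u, v, huv⟩ := hpair b hb
        refine ⟨v⁻¹, ?_⟩
        rw [inv_inv]
        exact ⟨_, huv, rfl⟩
    have hsurj1 : ∀ t : T, ∃ s : T, (s, t) ∈ S := by
      intro t
      have h1 : t ∈ S.map (MonoidHom.snd T T) := by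
        rw [hU1]; exact Subgroup.mem_top _
      obtain ⟨p, hp, hpt⟩ := h1
      refine ⟨p.1, ?_⟩
      have : (p.1, t) = p := by
        rw [← hpt]; rfl
      rw [this]
      exact hp
    have hK1n : (S.comap (MonoidHom.inr T T)).Normal := by
      refine ⟨fun t ht u => ?_⟩
      rw [Subgroup.mem_comap, MonoidHom.inr_apply] at ht ⊢
      obtain ⟨s, hs⟩ := hsurj1 u
      have h1 := S.mul_mem (S.mul_mem hs ht) (S.inv_mem hs)
      have h2 : (s, u) * (1, t) * (s, u)⁻¹ = (1, u * t * u⁻¹) := by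
        ext <;> simp
      rw [h2] at h1
      exact h1
    have hK1 : S.comap (MonoidHom.inr T T) = ⊥ := by
      rcases hK1n.eq_bot_or_eq_top with h | h
      · exact h
      · exfalso
        apply hTnt
        intro t
        have h1 : mu i₀ i₁ (1, t) = 1 := by
          apply triv
          intro y
          have h2 : (y i₁)⁻¹ * t * y i₁ ∈ S.comap (MonoidHom.inr T T) := by
            rw [h]; exact Subgroup.mem_top _
          rw [Subgroup.mem_comap, MonoidHom.inr_apply] at h2
          simpa using h2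
        have h3 := congrFun h1 i₁
        simpa [mu_apply, h10] using h3
    have hinj0 : ∀ s t t' : T, (s, t) ∈ S → (s, t') ∈ S → t = t' := by
      intro s t t' h1 h2
      have h3 := S.mul_mem (S.inv_mem h1) h2
      have h4 : (s, t)⁻¹ * (s, t') = (1, t⁻¹ * t') := by
        ext <;> simp
      rw [h4] at h3
      have h5 : t⁻¹ * t' ∈ S.comap (MonoidHom.inr T T) := by
        rw [Subgroup.mem_comap, MonoidHom.inr_apply]
        exact h3
      rw [hK1, Subgroup.mem_bot] at h5
      exact inv_mul_eq_one.mp h5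
    have hsurj0 : ∀ u : T, ∃ v : T, (u, v) ∈ S := by
      have hinj : Function.Injective (fun p : S => p.1.1) := by
        intro p q hpq
        simp only at hpq
        have h1 : p.1.2 = q.1.2 := by
          apply hinj0 p.1.1
          · exact p.2
          · rw [hpq]; exact q.2
        exact Subtype.ext (Prod.ext hpq h1)
      have hsur : Function.Surjective (fun p : S => p.1.2) := by
        intro t
        obtain ⟨s, hs⟩ := hsurj1 t
        exact ⟨⟨(s, t), hs⟩, rfl⟩
      have hc : Nat.card T ≤ Nat.card S := Nat.card_le_card_of_surjective _ hsur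
      have hbij := hinj.bijective_of_nat_card_le hc
      intro u
      obtain ⟨p, hp⟩ := hbij.2 u
      refine ⟨p.1.2, ?_⟩
      have : (u, p.1.2) = p.1 := by
        rw [← hp]
      rw [this]
      exact p.2
    apply hT
    apply comm_of_aut_trans
    intro b₁ b₂ hb₁ hb₂
    obtain ⟨u₁, v₁, h1⟩ := hpair b₁ hb₁
    obtain ⟨u₂, v₂, h2⟩ := hpair b₂ hb₂
    obtain ⟨z, hz⟩ := hsurj0 (u₂⁻¹ * u₁)
    have h3 := S.mul_mem (S.mul_mem hz h1) (S.inv_mem hz)
    have h4 : (u₂⁻¹ * u₁, z) * (u₁⁻¹ * a * u₁, v₁⁻¹ * b₁ * v₁) * (u₂⁻¹ * u₁, z)⁻¹ =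
        (u₂⁻¹ * a * u₂, z * (v₁⁻¹ * b₁ * v₁) * z⁻¹) := by
      ext
      · simp only [Prod.fst_mul, Prod.fst_inv]
        group
      · simp
    rw [h4] at h3
    have h5 := hinj0 _ _ _ h3 h2
    refine ⟨MulAut.conj (v₂ * z * v₁⁻¹), ?_⟩
    rw [MulAut.conj_apply]
    have h6 : v₂ * z * v₁⁻¹ * b₁ * (v₂ * z * v₁⁻¹)⁻¹ = v₂ * (z * (v₁⁻¹ * b₁ * v₁) * z⁻¹) * v₂⁻¹ := by
      group
    rw [h6, h5]
    group
  obtain ⟨b, hb1, hb⟩ := step2
  refine ⟨mu i₀ i₁ (a, 1), mu i₀ i₁ (a, b), ha, hb, ?_⟩
  intro σ hσ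
  -- a is not central
  have hnc : ∃ s : T, a * s * a⁻¹ * s⁻¹ ≠ 1 := by
    by_contra hcon
    push Not at hcon
    have hac : a ∈ Subgroup.center T := by
      rw [Subgroup.mem_center_iff]
      intro s
      have h1 := hcon s
      have h2 : a * s = s * a := by
        have h3 : a * s * a⁻¹ = s := by
          rw [← mul_inv_eq_one]; exact h1
        calc a * s = a * s * a⁻¹ * a := by group
          _ = s * a := by rw [h3]
      exact h2.symm
    have hcn : (Subgroup.center T).Normal := inferInstance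
    rcases hcn.eq_bot_or_eq_top with h | h
    · rw [h, Subgroup.mem_bot] at hac
      exact ha1 hac
    · apply hT
      intro x y
      have hx : x ∈ Subgroup.center T := by rw [h]; exact Subgroup.mem_top _
      exact (Subgroup.mem_center_iff.mp hx y).symm
  obtain ⟨s, hs⟩ := hnc
  have hR0n : (R0 (T := T) i₀).Normal := R0_normal i₀
  have hd0 : mu i₀ i₁ (a, (1 : T)) ∈ R0 (T := T) i₀ := by
    intro j hj
    simp [mu_apply, hj]
  have hd'0 : mu i₀ i₁ (a, b) ∉ R0 (T := T) i₀ := by
    intro h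
    have h1 := h i₁ h10
    rw [mu_apply, if_neg h10, if_pos rfl] at h1
    exact hb1 h1
  obtain ⟨M, hM⟩ : ∃ M : Subgroup (Fin m → T), M = Subgroup.normalClosure {mu i₀ i₁ (a, b)} :=
    ⟨_, rfl⟩
  have hMn : M.Normal := by
    rw [hM]; exact Subgroup.normalClosure_normal
  have hd'M : mu i₀ i₁ (a, b) ∈ M := by
    rw [hM]
    exact Subgroup.subset_normalClosure (Set.mem_singleton _)
  have hcn : (M.comap ((mu i₀ i₁).comp (MonoidHom.inl T T))).Normal := hMn.comap _
  have hcomm : a * s * a⁻¹ * s⁻¹ ∈ M.comap ((mu i₀ i₁).comp (MonoidHom.inl T T)) := by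
    rw [Subgroup.mem_comap, MonoidHom.comp_apply, MonoidHom.inl_apply]
    have h1 : mu i₀ i₁ (a * s * a⁻¹ * s⁻¹, 1) =
        mu i₀ i₁ (a, b) * (mu i₀ i₁ (s, 1) * (mu i₀ i₁ (a, b))⁻¹ * (mu i₀ i₁ (s, 1))⁻¹) := by
      rw [← map_inv, ← map_inv, ← map_mul, ← map_mul, ← map_mul]
      congr 1
      ext
      · simp only [Prod.fst_mul, Prod.fst_inv]
        group
      · simp
    rw [h1]
    exact M.mul_mem hd'M (hMn.conj_mem _ (M.inv_mem hd'M) _)
  have hctop : M.comap ((mu i₀ i₁).comp (MonoidHom.inl T T)) = ⊤ := by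
    rcases hcn.eq_bot_or_eq_top with h | h
    · rw [h, Subgroup.mem_bot] at hcomm
      exact absurd hcomm hs
    · exact h
  have hdM : mu i₀ i₁ (a, (1 : T)) ∈ M := by
    have h1 : a ∈ M.comap ((mu i₀ i₁).comp (MonoidHom.inl T T)) := by
      rw [hctop]; exact Subgroup.mem_top _
    exact h1
  have hle : Subgroup.normalClosure {mu i₀ i₁ (a, (1 : T))} ≤ M :=
    Subgroup.normalClosure_le_normal (Set.singleton_subset_iff.mpr hdM)
  have hle0 : Subgroup.normalClosure {mu i₀ i₁ (a, (1 : T))} ≤ R0 (T := T) i₀ :=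
    Subgroup.normalClosure_le_normal (Set.singleton_subset_iff.mpr hd0)
  have hmap : (Subgroup.normalClosure {mu i₀ i₁ (a, (1 : T))}).map σ.toMonoidHom = M := by
    rw [Subgroup.map_normalClosure _ _ σ.surjective, Set.image_singleton, hM]
    congr 2
  have hcard : Nat.card M = Nat.card (Subgroup.normalClosure {mu i₀ i₁ (a, (1 : T))}) := by
    rw [← hmap]
    exact Subgroup.card_map_of_injective σ.injective
  have heq : Subgroup.normalClosure {mu i₀ i₁ (a, (1 : T))} = M :=
    Subgroup.eq_of_le_of_card_ge hle hcard.le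
  apply hd'0
  apply hle0
  rw [heq]
  exact hd'M

theorem backward {G : Type*} [Group G] [Finite G] {Ω : Type*} [Fintype Ω] [MulAction G Ω]
    [MulAction.IsPretransitive G Ω] (hΩ : 2 ≤ Fintype.card Ω)
    (h2t : ∀ a b c d : Ω, a ≠ b → c ≠ d → ∃ g : G, g • a = c ∧ g • b = d)
    (hsharp : ∀ g : G, g ≠ 1 → ∀ a b : Ω, a ≠ b → g • a = a → g • b ≠ b)
    (d d' : G) (hd : ∀ ω : Ω, d • ω ≠ ω) (hd' : ∀ ω : Ω, d' • ω ≠ ω) :
    ∃ g : G, g * d * g⁻¹ = d' := by
  classical
  have := Fintype.ofFinite G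
  obtain ⟨α, β, hαβ⟩ : ∃ α β : Ω, α ≠ β := Fintype.one_lt_card_iff.mp hΩ
  have hB := MulAction.sum_card_fixedBy_eq_card_orbits_mul_card_group G Ω
  have horb : Fintype.card (Quotient (MulAction.orbitRel G Ω)) = 1 := by
    rw [Fintype.card_eq_one_iff]
    refine ⟨Quotient.mk'' α, ?_⟩
    intro q
    induction q using Quotient.inductionOn' with
    | h a =>
      apply Quotient.sound'
      exact MulAction.exists_smul_eq G _ _
  rw [horb, one_mul] at hB
  have hfixcard : ∀ g : G, Fintype.card (MulAction.fixedBy Ω g) +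
      (if (∀ ω : Ω, g • ω ≠ ω) then 1 else 0) =
      1 + (if g = 1 then Fintype.card Ω - 1 else 0) := by
    intro g
    by_cases hg1 : g = 1
    · rw [if_pos hg1, if_neg]
      · have : Fintype.card (MulAction.fixedBy Ω g) = Fintype.card Ω := by
          apply Fintype.card_of_subtype Finset.univ
          intro x
          simp [hg1]
        rw [this]
        omega
      · intro h
        apply h α
        rw [hg1, one_smul]
    · rw [if_neg hg1]
      by_cases hder : ∀ ω : Ω, g • ω ≠ ω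
      · rw [if_pos hder]
        have : Fintype.card (MulAction.fixedBy Ω g) = 0 := by
          rw [Fintype.card_eq_zero_iff]
          exact ⟨fun x => hder x.1 x.2⟩
        rw [this]
      · rw [if_neg hder]
        push Not at hder
        obtain ⟨ω, hω⟩ := hder
        have : Fintype.card (MulAction.fixedBy Ω g) = 1 := by
          rw [Fintype.card_eq_one_iff]
          refine ⟨⟨ω, hω⟩, ?_⟩
          rintro ⟨y, hy⟩
          apply Subtype.ext
          simp only
          by_contra hne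
          exact hsharp g hg1 ω y (fun h => hne h.symm) hω hy
        rw [this]
  have hsum : ∑ g : G, (Fintype.card (MulAction.fixedBy Ω g) +
      (if (∀ ω : Ω, g • ω ≠ ω) then 1 else 0)) =
      ∑ g : G, (1 + (if g = 1 then Fintype.card Ω - 1 else 0)) :=
    Finset.sum_congr rfl (fun g _ => hfixcard g)
  rw [Finset.sum_add_distrib, Finset.sum_add_distrib, hB, ← Finset.card_filter,
    Finset.sum_ite_eq' Finset.univ (1 : G) (fun _ => Fintype.card Ω - 1), if_pos (Finset.mem_univ _),
    Finset.sum_const, Finset.card_univ, smul_eq_mul, mul_one] at hsum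
  have hD : (Finset.univ.filter (fun g : G => ∀ ω : Ω, g • ω ≠ ω)).card = Fintype.card Ω - 1 := by
    omega
  -- the group is large
  have hG : Fintype.card Ω * Fintype.card Ω - Fintype.card Ω ≤ Fintype.card G := by
    have h1 : ((Finset.univ : Finset Ω).offDiag).card ≤ (Finset.univ : Finset G).card := by
      apply Finset.card_le_card_of_surjOn (fun g : G => (g • α, g • β))
      rintro ⟨c, e⟩ hce
      rw [Finset.mem_coe, Finset.mem_offDiag] at hce
      obtain ⟨g, hg1, hg2⟩ := h2t α β c e hαβ hce.2.2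
      refine ⟨g, Finset.mem_coe.mpr (Finset.mem_univ _), ?_⟩
      simp only [hg1, hg2]
    rw [Finset.offDiag_card, Finset.card_univ, Finset.card_univ] at h1
    exact h1
  -- the class of d
  have hsub : (Finset.univ.image (fun g : G => g * d * g⁻¹)) ⊆
      Finset.univ.filter (fun g : G => ∀ ω : Ω, g • ω ≠ ω) := by
    intro c hc
    rw [Finset.mem_image] at hc
    obtain ⟨g, -, rfl⟩ := hc
    rw [Finset.mem_filter]
    refine ⟨Finset.mem_univ _, ?_⟩
    intro ω hω
    apply hd (g⁻¹ • ω)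
    rw [mul_smul, mul_smul, smul_eq_iff_eq_inv_smul] at hω
    exact hω
  have hfib : ∀ c ∈ Finset.univ.image (fun g : G => g * d * g⁻¹),
      ((Finset.univ : Finset G).filter (fun g : G => g * d * g⁻¹ = c)).card ≤ Fintype.card Ω := by
    intro c _
    rw [← Finset.card_univ (α := Ω)]
    apply Finset.card_le_card_of_injOn (fun g : G => g • α)
    · intro g _
      exact Finset.mem_coe.mpr (Finset.mem_univ _)
    · intro g hg g' hg' hgg
      rw [Finset.mem_coe, Finset.mem_filter] at hg hg'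
      simp only at hgg
      by_contra hne
      have hc1 : g⁻¹ * g' ≠ 1 := by
        intro h
        apply hne
        exact (inv_mul_eq_one.mp h)
      have hfixα : (g⁻¹ * g') • α = α := by
        rw [mul_smul, ← hgg, inv_smul_smul]
      have hcomm : (g⁻¹ * g') * d = d * (g⁻¹ * g') := by
        have h1 : g * d * g⁻¹ = g' * d * g'⁻¹ := by rw [hg.2, hg'.2]
        have h2 : d = g⁻¹ * (g' * d * g'⁻¹) * g := by
          rw [← h1]; group
        calc (g⁻¹ * g') * d = (g⁻¹ * (g' * d * g'⁻¹) * g) * (g⁻¹ * g') := by group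
          _ = d * (g⁻¹ * g') := by rw [← h2]
      have hfixd : (g⁻¹ * g') • (d • α) = d • α := by
        rw [← mul_smul, hcomm, mul_smul, hfixα]
      exact hsharp _ hc1 α (d • α) (fun h => hd α h.symm) hfixα hfixd
  have hle := Finset.card_le_mul_card_image (f := fun g : G => g * d * g⁻¹) Finset.univ
    (Fintype.card Ω) hfib
  rw [Finset.card_univ] at hle
  have hIle := Finset.card_le_card hsub
  have hcardI : (Finset.univ.filter (fun g : G => ∀ ω : Ω, g • ω ≠ ω)).card ≤
      (Finset.univ.image (fun g : G => g * d * g⁻¹)).card := by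
    rw [hD]
    have h1 : Fintype.card Ω * (Fintype.card Ω - 1) ≤
        Fintype.card Ω * (Finset.univ.image (fun g : G => g * d * g⁻¹)).card := by
      calc Fintype.card Ω * (Fintype.card Ω - 1) = Fintype.card Ω * Fintype.card Ω - Fintype.card Ω := by
            rw [Nat.mul_sub, mul_one]
        _ ≤ Fintype.card G := hG
        _ ≤ _ := hle
    exact Nat.le_of_mul_le_mul_left h1 (by omega)
  have heq := Finset.eq_of_subset_of_card_le hsub hcardI
  have hd'mem : d' ∈ Finset.univ.image (fun g : G => g * d * g⁻¹) := by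
    rw [heq, Finset.mem_filter]
    exact ⟨Finset.mem_univ _, hd'⟩
  rw [Finset.mem_image] at hd'mem
  obtain ⟨g, -, hg⟩ := hd'mem
  exact ⟨g, hg⟩

theorem forward {G : Type*} [Group G] [Finite G] {Ω : Type*} [Fintype Ω] [MulAction G Ω]
    [FaithfulSMul G Ω] (hΩ : 2 ≤ Fintype.card Ω) (hprim : MulAction.IsPreprimitive G Ω)
    (hnas : ¬ ∃ T : Subgroup G, T.Normal ∧ IsSimpleGroup T ∧ ¬ IsMulCommutative T ∧
      Subgroup.centralizer (T : Set G) = ⊥)
    (hconj : ∀ d d' : G, (∀ ω : Ω, d • ω ≠ ω) → (∀ ω : Ω, d' • ω ≠ ω) → ∃ g : G, g * d * g⁻¹ = d') :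
    (∀ a b c d : Ω, a ≠ b → c ≠ d → ∃ g : G, g • a = c ∧ g • b = d) ∧
      ∀ g : G, g ≠ 1 → ∀ a b : Ω, a ≠ b → g • a = a → g • b ≠ b := by
  classical
  have htrans : MulAction.IsPretransitive G Ω := hprim.toIsPretransitive
  have hcard2 : 2 ≤ Nat.card Ω := by rw [Nat.card_eq_fintype_card]; exact hΩ
  obtain ⟨α, β, hαβ⟩ : ∃ α β : Ω, α ≠ β := Fintype.one_lt_card_iff.mp hΩ
  obtain ⟨d₀, hd₀⟩ := jordan (K := G) (X := Ω) hcard2
  have hfaithG : ∀ x : G, (∀ ω : Ω, x • ω = ω) → x = 1 := by
    intro x hx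
    apply FaithfulSMul.eq_of_smul_eq_smul (α := Ω)
    intro ω
    rw [one_smul]
    exact hx ω
  have htrN : ∀ N : Subgroup G, N.Normal → N ≠ ⊥ → ∀ a b : Ω, ∃ x ∈ N, x • a = b := by
    intro N hN hN1 a b
    have hfp : MulAction.fixedPoints N Ω ≠ Set.univ := by
      intro htop
      apply hN1
      rw [eq_bot_iff]
      intro x hx
      rw [Subgroup.mem_bot]
      apply hfaithG
      intro ω
      have : ω ∈ MulAction.fixedPoints N Ω := by rw [htop]; trivial
      exact this ⟨x, hx⟩
    have htr : MulAction.IsPretransitive N Ω :=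
      MulAction.IsQuasiPreprimitive.isPretransitive_of_normal hfp
    obtain ⟨k, hk⟩ := htr.exists_smul_eq a b
    exact ⟨k.1, k.2, hk⟩
  have hderN : ∀ N : Subgroup G, N.Normal → N ≠ ⊥ → ∀ d : G, (∀ ω : Ω, d • ω ≠ ω) → d ∈ N := by
    intro N hN hN1 d hd
    have htr : MulAction.IsPretransitive N Ω := by
      refine ⟨fun a b => ?_⟩
      obtain ⟨x, hx, h⟩ := htrN N hN hN1 a b
      exact ⟨⟨x, hx⟩, h⟩
    obtain ⟨k, hk⟩ := jordan (K := N) (X := Ω) hcard2
    obtain ⟨g, hg⟩ := hconj (k : G) d hk hd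
    rw [← hg]
    exact hN.conj_mem _ k.2 g
  have hne : (⊤ : Subgroup G) ≠ ⊥ := by
    intro h
    have h1 : d₀ ∈ (⊤ : Subgroup G) := Subgroup.mem_top _
    rw [h, Subgroup.mem_bot] at h1
    apply hd₀ α
    rw [h1, one_smul]
  obtain ⟨N, ⟨hNn, hN1⟩, hNmin⟩ := Set.exists_min_image {N : Subgroup G | N.Normal ∧ N ≠ ⊥}
    (fun N => Nat.card N) (Set.toFinite _) ⟨⊤, inferInstance, hne⟩
  have hmin : ∀ M : Subgroup G, M.Normal → M ≤ N → M = ⊥ ∨ M = N := by
    intro M hM hMN
    by_cases hM1 : M = ⊥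
    · left; exact hM1
    · right
      exact Subgroup.eq_of_le_of_card_ge hMN (hNmin M ⟨hM, hM1⟩)
  have htrNN := htrN N hNn hN1
  have hderNN := hderN N hNn hN1
  by_cases hreg : ∀ x ∈ N, ∀ ω : Ω, x • ω = ω → x = 1
  · -- regular case
    have hNder : ∀ x ∈ N, x ≠ 1 → ∀ ω : Ω, x • ω ≠ ω :=
      fun x hx hx1 ω h => hx1 (hreg x hx ω h)
    have hNab' : ∀ x y : N, x * y = y * x := by
      apply comm_of_aut_trans
      intro x y hx hy
      have hx' : (x : G) ≠ 1 := fun h => hx (Subtype.ext h)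
      have hy' : (y : G) ≠ 1 := fun h => hy (Subtype.ext h)
      obtain ⟨g, hg⟩ := hconj (x : G) (y : G) (hNder _ x.2 hx') (hNder _ y.2 hy')
      refine ⟨MulAut.conjNormal g, ?_⟩
      apply Subtype.ext
      rw [MulAut.conjNormal_apply]
      exact hg
    have hNab : ∀ x ∈ N, ∀ y ∈ N, x * y = y * x := by
      intro x hx y hy
      exact congrArg Subtype.val (hNab' ⟨x, hx⟩ ⟨y, hy⟩)
    constructor
    · intro a b a' b' hab hab'
      obtain ⟨x, hxN, hx⟩ := htrNN a b
      obtain ⟨x', hx'N, hx'⟩ := htrNN a' b'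
      have hx1 : x ≠ 1 := by
        intro h
        rw [h, one_smul] at hx
        exact hab hx
      have hx'1 : x' ≠ 1 := by
        intro h
        rw [h, one_smul] at hx'
        exact hab' hx'
      obtain ⟨h, hh⟩ := hconj x x' (hNder x hxN hx1) (hNder x' hx'N hx'1)
      obtain ⟨m, hmN, hm⟩ := htrNN (h • a) a'
      refine ⟨m * h, ?_, ?_⟩
      · rw [mul_smul, hm]
      · have h1 : m * h * x = x' * (m * h) := by
          rw [← hh]
          have h2 := hNab m hmN (h * x * h⁻¹) (by rw [hh]; exact hx'N)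
          calc m * h * x = m * (h * x * h⁻¹) * h := by group
            _ = (h * x * h⁻¹) * m * h := by rw [h2]
            _ = h * x * h⁻¹ * (m * h) := by group
        rw [← hx, ← mul_smul, h1, mul_smul, mul_smul, hm, hx']
    · intro g hg1 a b hab hga hgb
      obtain ⟨x, hxN, hx⟩ := htrNN a b
      have hx1 : x ≠ 1 := by
        intro h
        rw [h, one_smul] at hx
        exact hab hx
      -- g commutes with x
      have hgx : g * x * g⁻¹ = x := by
        have h1 : (x⁻¹ * (g * x * g⁻¹)) • a = a := by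
          rw [mul_smul, mul_smul, mul_smul]
          have : g⁻¹ • a = a := by
            rw [inv_smul_eq_iff, hga]
          rw [this, hx, hgb, ← hx, inv_smul_smul]
        have h2 := hreg _ (N.mul_mem (N.inv_mem hxN) (hNn.conj_mem _ hxN g)) a h1
        exact (inv_mul_eq_one.mp h2).symm
      -- the commutator map on N is not injective
      have hψ : ¬ Function.Injective (fun y : N => (⟨(y : G) * (g * (y : G)⁻¹ * g⁻¹),
          N.mul_mem y.2 (hNn.conj_mem _ (N.inv_mem y.2) g)⟩ : N)) := by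
        intro hinj
        have h1 := @hinj ⟨x, hxN⟩ 1 (by
          apply Subtype.ext
          simp only [OneMemClass.coe_one, inv_one, mul_one, mul_inv_cancel]
          have : g * x⁻¹ * g⁻¹ = (g * x * g⁻¹)⁻¹ := by group
          rw [this, hgx, mul_inv_cancel])
        exact hx1 (congrArg Subtype.val h1)
      have hψ2 : ¬ Function.Surjective (fun y : N => (⟨(y : G) * (g * (y : G)⁻¹ * g⁻¹),
          N.mul_mem y.2 (hNn.conj_mem _ (N.inv_mem y.2) g)⟩ : N)) := by
        intro hsur
        exact hψ (Finite.injective_iff_surjective.mpr hsur)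
      rw [Function.Surjective] at hψ2
      push Not at hψ2
      obtain ⟨⟨m, hmN⟩, hm⟩ := hψ2
      have hder : ∀ ω : Ω, (m * g) • ω ≠ ω := by
        intro ω hω
        obtain ⟨y, hyN, hy⟩ := htrNN a ω
        apply hm ⟨y, hyN⟩
        apply Subtype.ext
        simp only
        have h1 : (y⁻¹ * (m * (g * y * g⁻¹))) • a = a := by
          have : g⁻¹ • a = a := by
            rw [inv_smul_eq_iff, hga]
          rw [mul_smul, mul_smul, mul_smul, mul_smul, this, hy, ← mul_smul m g, hω, ← hy, inv_smul_smul]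
        have h2 := hreg _ (N.mul_mem (N.inv_mem hyN) (N.mul_mem hmN (hNn.conj_mem _ hyN g))) a h1
        have h3 : m * (g * y * g⁻¹) = y := by
          have := inv_mul_eq_one.mp h2
          exact this.symm
        calc y * (g * y⁻¹ * g⁻¹) = m * (g * y * g⁻¹) * (g * y⁻¹ * g⁻¹) := by rw [h3]
          _ = m := by group
      have hmg := hderNN (m * g) hder
      have hgN : g ∈ N := by
        have := N.mul_mem (N.inv_mem hmN) hmg
        rwa [inv_mul_cancel_left] at this
      exact hg1 (hreg g hgN a hga)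
  · -- non-regular case
    exfalso
    push Not at hreg
    obtain ⟨x₀, hx₀N, ω₀, hx₀ω, hx₀1⟩ := hreg
    have hcent : ∀ C : Subgroup G, (∀ a b : Ω, ∃ c ∈ C, c • a = b) →
        (∀ c ∈ C, c * x₀ = x₀ * c) → False := by
      intro C hC hcomm
      apply hx₀1
      apply hfaithG
      intro ω
      obtain ⟨c, hc, hcω⟩ := hC ω₀ ω
      rw [← hcω, ← mul_smul, ← hcomm c hc, mul_smul, hx₀ω]
    have hNnab : ¬ ∀ x y : N, x * y = y * x := by
      intro h
      apply hcent N htrNN
      intro c hc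
      exact congrArg Subtype.val (h ⟨c, hc⟩ ⟨x₀, hx₀N⟩)
    obtain ⟨T, _, m, hTs, hm, ⟨e⟩⟩ := Cfsg.Agent.S0721.result N hN1 hmin
    have hT : ¬ ∀ x y : T, x * y = y * x := by
      intro h
      apply hNnab
      intro x y
      apply e.injective
      rw [map_mul, map_mul]
      funext j
      exact h _ _
    have hfinP : Finite (Fin m → T) := Finite.of_equiv N e.toEquiv
    have hfinT : Finite T :=
      Finite.of_injective (fun t : T => (fun _ : Fin m => t))
        (fun s t h => congrFun h ⟨0, hm⟩)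
    by_cases hm1 : m = 1
    · subst hm1
      have hNnt : Nontrivial N := (Subgroup.nontrivial_iff_ne_bot N).mpr hN1
      have hNs : IsSimpleGroup N := by
        apply IsSimpleGroup.isSimpleGroup_of_surjective
          (e.symm.toMonoidHom.comp (MulEquiv.funUnique (Fin 1) T).symm.toMonoidHom)
        intro y
        refine ⟨(MulEquiv.funUnique (Fin 1) T) (e y), ?_⟩
        show e.symm ((MulEquiv.funUnique (Fin 1) T).symm ((MulEquiv.funUnique (Fin 1) T) (e y))) = y
        rw [MulEquiv.symm_apply_apply, MulEquiv.symm_apply_apply]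
      apply hnas
      refine ⟨N, hNn, hNs, ?_, ?_⟩
      · intro hc
        apply hNnab
        intro x y
        exact hc.is_comm.comm x y
      · by_contra hC
        have hCn : (Subgroup.centralizer (N : Set G)).Normal := Subgroup.normal_centralizer
        apply hcent _ (htrN _ hCn hC)
        intro c hc
        exact ((Subgroup.mem_centralizer_iff.mp hc) x₀ hx₀N).symm
    · have hm2 : 2 ≤ m := by omega
      have h01 : (⟨0, hm⟩ : Fin m) ≠ ⟨1, hm2⟩ := by
        intro h
        have := congrArg Fin.val h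
        simp at this
      obtain ⟨d, d', hd, hd', hσ⟩ := lemmaB hT (⟨0, hm⟩ : Fin m) ⟨1, hm2⟩ h01
        (N.subtype.comp e.symm.toMonoidHom) (Ω := Ω)
        (by
          intro a b
          obtain ⟨x, hxN, hx⟩ := htrNN a b
          refine ⟨e ⟨x, hxN⟩, ?_⟩
          simp only [MonoidHom.comp_apply, MulEquiv.coe_toMonoidHom, MulEquiv.symm_apply_apply,
            Subgroup.subtype_apply]
          exact hx)
        (by
          intro x hx
          have h1 := hfaithG _ hx
          simp only [MonoidHom.comp_apply, MulEquiv.coe_toMonoidHom, Subgroup.subtype_apply] at h1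
          have h2 : e.symm x = 1 := Subtype.ext h1
          have h3 := congrArg e h2
          rw [MulEquiv.apply_symm_apply, map_one] at h3
          exact h3) α
      obtain ⟨g, hg⟩ := hconj _ _ hd hd'
      apply hσ (e.symm.trans ((MulAut.conjNormal g : N ≃* N).trans e))
      simp only [MulEquiv.trans_apply]
      have h1 : (MulAut.conjNormal g : N ≃* N) (e.symm d) = e.symm d' := by
        apply Subtype.ext
        rw [MulAut.conjNormal_apply]
        exact hg
      rw [h1, MulEquiv.apply_symm_apply]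

/-- Let a finite group G act faithfully and primitively on a finite set Ω with at least two points, and suppose G is not almost simple (it has no non-abelian simple normal subgroup with trivial centralizer). Then the derangements of G form a single conjugacy class if and only if G is sharply 2-transitive (2-transitive, and no non-identity element fixes two points). -/
theorem result {G : Type*} [Group G] [Finite G] {Ω : Type*} [Fintype Ω] [MulAction G Ω] [FaithfulSMul G Ω] (hΩ : 2 ≤ Fintype.card Ω) (hprim : MulAction.IsPreprimitive G Ω) (hnas : ¬ ∃ T : Subgroup G, T.Normal ∧ IsSimpleGroup T ∧ ¬ IsMulCommutative T ∧ Subgroup.centralizer (T : Set G) = ⊥) :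
    Nat.card {c : ConjClasses G // ∃ g : G, ConjClasses.mk g = c ∧ ∀ ω : Ω, g • ω ≠ ω} = 1 ↔ (MulAction.IsMultiplyPretransitive G Ω 2 ∧ ∀ g : G, g ≠ 1 → ∀ a b : Ω, a ≠ b → g • a = a → g • b ≠ b) := by
  classical
  have htrans : MulAction.IsPretransitive G Ω := hprim.toIsPretransitive
  have hcard2 : 2 ≤ Nat.card Ω := by rw [Nat.card_eq_fintype_card]; exact hΩ
  obtain ⟨d₀, hd₀⟩ := jordan (K := G) (X := Ω) hcard2
  have hiff : Nat.card {c : ConjClasses G // ∃ g : G, ConjClasses.mk g = c ∧ ∀ ω : Ω, g • ω ≠ ω} = 1 ↔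
      ∀ d d' : G, (∀ ω : Ω, d • ω ≠ ω) → (∀ ω : Ω, d' • ω ≠ ω) → ∃ g : G, g * d * g⁻¹ = d' := by
    rw [Nat.card_eq_one_iff_unique]
    constructor
    · rintro ⟨hsub, -⟩ d d' hd hd'
      have h1 := @Subsingleton.elim _ hsub ⟨ConjClasses.mk d, d, rfl, hd⟩
        ⟨ConjClasses.mk d', d', rfl, hd'⟩
      have h2 : ConjClasses.mk d = ConjClasses.mk d' := congrArg Subtype.val h1
      rw [ConjClasses.mk_eq_mk_iff_isConj, isConj_iff] at h2
      exact h2
    · intro h
      refine ⟨⟨?_⟩, ⟨⟨ConjClasses.mk d₀, d₀, rfl, hd₀⟩⟩⟩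
      rintro ⟨c, g, rfl, hg⟩ ⟨c', g', rfl, hg'⟩
      apply Subtype.ext
      show ConjClasses.mk g = ConjClasses.mk g'
      rw [ConjClasses.mk_eq_mk_iff_isConj, isConj_iff]
      exact h g g' hg hg'
  rw [hiff, MulAction.is_two_pretransitive_iff]
  constructor
  · intro hconj
    obtain ⟨h1, h2⟩ := forward hΩ hprim hnas hconj
    exact ⟨fun {a b c d} hab hcd => h1 a b c d hab hcd, h2⟩
  · rintro ⟨h2t, hsharp⟩ d d' hd hd'
    exact backward hΩ (fun a b c d hab hcd => h2t hab hcd) hsharp d d' hd hd'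

end Cfsg.Agent.S3501
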