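import Cfsg.Statements.S3546
-- import your own Cfsg.Agent.* helpers here

set_option autoImplicit false
open Cfsg

namespace Cfsg.Agent.S3546

open MulAction

section
variable {G X : Type*} [Group G] [MulAction G X]

theorem burnside_natCard [Finite G] [Finite X] [Fintype G] :
    ∑ g : G, Nat.card (fixedBy X g) = Nat.card (orbitRel.Quotient G X) * Nat.card G := by
  classical
  haveI : Fintype X := Fintype.ofFinite X
  haveI : Fintype (orbitRel.Quotient G X) := Fintype.ofFinite _
  haveI : ∀ g : G, Fintype (fixedBy X g) := fun g => Fintype.ofFinite _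
  have := MulAction.sum_card_fixedBy_eq_card_orbits_mul_card_group G X
  simp only [Nat.card_eq_fintype_card]
  exact this

theorem card_quotient_eq_one [IsPretransitive G X] [Nonempty X] [Finite X] :
    Nat.card (orbitRel.Quotient G X) = 1 := by
  haveI : Subsingleton (orbitRel.Quotient G X) :=
    (MulAction.pretransitive_iff_subsingleton_quotient G X).mp inferInstance
  haveI : Nonempty (orbitRel.Quotient G X) := ⟨Quotient.mk'' (Classical.arbitrary X)⟩
  exact Nat.card_eq_one_iff_unique.mpr ⟨inferInstance, inferInstance⟩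

theorem main_lemma [Finite G] [Finite X] [IsPretransitive G X] [Nonempty X] (D : Subgroup G)
    (hD : ∀ g : G, g ∉ D → ∃ x : X, g • x = x) :
    IsPretransitive D X ∧ ∀ g : G, g ∉ D → Nat.card (fixedBy X g) = 1 := by
  classical
  haveI : Fintype G := Fintype.ofFinite G
  have hG : ∑ g : G, Nat.card (fixedBy X g) = Nat.card G := by
    rw [burnside_natCard, card_quotient_eq_one, one_mul]
  have hDsum : ∑ d : D, Nat.card (fixedBy X d) = Nat.card (orbitRel.Quotient D X) * Nat.card D :=
    burnside_natCard
  have hsplit : ∑ g : G, Nat.card (fixedBy X g) =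
      ∑ g ∈ Finset.univ.filter (fun g : G => g ∈ D), Nat.card (fixedBy X g) +
      ∑ g ∈ Finset.univ.filter (fun g : G => g ∉ D), Nat.card (fixedBy X g) :=
    (Finset.sum_filter_add_sum_filter_not Finset.univ (fun g : G => g ∈ D) _).symm
  have hDsum' : ∑ g ∈ Finset.univ.filter (fun g : G => g ∈ D), Nat.card (fixedBy X g) =
      ∑ d : D, Nat.card (fixedBy X d) := by
    rw [Finset.sum_subtype (Finset.univ.filter (fun g : G => g ∈ D)) (p := fun g => g ∈ D)
      (by simp) (fun g => Nat.card (fixedBy X g))]
    rfl
  have hcards : (Finset.univ.filter (fun g : G => g ∈ D)).card +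
      (Finset.univ.filter (fun g : G => g ∉ D)).card = Nat.card G := by
    rw [Finset.card_filter_add_card_filter_not, Finset.card_univ, Nat.card_eq_fintype_card]
  have hcardD : (Finset.univ.filter (fun g : G => g ∈ D)).card = Nat.card D := by
    rw [Nat.card_eq_fintype_card, Fintype.card_subtype]
  have hge : ∀ g ∈ Finset.univ.filter (fun g : G => g ∉ D), 1 ≤ Nat.card (fixedBy X g) := by
    intro g hg
    simp only [Finset.mem_filter, Finset.mem_univ, true_and] at hg
    obtain ⟨x, hx⟩ := hD g hg
    haveI : Nonempty (fixedBy X g) := ⟨⟨x, hx⟩⟩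
    exact Nat.card_pos
  have hA : (Finset.univ.filter (fun g : G => g ∉ D)).card ≤
      ∑ g ∈ Finset.univ.filter (fun g : G => g ∉ D), Nat.card (fixedBy X g) := by
    have := Finset.card_nsmul_le_sum (Finset.univ.filter (fun g : G => g ∉ D))
      (fun g => Nat.card (fixedBy X g)) 1 hge
    simpa using this
  have hDpos : 0 < Nat.card D := Nat.card_pos
  have horb_pos : 0 < Nat.card (orbitRel.Quotient D X) := by
    haveI : Nonempty (orbitRel.Quotient D X) := ⟨Quotient.mk'' (Classical.arbitrary X)⟩
    exact Nat.card_pos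
  have horb : Nat.card (orbitRel.Quotient D X) = 1 := by
    have h1 : Nat.card (orbitRel.Quotient D X) * Nat.card D ≤ 1 * Nat.card D := by
      rw [one_mul]
      omega
    have := Nat.le_of_mul_le_mul_right h1 hDpos
    omega
  refine ⟨?_, ?_⟩
  · rw [MulAction.pretransitive_iff_subsingleton_quotient]
    exact (Nat.card_eq_one_iff_unique.mp horb).1
  · intro g hg
    have hAeq : ∑ g ∈ Finset.univ.filter (fun g : G => g ∉ D), Nat.card (fixedBy X g) =
        (Finset.univ.filter (fun g : G => g ∉ D)).card := by
      rw [horb, one_mul] at hDsum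
      omega
    have hz : ∑ g ∈ Finset.univ.filter (fun g : G => g ∉ D), (Nat.card (fixedBy X g) - 1) = 0 := by
      have h2 : ∑ g ∈ Finset.univ.filter (fun g : G => g ∉ D), Nat.card (fixedBy X g) =
          ∑ g ∈ Finset.univ.filter (fun g : G => g ∉ D), ((Nat.card (fixedBy X g) - 1) + 1) := by
        apply Finset.sum_congr rfl
        intro g hg
        have := hge g hg
        omega
      rw [Finset.sum_add_distrib, Finset.sum_const, smul_eq_mul, mul_one] at h2
      omega
    have hmem : g ∈ Finset.univ.filter (fun g : G => g ∉ D) := by simp [hg]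
    have h3 := (Finset.sum_eq_zero_iff.mp hz) g hmem
    have h4 := hge g hmem
    omega


theorem dvd_card_of_dvd_orbits {H Y : Type*} [Group H] [MulAction H Y] [Finite Y] (k : ℕ)
    (h : ∀ y : Y, k ∣ Nat.card (orbit H y)) : k ∣ Nat.card Y := by
  classical
  haveI : Fintype (orbitRel.Quotient H Y) := Fintype.ofFinite _
  rw [Nat.card_congr (selfEquivSigmaOrbits H Y), Nat.card_sigma]
  exact Finset.dvd_sum (fun ω _ => h _)

theorem relIndex_stabilizer_eq_index [Finite G] [Finite X] [IsPretransitive G X] (D : Subgroup G)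
    (hDt : IsPretransitive D X) (α : X) :
    D.relIndex (stabilizer G α) = D.index := by
  have h1 : (stabilizer G α).index = Nat.card X := MulAction.index_stabilizer_of_transitive G α
  have h2 : (stabilizer G α).relIndex D = Nat.card X := by
    have h3 : (stabilizer D α).index = Nat.card X := MulAction.index_stabilizer_of_transitive D α
    rw [← h3]
    rfl
  have h4 : (stabilizer G α).relIndex D * D.index = (stabilizer G α ⊓ D).index := by
    rw [← Subgroup.inf_relIndex_right, Subgroup.relIndex_mul_index inf_le_right]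
  have h5 : D.relIndex (stabilizer G α) * (stabilizer G α).index = (stabilizer G α ⊓ D).index := by
    rw [← Subgroup.inf_relIndex_right, Subgroup.relIndex_mul_index inf_le_right, inf_comm]
  have hX : 0 < Nat.card X := by
    haveI : Nonempty X := ⟨α⟩
    exact Nat.card_pos
  rw [h1] at h5
  rw [h2] at h4
  have : D.relIndex (stabilizer G α) * Nat.card X = D.index * Nat.card X := by
    rw [h5, ← h4, mul_comm]
  exact Nat.eq_of_mul_eq_mul_right hX this

theorem stabilizer_le_subgroupOf [Finite X] (D : Subgroup G)
    (hD1 : ∀ g : G, g ∉ D → Nat.card (fixedBy X g) ≤ 1) (α : X)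
    (y : SubMulAction.ofStabilizer G α) :
    stabilizer (stabilizer G α) y ≤ D.subgroupOf (stabilizer G α) := by
  intro h hh
  rw [Subgroup.mem_subgroupOf]
  by_contra hnot
  have hcard := hD1 _ hnot
  have hα : (h : G) • α = α := h.2
  have hy : (h : G) • (y : X) = y :=
    congrArg (fun t : SubMulAction.ofStabilizer G α => (t : X)) hh
  have hne : (y : X) ≠ α := y.2
  have hsub : Subsingleton (fixedBy X (h : G)) := by
    rcases Nat.lt_or_ge (Nat.card (fixedBy X (h : G))) 1 with hlt | hge
    · have h0 : Nat.card (fixedBy X (h : G)) = 0 := by omega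
      haveI : IsEmpty (fixedBy X (h : G)) := (Nat.card_eq_zero.mp h0).resolve_right
        (fun hinf => hinf.not_finite inferInstance)
      infer_instance
    · have h1' : Nat.card (fixedBy X (h : G)) = 1 := le_antisymm hcard hge
      exact (Nat.card_eq_one_iff_unique.mp h1').1
  have := Subsingleton.elim (⟨(y : X), hy⟩ : fixedBy X (h : G)) ⟨α, hα⟩
  exact hne (congrArg Subtype.val this)

theorem relIndex_dvd_orbit [Finite G] [Finite X] (D : Subgroup G)
    (hD1 : ∀ g : G, g ∉ D → Nat.card (fixedBy X g) ≤ 1) (α : X)
    (y : SubMulAction.ofStabilizer G α) :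
    D.relIndex (stabilizer G α) ∣ Nat.card (orbit (stabilizer G α) y) := by
  have h2 := Subgroup.index_dvd_of_le (stabilizer_le_subgroupOf D hD1 α y)
  rw [MulAction.index_stabilizer, ← Nat.card_coe_set_eq] at h2
  exact h2

theorem index_dvd_card_sub_one [Finite G] [Finite X] [IsPretransitive G X] (D : Subgroup G)
    (hDt : IsPretransitive D X) (hD1 : ∀ g : G, g ∉ D → Nat.card (fixedBy X g) ≤ 1) (α : X) :
    D.index ∣ Nat.card X - 1 := by
  rw [← relIndex_stabilizer_eq_index D hDt α, ← SubMulAction.nat_card_ofStabilizer_eq G α]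
  exact dvd_card_of_dvd_orbits _ (fun y => relIndex_dvd_orbit D hD1 α y)


theorem derangement_closure_normal :
    (Subgroup.closure {g : G | ∀ x : X, g • x ≠ x}).Normal := by
  constructor
  intro n hn g
  have h1 : g * n * g⁻¹ ∈ (Subgroup.closure {g : G | ∀ x : X, g • x ≠ x}).map
      (MulAut.conj g).toMonoidHom := ⟨n, hn, by simp⟩
  rw [MonoidHom.map_closure] at h1
  refine Subgroup.closure_mono ?_ h1
  rintro _ ⟨m, hm, rfl⟩
  intro x hx
  apply hm (g⁻¹ • x)
  simp only [MulEquiv.toMonoidHom_eq_coe, MonoidHom.coe_coe, MulAut.conj_apply, mul_smul] at hx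
  have := congrArg (fun t => g⁻¹ • t) hx
  simpa using this

theorem exists_fixed_of_notMem_closure (g : G)
    (hg : g ∉ Subgroup.closure {g : G | ∀ x : X, g • x ≠ x}) : ∃ x : X, g • x = x := by
  by_contra h
  exact hg (Subgroup.subset_closure (fun x hx => h ⟨x, hx⟩))

end


/-- Let G act faithfully and transitively on a finite set and let D be the subgroup of G generated by the derangements (the elements fixing no point). Then D is itself transitive, and D contains every element of G whose number of fixed points is different from 1. -/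
theorem result {G Ω : Type*} [Group G] [Finite G] [MulAction G Ω] [FaithfulSMul G Ω] [Finite Ω]
    (htrans : MulAction.IsPretransitive G Ω) :
    MulAction.IsPretransitive ↥(Subgroup.closure {g : G | ∀ ω : Ω, g • ω ≠ ω}) Ω ∧
    ∀ g : G, Nat.card (MulAction.fixedBy Ω g) ≠ 1 → g ∈ Subgroup.closure {g : G | ∀ ω : Ω, g • ω ≠ ω} := by
  rcases isEmpty_or_nonempty Ω with hΩ | hΩ
  · refine ⟨⟨fun x => isEmptyElim x⟩, fun g _ => Subgroup.subset_closure (fun ω => isEmptyElim ω)⟩
  · obtain ⟨h1, h2⟩ := main_lemma (X := Ω) (Subgroup.closure {g : G | ∀ ω : Ω, g • ω ≠ ω})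
      (fun g hg => exists_fixed_of_notMem_closure g hg)
    refine ⟨h1, fun g hg => ?_⟩
    by_contra hnot
    exact hg (h2 g hnot)

end Cfsg.Agent.S3546
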