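import Cfsg.Statements.S3554
-- import your own Cfsg.Agent.* helpers here

set_option autoImplicit false
open Cfsg

namespace Cfsg.Agent.S3554

/-- Let G act faithfully and transitively on a finite set and suppose G has a non-trivial cyclic normal subgroup. Then some element of G of prime order fixes no point. -/
theorem result {G Ω : Type*} [Group G] [Finite G] [MulAction G Ω] [FaithfulSMul G Ω] [Finite Ω]
    (htrans : MulAction.IsPretransitive G Ω) (C : Subgroup G) (hC : C.Normal) (hC1 : C ≠ ⊥) (hcyc : IsCyclic ↥C) :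
    ∃ g : G, (orderOf g).Prime ∧ ∀ ω : Ω, g • ω ≠ ω := by
  classical
  have hcard : Nat.card C ≠ 1 := by
    intro h
    exact hC1 ((Subgroup.card_eq_one).mp h)
  obtain ⟨p, hp, hpd⟩ := Nat.exists_prime_and_dvd hcard
  have := Fact.mk hp
  obtain ⟨c, hc⟩ := exists_prime_orderOf_dvd_card' p hpd
  have key : ∀ x : C, x ^ p = 1 → x ∈ Subgroup.zpowers c := by
    intro x hx
    haveI : Fintype C := Fintype.ofFinite C
    have h1 : (Finset.univ.filter (fun a : C => a ^ p = 1)).card ≤ p :=
      IsCyclic.card_pow_eq_one_le hp.pos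
    have h2 : (Finset.univ.filter (fun a : C => a ∈ Subgroup.zpowers c)) ⊆
        (Finset.univ.filter (fun a : C => a ^ p = 1)) := by
      intro a ha
      simp only [Finset.mem_filter, Finset.mem_univ, true_and] at ha ⊢
      obtain ⟨j, rfl⟩ := Subgroup.mem_zpowers_iff.mp ha
      rw [← zpow_natCast, ← zpow_mul, mul_comm, zpow_mul, zpow_natCast, ← hc, pow_orderOf_eq_one,
        one_zpow]
    have h3 : (Finset.univ.filter (fun a : C => a ∈ Subgroup.zpowers c)).card = p := by
      rw [← hc, ← Nat.card_zpowers, Nat.card_eq_fintype_card, Fintype.card_subtype]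
    have h4 := Finset.eq_of_subset_of_card_le h2 (by rw [h3]; exact h1)
    have : x ∈ (Finset.univ.filter (fun a : C => a ^ p = 1)) := by simp [hx]
    rw [← h4] at this
    simpa using this
  refine ⟨(c : G), ?_, ?_⟩
  · rw [Subgroup.orderOf_coe, hc]; exact hp
  · intro ω hω
    have hfix : ∀ h : G, (c : G) • (h • ω) = h • ω := by
      intro h
      have hmem : h⁻¹ * (c : G) * h ∈ C := by
        have := hC.conj_mem (c : G) c.2 h⁻¹
        simpa using this
      have hx : (⟨h⁻¹ * c * h, hmem⟩ : C) ^ p = 1 := by
        apply Subtype.ext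
        have : (h⁻¹ * (c : G) * h) ^ p = h⁻¹ * (c : G) ^ p * h := by
          have := conj_pow (a := h⁻¹) (b := (c : G)) (i := p)
          simpa using this
        simp only [Subgroup.coe_pow, Subgroup.coe_one, this]
        have hcp : (c : G) ^ p = 1 := by
          rw [← Subgroup.coe_pow, ← hc, pow_orderOf_eq_one]; rfl
        rw [hcp]; simp
      obtain ⟨j, hj⟩ := Subgroup.mem_zpowers_iff.mp (key _ hx)
      have h1 : ((c : G) ^ j) = h⁻¹ * c * h := by
        have := congrArg (fun t : C => (t : G)) hj
        simpa using this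
      have h2 : (h⁻¹ * (c : G) * h) • ω = ω := by
        rw [← h1]
        have hmem' : (c : G) ∈ MulAction.stabilizer G ω := hω
        exact (MulAction.stabilizer G ω).zpow_mem hmem' j
      calc (c : G) • (h • ω) = h • ((h⁻¹ * (c : G) * h) • ω) := by simp [mul_smul]
        _ = h • ω := by rw [h2]
    have h1 : (c : G) = 1 := by
      apply FaithfulSMul.eq_of_smul_eq_smul (α := Ω)
      intro a
      obtain ⟨h, rfl⟩ := MulAction.exists_smul_eq G ω a
      rw [hfix, one_smul]
    have h2 : orderOf (c : G) = p := by rw [Subgroup.orderOf_coe, hc]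
    rw [h1, orderOf_one] at h2
    exact hp.one_lt.ne h2

end Cfsg.Agent.S3554
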