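import Cfsg.Statements.S3555
import Mathlib
import Cfsg.Agent.S3546

set_option autoImplicit false
open Cfsg

namespace Cfsg.Agent.S3555

section
open Finset MulAction
open scoped Pointwise

variable {G Ω : Type*} [Group G] [MulAction G Ω]

theorem comm_of_sq {x y : G} (hx : x * x = 1) (hy : y * y = 1) (hxy : (x * y) * (x * y) = 1) :
    x * y = y * x := by
  have h1 : x * y = x * ((x * y) * (x * y)) * y := by rw [hxy]; simp
  rw [h1]
  have h2 : x * ((x * y) * (x * y)) * y = (x * x) * (y * x) * (y * y) := by group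
  rw [h2, hx, hy]; simp

theorem core [Finite G] [Finite Ω] [FaithfulSMul G Ω] [Nonempty Ω]
    (htrans : MulAction.IsPretransitive G Ω)
    (hinv : ∀ g : G, (∀ ω : Ω, g • ω ≠ ω) → g * g = 1) :
    ∀ g : G, ∀ α β : Ω, α ≠ β → g • α = α → g • β = β → g = 1 := by
  classical
  have := Fintype.ofFinite G
  have := Fintype.ofFinite Ω
  set n : ℤ := (Fintype.card Ω : ℤ) with hn
  set f : G → ℤ := fun g => ((univ.filter (fun ω : Ω => g • ω = ω)).card : ℤ) with hf
  set c : Ω → Ω → ℤ := fun α β =>
    ((univ.filter (fun g : G => g • α = α ∧ g • β = β)).card : ℤ) with hc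
  set d : Ω → Ω → ℤ := fun α β =>
    ((univ.filter (fun g : G => (∀ ω : Ω, g • ω ≠ ω) ∧ g • α = β)).card : ℤ) with hd
  set D : Finset G := univ.filter (fun g : G => ∀ ω : Ω, g • ω ≠ ω) with hD
  have hf' : ∀ g : G, f g = ∑ ω : Ω, if g • ω = ω then (1 : ℤ) else 0 :=
    fun g => Finset.natCast_card_filter _ _
  have hc' : ∀ α β : Ω, c α β = ∑ g : G, if (g • α = α ∧ g • β = β) then (1 : ℤ) else 0 :=
    fun α β => Finset.natCast_card_filter _ _
  have hd' : ∀ α β : Ω, d α β =
      ∑ g : G, if ((∀ ω : Ω, g • ω ≠ ω) ∧ g • α = β) then (1 : ℤ) else 0 :=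
    fun α β => Finset.natCast_card_filter _ _
  have hA : ∑ g : G, f g = (Fintype.card G : ℤ) := by
    have h1 := Cfsg.Agent.S3546.burnside_natCard (G := G) (X := Ω)
    rw [Cfsg.Agent.S3546.card_quotient_eq_one, one_mul] at h1
    have h2 : ∀ g : G, Nat.card (fixedBy Ω g) = (univ.filter (fun ω : Ω => g • ω = ω)).card := by
      intro g
      rw [Nat.card_eq_fintype_card, Fintype.card_subtype]
      rfl
    simp only [h2] at h1
    rw [Nat.card_eq_fintype_card] at h1
    simp only [hf]
    exact_mod_cast h1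
  have hB : ∑ g : G, f g * f g = ∑ α : Ω, ∑ β : Ω, c α β := by
    simp only [hf', hc', Finset.sum_mul_sum]
    rw [Finset.sum_comm]
    refine Finset.sum_congr rfl fun α _ => ?_
    rw [Finset.sum_comm]
    refine Finset.sum_congr rfl fun β _ => ?_
    refine Finset.sum_congr rfl fun g _ => ?_
    by_cases h1 : g • α = α <;> by_cases h2 : g • β = β <;> simp [h1, h2]
  have hC : ∑ α : Ω, c α α = (Fintype.card G : ℤ) := by
    rw [← hA]
    simp only [hf', hc']
    rw [Finset.sum_comm]
    refine Finset.sum_congr rfl fun g _ => ?_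
    refine Finset.sum_congr rfl fun α _ => ?_
    simp
  have hDs : ∑ α : Ω, ∑ β : Ω, d α β = n * (D.card : ℤ) := by
    have h1 : ∀ α : Ω, ∑ β : Ω, d α β = (D.card : ℤ) := by
      intro α
      simp only [hd']
      rw [Finset.sum_comm, hD, Finset.natCast_card_filter]
      refine Finset.sum_congr rfl fun g _ => ?_
      by_cases h : ∀ ω : Ω, g • ω ≠ ω
      · simp [h]
      · simp [h]
    simp only [h1, Finset.sum_const, Finset.card_univ, nsmul_eq_mul, hn]
  have hE : ∀ α : Ω, d α α = 0 := by
    intro α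
    simp only [hd]
    rw [Nat.cast_eq_zero, Finset.card_eq_zero, Finset.filter_eq_empty_iff]
    intro g _ h
    exact h.1 α h.2
  have hc0 : ∀ α β : Ω, 0 ≤ c α β := fun α β => by simp only [hc]; positivity
  have hF : ∀ α β : Ω, α ≠ β → d α β ≤ c α β := by
    intro α β hab
    by_cases hex : ∃ t : G, (∀ ω : Ω, t • ω ≠ ω) ∧ t • α = β
    · obtain ⟨t, ht, htα⟩ := hex
      have htβ : t • β = α := by
        rw [← htα, smul_smul, hinv t ht, one_smul]
      simp only [hd, hc]
      norm_cast
      apply Finset.card_le_card_of_injOn (fun s => t * s)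
      · intro s hs
        simp only [Finset.coe_filter, Finset.mem_univ, true_and, Set.mem_ofPred_eq] at hs ⊢
        obtain ⟨hs1, hs2⟩ := hs
        have hsβ : s • β = α := by rw [← hs2, smul_smul, hinv s hs1, one_smul]
        refine ⟨?_, ?_⟩
        · rw [mul_smul, hs2, htβ]
        · rw [mul_smul, hsβ, htα]
      · intro s _ s' _ h
        exact mul_left_cancel h
    · have h0 : d α β = 0 := by
        simp only [hd]
        rw [Nat.cast_eq_zero, Finset.card_eq_zero, Finset.filter_eq_empty_iff]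
        intro g _ h
        exact hex ⟨g, h⟩
      rw [h0]; exact hc0 α β
  have hG1 : ∀ g : G, (∀ ω : Ω, g • ω ≠ ω) → f g = 0 := by
    intro g hg
    simp only [hf]
    rw [Nat.cast_eq_zero, Finset.card_eq_zero, Finset.filter_eq_empty_iff]
    intro ω _ h
    exact hg ω h
  have hG2 : ∀ g : G, ¬ (∀ ω : Ω, g • ω ≠ ω) → 1 ≤ f g ∧ f g ≤ n := by
    intro g hg
    push Not at hg
    obtain ⟨ω, hω⟩ := hg
    simp only [hf, hn]
    refine ⟨?_, ?_⟩
    · have : 0 < (univ.filter (fun ω : Ω => g • ω = ω)).card :=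
        Finset.card_pos.mpr ⟨ω, by simp [hω]⟩
      exact_mod_cast this
    · exact_mod_cast Finset.card_le_univ _
  -- the main identity
  set T : ℤ := ∑ α : Ω, ∑ β ∈ univ.erase α, c α β with hT
  have hS1 : ∑ g : G, (f g - 1) * (f g - n) = T := by
    have h1 : ∀ g : G, (f g - 1) * (f g - n) = f g * f g - (n + 1) * f g + n := by
      intro g; ring
    simp only [h1, Finset.sum_add_distrib, Finset.sum_sub_distrib, ← Finset.mul_sum,
      Finset.sum_const, Finset.card_univ, nsmul_eq_mul]
    rw [hB, hA]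
    have h2 : ∑ α : Ω, ∑ β : Ω, c α β = ∑ α : Ω, c α α + T := by
      rw [hT, ← Finset.sum_add_distrib]
      refine Finset.sum_congr rfl fun α _ => ?_
      exact (Finset.add_sum_erase _ _ (Finset.mem_univ α)).symm
    rw [h2, hC]; ring
  have hS2 : n * (D.card : ℤ) ≤ T := by
    rw [← hDs, hT]
    refine Finset.sum_le_sum fun α _ => ?_
    rw [← Finset.add_sum_erase _ _ (Finset.mem_univ α), hE α, zero_add]
    refine Finset.sum_le_sum fun β hβ => ?_
    exact hF α β (Finset.ne_of_mem_erase hβ).symm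
  have hS3 : ∑ g : G, (f g - 1) * (f g - n) = n * (D.card : ℤ) +
      ∑ g ∈ univ.filter (fun g : G => ¬ ∀ ω : Ω, g • ω ≠ ω), (f g - 1) * (f g - n) := by
    rw [← Finset.sum_filter_add_sum_filter_not univ (fun g : G => ∀ ω : Ω, g • ω ≠ ω)]
    congr 1
    rw [← hD]
    have : ∀ g ∈ D, (f g - 1) * (f g - n) = n := by
      intro g hg
      rw [hD, Finset.mem_filter] at hg
      rw [hG1 g hg.2]; ring
    rw [Finset.sum_congr rfl this]
    simp [mul_comm]
  have hR : ∀ g ∈ univ.filter (fun g : G => ¬ ∀ ω : Ω, g • ω ≠ ω),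
      (f g - 1) * (f g - n) ≤ 0 := by
    intro g hg
    rw [Finset.mem_filter] at hg
    obtain ⟨h1, h2⟩ := hG2 g hg.2
    exact mul_nonpos_of_nonneg_of_nonpos (by linarith) (by linarith)
  have hR0 : ∑ g ∈ univ.filter (fun g : G => ¬ ∀ ω : Ω, g • ω ≠ ω), (f g - 1) * (f g - n) = 0 := by
    have := Finset.sum_nonpos hR
    linarith
  have hR1 := (Finset.sum_eq_zero_iff_of_nonpos hR).mp hR0
  intro g α β hab hα hβ
  have hg : ¬ ∀ ω : Ω, g • ω ≠ ω := fun h => h α hα
  have h0 := hR1 g (by simp only [Finset.mem_filter, Finset.mem_univ, true_and]; exact hg)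
  have h2 : (2 : ℤ) ≤ f g := by
    have : 1 < (univ.filter (fun ω : Ω => g • ω = ω)).card :=
      Finset.one_lt_card.mpr ⟨α, by simp [hα], β, by simp [hβ], hab⟩
    simp only [hf]
    exact_mod_cast this
  rcases mul_eq_zero.mp h0 with h | h
  · linarith
  · have h3 : (univ.filter (fun ω : Ω => g • ω = ω)).card = Fintype.card Ω := by
      have : f g = n := by linarith
      simp only [hf, hn] at this
      exact_mod_cast this
    have h4 := (Finset.card_eq_iff_eq_univ _).mp h3
    apply FaithfulSMul.eq_of_smul_eq_smul (α := Ω)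
    intro ω
    have : ω ∈ univ.filter (fun ω : Ω => g • ω = ω) := by rw [h4]; exact Finset.mem_univ ω
    rw [one_smul]
    exact (Finset.mem_filter.mp this).2

theorem aux [Finite G] [FaithfulSMul G Ω] [Finite Ω]
    (htrans : MulAction.IsPretransitive G Ω) (hinv : ∀ g : G, (∀ ω : Ω, g • ω ≠ ω) → orderOf g = 2) :
    (IsMulCommutative G ∧ ∀ g : G, g ^ 2 = 1) ∨
    (∃ H : Subgroup G, Cfsg.IsFrobeniusComplement H ∧
      (∀ x ∈ Cfsg.frobeniusKernel H, x ^ 2 = 1) ∧
      ∀ x ∈ Cfsg.frobeniusKernel H, ∀ y ∈ Cfsg.frobeniusKernel H, x * y = y * x) := by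
  classical
  have hne : Nonempty Ω := by
    by_contra h
    rw [not_nonempty_iff] at h
    have := hinv 1 (fun ω => isEmptyElim ω)
    rw [orderOf_one] at this
    omega
  have hinv2 : ∀ g : G, (∀ ω : Ω, g • ω ≠ ω) → g * g = 1 := by
    intro g hg
    have := pow_orderOf_eq_one g
    rw [hinv g hg, pow_two] at this
    exact this
  have hcore := core htrans hinv2
  have hii : ∀ s t : G, (∀ ω : Ω, s • ω ≠ ω) → (∀ ω : Ω, t • ω ≠ ω) → ∀ α : Ω,
      s • α = t • α → s = t := by
    intro s t hs ht α hst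
    have hsβ : s • (s • α) = α := by rw [smul_smul, hinv2 s hs, one_smul]
    have htβ : t • (t • α) = α := by rw [smul_smul, hinv2 t ht, one_smul]
    have h1 : (t * s) • α = α := by rw [mul_smul, hst, htβ]
    have h2 : (t * s) • (s • α) = s • α := by rw [mul_smul, hsβ, hst]
    have h3 := hcore (t * s) α (s • α) (fun h => hs α h.symm) h1 h2
    have h4 : t * s = t * t := by rw [h3, hinv2 t ht]
    exact mul_left_cancel h4
  obtain ⟨ω₀⟩ := hne
  set H : Subgroup G := stabilizer G ω₀ with hH
  have hconj : ∀ (x g : G), x ∈ MulAut.conj g • H ↔ x • (g • ω₀) = g • ω₀ := by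
    intro x g
    rw [Subgroup.mem_pointwise_smul_iff_inv_smul_mem, MulAut.smul_def, MulAut.conj_inv_apply,
      hH, mem_stabilizer_iff, mul_smul, mul_smul, inv_smul_eq_iff]
  have hder : ∀ x : G, (∀ g : G, x ∉ MulAut.conj g • H) → ∀ ω : Ω, x • ω ≠ ω := by
    intro x hx ω hω
    obtain ⟨g, rfl⟩ := exists_smul_eq G ω₀ ω
    exact hx g ((hconj x g).mpr hω)
  by_cases hbot : H = ⊥
  · left
    have hsq : ∀ g : G, g * g = 1 := by
      intro g
      by_cases hg : g = 1
      · rw [hg, one_mul]
      · apply hinv2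
        apply hder
        intro k hk
        rw [hbot, Subgroup.smul_bot, Subgroup.mem_bot] at hk
        exact hg hk
    refine ⟨⟨⟨fun a b => comm_of_sq (hsq a) (hsq b) (hsq _)⟩⟩, fun g => by rw [pow_two]; exact hsq g⟩
  by_cases htop : H = ⊤
  · left
    have h1 : ∀ g : G, g = 1 := by
      intro g
      apply FaithfulSMul.eq_of_smul_eq_smul (α := Ω)
      intro ω
      obtain ⟨k, rfl⟩ := exists_smul_eq G ω₀ ω
      have hk : k • ω₀ = ω₀ := by
        have : k ∈ H := by rw [htop]; exact Subgroup.mem_top k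
        exact this
      have hg : g • ω₀ = ω₀ := by
        have : g ∈ H := by rw [htop]; exact Subgroup.mem_top g
        exact this
      rw [one_smul, hk, hg]
    refine ⟨⟨⟨fun a b => by rw [h1 a, h1 b]⟩⟩, fun g => by rw [h1 g, one_pow]⟩
  right
  refine ⟨H, ⟨hbot, htop, ?_⟩, ?_, ?_⟩
  · intro g hg
    rw [eq_bot_iff]
    intro x hx
    rw [Subgroup.mem_inf] at hx
    rw [Subgroup.mem_bot]
    have h1 : x • ω₀ = ω₀ := hx.1
    have h2 := (hconj x g).mp hx.2
    exact hcore x ω₀ (g • ω₀) (fun h => hg h.symm) h1 h2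
  · intro x hx
    rcases hx with rfl | hx
    · exact one_pow 2
    · rw [pow_two]; exact hinv2 x (hder x hx)
  · intro x hx y hy
    rcases hx with rfl | hx
    · rw [one_mul, mul_one]
    rcases hy with rfl | hy
    · rw [one_mul, mul_one]
    by_cases hxy : x = y
    · rw [hxy]
    have hx' := hder x hx
    have hy' := hder y hy
    apply comm_of_sq (hinv2 x hx') (hinv2 y hy')
    apply hinv2
    intro α hα
    apply hxy
    apply hii x y hx' hy' (y • α)
    rw [← mul_smul, hα, smul_smul, hinv2 y hy', one_smul]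
    -- need x • y • α = y • y • α ; i.e. α = α
end


/-- Let G act faithfully and transitively on a finite set and suppose every element of G fixing no point is an involution. Then either G is an elementary abelian 2-group, or G is a Frobenius group whose Frobenius kernel is an elementary abelian 2-group: G has a Frobenius complement H, and the elements lying in no conjugate of H, together with the identity, pairwise commute and square to the identity. -/
theorem result {G Ω : Type*} [Group G] [Finite G] [MulAction G Ω] [FaithfulSMul G Ω] [Finite Ω]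
    (htrans : MulAction.IsPretransitive G Ω) (hinv : ∀ g : G, (∀ ω : Ω, g • ω ≠ ω) → orderOf g = 2) :
    (IsMulCommutative G ∧ ∀ g : G, g ^ 2 = 1) ∨
    (∃ H : Subgroup G, Cfsg.IsFrobeniusComplement H ∧
      (∀ x ∈ Cfsg.frobeniusKernel H, x ^ 2 = 1) ∧
      ∀ x ∈ Cfsg.frobeniusKernel H, ∀ y ∈ Cfsg.frobeniusKernel H, x * y = y * x) := by
  exact aux htrans hinv

end Cfsg.Agent.S3555
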