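import Cfsg.Statements.S3680
import Mathlib
import Cfsg.Agent.S0721

set_option autoImplicit false
open Cfsg

namespace Cfsg.Agent.S3680

section
open MulAction

universe u v

variable {G : Type u} {Ω : Type v} [Group G] [MulAction G Ω]

/-- a nontrivial normal subgroup of a faithful primitive group is transitive -/
theorem trans_of_normal [FaithfulSMul G Ω] (hprim : MulAction.IsPreprimitive G Ω)
    (V : Subgroup G) (hV : V.Normal) (hne : V ≠ ⊥) :
    ∀ a b : Ω, ∃ v ∈ V, v • a = b := by
  have hfix : fixedPoints V Ω ≠ Set.univ := by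
    intro h
    apply hne
    rw [eq_bot_iff]
    intro v hv
    rw [Subgroup.mem_bot]
    apply FaithfulSMul.eq_of_smul_eq_smul (α := Ω)
    intro ω
    have h1 : ω ∈ fixedPoints V Ω := by rw [h]; exact Set.mem_univ ω
    rw [one_smul]
    exact h1 ⟨v, hv⟩
  have htr : IsPretransitive V Ω := IsQuasiPreprimitive.isPretransitive_of_normal hfix
  intro a b
  obtain ⟨v, hv⟩ := htr.exists_smul_eq a b
  exact ⟨v.1, v.2, hv⟩

/-- an element centralizing a transitive subgroup and fixing a point is trivial -/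
theorem semireg [FaithfulSMul G Ω] (V : Subgroup G) (htr : ∀ a b : Ω, ∃ v ∈ V, v • a = b)
    (c : G) (hc : ∀ v ∈ V, c * v = v * c) (ω : Ω) (hω : c • ω = ω) : c = 1 := by
  apply FaithfulSMul.eq_of_smul_eq_smul (α := Ω)
  intro ω'
  obtain ⟨v, hv, rfl⟩ := htr ω ω'
  rw [one_smul, ← mul_smul, hc v hv, mul_smul, hω]

/-- the centralizer of a transitive subgroup `V` lies in any transitive subgroup centralizing `V` -/
theorem cent_le [FaithfulSMul G Ω] (V W : Subgroup G) (htrV : ∀ a b : Ω, ∃ v ∈ V, v • a = b)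
    (htrW : ∀ a b : Ω, ∃ v ∈ W, v • a = b) (hVW : ∀ v ∈ V, ∀ w ∈ W, w * v = v * w) (ω₀ : Ω)
    (c : G) (hc : ∀ v ∈ V, c * v = v * c) : c ∈ W := by
  obtain ⟨w, hw, hwω⟩ := htrW ω₀ (c • ω₀)
  have h1 : w⁻¹ * c = 1 := by
    apply semireg V htrV (w⁻¹ * c) _ ω₀
    · rw [mul_smul, ← hwω, inv_smul_smul]
    · intro v hv
      have h2 : w⁻¹ * v = v * w⁻¹ := by
        have := hVW v hv w hw
        calc w⁻¹ * v = w⁻¹ * (v * w) * w⁻¹ := by group
          _ = w⁻¹ * (w * v) * w⁻¹ := by rw [this]
          _ = v * w⁻¹ := by group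
      rw [mul_assoc, hc v hv, ← mul_assoc, h2, mul_assoc]
  have : c = w := by
    calc c = w * (w⁻¹ * c) := by group
      _ = w := by rw [h1, mul_one]
  rw [this]; exact hw

def MinN (V : Subgroup G) : Prop :=
  V.Normal ∧ V ≠ ⊥ ∧ ∀ M : Subgroup G, M.Normal → M ≤ V → M = ⊥ ∨ M = V

theorem minN_disjoint {V W : Subgroup G} (hV : MinN V) (hW : MinN W) (hne : W ≠ V) :
    Disjoint V W := by
  rw [disjoint_iff]
  haveI := hV.1
  haveI := hW.1
  rcases hV.2.2 (V ⊓ W) inferInstance inf_le_left with h | h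
  · exact h
  · exfalso
    have hle : V ≤ W := by rw [← h]; exact inf_le_right
    rcases hW.2.2 V hV.1 hle with h' | h'
    · exact hV.2.1 h'
    · exact hne h'.symm

theorem minN_comm {V W : Subgroup G} (hV : MinN V) (hW : MinN W) (hne : W ≠ V) :
    ∀ v ∈ V, ∀ w ∈ W, w * v = v * w := by
  intro v hv w hw
  exact (Subgroup.commute_of_normal_of_disjoint V W hV.1 hW.1 (minN_disjoint hV hW hne) v w hv hw).symm

def pairEquiv (m : ℕ) (T : Type) [Group T] :
    (Fin m → T) × (Fin m → T) ≃* (Fin (m + m) → T) where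
  toFun p := Fin.append p.1 p.2
  invFun f := (fun i => f (Fin.castAdd m i), fun i => f (Fin.natAdd m i))
  left_inv p :=
    Prod.ext (funext fun i => Fin.append_left _ _ i) (funext fun i => Fin.append_right _ _ i)
  right_inv f := by
    funext i
    induction i using Fin.addCases with
    | left j => exact Fin.append_left _ _ j
    | right j => exact Fin.append_right _ _ j
  map_mul' p q := by
    funext i
    induction i using Fin.addCases with
    | left j =>
      show Fin.append (p * q).1 (p * q).2 (Fin.castAdd m j) =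
        (Fin.append p.1 p.2 (Fin.castAdd m j)) * (Fin.append q.1 q.2 (Fin.castAdd m j))
      rw [Fin.append_left, Fin.append_left, Fin.append_left]; rfl
    | right j =>
      show Fin.append (p * q).1 (p * q).2 (Fin.natAdd m j) =
        (Fin.append p.1 p.2 (Fin.natAdd m j)) * (Fin.append q.1 q.2 (Fin.natAdd m j))
      rw [Fin.append_right, Fin.append_right, Fin.append_right]; rfl

theorem regular_iso [FaithfulSMul G Ω] (V₁ V₂ : Subgroup G)
    (htr1 : ∀ a b : Ω, ∃ v ∈ V₁, v • a = b) (htr2 : ∀ a b : Ω, ∃ v ∈ V₂, v • a = b)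
    (hcomm : ∀ v ∈ V₁, ∀ w ∈ V₂, w * v = v * w) (ω₀ : Ω) : Nonempty (V₂ ≃* V₁) := by
  have huniq1 : ∀ v ∈ V₁, ∀ v' ∈ V₁, v • ω₀ = v' • ω₀ → v = v' := by
    intro v hv v' hv' h
    have h1 : v'⁻¹ * v = 1 := by
      apply semireg V₂ htr2 (v'⁻¹ * v) _ ω₀
      · rw [mul_smul, h, inv_smul_smul]
      · intro w hw
        exact (hcomm _ (V₁.mul_mem (V₁.inv_mem hv') hv) w hw).symm
    calc v = v' * (v'⁻¹ * v) := by group
      _ = v' := by rw [h1, mul_one]
  have huniq2 : ∀ w ∈ V₂, ∀ w' ∈ V₂, w • ω₀ = w' • ω₀ → w = w' := by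
    intro w hw w' hw' h
    have h1 : w'⁻¹ * w = 1 := by
      apply semireg V₁ htr1 (w'⁻¹ * w) _ ω₀
      · rw [mul_smul, h, inv_smul_smul]
      · intro v hv
        exact hcomm v hv _ (V₂.mul_mem (V₂.inv_mem hw') hw)
    calc w = w' * (w'⁻¹ * w) := by group
      _ = w' := by rw [h1, mul_one]
  have hex : ∀ c : V₂, ∃ v : V₁, (v : G) • ω₀ = (c : G) • ω₀ := by
    intro c
    obtain ⟨v, hv, h⟩ := htr1 ω₀ ((c : G) • ω₀)
    exact ⟨⟨v, hv⟩, h⟩
  choose φ hφ using hex
  have hmul : ∀ c c' : V₂, φ (c * c') = φ c' * φ c := by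
    intro c c'
    apply Subtype.ext
    apply huniq1 _ (φ (c * c')).2 _ (φ c' * φ c).2
    rw [hφ]
    show ((c : G) * (c' : G)) • ω₀ = ((φ c' : G) * (φ c : G)) • ω₀
    rw [mul_smul, mul_smul, hφ c, ← hφ c', ← mul_smul, ← mul_smul, hcomm _ (φ c').2 _ c.2]
  let ψ : V₂ →* V₁ := MonoidHom.mk' (fun c => (φ c)⁻¹) (by
    intro c c'
    rw [hmul, mul_inv_rev])
  have hinj : Function.Injective ψ := by
    intro c c' h
    have h1 : φ c = φ c' := inv_injective h
    apply Subtype.ext
    apply huniq2 _ c.2 _ c'.2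
    rw [← hφ c, ← hφ c', h1]
  have hsurj : Function.Surjective ψ := by
    intro v
    obtain ⟨c, hc, h⟩ := htr2 ω₀ (((v⁻¹ : V₁) : G) • ω₀)
    refine ⟨⟨c, hc⟩, ?_⟩
    have h1 : φ ⟨c, hc⟩ = v⁻¹ := by
      apply Subtype.ext
      apply huniq1 _ (φ ⟨c, hc⟩).2 _ (v⁻¹).2
      rw [hφ]
      exact h
    show (φ ⟨c, hc⟩)⁻¹ = v
    rw [h1, inv_inv]
  exact ⟨MulEquiv.ofBijective ψ ⟨hinj, hsurj⟩⟩

theorem aux [Finite G] [FaithfulSMul G Ω] [Finite Ω]
    (hprim : MulAction.IsPreprimitive G Ω) (N : Subgroup G)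
    (hN : N = sSup {V : Subgroup G | V.Normal ∧ V ≠ ⊥ ∧ ∀ M : Subgroup G, M.Normal → M ≤ V → M = ⊥ ∨ M = V}) :
    (∃ p : ℕ, p.Prime ∧ IsMulCommutative N ∧ (∀ x : N, x ^ p = 1) ∧
      MulAction.IsPretransitive N Ω ∧ ∀ ω : Ω, MulAction.stabilizer N ω = ⊥) ∨
    (∃ (T : Type) (_ : Group T) (m : ℕ), 1 ≤ m ∧ IsSimpleGroup T ∧ ¬ IsMulCommutative T ∧ Nonempty (N ≃* (Fin m → T))) := by
  classical
  have hN' : N = sSup {V : Subgroup G | MinN V} := hN
  clear hN
  by_cases htriv : Subsingleton G
  · -- trivial group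
    left
    have hNbot : ∀ x : N, x = 1 := fun x => Subsingleton.elim _ _
    refine ⟨2, Nat.prime_two, ⟨⟨fun a b => by rw [hNbot a, hNbot b]⟩⟩,
      fun x => by rw [hNbot x, one_pow], ⟨fun a b => ?_⟩, fun ω => ?_⟩
    · obtain ⟨g, hg⟩ := hprim.toIsPretransitive.exists_smul_eq a b
      refine ⟨1, ?_⟩
      rw [one_smul]
      rw [← hg, Subsingleton.elim g 1, one_smul]
    · rw [eq_bot_iff]
      intro x _
      rw [Subgroup.mem_bot]
      exact hNbot x
  rw [not_subsingleton_iff_nontrivial] at htriv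
  obtain ⟨V₀, hV₀n, hV₀ne, hV₀min⟩ := Cfsg.Agent.S5914.exists_min_normal (G := G)
  have hV₀ : MinN V₀ := ⟨hV₀n, hV₀ne, fun M hM hle => by
    by_cases h : M = ⊥
    · exact Or.inl h
    · exact Or.inr (hV₀min M hM hle h)⟩
  -- a point
  have hne : Nonempty Ω := by
    by_contra h
    rw [not_nonempty_iff] at h
    obtain ⟨g, hg⟩ := exists_ne (1 : G)
    exact hg (FaithfulSMul.eq_of_smul_eq_smul (α := Ω) (fun ω => isEmptyElim ω))
  obtain ⟨ω₀⟩ := hne
  have htrans : ∀ V : Subgroup G, MinN V → ∀ a b : Ω, ∃ v ∈ V, v • a = b :=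
    fun V hV => trans_of_normal hprim V hV.1 hV.2.1
  by_cases hab : ∃ V : Subgroup G, MinN V ∧ ∀ a ∈ V, ∀ b ∈ V, a * b = b * a
  · -- abelian case
    left
    obtain ⟨V, hV, hcomm⟩ := hab
    have htr := htrans V hV
    have huniq : ∀ W : Subgroup G, MinN W → W = V := by
      intro W hW
      by_contra hne
      have hc := minN_comm hV hW hne
      have hle : W ≤ V := by
        intro w hw
        exact cent_le V V htr htr (fun v hv w hw => hcomm w hw v hv) ω₀ w (fun v hv => hc v hv w hw)
      rcases hV.2.2 W hW.1 hle with h | h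
      · exact hW.2.1 h
      · exact hne h
    have hNV : N = V := by
      rw [hN']
      apply le_antisymm
      · apply sSup_le
        intro W hW
        exact (huniq W hW).le
      · exact le_sSup hV
    subst hNV
    -- the prime
    have hnt : Nontrivial N := by
      rw [Subgroup.nontrivial_iff_ne_bot]  -- may need adjusting
      exact hV.2.1
    obtain ⟨p, hp, hpd⟩ := Nat.exists_prime_and_dvd (n := Nat.card N)
      (by
        have := Finite.one_lt_card_iff_nontrivial.mpr hnt
        omega)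
    haveI : Fact p.Prime := ⟨hp⟩
    obtain ⟨x, hx⟩ := exists_prime_orderOf_dvd_card' (G := N) p hpd
    let M : Subgroup G :=
      { carrier := {y | y ∈ N ∧ y ^ p = 1}
        one_mem' := ⟨N.one_mem, one_pow p⟩
        mul_mem' := by
          rintro a b ⟨ha, ha'⟩ ⟨hb, hb'⟩
          refine ⟨N.mul_mem ha hb, ?_⟩
          have hc : Commute a b := hcomm a ha b hb
          rw [hc.mul_pow, ha', hb', one_mul]
        inv_mem' := by
          rintro a ⟨ha, ha'⟩
          exact ⟨N.inv_mem ha, by rw [inv_pow, ha', inv_one]⟩ }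
    have hMn : M.Normal := by
      refine ⟨fun a ha g => ?_⟩
      obtain ⟨ha1, ha2⟩ := ha
      refine ⟨hV.1.conj_mem a ha1 g, ?_⟩
      rw [conj_pow, ha2, mul_one, mul_inv_cancel]
    have hMle : M ≤ N := fun y hy => hy.1
    have hMne : M ≠ ⊥ := by
      intro h
      have hxM : (x : G) ∈ M := by
        refine ⟨x.2, ?_⟩
        have := pow_orderOf_eq_one x
        rw [hx] at this
        have h2 := congrArg Subtype.val this
        simpa using h2
      rw [h, Subgroup.mem_bot] at hxM
      have hx1 : x = 1 := Subtype.ext hxM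
      rw [hx1, orderOf_one] at hx
      exact hp.one_lt.ne hx
    have hMN : M = N := (hV.2.2 M hMn hMle).resolve_left hMne
    refine ⟨p, hp, ⟨⟨fun a b => Subtype.ext (hcomm a.1 a.2 b.1 b.2)⟩⟩, ?_, ?_, ?_⟩
    · intro y
      have hy : (y : G) ∈ M := by rw [hMN]; exact y.2
      apply Subtype.ext
      simpa using hy.2
    · refine ⟨fun a b => ?_⟩
      obtain ⟨v, hv, h⟩ := htr a b
      exact ⟨⟨v, hv⟩, h⟩
    · intro ω
      rw [eq_bot_iff]
      intro y hy
      rw [Subgroup.mem_bot]
      apply Subtype.ext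
      exact semireg N htr (y : G) (fun v hv => hcomm _ y.2 v hv) ω hy
  · -- nonabelian case
    right
    push Not at hab
    have hV₀na := hab V₀ hV₀
    obtain ⟨T, instT, m, hTs, hm, ⟨e⟩⟩ := Cfsg.Agent.S0721.result V₀ hV₀.2.1 hV₀.2.2
    have hTnc : ¬ IsMulCommutative T := by
      intro hc
      obtain ⟨a, ha, b, hb, hne⟩ := hV₀na
      apply hne
      have h1 : e ⟨a, ha⟩ * e ⟨b, hb⟩ = e ⟨b, hb⟩ * e ⟨a, ha⟩ := by
        funext i
        exact hc.is_comm.comm _ _
      rw [← map_mul, ← map_mul] at h1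
      have h2 := e.injective h1
      exact congrArg Subtype.val h2
    by_cases hother : ∃ W : Subgroup G, MinN W ∧ W ≠ V₀
    · obtain ⟨W, hW, hWne⟩ := hother
      have htr0 := htrans V₀ hV₀
      have htrW := htrans W hW
      have hcomm := minN_comm hV₀ hW hWne
      have hall : ∀ U : Subgroup G, MinN U → U = V₀ ∨ U = W := by
        intro U hU
        by_cases hUV : U = V₀
        · exact Or.inl hUV
        · right
          have hc := minN_comm hV₀ hU hUV
          have hle : U ≤ W := by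
            intro u hu
            exact cent_le V₀ W htr0 htrW hcomm ω₀ u (fun v hv => hc v hv u hu)
          rcases hW.2.2 U hU.1 hle with h | h
          · exact absurd h hU.2.1
          · exact h
      have hNeq : N = V₀ ⊔ W := by
        rw [hN']
        apply le_antisymm
        · apply sSup_le
          intro U hU
          rcases hall U hU with h | h
          · rw [h]; exact le_sup_left
          · rw [h]; exact le_sup_right
        · exact sup_le (le_sSup hV₀) (le_sSup hW)
      obtain ⟨ψ⟩ := regular_iso V₀ W htr0 htrW hcomm ω₀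
      -- N ≃* V₀ × W
      have hcomm' : ∀ (v : V₀) (w : W), Commute (V₀.subtype v) (W.subtype w) :=
        fun v w => (hcomm v.1 v.2 w.1 w.2).symm
      have hfinj : Function.Injective (MonoidHom.noncommCoprod V₀.subtype W.subtype hcomm') := by
        rw [MonoidHom.noncommCoprod_injective]
        refine ⟨Subtype.coe_injective, Subtype.coe_injective, ?_⟩
        rw [Subgroup.range_subtype, Subgroup.range_subtype]
        exact minN_disjoint hV₀ hW hWne
      have hfrange : (MonoidHom.noncommCoprod V₀.subtype W.subtype hcomm').range = N := by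
        rw [hNeq, MonoidHom.noncommCoprod_range, Subgroup.range_subtype, Subgroup.range_subtype]
      let e1 : N ≃* V₀ × W :=
        (MulEquiv.subgroupCongr hfrange.symm).trans (MonoidHom.ofInjective hfinj).symm
      let e2 : V₀ × W ≃* (Fin m → T) × (Fin m → T) := MulEquiv.prodCongr e (ψ.trans e)
      exact ⟨T, instT, m + m, by omega, hTs, hTnc, ⟨(e1.trans e2).trans (pairEquiv m T)⟩⟩
    · push Not at hother
      have hNeq : N = V₀ := by
        rw [hN']
        apply le_antisymm
        · apply sSup_le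
          intro U hU
          exact (hother U hU).le
        · exact le_sSup hV₀
      exact ⟨T, instT, m, hm, hTs, hTnc, ⟨(MulEquiv.subgroupCongr hNeq).trans e⟩⟩
end


/-- The socle of a finite primitive permutation group. Let a finite group G act faithfully and primitively on a set Ω, and let N be the subgroup generated by the minimal normal subgroups of G. Then either N is an elementary abelian p-group for some prime p and acts regularly on Ω (transitively with trivial point stabilizers), or N is isomorphic to a direct product of m ≥ 1 copies of a non-abelian simple group. -/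
theorem result {G Ω : Type*} [Group G] [Finite G] [MulAction G Ω] [FaithfulSMul G Ω] [Finite Ω]
    (hprim : MulAction.IsPreprimitive G Ω) (N : Subgroup G)
    (hN : N = sSup {V : Subgroup G | V.Normal ∧ V ≠ ⊥ ∧ ∀ M : Subgroup G, M.Normal → M ≤ V → M = ⊥ ∨ M = V}) :
    (∃ p : ℕ, p.Prime ∧ IsMulCommutative N ∧ (∀ x : N, x ^ p = 1) ∧
      MulAction.IsPretransitive N Ω ∧ ∀ ω : Ω, MulAction.stabilizer N ω = ⊥) ∨
    (∃ (T : Type) (_ : Group T) (m : ℕ), 1 ≤ m ∧ IsSimpleGroup T ∧ ¬ IsMulCommutative T ∧ Nonempty (N ≃* (Fin m → T))) := by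
  exact aux hprim N hN

end Cfsg.Agent.S3680
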