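import Cfsg.Statements.S3736
import Mathlib
import Cfsg.Agent.Lib.helper1.PGroup
import Cfsg.Agent.Lib.helper8.CoprimeAction
import Cfsg.Agent.S0096

set_option autoImplicit false
open Cfsg

open scoped commutatorElement

namespace Cfsg.Agent.S3736

universe u

open Cfsg.Agent.Lib.helper8 in
/-- conjugation by an element of the normalizer, as an automorphism of `P`. -/
def conjAut {X : Type u} [Group X] (P : Subgroup X) (b : X)
    (hb : b ∈ Subgroup.normalizer (P : Set X)) : ↥P ≃* ↥P where
  toFun := fun x => ⟨b * x * b⁻¹, conj_mem_of_mem_normalizer hb x.2⟩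
  invFun := fun x => ⟨b⁻¹ * x * b, conj_mem_of_mem_normalizer' hb x.2⟩
  left_inv := fun x => Subtype.ext (by simp [mul_assoc])
  right_inv := fun x => Subtype.ext (by simp [mul_assoc])
  map_mul' := fun x y => Subtype.ext (by simp [mul_assoc])

theorem conjAut_coe {X : Type u} [Group X] (P : Subgroup X) (b : X)
    (hb : b ∈ Subgroup.normalizer (P : Set X)) (x : P) :
    ((conjAut P b hb x : P) : X) = b * x * b⁻¹ := rfl

theorem char_inv {X : Type u} [Group X] (P : Subgroup X) (K : Subgroup P) (hK : K.Characteristic) :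
    Subgroup.normalizer (P : Set X) ≤ Subgroup.normalizer ((K.map P.subtype : Subgroup X) : Set X) := by
  apply Cfsg.Agent.Lib.helper8.le_normalizer_of_conj_mem
  rintro b hb _ ⟨x, hx, rfl⟩
  have h1 := Subgroup.characteristic_iff_map_eq.mp hK (conjAut P b hb)
  have h2 : conjAut P b hb x ∈ K := by
    rw [← h1]; exact Subgroup.mem_map_of_mem _ hx
  exact ⟨_, h2, rfl⟩

theorem fixed_le_commutator {X : Type u} [Group X] [Finite X] (P A : Subgroup X) {p : ℕ}
    [Fact p.Prime] (hP : IsPGroup p P) (hAP : A ≤ Subgroup.normalizer (P : Set X))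
    (hAp : (Nat.card A).Coprime p) (hPA : ⁅P, A⁆ = P) :
    P ⊓ Subgroup.centralizer (A : Set X) ≤ ⁅P, P⁆ := by
  classical
  have : Fintype A := Fintype.ofFinite A
  let ν : ↥P →* Abelianization ↥P :=
    ∏ a : A, (Abelianization.of).comp (conjAut P a.1 (hAP a.2)).toMonoidHom
  have hν : ∀ x : P, ν x = ∏ a : A, Abelianization.of (conjAut P a.1 (hAP a.2) x) := by
    intro x
    simp [ν, MonoidHom.finsetProd_apply]
  have hinv : ∀ (a₀ : A) (x : P), ν (conjAut P a₀.1 (hAP a₀.2) x) = ν x := by
    intro a₀ x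
    rw [hν, hν]
    rw [← (Group.mulRight_bijective a₀).prod_comp
      (fun a => Abelianization.of (conjAut P a.1 (hAP a.2) x))]
    apply Finset.prod_congr rfl
    intro a _
    congr 1
    apply Subtype.ext
    simp [conjAut_coe, mul_assoc]
  have hker : ∀ x : P, ν x = 1 := by
    have hle : ⁅P, A⁆ ≤ (ν.ker).map P.subtype := by
      rw [Subgroup.commutator_le]
      intro x hx a ha
      refine Subgroup.mem_map.mpr ⟨⟨x, hx⟩ * conjAut P a (hAP ha) ⟨x, hx⟩⁻¹, ?_, ?_⟩
      · show ν (⟨x, hx⟩ * conjAut P a (hAP ha) ⟨x, hx⟩⁻¹) = 1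
        rw [map_mul, hinv ⟨a, ha⟩, map_inv, mul_inv_cancel]
      · simp [conjAut_coe, commutatorElement_def, mul_assoc]
    intro x
    have h1 : (x : X) ∈ (ν.ker).map P.subtype := hle (by rw [hPA]; exact x.2)
    obtain ⟨y, hy, hyx⟩ := h1
    have h2 : y = x := Subtype.ext hyx
    rw [← h2]; exact hy
  intro c hc
  have hcP : c ∈ P := hc.1
  have hfix : ∀ a : A, conjAut P a.1 (hAP a.2) ⟨c, hcP⟩ = ⟨c, hcP⟩ := by
    intro a
    apply Subtype.ext
    have h1 := (Subgroup.mem_centralizer_iff.mp hc.2) a.1 a.2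
    show a.1 * c * a.1⁻¹ = c
    rw [h1, mul_inv_cancel_right]
  have h1 : Abelianization.of (⟨c, hcP⟩ : P) ^ Nat.card A = 1 := by
    have h0 := hker ⟨c, hcP⟩
    rw [hν] at h0
    simp only [hfix] at h0
    rw [Finset.prod_const, Finset.card_univ, ← Nat.card_eq_fintype_card] at h0
    exact h0
  obtain ⟨j, hj⟩ := hP ⟨c, hcP⟩
  have h2 : Abelianization.of (⟨c, hcP⟩ : P) ^ p ^ j = 1 := by rw [← map_pow, hj, map_one]
  have h3 : Abelianization.of (⟨c, hcP⟩ : P) = 1 := by
    have hd1 := orderOf_dvd_of_pow_eq_one h1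
    have hd2 := orderOf_dvd_of_pow_eq_one h2
    have h4 := Nat.eq_one_of_dvd_coprimes (Nat.Coprime.pow_right j hAp) hd1 hd2
    exact orderOf_eq_one_iff.mp h4
  have h4 : (⟨c, hcP⟩ : P) ∈ commutator P := by
    rw [← Abelianization.ker_of]; exact h3
  rw [← Subgroup.map_subtype_commutator]
  exact ⟨_, h4, rfl⟩

/-- The Hall–Higman reduction for a minimal non-trivial action. Let B, A and P be subgroups of a finite group with P a p-group, B normalizing P, and A a normal subgroup of B of order prime to p. Suppose A does not centralize P but centralizes every proper B-invariant subgroup of P. Then [P, A] = P; P is elementary abelian or special; B acts irreducibly on P/Φ(P), that is, the only B-invariant subgroups of P containing Φ(P) are Φ(P) and P; and if p is odd then every element of P has order dividing p. -/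
theorem result {X : Type*} [Group X] [Finite X] {p : ℕ} [Fact p.Prime] (B A P : Subgroup X) (hP : IsPGroup p P) (hBP : B ≤ Subgroup.normalizer (P : Set X)) (hAB : A ≤ B) (hAn : B ≤ Subgroup.normalizer (A : Set X)) (hAp : (Nat.card A).Coprime p) (hnt : ⁅P, A⁆ ≠ ⊥) (hmin : ∀ U : Subgroup X, U < P → B ≤ Subgroup.normalizer (U : Set X) → ⁅U, A⁆ = ⊥) : ⁅P, A⁆ = P ∧ (Cfsg.IsElementaryAbelian p P ∨ Cfsg.IsSpecial p ↥P) ∧ (∀ U : Subgroup X, (frattini ↥P).map P.subtype ≤ U → U ≤ P → B ≤ Subgroup.normalizer (U : Set X) → U = (frattini ↥P).map P.subtype ∨ U = P) ∧ (p ≠ 2 → ∀ x ∈ P, x ^ p = 1) := by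
  have hp : p.Prime := Fact.out
  have hAP : A ≤ Subgroup.normalizer (P : Set X) := hAB.trans hBP
  have hcop : (Nat.card A).Coprime (Nat.card P) := by
    obtain ⟨e, he⟩ := IsPGroup.iff_card.mp hP
    rw [he]; exact Nat.Coprime.pow_right e hAp
  have hPnil : Group.IsNilpotent P := hP.isNilpotent
  have hPsolv : Group.IsSolvable P := inferInstance
  -- (1)
  have h1 : ⁅P, A⁆ = P := by
    by_contra hne
    have hle : ⁅P, A⁆ ≤ P := Cfsg.Agent.Lib.helper8.commutator_le_of_le_normalizer hAP
    have hlt : ⁅P, A⁆ < P := lt_of_le_of_ne hle hne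
    have h2 := hmin _ hlt (Cfsg.Agent.Lib.helper8.le_normalizer_commutator hBP hAn)
    rw [Cfsg.Agent.Lib.helper8.commutator_commutator_eq A P hAP hcop (Or.inr hPsolv)] at h2
    exact hnt h2
  have hfix := fixed_le_commutator P A hP hAP hAp h1
  have hprop : ∀ U : Subgroup X, U < P → B ≤ Subgroup.normalizer (U : Set X) → U ≤ ⁅P, P⁆ := by
    intro U hU hBU
    have h2 := hmin U hU hBU
    rw [Subgroup.commutator_eq_bot_iff_le_centralizer] at h2
    exact (le_inf hU.le h2).trans hfix
  have hmaplt : ∀ K : Subgroup P, K ≠ ⊤ → K.map P.subtype < P := by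
    intro K hKt
    refine lt_of_le_of_ne (Subgroup.map_subtype_le K) (fun h => hKt ?_)
    apply Subgroup.map_injective P.subtype_injective
    rw [h, ← MonoidHom.range_eq_map, Subgroup.range_subtype]
  have hchar : ∀ K : Subgroup P, K.Characteristic → K ≠ ⊤ → K ≤ commutator P := by
    intro K hK hKt
    have h2 := hprop _ (hmaplt K hKt) (hBP.trans (char_inv P K hK))
    rw [← Subgroup.map_subtype_commutator] at h2
    exact (Subgroup.map_le_map_iff_of_injective P.subtype_injective).mp h2
  have hPne : P ≠ ⊥ := by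
    rintro rfl
    exact hnt (Subgroup.commutator_bot_left A)
  have hPnt : Nontrivial P := (Subgroup.nontrivial_iff_ne_bot P).mpr hPne
  have hΦt : frattini P ≠ ⊤ := by
    rcases eq_top_or_exists_le_coatom (⊥ : Subgroup P) with h | ⟨M, hM, -⟩
    · exact absurd h bot_ne_top
    · intro h
      have h2 := frattini_le_coatom hM
      rw [h] at h2
      exact hM.1 (top_le_iff.mp h2)
  have hΦ : frattini P = commutator P :=
    le_antisymm (hchar _ frattini_characteristic hΦt)
      (Cfsg.Agent.Lib.helper1.commutator_le_frattini p hP)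
  have hΦA : (frattini P).map P.subtype ≤ Subgroup.centralizer (A : Set X) := by
    have h2 := hmin _ (hmaplt _ hΦt) (hBP.trans (char_inv P _ frattini_characteristic))
    rwa [Subgroup.commutator_eq_bot_iff_le_centralizer] at h2
  -- (2)
  have h2 : Cfsg.IsElementaryAbelian p P ∨ Cfsg.IsSpecial p ↥P := by
    by_cases hab : commutator P = ⊥
    · left
      refine ⟨⟨⟨fun a b => ?_⟩⟩, fun a ha => ?_⟩
      · have h3 : ⁅a, b⁆ ∈ commutator P :=
          Subgroup.commutator_mem_commutator (Subgroup.mem_top a) (Subgroup.mem_top b)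
        rw [hab, Subgroup.mem_bot, commutatorElement_eq_one_iff_mul_comm] at h3
        exact h3
      · have h3 := Cfsg.Agent.Lib.helper1.pow_mem_frattini p hP ⟨a, ha⟩
        rw [hΦ, hab, Subgroup.mem_bot] at h3
        exact congrArg Subtype.val h3
    · right
      have hZt : Subgroup.center P ≠ ⊤ := by
        intro h
        apply hab
        rw [eq_bot_iff, commutator_def, Subgroup.commutator_le]
        intro a _ b _
        rw [Subgroup.mem_bot, commutatorElement_eq_one_iff_mul_comm]
        have h3 : b ∈ Subgroup.center P := by rw [h]; exact Subgroup.mem_top b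
        exact (Subgroup.mem_center_iff.mp h3 a)
      have hZle : Subgroup.center P ≤ commutator P := hchar _ Subgroup.centerCharacteristic hZt
      have hct : commutator P ≠ ⊤ := (Group.IsSolvable.commutator_lt_top_of_nontrivial P).ne
      have hUA : ⁅⁅P, P⁆, A⁆ = ⊥ := by
        have h3 := hmin _ (hmaplt _ hct) (hBP.trans (char_inv P _ (by
          rw [commutator_def]; infer_instance)))
        rwa [Subgroup.map_subtype_commutator] at h3
      have h3 : ⁅⁅A, P⁆, ⁅P, P⁆⁆ = ⊥ := by
        apply Subgroup.commutator_commutator_eq_bot_of_rotate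
        · rw [eq_bot_iff, ← hUA]
          apply Subgroup.commutator_mono _ le_rfl
          rw [Subgroup.commutator_comm]
          exact Cfsg.Agent.Lib.helper8.commutator_le_of_le_normalizer
            (Cfsg.Agent.Lib.helper8.le_normalizer_commutator Subgroup.le_normalizer
              Subgroup.le_normalizer)
        · rw [hUA, Subgroup.commutator_bot_left]
      rw [Subgroup.commutator_comm A P, h1, Subgroup.commutator_eq_bot_iff_le_centralizer] at h3
      have hcZ : commutator P ≤ Subgroup.center P := by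
        intro c hc
        rw [Subgroup.mem_center_iff]
        intro g
        have hcU : (c : X) ∈ ⁅P, P⁆ := by
          rw [← Subgroup.map_subtype_commutator]; exact ⟨c, hc, rfl⟩
        have h4 := (Subgroup.mem_centralizer_iff.mp (h3 g.2)) (c : X) hcU
        exact Subtype.ext h4.symm
      have hcz : commutator P = Subgroup.center P := le_antisymm hcZ hZle
      exact ⟨hP, hΦ.trans hcz, hcz⟩
  refine ⟨h1, h2, ?_, ?_⟩
  · -- (3)
    intro U hΦU hUP hBU
    by_cases hUeq : U = P
    · right; exact hUeq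
    · left
      have h3 := hprop U (lt_of_le_of_ne hUP hUeq) hBU
      rw [← Subgroup.map_subtype_commutator, ← hΦ] at h3
      exact le_antisymm h3 hΦU
  · -- (4)
    intro hp2 x hx
    rcases h2 with hE | hS
    · exact hE.2 x hx
    · obtain ⟨-, hS1, hS2⟩ := hS
      have hc : ∀ a b : P, ⁅a, b⁆ ∈ Subgroup.center P := by
        intro a b
        rw [← hS2]
        exact Subgroup.commutator_mem_commutator (Subgroup.mem_top a) (Subgroup.mem_top b)
      have hpz : ∀ a : P, a ^ p ∈ Subgroup.center P := by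
        intro a
        rw [← hS1]; exact Cfsg.Agent.Lib.helper1.pow_mem_frattini p hP a
      have hcp : ∀ a b : P, ⁅a, b⁆ ^ p = 1 := by
        intro a b
        rw [← Cfsg.Agent.S0096.comm_pow a b hc p, commutatorElement_eq_one_iff_mul_comm]
        exact (Subgroup.mem_center_iff.mp (hpz a) b).symm
      have h3 : 2 < p := lt_of_le_of_ne hp.two_le (Ne.symm hp2)
      have hhom : ∀ a b : P, (a * b) ^ p = a ^ p * b ^ p := by
        intro a b
        rw [Cfsg.Agent.S0096.mul_pow_class_two a b hc p]
        obtain ⟨m, hm⟩ := Nat.Prime.dvd_choose_self hp (by norm_num : (2 : ℕ) ≠ 0) h3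
        rw [hm, pow_mul, hcp, one_pow, one_mul]
      let π : P →* P :=
        { toFun := fun a => a ^ p
          map_one' := one_pow p
          map_mul' := hhom }
      have hle : ⁅P, A⁆ ≤ (π.ker).map P.subtype := by
        rw [Subgroup.commutator_le]
        intro y hy a ha
        refine Subgroup.mem_map.mpr ⟨⟨y, hy⟩ * conjAut P a (hAP ha) ⟨y, hy⟩⁻¹, ?_, ?_⟩
        · show (⟨y, hy⟩ * conjAut P a (hAP ha) ⟨y, hy⟩⁻¹) ^ p = 1
          rw [hhom, ← map_pow, inv_pow]
          have h4 : conjAut P a (hAP ha) ((⟨y, hy⟩ : P) ^ p)⁻¹ = ((⟨y, hy⟩ : P) ^ p)⁻¹ := by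
            apply Subtype.ext
            rw [conjAut_coe]
            have h5 : ((((⟨y, hy⟩ : P) ^ p)⁻¹ : P) : X) ∈ (frattini P).map P.subtype :=
              ⟨_, Subgroup.inv_mem _ (Cfsg.Agent.Lib.helper1.pow_mem_frattini p hP ⟨y, hy⟩), rfl⟩
            have h6 := (Subgroup.mem_centralizer_iff.mp (hΦA h5)) a ha
            rw [h6, mul_inv_cancel_right]
          rw [h4, mul_inv_cancel]
        · simp [conjAut_coe, commutatorElement_def, mul_assoc]
      have h4 : x ∈ (π.ker).map P.subtype := hle (by rw [h1]; exact hx)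
      obtain ⟨y, hy, hyx⟩ := h4
      rw [← hyx]
      have h5 : y ^ p = 1 := hy
      exact congrArg Subtype.val h5

end Cfsg.Agent.S3736
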