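import Cfsg.Statements.S3808
import Mathlib

set_option autoImplicit false
open Cfsg

namespace Cfsg.Agent.S3808

/-- Let S be a finite p-group with an extraspecial subgroup Q of index p. Then either Z(S) = Z(Q), or S = Q·Z(S) and Z(S) has order p². -/
theorem result {S : Type*} [Group S] [Finite S] (p : ℕ) [Fact p.Prime] (hS : IsPGroup p S) (Q : Subgroup S) (hQ : Cfsg.IsExtraspecial p ↥Q) (hQi : Q.index = p) :
    Subgroup.center S = (Subgroup.center ↥Q).map Q.subtype ∨
      (Q ⊔ Subgroup.center S = ⊤ ∧ Nat.card (Subgroup.center S) = p ^ 2) := by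
  have hp : p.Prime := Fact.out
  set Z := Subgroup.center S with hZ
  set ZQ := (Subgroup.center ↥Q).map Q.subtype with hZQ
  have hZQcard : Nat.card ZQ = p := by
    rw [hZQ, Subgroup.card_map_of_injective Q.subtype_injective]; exact hQ.2
  have hinf : Z ⊓ Q ≤ ZQ := by
    intro x hx
    refine ⟨⟨x, hx.2⟩, ?_, rfl⟩
    rw [SetLike.mem_coe, Subgroup.mem_center_iff]
    intro g
    exact Subtype.ext (Subgroup.mem_center_iff.mp hx.1 g)
  have hQne : Q ≠ ⊤ := by
    intro h; rw [h, Subgroup.index_top] at hQi; exact hp.one_lt.ne hQi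
  have hSnt : Nontrivial S := by
    by_contra h
    rw [not_nontrivial_iff_subsingleton] at h
    exact hQne (Subsingleton.elim _ _)
  have hZnt : Nontrivial Z := hS.center_nontrivial
  by_cases hle : Z ≤ Q
  · left
    have h1 : Z ≤ ZQ := fun x hx => hinf ⟨hx, hle hx⟩
    have hdvd : Nat.card Z ∣ Nat.card ZQ := Subgroup.card_dvd_of_le h1
    rw [hZQcard] at hdvd
    have hZc : Nat.card Z ≠ 1 := by
      intro h
      have := Subgroup.eq_bot_of_card_eq Z h
      exact (Subgroup.nontrivial_iff_ne_bot Z).mp hZnt this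
    have hc : Nat.card Z = p := ((Nat.dvd_prime hp).mp hdvd).resolve_left hZc
    exact Subgroup.eq_of_le_of_card_ge h1 (by rw [hZQcard, hc])
  · right
    have hsup : Q ⊔ Z = ⊤ := by
      have h1 := Subgroup.relIndex_mul_index (le_sup_left : Q ≤ Q ⊔ Z)
      rw [hQi] at h1
      have h2 : (Q ⊔ Z).index ∣ p := Dvd.intro_left _ h1
      rcases (Nat.dvd_prime hp).mp h2 with h | h
      · exact Subgroup.index_eq_one.mp h
      · exfalso
        rw [h] at h1
        have h3 : Q.relIndex (Q ⊔ Z) = 1 := by
          have := hp.pos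
          nlinarith
        exact hle (le_sup_right.trans (Subgroup.relIndex_eq_one.mp h3))
    refine ⟨hsup, ?_⟩
    have hZQle : ZQ ≤ Z := by
      rintro _ ⟨z, hz, rfl⟩
      rw [Subgroup.mem_center_iff]
      intro g
      have hg : g ∈ Q ⊔ Z := by rw [hsup]; trivial
      have hle2 : Q ⊔ Z ≤ Subgroup.centralizer {(z : S)} := by
        apply sup_le
        · intro q hq
          rw [Subgroup.mem_centralizer_iff]
          intro h hh
          rw [Set.mem_singleton_iff] at hh
          subst hh
          have := Subgroup.mem_center_iff.mp hz ⟨q, hq⟩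
          exact (congrArg Subtype.val this).symm
        · exact Subgroup.center_le_centralizer _
      have := Subgroup.mem_centralizer_iff.mp (hle2 hg) z (Set.mem_singleton _)
      exact this.symm
    have heq : Z ⊓ Q = ZQ := le_antisymm hinf (le_inf hZQle (Subgroup.map_subtype_le _))
    have hQn : Q.Normal := by
      apply Subgroup.normal_of_index_eq_minFac_card
      obtain ⟨n, hn⟩ := IsPGroup.iff_card.mp hS
      have hn0 : n ≠ 0 := by
        rintro rfl
        rw [pow_zero] at hn
        have := Subgroup.index_dvd_card Q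
        rw [hn, hQi] at this
        exact hp.one_lt.ne' (Nat.dvd_one.mp this)
      rw [hn, hp.pow_minFac hn0, hQi]
    have h3 : Q.relIndex Z = p := by
      rw [← Subgroup.relIndex_sup_left Z Q, hsup, Subgroup.relIndex_top_right, hQi]
    have h4 := Subgroup.relIndex_mul_relIndex ⊥ (Q ⊓ Z) Z bot_le inf_le_right
    rw [Subgroup.relIndex_bot_left, Subgroup.relIndex_bot_left, Subgroup.inf_relIndex_right, h3, inf_comm, heq, hZQcard] at h4
    rw [← h4]; ring

end Cfsg.Agent.S3808
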