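import Cfsg.Statements.S3809
import Mathlib
import Cfsg.Agent.S0095
import Cfsg.Agent.Lib.helper1.PGroup

set_option autoImplicit false
open Cfsg
open scoped commutatorElement

namespace Cfsg.Agent.S3809

/-- Let S be a finite p-group with an extraspecial subgroup of index p. Then S has order p^(2+2n) for some n ≥ 1, derived length at most 3, and exponent dividing p³. -/
theorem result {S : Type*} [Group S] [Finite S] (p : ℕ) [Fact p.Prime] (hS : IsPGroup p S) (Q : Subgroup S) (hQ : Cfsg.IsExtraspecial p ↥Q) (hQi : Q.index = p) :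
    (∃ n : ℕ, 1 ≤ n ∧ Nat.card S = p ^ (2 + 2 * n)) ∧ derivedSeries S 3 = ⊥ ∧ ∀ x : S, x ^ (p ^ 3) = 1 := by
  classical
  have hp : p.Prime := Fact.out
  obtain ⟨⟨hPQ, hfr, hcomm⟩, hZ⟩ := hQ
  obtain ⟨n, hn, hc⟩ := Cfsg.Agent.S0095.result (p := p) ⟨⟨hPQ, hfr, hcomm⟩, hZ⟩
  have hQn : Q.Normal := by
    apply Subgroup.normal_of_index_eq_minFac_card
    obtain ⟨k, hk⟩ := IsPGroup.iff_card.mp hS
    have hk0 : k ≠ 0 := by
      rintro rfl
      have h1 := Subgroup.index_dvd_card Q
      rw [hk, pow_zero, hQi, Nat.dvd_one] at h1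
      exact hp.one_lt.ne' h1
    rw [hk, hp.pow_minFac hk0, hQi]
  have hcq : Nat.card (S ⧸ Q) = p := by rw [← Subgroup.index_eq_card, hQi]
  refine ⟨⟨n, hn, ?_⟩, ?_, ?_⟩
  · rw [← Subgroup.card_mul_index Q, hQi, hc]; ring
  · have h1 : commutator S ≤ Q := by
      rw [← Subgroup.Normal.quotient_commutative_iff_commutator_le]
      haveI : IsCyclic (S ⧸ Q) := isCyclic_of_prime_card hcq
      exact IsCyclic.isMulCommutative
    have hD1 : derivedSeries S 1 ≤ Q := by rw [derivedSeries_one]; exact h1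
    have hD2 : derivedSeries S 2 ≤ (Subgroup.center ↥Q).map Q.subtype := by
      show derivedSeries S (1 + 1) ≤ _
      rw [derivedSeries_succ]
      calc ⁅derivedSeries S 1, derivedSeries S 1⁆ ≤ ⁅Q, Q⁆ := Subgroup.commutator_mono hD1 hD1
        _ = (commutator ↥Q).map Q.subtype := by
            rw [commutator_def, Subgroup.map_commutator, ← MonoidHom.range_eq_map, Subgroup.range_subtype]
        _ = _ := by rw [hcomm]
    show derivedSeries S (2 + 1) = ⊥
    rw [derivedSeries_succ, eq_bot_iff]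
    calc ⁅derivedSeries S 2, derivedSeries S 2⁆
        ≤ ⁅(Subgroup.center ↥Q).map Q.subtype, (Subgroup.center ↥Q).map Q.subtype⁆ :=
          Subgroup.commutator_mono hD2 hD2
      _ ≤ ⊥ := by
          rw [Subgroup.commutator_le]
          rintro _ ⟨a, ha, rfl⟩ _ ⟨b, hb, rfl⟩
          rw [Subgroup.mem_bot, commutatorElement_eq_one_iff_commute]
          have h2 := (Subgroup.mem_center_iff.mp ha) b
          exact (congrArg Subtype.val h2).symm
  · intro x
    have h1 : x ^ p ∈ Q := by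
      have h2 : ((x : S ⧸ Q)) ^ p = 1 := by rw [← hcq]; exact pow_card_eq_one'
      rw [← QuotientGroup.mk_pow, QuotientGroup.eq_one_iff] at h2
      exact h2
    have h2 := Cfsg.Agent.Lib.helper1.pow_mem_frattini p hPQ (⟨x ^ p, h1⟩ : Q)
    rw [hfr] at h2
    have h3 : ((⟨(⟨x ^ p, h1⟩ : Q) ^ p, h2⟩ : Subgroup.center Q)) ^ p = 1 := by
      have h6 : ∀ z : Subgroup.center Q, z ^ p = 1 := by
        intro z
        have := pow_card_eq_one' (G := Subgroup.center Q) (x := z)
        rwa [hZ] at this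
      exact h6 _
    have h4 : (((⟨(⟨x ^ p, h1⟩ : Q) ^ p, h2⟩ : Subgroup.center Q) ^ p : Subgroup.center Q) : S) = 1 := by
      rw [h3]; rfl
    have h5 : ((x ^ p) ^ p) ^ p = 1 := h4
    rw [show p ^ 3 = p * p * p by ring, pow_mul, pow_mul]
    exact h5

end Cfsg.Agent.S3809
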