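import Cfsg.Statements.S3824
import Mathlib
import Cfsg.Agent.Lib.helper23.BurnsidePQ

set_option autoImplicit false
open Cfsg

namespace Cfsg.Agent.S3824

theorem relIndex_dvd_index_of_normal_right' {G : Type*} [Group G] [Finite G] (C N : Subgroup G) [N.Normal] :
    C.relIndex N ∣ C.index := by
  have h1 : (C ⊓ N).relIndex N * N.index = (C ⊓ N).index := Subgroup.relIndex_mul_index inf_le_right
  have h2 : (C ⊓ N).relIndex C * C.index = (C ⊓ N).index := Subgroup.relIndex_mul_index inf_le_left
  rw [Subgroup.inf_relIndex_right] at h1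
  rw [Subgroup.inf_relIndex_left] at h2
  obtain ⟨t, ht⟩ := Subgroup.relIndex_dvd_index_of_normal N C
  have h3 : N.relIndex C ≠ 0 := by
    intro h0
    have := Subgroup.relIndex_dvd_card N C
    rw [h0] at this
    have hpos : 0 < Nat.card C := Nat.card_pos
    omega
  refine ⟨t, ?_⟩
  have h4 : N.relIndex C * C.index = N.relIndex C * (C.relIndex N * t) := by
    rw [h2, ← h1, ht]; ring
  exact Nat.eq_of_mul_eq_mul_left (Nat.pos_of_ne_zero h3) h4

open Cfsg.Agent.Lib.helper23 in
theorem aux.{u} : ∀ n : ℕ, ∀ (G : Type u) [Group G] [Finite G], Nat.card G = n →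
    (∃ A : Subgroup G, IsMulCommutative A ∧ ∃ k : ℕ, A.index = 2 ^ k) → Group.IsSolvable G := by
  intro n
  induction n using Nat.strong_induction_on with
  | _ n ih =>
    intro G _ _ hcard hA
    obtain ⟨A, hAc, k, hk⟩ := hA
    by_cases hsimple : ∀ N : Subgroup G, N.Normal → N = ⊥ ∨ N = ⊤
    · by_cases hA0 : A = ⊥
      · rw [hA0, Subgroup.index_bot] at hk
        exact isSolvable_of_card_prime_pow Nat.prime_two hk
      · obtain ⟨g, hg1⟩ := (Subgroup.ne_bot_iff_exists_ne_one).mp hA0
        obtain ⟨g, hgA⟩ := g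
        have hg1' : g ≠ 1 := fun h => hg1 (Subtype.ext h)
        have hle : A ≤ Subgroup.centralizer ({g} : Set G) := by
          intro x hx
          rw [Subgroup.mem_centralizer_iff]
          intro y hy
          rw [Set.mem_singleton_iff] at hy
          subst hy
          have h1 := hAc.is_comm.comm (⟨y, hgA⟩ : A) ⟨x, hx⟩
          exact congrArg Subtype.val h1
        have hdvd := Subgroup.index_dvd_of_le hle
        rw [hk] at hdvd
        obtain ⟨j, -, hj⟩ := (Nat.dvd_prime_pow Nat.prime_two).mp hdvd
        have hnt : Nontrivial G := ⟨⟨_, 1, hg1'⟩⟩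
        have hsimp : IsSimpleGroup G := ⟨hsimple⟩
        have hprime := burnside_simple_prime_power_class 2 j Nat.prime_two _ hg1' hj
        exact isSolvable_of_card_prime_pow hprime (pow_one _).symm
    · push Not at hsimple
      obtain ⟨N, hN, hbot, htop⟩ := hsimple
      have hN1 : 1 < Nat.card N := N.one_lt_card_iff_ne_bot.mpr hbot
      have hmul : Nat.card (G ⧸ N) * Nat.card N = n := by
        rw [← hcard]
        exact (Subgroup.card_eq_card_quotient_mul_card_subgroup N).symm
      have hQpos : 0 < Nat.card (G ⧸ N) := Nat.card_pos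
      have hQ1 : 1 < Nat.card (G ⧸ N) := by
        by_contra hcon
        have h1 : Nat.card (G ⧸ N) = 1 := by omega
        rw [h1, one_mul, ← hcard] at hmul
        exact htop (N.card_eq_iff_eq_top.mp hmul)
      have hNlt : Nat.card N < n := by
        rw [← hmul]
        exact lt_mul_of_one_lt_left Nat.card_pos hQ1
      have hQlt : Nat.card (G ⧸ N) < n := by
        rw [← hmul]
        exact lt_mul_of_one_lt_right hQpos hN1
      have h1 : Group.IsSolvable N := by
        apply ih _ hNlt N rfl
        refine ⟨A.subgroupOf N, Subgroup.subgroupOf_isMulCommutative N A, ?_⟩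
        have hd : A.relIndex N ∣ 2 ^ k := hk ▸ relIndex_dvd_index_of_normal_right' A N
        obtain ⟨j, -, hj⟩ := (Nat.dvd_prime_pow Nat.prime_two).mp hd
        exact ⟨j, hj⟩
      have h2 : Group.IsSolvable (G ⧸ N) := by
        apply ih _ hQlt (G ⧸ N) rfl
        refine ⟨A.map (QuotientGroup.mk' N), Subgroup.map_isMulCommutative A _, ?_⟩
        have hd : (A.map (QuotientGroup.mk' N)).index ∣ 2 ^ k :=
          hk ▸ Subgroup.index_map_dvd A (QuotientGroup.mk'_surjective N)
        obtain ⟨j, -, hj⟩ := (Nat.dvd_prime_pow Nat.prime_two).mp hd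
        exact ⟨j, hj⟩
      exact Group.isSolvable_of_ker_le_range N.subtype (QuotientGroup.mk' N) (by simp)

/-- Every finite group having an abelian subgroup whose index is a power of 2 is solvable. -/
theorem result {G : Type*} [Group G] [Finite G]
    (A : Subgroup G) (hA : IsMulCommutative A) (hidx : ∃ k : ℕ, A.index = 2 ^ k) : Group.IsSolvable G := by
  exact aux _ G rfl ⟨A, hA, hidx⟩

end Cfsg.Agent.S3824
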