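import Cfsg.Statements.S3839
import Mathlib
import Cfsg.Agent.Lib.helper1.SZ
import Cfsg.Agent.Lib.helper8.CoprimeAction
import Cfsg.Agent.Lib.helper20.ClassSize
import Cfsg.Agent.S0072
import Cfsg.Agent.S3824

set_option autoImplicit false
open Cfsg

open Pointwise
open scoped commutatorElement

namespace Cfsg.Agent.S3839

universe u

section
variable {G : Type u} [Group G] [Finite G] {p : ℕ} [Fact p.Prime]

theorem orderOf_conj' (x g : G) : orderOf (x * g * x⁻¹) = orderOf g := by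
  have := MulEquiv.orderOf_eq (MulAut.conj x) g
  rwa [MulAut.conj_apply] at this

theorem tool1 (N R Q : Subgroup G) (hR : IsPGroup p R)
    (hidx : (R.relIndex N).Coprime p) (hQN : Q ≤ N) (hQ : IsPGroup p Q) :
    ∃ n ∈ N, ∀ q ∈ Q, n * q * n⁻¹ ∈ R := by
  have hp : p.Prime := Fact.out
  have hR' : IsPGroup p (R.subgroupOf N) := hR.comap_subtype
  have hnd : ¬ p ∣ (R.subgroupOf N).index := (Nat.Prime.coprime_iff_not_dvd hp).mp hidx.symm
  let RS : Sylow p N := hR'.toSylow hnd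
  obtain ⟨P, hP⟩ := (hQ.comap_subtype (K := N)).exists_le_sylow
  obtain ⟨n, hn⟩ := MulAction.exists_smul_eq N P RS
  refine ⟨n.1, n.2, fun q hq => ?_⟩
  have h1 : (⟨q, hQN hq⟩ : N) ∈ (P : Subgroup N) := hP hq
  have h2 : n * ⟨q, hQN hq⟩ * n⁻¹ ∈ ((n • P : Sylow p N) : Subgroup N) := by
    rw [Cfsg.Agent.Lib.lead.mem_smul_sylow]
    have e : n⁻¹ * (n * ⟨q, hQN hq⟩ * n⁻¹) * n = ⟨q, hQN hq⟩ := by group
    rw [e]; exact h1
  rw [hn] at h2
  exact h2

theorem tool2 (N C R : Subgroup G) (hCN : C ≤ N) (hNC : N ≤ Subgroup.normalizer (C : Set G))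
    (hidx : (R.relIndex N).Coprime p) : ((R ⊓ C).relIndex C).Coprime p := by
  rw [Subgroup.inf_relIndex_right]
  have : (C.subgroupOf N).Normal := Subgroup.normal_subgroupOf_of_le_normalizer hNC
  have h1 := Cfsg.Agent.S3824.relIndex_dvd_index_of_normal_right' (R.subgroupOf N) (C.subgroupOf N)
  rw [Subgroup.relIndex_subgroupOf hCN] at h1
  exact Nat.Coprime.coprime_dvd_left h1 hidx

theorem conj_mem_normalizer (x g : G) (V : Subgroup G)
    (hg : g ∈ Subgroup.normalizer (V : Set G)) :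
    x * g * x⁻¹ ∈ Subgroup.normalizer ((MulAut.conj x • V : Subgroup G) : Set G) := by
  rw [Cfsg.Agent.Lib.helper1.mem_normalizer_iff_conj_smul] at hg ⊢
  rw [← Cfsg.Agent.Lib.helper1.conj_mul_smul]
  have e : x * g * x⁻¹ * x = x * g := by group
  rw [e, Cfsg.Agent.Lib.helper1.conj_mul_smul, hg]

theorem normalizer_conj (x : G) (V : Subgroup G) :
    Subgroup.normalizer ((MulAut.conj x • V : Subgroup G) : Set G) =
      MulAut.conj x • Subgroup.normalizer (V : Set G) := by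
  apply le_antisymm
  · intro g hg
    rw [Cfsg.Agent.Lib.helper1.mem_conj_smul]
    have h1 := conj_mem_normalizer x⁻¹ g _ hg
    rw [← Cfsg.Agent.Lib.helper1.conj_mul_smul, inv_mul_cancel, map_one, one_smul, inv_inv] at h1
    exact h1
  · intro g hg
    rw [Cfsg.Agent.Lib.helper1.mem_conj_smul] at hg
    have h1 := conj_mem_normalizer x _ V hg
    have e : x * (x⁻¹ * g * x) * x⁻¹ = g := by group
    rwa [e] at h1

theorem mem_centralizer_of_conj (x g : G) (V : Subgroup G)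
    (h : x * g * x⁻¹ ∈ Subgroup.centralizer ((MulAut.conj x • V : Subgroup G) : Set G)) :
    g ∈ Subgroup.centralizer (V : Set G) := by
  rw [Subgroup.mem_centralizer_iff] at h ⊢
  intro v hv
  have h1 : x * v * x⁻¹ ∈ (MulAut.conj x • V : Subgroup G) := by
    rw [Cfsg.Agent.Lib.helper1.mem_conj_smul]
    have e : x⁻¹ * (x * v * x⁻¹) * x = v := by group
    rw [e]; exact hv
  have h2 := h _ h1
  have e1 : v * g = x⁻¹ * (x * v * x⁻¹ * (x * g * x⁻¹)) * x := by group
  have e2 : g * v = x⁻¹ * (x * g * x⁻¹ * (x * v * x⁻¹)) * x := by group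
  rw [e1, e2, h2]

/-- fully normalized conjugate -/
theorem exists_fn (S : Sylow p G) (V : Subgroup G) (hV : V ≤ S) :
    ∃ x : G, MulAut.conj x • V ≤ S ∧
      (((S : Subgroup G) ⊓ Subgroup.normalizer ((MulAut.conj x • V : Subgroup G) : Set G)).relIndex
        (Subgroup.normalizer ((MulAut.conj x • V : Subgroup G) : Set G))).Coprime p := by
  have hp : p.Prime := Fact.out
  set N := Subgroup.normalizer (V : Set G) with hN
  obtain ⟨P, hP⟩ := Cfsg.Agent.Lib.helper8.exists_sylow_map_ge (K := N) (U := V)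
    Subgroup.le_normalizer (S.2.to_le hV)
  set R₀ := (P : Subgroup N).map N.subtype with hR₀
  have hR₀N : R₀ ≤ N := Subgroup.map_subtype_le _
  have hR₀p : IsPGroup p R₀ := P.2.map _
  have hidx : (R₀.relIndex N).Coprime p := by
    have e : R₀.relIndex N = (P : Subgroup N).index := by
      rw [Subgroup.relIndex, hR₀]
      congr 1
      ext y
      simp [Subgroup.mem_subgroupOf]
    rw [e]
    exact ((Nat.Prime.coprime_iff_not_dvd hp).mpr P.not_dvd_index).symm
  obtain ⟨S', hS'⟩ := hR₀p.exists_le_sylow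
  obtain ⟨g, hg⟩ := MulAction.exists_smul_eq G S S'
  have hle : MulAut.conj g⁻¹ • R₀ ≤ S := by
    intro z hz
    rw [Cfsg.Agent.Lib.helper1.mem_conj_smul, inv_inv] at hz
    have h1 := hS' hz
    rw [← hg, Cfsg.Agent.Lib.lead.mem_smul_sylow] at h1
    have e : g⁻¹ * (g * z * g⁻¹) * g = z := by group
    rwa [e] at h1
  refine ⟨g⁻¹, (Subgroup.pointwise_smul_le_pointwise_smul_iff.mpr hP).trans hle, ?_⟩
  rw [normalizer_conj]
  have h2 : MulAut.conj g⁻¹ • R₀ ≤ (S : Subgroup G) ⊓ MulAut.conj g⁻¹ • N :=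
    le_inf hle (Subgroup.pointwise_smul_le_pointwise_smul_iff.mpr hR₀N)
  have h3 := Subgroup.relIndex_dvd_of_le_left (MulAut.conj g⁻¹ • N) h2
  rw [Subgroup.relIndex_pointwise_smul] at h3
  exact Nat.Coprime.coprime_dvd_left h3 hidx

/-- a `p'`-element in `u * C` with `u` a `p`-element normalizing `C` lies in `C`. -/
theorem lemPC (C : Subgroup G) (c u : G) (hc : c ∈ C) (hu : u ∈ Subgroup.normalizer (C : Set G))
    (k : ℕ) (huk : u ^ (p ^ k) = 1) (hy : (orderOf (c * u)).Coprime p) : c * u ∈ C := by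
  have h1 := Cfsg.Agent.Lib.helper8.mul_pow_mem_of_mem_normalizer hc hu (p ^ k)
  rw [huk, inv_one, mul_one] at h1
  obtain ⟨m, hm⟩ := exists_pow_eq_self_of_coprime (x := c * u) (n := p ^ k)
    (Nat.Coprime.pow_left k hy.symm)
  rw [← hm]
  exact Subgroup.pow_mem _ h1 m

theorem frobIn (U R : Subgroup G)
    (hU : Cfsg.HasNormalPComplement p ↥(Subgroup.normalizer (U : Set G)))
    (hRU : R ≤ Subgroup.normalizer (U : Set G)) (hR : IsPGroup p R) (g : G)
    (hgU : g ∈ Subgroup.normalizer (U : Set G)) (hgR : g ∈ Subgroup.normalizer (R : Set G))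
    (hg : (orderOf g).Coprime p) : g ∈ Subgroup.centralizer (R : Set G) := by
  obtain ⟨K, hKn, hKc, a, ha⟩ := (Cfsg.Agent.S0072.hasNormalPComplement_iff p).mp hU
  have hF := Cfsg.Agent.Lib.lead.frob_of_core K hKc ha
  have h3 := hF (R.subgroupOf (Subgroup.normalizer (U : Set G))) hR.comap_subtype ⟨g, hgU⟩
    (by
      rw [Subgroup.mem_normalizer_iff]
      intro z
      exact Subgroup.mem_normalizer_iff.mp hgR z.1)
    (by rw [Subgroup.orderOf_mk]; exact hg)
  rw [Subgroup.mem_centralizer_iff] at h3 ⊢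
  intro r hr
  have h4 := h3 ⟨r, hRU hr⟩ hr
  exact congrArg Subtype.val h4

omit [Finite G] in
theorem normalizer_le_normalizer_centralizer' (P₁ : Subgroup G) :
    Subgroup.normalizer (P₁ : Set G) ≤
      Subgroup.normalizer ((Subgroup.centralizer (P₁ : Set G) : Subgroup G) : Set G) := by
  apply Cfsg.Agent.Lib.helper8.le_normalizer_of_conj_mem
  intro g hg c hc
  rw [Subgroup.mem_centralizer_iff] at hc ⊢
  intro x hx
  have h1 := Cfsg.Agent.Lib.helper8.conj_mem_of_mem_normalizer' hg hx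
  have h2 := hc _ h1
  calc x * (g * c * g⁻¹) = g * (g⁻¹ * x * g * c) * g⁻¹ := by group
    _ = g * (c * (g⁻¹ * x * g)) * g⁻¹ := by rw [h2]
    _ = g * c * g⁻¹ * x := by group

theorem case1_core (S : Sylow p G) (D : Subgroup G)
    (hD : Cfsg.IsStronglyClosed D (S : Subgroup G))
    (hH : ∀ U : Subgroup G, U ≤ D → D ⊓ Subgroup.centralizer (U : Set G) ≤ U →
      Cfsg.HasNormalPComplement p ↥(Subgroup.normalizer (U : Set G)))
    (P₁ : Subgroup G) (hP₁D : P₁ ≤ D)
    (hfn : (((S : Subgroup G) ⊓ Subgroup.normalizer (P₁ : Set G)).relIndex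
      (Subgroup.normalizer (P₁ : Set G))).Coprime p)
    (y : G) (hy : y ∈ Subgroup.normalizer (P₁ : Set G)) (hyo : (orderOf y).Coprime p) :
    y ∈ Subgroup.centralizer (P₁ : Set G) := by
  set N := Subgroup.normalizer (P₁ : Set G) with hN
  set C := Subgroup.centralizer (P₁ : Set G) with hC
  have hCN : C ≤ N := Subgroup.centralizer_le_normalizer _
  have hNC : N ≤ Subgroup.normalizer (C : Set G) := normalizer_le_normalizer_centralizer' P₁
  set T := (S : Subgroup G) ⊓ C with hT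
  have hTidx : (T.relIndex C).Coprime p := by
    have h1 := tool2 N C ((S : Subgroup G) ⊓ N) hCN hNC hfn
    rwa [inf_assoc, inf_eq_right.mpr hCN] at h1
  have hTp : IsPGroup p T := S.2.to_le inf_le_left
  have hQC : MulAut.conj y • T ≤ C := by
    intro z hz
    rw [Cfsg.Agent.Lib.helper1.mem_conj_smul] at hz
    have h1 := Cfsg.Agent.Lib.helper8.conj_mem_of_mem_normalizer (hNC hy) hz.2
    have e : y * (y⁻¹ * z * y) * y⁻¹ = z := by group
    rwa [e] at h1
  have hQp : IsPGroup p (MulAut.conj y • T : Subgroup G) := hTp.map _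
  obtain ⟨c, hc, hc2⟩ := tool1 C T (MulAut.conj y • T) hTp hTidx hQC hQp
  set n := c * y with hn
  have hnN : n ∈ N := N.mul_mem (hCN hc) hy
  have hnT : ∀ t ∈ T, n * t * n⁻¹ ∈ T := by
    intro t ht
    have h1 : y * t * y⁻¹ ∈ MulAut.conj y • T := by
      rw [Cfsg.Agent.Lib.helper1.mem_conj_smul]
      have e : y⁻¹ * (y * t * y⁻¹) * y = t := by group
      rw [e]; exact ht
    have h2 := hc2 _ h1
    have e : n * t * n⁻¹ = c * (y * t * y⁻¹) * c⁻¹ := by rw [hn]; group
    rw [e]; exact h2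
  set E := D ⊓ C with hE
  have hET : E ≤ T := le_inf (inf_le_left.trans hD.1) inf_le_right
  have hnE : n ∈ Subgroup.normalizer (E : Set G) := by
    apply Subgroup.mem_normalizer_fintype
    intro e he
    have h1 := hnT e (hET he)
    exact ⟨hD.2 e he.1 n h1.1, h1.2⟩
  set U := P₁ ⊔ E with hU
  have hnU : n ∈ Subgroup.normalizer (U : Set G) := by
    rw [Cfsg.Agent.Lib.helper1.mem_normalizer_iff_conj_smul, hU, Subgroup.smul_sup,
      (Cfsg.Agent.Lib.helper1.mem_normalizer_iff_conj_smul _ _).mp hnN,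
      (Cfsg.Agent.Lib.helper1.mem_normalizer_iff_conj_smul _ _).mp hnE]
  have hUD : U ≤ D := sup_le hP₁D inf_le_left
  have hUc : D ⊓ Subgroup.centralizer (U : Set G) ≤ U := by
    refine le_trans ?_ le_sup_right
    exact inf_le_inf_left D (Subgroup.centralizer_le (by
      exact_mod_cast (le_sup_left : P₁ ≤ U)))
  have hUH := hH U hUD hUc
  obtain ⟨u, v, hnuv, hcomm, ⟨k, hu⟩, hv, hun, hvn⟩ := Cfsg.Agent.Lib.helper20.exists_p_decomp p n
  have hzU : Subgroup.zpowers n ≤ Subgroup.normalizer (U : Set G) := Subgroup.zpowers_le.mpr hnU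
  have hzP : Subgroup.zpowers n ≤ N := Subgroup.zpowers_le.mpr hnN
  have hvC : v ∈ C := frobIn U P₁ hUH (le_sup_left.trans Subgroup.le_normalizer)
    (S.2.to_le (hP₁D.trans hD.1)) v (hzU hvn) (hzP hvn) hv
  have hyeq : y = (c⁻¹ * v) * u := by
    have h1 : y = c⁻¹ * n := by rw [hn]; group
    rw [h1, hnuv, hcomm]; group
  rw [hyeq]
  apply lemPC C (c⁻¹ * v) u (C.mul_mem (C.inv_mem hc) hvC) (hNC (hzP hun)) k hu
  rw [← hyeq]; exact hyo

theorem case1 (S : Sylow p G) (D : Subgroup G)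
    (hD : Cfsg.IsStronglyClosed D (S : Subgroup G))
    (hH : ∀ U : Subgroup G, U ≤ D → D ⊓ Subgroup.centralizer (U : Set G) ≤ U →
      Cfsg.HasNormalPComplement p ↥(Subgroup.normalizer (U : Set G)))
    (P₁ : Subgroup G) (hP₁D : P₁ ≤ D)
    (y : G) (hy : y ∈ Subgroup.normalizer (P₁ : Set G)) (hyo : (orderOf y).Coprime p) :
    y ∈ Subgroup.centralizer (P₁ : Set G) := by
  obtain ⟨x, hx1, hx2⟩ := exists_fn S P₁ (hP₁D.trans hD.1)
  have hxD : MulAut.conj x • P₁ ≤ D := by
    intro z hz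
    have hzS := hx1 hz
    rw [Cfsg.Agent.Lib.helper1.mem_conj_smul] at hz
    have e : x * (x⁻¹ * z * x) * x⁻¹ = z := by group
    have h1 := hD.2 _ (hP₁D hz) x (by rw [e]; exact hzS)
    rwa [e] at h1
  have h1 := case1_core S D hD hH (MulAut.conj x • P₁) hxD hx2 (x * y * x⁻¹)
    (conj_mem_normalizer x y P₁ hy) (by rw [orderOf_conj']; exact hyo)
  exact mem_centralizer_of_conj x y P₁ h1

theorem core3 (S : Sylow p G) (D : Subgroup G)
    (hD : Cfsg.IsStronglyClosed D (S : Subgroup G))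
    (hH : ∀ U : Subgroup G, U ≤ D → D ⊓ Subgroup.centralizer (U : Set G) ≤ U →
      Cfsg.HasNormalPComplement p ↥(Subgroup.normalizer (U : Set G)))
    (V : Subgroup G) (hVS : V ≤ S)
    (hfn : (((S : Subgroup G) ⊓ Subgroup.normalizer (V : Set G)).relIndex
      (Subgroup.normalizer (V : Set G))).Coprime p)
    (hmax : ∀ V' : Subgroup G, V' ≤ S → Nat.card V < Nat.card V' →
      ∀ g ∈ Subgroup.normalizer (V' : Set G), (orderOf g).Coprime p →
        g ∈ Subgroup.centralizer (V' : Set G))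
    (y : G) (hy : y ∈ Subgroup.normalizer (V : Set G)) (hyo : (orderOf y).Coprime p) :
    y ∈ Subgroup.centralizer (V : Set G) := by
  have hp : p.Prime := Fact.out
  set N := Subgroup.normalizer (V : Set G) with hN
  set W := V ⊓ D with hW
  have hSD : (S : Subgroup G) ≤ Subgroup.normalizer (D : Set G) := by
    apply Cfsg.Agent.Lib.helper8.le_normalizer_of_conj_mem
    intro s hs d hd
    exact hD.2 d hd s (Subgroup.mul_mem _ (Subgroup.mul_mem _ hs (hD.1 hd)) (Subgroup.inv_mem _ hs))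
  have hNW : N ≤ Subgroup.normalizer (W : Set G) := by
    intro g hg
    apply Subgroup.mem_normalizer_fintype
    intro w hw
    have h1 := Cfsg.Agent.Lib.helper8.conj_mem_of_mem_normalizer hg hw.1
    exact ⟨h1, hD.2 w hw.2 g (hVS h1)⟩
  have hyW : y ∈ Subgroup.centralizer (W : Set G) :=
    case1 S D hD hH W inf_le_right y (hNW hy) hyo
  let K₀ : Subgroup G :=
    { carrier := {g | g ∈ N ∧ ∀ v ∈ V, g * v * g⁻¹ * v⁻¹ ∈ W}
      mul_mem' := by
        intro g h hg hh
        refine ⟨N.mul_mem hg.1 hh.1, fun v hv => ?_⟩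
        have h1 := Cfsg.Agent.Lib.helper8.conj_mem_of_mem_normalizer (hNW hg.1) (hh.2 v hv)
        have e : g * h * v * (g * h)⁻¹ * v⁻¹ = g * (h * v * h⁻¹ * v⁻¹) * g⁻¹ * (g * v * g⁻¹ * v⁻¹) := by
          group
        rw [e]
        exact W.mul_mem h1 (hg.2 v hv)
      one_mem' := ⟨N.one_mem, fun v _ => by simp⟩
      inv_mem' := by
        intro g hg
        refine ⟨N.inv_mem hg.1, fun v hv => ?_⟩
        have hv' : g⁻¹ * v * g ∈ V := Cfsg.Agent.Lib.helper8.conj_mem_of_mem_normalizer' hg.1 hv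
        have h1 := hg.2 _ hv'
        have e : g⁻¹ * v * g⁻¹⁻¹ * v⁻¹ = (g * (g⁻¹ * v * g) * g⁻¹ * (g⁻¹ * v * g)⁻¹)⁻¹ := by group
        rw [e]
        exact W.inv_mem h1 }
  have hK₀mem : ∀ g, g ∈ K₀ ↔ g ∈ N ∧ ∀ v ∈ V, g * v * g⁻¹ * v⁻¹ ∈ W := fun g => Iff.rfl
  have hK₀N : K₀ ≤ N := fun g hg => hg.1
  have hNK₀ : N ≤ Subgroup.normalizer (K₀ : Set G) := by
    apply Cfsg.Agent.Lib.helper8.le_normalizer_of_conj_mem
    intro g hg k hk
    refine ⟨N.mul_mem (N.mul_mem hg hk.1) (N.inv_mem hg), fun v hv => ?_⟩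
    have hv' : g⁻¹ * v * g ∈ V := Cfsg.Agent.Lib.helper8.conj_mem_of_mem_normalizer' hg hv
    have h1 := Cfsg.Agent.Lib.helper8.conj_mem_of_mem_normalizer (hNW hg) (hk.2 _ hv')
    have e : g * k * g⁻¹ * v * (g * k * g⁻¹)⁻¹ * v⁻¹ =
        g * (k * (g⁻¹ * v * g) * k⁻¹ * (g⁻¹ * v * g)⁻¹) * g⁻¹ := by group
    rw [e]; exact h1
  set D₁ := D ⊓ N with hD₁
  have hD₁K₀ : D₁ ≤ K₀ := by
    intro d hd
    refine ⟨hd.2, fun v hv => ⟨?_, ?_⟩⟩
    · exact V.mul_mem (Cfsg.Agent.Lib.helper8.conj_mem_of_mem_normalizer hd.2 hv) (V.inv_mem hv)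
    · have h1 : v * d⁻¹ * v⁻¹ ∈ D :=
        Cfsg.Agent.Lib.helper8.conj_mem_of_mem_normalizer (hSD (hVS hv)) (D.inv_mem hd.1)
      have e : d * v * d⁻¹ * v⁻¹ = d * (v * d⁻¹ * v⁻¹) := by group
      rw [e]; exact D.mul_mem hd.1 h1
  have hCK₀ : Subgroup.centralizer (V : Set G) ≤ K₀ := by
    intro c hc
    refine ⟨Subgroup.centralizer_le_normalizer _ hc, fun v hv => ?_⟩
    have h1 := (Subgroup.mem_centralizer_iff.mp hc) v hv
    have e : c * v * c⁻¹ * v⁻¹ = (v * c) * c⁻¹ * v⁻¹ := by rw [h1]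
    rw [e]
    have e2 : v * c * c⁻¹ * v⁻¹ = 1 := by group
    rw [e2]; exact W.one_mem
  -- Frattini-type argument
  have hTidx := tool2 N K₀ ((S : Subgroup G) ⊓ N) hK₀N hNK₀ hfn
  have hTp : IsPGroup p (((S : Subgroup G) ⊓ N) ⊓ K₀ : Subgroup G) :=
    S.2.to_le (inf_le_left.trans inf_le_left)
  have hQK : MulAut.conj y • D₁ ≤ K₀ := by
    intro z hz
    rw [Cfsg.Agent.Lib.helper1.mem_conj_smul] at hz
    have h1 := Cfsg.Agent.Lib.helper8.conj_mem_of_mem_normalizer (hNK₀ hy) (hD₁K₀ hz)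
    have e : y * (y⁻¹ * z * y) * y⁻¹ = z := by group
    rwa [e] at h1
  have hD₁p : IsPGroup p D₁ := S.2.to_le (inf_le_left.trans hD.1)
  have hQp : IsPGroup p (MulAut.conj y • D₁ : Subgroup G) := hD₁p.map _
  obtain ⟨k, hk, hk2⟩ := tool1 K₀ _ (MulAut.conj y • D₁) hTp hTidx hQK hQp
  set a := k * y with ha
  have haN : a ∈ N := N.mul_mem (hK₀N hk) hy
  have haD₁ : a ∈ Subgroup.normalizer (D₁ : Set G) := by
    apply Subgroup.mem_normalizer_fintype
    intro d hd
    have h1 : y * d * y⁻¹ ∈ MulAut.conj y • D₁ := by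
      rw [Cfsg.Agent.Lib.helper1.mem_conj_smul]
      have e : y⁻¹ * (y * d * y⁻¹) * y = d := by group
      rw [e]; exact hd
    have h2 := hk2 _ h1
    have e : a * d * a⁻¹ = k * (y * d * y⁻¹) * k⁻¹ := by rw [ha]; group
    rw [e]
    refine ⟨?_, h2.1.2⟩
    have h3 := hD.2 d hd.1 a (by rw [e]; exact h2.1.1)
    rwa [e] at h3
  obtain ⟨u, v, hauv, hcomm, ⟨j, hu⟩, hv, hua, hva⟩ := Cfsg.Agent.Lib.helper20.exists_p_decomp p a
  have hzN : Subgroup.zpowers a ≤ N := Subgroup.zpowers_le.mpr haN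
  have hzD₁ : Subgroup.zpowers a ≤ Subgroup.normalizer (D₁ : Set G) := Subgroup.zpowers_le.mpr haD₁
  have hvC : v ∈ Subgroup.centralizer (V : Set G) := by
    by_cases hDV : D ≤ V
    · have hDD₁ : D₁ = D := inf_eq_left.mpr (hDV.trans Subgroup.le_normalizer)
      have hvD : v ∈ Subgroup.normalizer (D : Set G) := by
        have := hzD₁ hva
        rwa [hDD₁] at this
      exact frobIn D V (hH D le_rfl inf_le_left) (hVS.trans hSD) (S.2.to_le hVS) v hvD
        (hzN hva) hv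
    · have hlt : V < V ⊔ D := by
        refine lt_of_le_of_ne le_sup_left (fun h => hDV ?_)
        rw [h]; exact le_sup_right
      have hVDp : IsPGroup p (V ⊔ D : Subgroup G) := S.2.to_le (sup_le hVS hD.1)
      obtain ⟨s, hs, hsN, hsV⟩ := Cfsg.Agent.Lib.helper8.normalizer_grows hVDp hlt
      rw [sup_comm] at hs
      obtain ⟨d, hd, v', hv', rfl⟩ :=
        (Cfsg.Agent.Lib.helper8.mem_sup_iff_of_le_normalizer (hVS.trans hSD) _).mp hs
      have hdN : d ∈ N := by
        have e : d = d * v' * v'⁻¹ := by group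
        rw [e]
        exact N.mul_mem hsN (N.inv_mem (Subgroup.le_normalizer hv'))
      have hdV : d ∉ V := fun h => hsV (V.mul_mem h hv')
      have hlt2 : V < V ⊔ D₁ := by
        refine lt_of_le_of_ne le_sup_left (fun h => hdV ?_)
        rw [h]; exact Subgroup.mem_sup_right ⟨hd, hdN⟩
      have hV₂S : V ⊔ D₁ ≤ S := sup_le hVS (inf_le_left.trans hD.1)
      have hvV₂ : v ∈ Subgroup.normalizer ((V ⊔ D₁ : Subgroup G) : Set G) := by
        rw [Cfsg.Agent.Lib.helper1.mem_normalizer_iff_conj_smul, Subgroup.smul_sup,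
          (Cfsg.Agent.Lib.helper1.mem_normalizer_iff_conj_smul _ _).mp (hzN hva),
          (Cfsg.Agent.Lib.helper1.mem_normalizer_iff_conj_smul _ _).mp (hzD₁ hva)]
      have h1 := hmax (V ⊔ D₁) hV₂S (Cfsg.Agent.Lib.lead.card_lt_of_lt hlt2) v hvV₂ hv
      exact Subgroup.centralizer_le (by exact_mod_cast (le_sup_left : V ≤ V ⊔ D₁)) h1
  have hyeq : y = (k⁻¹ * v) * u := by
    have h1 : y = k⁻¹ * a := by rw [ha]; group
    rw [h1, hauv, hcomm]; group
  have hyK₀ : y ∈ K₀ := by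
    rw [hyeq]
    apply lemPC K₀ (k⁻¹ * v) u (K₀.mul_mem (K₀.inv_mem hk) (hCK₀ hvC)) (hNK₀ (hzN hua)) j hu
    rw [← hyeq]; exact hyo
  -- coprime action on `V / W` and `W`
  rw [Subgroup.mem_centralizer_iff]
  intro x hx
  set w := y * x * y⁻¹ * x⁻¹ with hw
  have hwW : w ∈ W := hyK₀.2 x hx
  have hwy : w * y = y * w := (Subgroup.mem_centralizer_iff.mp hyW) w hwW
  have hpow : ∀ i : ℕ, y ^ i * x * (y ^ i)⁻¹ = w ^ i * x := by
    intro i
    induction i with
    | zero => simp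
    | succ i ih =>
      have hwi : y * w ^ i = w ^ i * y := by
        have : Commute y w := hwy.symm
        exact (this.pow_right i).eq
      calc y ^ (i + 1) * x * (y ^ (i + 1))⁻¹ = y * (y ^ i * x * (y ^ i)⁻¹) * y⁻¹ := by
            rw [pow_succ']; group
        _ = y * (w ^ i * x) * y⁻¹ := by rw [ih]
        _ = (y * w ^ i) * x * y⁻¹ := by group
        _ = w ^ i * (y * x * y⁻¹ * x⁻¹) * x := by rw [hwi]; group
        _ = w ^ (i + 1) * x := by rw [← hw, pow_succ]
  have h1 := hpow (orderOf y)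
  rw [pow_orderOf_eq_one, inv_one, mul_one, one_mul] at h1
  have hw1 : w ^ orderOf y = 1 := by
    have : w ^ orderOf y * x = 1 * x := by rw [one_mul]; exact h1.symm
    exact mul_right_cancel this
  have hwp : IsPGroup p W := S.2.to_le (inf_le_left.trans hVS)
  obtain ⟨e, he⟩ := hwp ⟨w, hwW⟩
  have he' : w ^ p ^ e = 1 := by
    have := congrArg Subtype.val he
    simpa using this
  have hd1 : orderOf w ∣ orderOf y := orderOf_dvd_of_pow_eq_one hw1
  have hd2 : orderOf w ∣ p ^ e := orderOf_dvd_of_pow_eq_one he'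
  have hcop : (orderOf y).Coprime (p ^ e) := Nat.Coprime.pow_right e hyo
  have hw_one : w = 1 := by
    rw [← orderOf_eq_one_iff]
    exact Nat.eq_one_of_dvd_coprimes hcop hd1 hd2
  rw [hw] at hw_one
  have e3 : y * x = (y * x * y⁻¹ * x⁻¹) * x * y := by group
  rw [e3, hw_one, one_mul]

theorem main (S : Sylow p G) (D : Subgroup G)
    (hD : Cfsg.IsStronglyClosed D (S : Subgroup G))
    (hH : ∀ U : Subgroup G, U ≤ D → D ⊓ Subgroup.centralizer (U : Set G) ≤ U →
      Cfsg.HasNormalPComplement p ↥(Subgroup.normalizer (U : Set G))) :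
    ∀ V : Subgroup G, V ≤ S → ∀ g ∈ Subgroup.normalizer (V : Set G),
      (orderOf g).Coprime p → g ∈ Subgroup.centralizer (V : Set G) := by
  by_contra hcon
  push Not at hcon
  let Bad : Set (Subgroup G) := {V | V ≤ S ∧ ∃ g ∈ Subgroup.normalizer (V : Set G),
    (orderOf g).Coprime p ∧ g ∉ Subgroup.centralizer (V : Set G)}
  have hne : Bad.Nonempty := by
    obtain ⟨V, hV, g, hg, hgo, hgc⟩ := hcon
    exact ⟨V, hV, g, hg, hgo, hgc⟩
  obtain ⟨V₀, ⟨hV₀S, g, hg, hgo, hgc⟩, hmax⟩ :=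
    Set.exists_max_image Bad (fun V => Nat.card V) (Set.toFinite _) hne
  obtain ⟨x, hx1, hx2⟩ := exists_fn S V₀ hV₀S
  have hcard : Nat.card (MulAut.conj x • V₀ : Subgroup G) = Nat.card V₀ :=
    Cfsg.Agent.Lib.helper1.card_conj_smul x V₀
  have h1 := core3 S D hD hH (MulAut.conj x • V₀) hx1 hx2 (by
    intro V' hV' hlt g' hg' hgo'
    by_contra hc
    have := hmax V' ⟨hV', g', hg', hgo', hc⟩
    rw [hcard] at hlt
    exact absurd hlt (not_lt.mpr this)) (x * g * x⁻¹) (conj_mem_normalizer x g V₀ hg)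
    (by rw [orderOf_conj']; exact hgo)
  exact hgc (mem_centralizer_of_conj x g V₀ h1)

end


/-- A Frobenius normal p-complement criterion relative to a strongly closed subgroup. Let G be a finite group, S a Sylow p-subgroup and D a subgroup of S strongly closed in S with respect to G. Then G has a normal p-complement if and only if N_G(U) has a normal p-complement for every subgroup U of D with C_D(U) ≤ U. -/
theorem result {G : Type*} [Group G] [Finite G] {p : ℕ} [Fact p.Prime] (S : Sylow p G) (D : Subgroup G) (hD : Cfsg.IsStronglyClosed D (S : Subgroup G)) : Cfsg.HasNormalPComplement p G ↔ ∀ U : Subgroup G, U ≤ D → D ⊓ Subgroup.centralizer (U : Set G) ≤ U → Cfsg.HasNormalPComplement p ↥(Subgroup.normalizer (U : Set G)) := by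
  constructor
  · intro h U _ _
    exact Cfsg.Agent.S0072.hasNormalPComplement_subgroup p h _
  · intro hH
    rw [Cfsg.Agent.S0072.hasNormalPComplement_iff]
    refine Cfsg.Agent.Lib.lead.frob_main (Nat.card G) G p le_rfl ?_
    apply Cfsg.Agent.Lib.lead.frob_of_sylow S
    exact main S D hD hH

end Cfsg.Agent.S3839
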