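import Cfsg.Statements.S3868
import Mathlib
import Cfsg.Agent.Lib.helper8.CoprimeAction
import Cfsg.Agent.Lib.helper7.Rad
import Cfsg.Agent.Lib.helper1.SZ
import Cfsg.Agent.Lib.helper3.Subnormal

set_option autoImplicit false
open Cfsg

namespace Cfsg.Agent.S3868

universe u

open Polynomial in
/-- a finite commutative domain all of whose elements satisfy `r ^ m = r` has at most `m` elements -/
theorem card_le_of_pow_eq {R : Type u} [CommRing R] [IsDomain R] [Finite R] (m : ℕ) (hm : 1 < m)
    (h : ∀ r : R, r ^ m = r) : Nat.card R ≤ m := by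
  classical
  haveI : Fintype R := Fintype.ofFinite R
  have hdeg : (X ^ m - X : R[X]).natDegree = m := by
    rw [natDegree_sub_eq_left_of_natDegree_lt, natDegree_X_pow]
    rw [natDegree_X_pow, natDegree_X]; exact hm
  have hne : (X ^ m - X : R[X]) ≠ 0 := by
    intro h0
    rw [h0, natDegree_zero] at hdeg
    omega
  have hsub : (Finset.univ : Finset R).val ⊆ (X ^ m - X : R[X]).roots := by
    intro r _
    rw [mem_roots hne, IsRoot.def]
    simp [h r]
  have := card_le_degree_of_subset_roots hsub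
  rw [hdeg] at this
  rw [Nat.card_eq_fintype_card]
  exact this

open scoped IsMulCommutative in
theorem irr_card_le {V : Type u} [AddCommGroup V] [Finite V] [Nontrivial V] {p q : ℕ}
    [hp : Fact p.Prime] (hq : q.Prime) (hpq : q ≠ p) (hV : ∀ v : V, q • v = 0)
    (φ : AddMonoid.End V) (hφ : φ ^ p = 1)
    (hirr : ∀ W : AddSubgroup V, (∀ w ∈ W, φ w ∈ W) → W = ⊥ ∨ W = ⊤) :
    Nat.card V ≤ q ^ orderOf (q : ZMod p) := by
  classical
  set e := orderOf (q : ZMod p) with he
  set m := q ^ e with hm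
  have hfinE : Finite (AddMonoid.End V) :=
    Finite.of_injective (fun f : AddMonoid.End V => (f : V → V)) DFunLike.coe_injective
  set R : Subring (AddMonoid.End V) := Subring.closure {φ} with hR
  haveI hmc : IsMulCommutative ↥R := Subring.isMulCommutative_closure (by
    intro a ha b hb
    rw [Set.mem_singleton_iff] at ha hb
    rw [ha, hb])
  letI : CommRing ↥R := inferInstance
  have hφR : φ ∈ R := Subring.subset_closure (Set.mem_singleton φ)
  set φ' : ↥R := ⟨φ, hφR⟩ with hφ'
  have hcomm : ∀ r : ↥R, (r : AddMonoid.End V) * φ = φ * (r : AddMonoid.End V) := by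
    intro r
    have := congrArg Subtype.val (mul_comm r φ')
    exact this
  have hmemker : ∀ (f : AddMonoid.End V) (w : V), w ∈ AddMonoidHom.ker (f : V →+ V) ↔ f w = 0 :=
    fun f w => Iff.rfl
  haveI : Nontrivial ↥R := by
    refine ⟨⟨0, 1, ?_⟩⟩
    intro h01
    have h2 : (0 : AddMonoid.End V) = 1 := congrArg Subtype.val h01
    obtain ⟨v, hv⟩ := exists_ne (0 : V)
    have h3 := congrArg (fun f : AddMonoid.End V => f v) h2
    exact hv h3.symm
  haveI : NoZeroDivisors ↥R := by
    refine ⟨?_⟩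
    intro r s hrs
    have hker : ∀ w ∈ AddMonoidHom.ker ((r : AddMonoid.End V) : V →+ V),
        φ w ∈ AddMonoidHom.ker ((r : AddMonoid.End V) : V →+ V) := by
      intro w hw
      rw [hmemker] at hw ⊢
      have h1 := congrArg (fun f : AddMonoid.End V => f w) (hcomm r)
      have h2 : (r : AddMonoid.End V) (φ w) = φ ((r : AddMonoid.End V) w) := h1
      rw [h2, hw, map_zero]
    rcases hirr _ hker with hbot | htop
    · right
      apply Subtype.ext
      apply AddMonoidHom.ext
      intro v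
      have h1 : (r : AddMonoid.End V) ((s : AddMonoid.End V) v) = 0 := by
        have := congrArg Subtype.val hrs
        exact congrArg (fun f : AddMonoid.End V => f v) this
      have h2 : (s : AddMonoid.End V) v ∈ AddMonoidHom.ker ((r : AddMonoid.End V) : V →+ V) :=
        (hmemker _ _).mpr h1
      rw [hbot, AddSubgroup.mem_bot] at h2
      exact h2
    · left
      apply Subtype.ext
      apply AddMonoidHom.ext
      intro v
      have h2 : v ∈ AddMonoidHom.ker ((r : AddMonoid.End V) : V →+ V) := by rw [htop]; trivial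
      exact (hmemker _ _).mp h2
  haveI : IsDomain ↥R := NoZeroDivisors.to_isDomain _
  haveI : Finite ↥R :=
    Finite.of_injective (fun r : ↥R => (r : AddMonoid.End V)) Subtype.val_injective
  have hq0 : (q : ↥R) = 0 := by
    apply Subtype.ext
    have h1 : (((q : ↥R) : AddMonoid.End V)) = (q : AddMonoid.End V) := Subring.coe_natCast R q
    rw [h1]
    show (q : AddMonoid.End V) = 0
    apply AddMonoidHom.ext
    intro v
    show (q : AddMonoid.End V) v = 0
    rw [AddMonoid.End.natCast_apply, hV]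
  haveI : CharP ↥R q := (CharP.charP_iff_prime_eq_zero hq).mpr hq0
  haveI : ExpChar ↥R q := ExpChar.prime hq
  have hqp : ((q : ℕ) : ZMod p) ≠ 0 := by
    intro h0
    rw [ZMod.natCast_eq_zero_iff] at h0
    exact hpq ((Nat.prime_dvd_prime_iff_eq hp.out hq).mp h0).symm
  have hm1 : ((m : ℕ) : ZMod p) = 1 := by
    rw [hm, Nat.cast_pow, he, pow_orderOf_eq_one]
  have hepos : 0 < e := by
    rw [he]
    apply orderOf_pos_iff.mpr
    exact isOfFinOrder_iff_pow_eq_one.mpr
      ⟨p - 1, Nat.sub_pos_of_lt hp.out.one_lt, ZMod.pow_card_sub_one_eq_one hqp⟩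
  have hmgt : 1 < m := by
    rw [hm]
    exact Nat.one_lt_pow (by omega) hq.one_lt
  -- p ∣ m - 1
  have hpm : p ∣ m - 1 := by
    rw [← ZMod.natCast_eq_zero_iff, Nat.cast_sub hmgt.le, hm1]
    simp
  obtain ⟨t, ht⟩ := hpm
  have hmt : m = 1 + p * t := by omega
  have hφ'p : φ' ^ p = 1 := Subtype.ext (by
    rw [SubmonoidClass.coe_pow]
    exact hφ)
  have hφ'm : φ' ^ m = φ' := by
    rw [hmt, pow_add, pow_one, pow_mul, hφ'p, one_pow, mul_one]
  -- Frobenius
  let F : ↥R →+* ↥R := iterateFrobenius ↥R q e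
  have hF : ∀ r : ↥R, F r = r ^ m := fun r => iterateFrobenius_def q e r
  have hall : ∀ r : ↥R, r ^ m = r := by
    intro r
    let T : Subring ↥R := RingHom.eqLocus F (RingHom.id ↥R)
    have hT : Subring.closure {φ} ≤ T.map R.subtype := by
      rw [Subring.closure_le]
      intro x hx
      rw [Set.mem_singleton_iff] at hx
      subst hx
      refine ⟨φ', ?_, rfl⟩
      show F φ' = φ'
      rw [hF, hφ'm]
    obtain ⟨r', hr', hrr⟩ := hT r.2
    have : r' = r := Subtype.ext hrr
    rw [← this, ← hF]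
    exact hr'
  have hcardR : Nat.card ↥R ≤ m := card_le_of_pow_eq m hmgt hall
  -- V = R v
  obtain ⟨v, hv⟩ := exists_ne (0 : V)
  let ev : ↥R →+ V := (AddMonoidHom.eval v).comp R.subtype.toAddMonoidHom
  have hev : ∀ r : ↥R, ev r = (r : AddMonoid.End V) v := fun r => rfl
  have hinv : ∀ w ∈ ev.range, φ w ∈ ev.range := by
    rintro w ⟨r, rfl⟩
    exact ⟨φ' * r, rfl⟩
  have hsurj : Function.Surjective ev := by
    rcases hirr _ hinv with hbot | htop
    · exfalso
      have h1 : ev 1 ∈ ev.range := ⟨1, rfl⟩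
      rw [hbot, AddSubgroup.mem_bot] at h1
      exact hv h1
    · exact AddMonoidHom.range_eq_top.mp htop
  exact (Nat.card_le_card_of_surjective ev hsurj).trans hcardR

theorem core {G : Type u} [Group G] [Finite G] {p q : ℕ} [Fact p.Prime] (hq : q.Prime)
    (hpq : q ≠ p) (P A : Subgroup G) [hAn : A.Normal] (hP : Nat.card P = p)
    (hA : Cfsg.IsElementaryAbelian q A) (hAne : A ≠ ⊥)
    (hirr : ∀ B : Subgroup G, B ≤ A → P ≤ Subgroup.normalizer (B : Set G) → B = ⊥ ∨ B = A)
    (hnc : ¬ A ≤ Subgroup.centralizer (P : Set G)) :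
    Nat.card A = q ^ orderOf (q : ZMod p) := by
  classical
  have hp : p.Prime := Fact.out
  haveI : Fact q.Prime := ⟨hq⟩
  obtain ⟨hAc, hAq⟩ := hA
  have hPnt : Nontrivial P := by
    rw [← Finite.one_lt_card_iff_nontrivial, hP]
    exact hp.one_lt
  obtain ⟨x, hx1⟩ := exists_ne (1 : P)
  have hxo : orderOf (x : G) = p := by
    have h1 : orderOf x ∣ p := hP ▸ orderOf_dvd_natCard x
    rcases (Nat.dvd_prime hp).mp h1 with h | h
    · exact absurd (orderOf_eq_one_iff.mp h) hx1
    · rw [Subgroup.orderOf_coe]; exact h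
  have hxp : (x : G) ^ p = 1 := by rw [← hxo]; exact pow_orderOf_eq_one _
  have hPz : Subgroup.zpowers (x : G) = P := by
    apply Subgroup.eq_of_le_of_card_ge ((Subgroup.zpowers_le).mpr x.2)
    rw [Nat.card_zpowers, hxo, hP]
  have hfix : A ⊓ Subgroup.centralizer (P : Set G) = ⊥ := by
    have hnorm : P ≤ Subgroup.normalizer ((A ⊓ Subgroup.centralizer (P : Set G) : Subgroup G) : Set G) := by
      apply Cfsg.Agent.Lib.helper8.le_normalizer_of_conj_mem
      intro a ha y hy
      refine Subgroup.mem_inf.mpr ⟨hAn.conj_mem y (Subgroup.mem_inf.mp hy).1 a, ?_⟩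
      have hya : a * y = y * a := (Subgroup.mem_centralizer_iff.mp (Subgroup.mem_inf.mp hy).2 a ha)
      have : a * y * a⁻¹ = y := by rw [hya]; group
      rw [this]; exact (Subgroup.mem_inf.mp hy).2
    rcases hirr (A ⊓ Subgroup.centralizer (P : Set G)) inf_le_left hnorm with h | h
    · exact h
    · exact absurd (inf_eq_left.mp h) hnc
  have hmod : Nat.card A ≡ 1 [MOD p] := by
    let ψ : ↥P →* MulAut ↥A := (MulAut.conjNormal (H := A)).comp P.subtype
    letI : MulAction ↥P ↥A := MulAction.compHom ↥A ψ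
    have hsm : ∀ (g : P) (n : A), g • n = ψ g n := fun g n => rfl
    have hPp : IsPGroup p P := IsPGroup.of_card (n := 1) (by rw [hP, pow_one])
    have h1 := hPp.card_modEq_card_fixedPoints ↥A
    have key : ∀ c : MulAction.fixedPoints ↥P ↥A, (c : A) = 1 := by
      intro c
      have hc : (c : A).1 ∈ A ⊓ Subgroup.centralizer (P : Set G) := by
        refine Subgroup.mem_inf.mpr ⟨(c : A).2, ?_⟩
        rw [Subgroup.mem_centralizer_iff]
        intro g hg
        have h1 := c.2 ⟨g, hg⟩
        rw [hsm] at h1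
        have h2 := congrArg Subtype.val h1
        have h3 : ((ψ ⟨g, hg⟩ (c : A) : A) : G) = g * (c : A).1 * g⁻¹ :=
          MulAut.conjNormal_apply g (c : A)
        rw [h3] at h2
        exact (mul_inv_eq_iff_eq_mul.mp h2)
      rw [hfix, Subgroup.mem_bot] at hc
      exact Subtype.ext hc
    have h2 : Nat.card (MulAction.fixedPoints ↥P ↥A) = 1 := by
      rw [Nat.card_eq_one_iff_unique]
      refine ⟨⟨?_⟩, ⟨⟨1, fun g => by rw [hsm, map_one]⟩⟩⟩
      intro a b
      exact Subtype.ext ((key a).trans (key b).symm)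
    rw [h2] at h1
    exact h1
  have hAqg : IsPGroup q A := by
    intro a
    refine ⟨1, ?_⟩
    rw [pow_one]
    exact Subtype.ext (hAq a.1 a.2)
  obtain ⟨k, hk⟩ := IsPGroup.iff_card.mp hAqg
  have hk0 : k ≠ 0 := by
    rintro rfl
    rw [pow_zero] at hk
    exact hAne ((Subgroup.card_eq_one).mp hk)
  have hdvd : orderOf (q : ZMod p) ∣ k := by
    apply orderOf_dvd_of_pow_eq_one
    have h1 : ((q ^ k : ℕ) : ZMod p) = ((1 : ℕ) : ZMod p) := by
      rw [ZMod.natCast_eq_natCast_iff, ← hk]
      exact hmod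
    simpa using h1
  have hle1 : q ^ orderOf (q : ZMod p) ≤ Nat.card A := by
    rw [hk]
    exact Nat.pow_le_pow_right hq.pos (Nat.le_of_dvd (Nat.pos_of_ne_zero hk0) hdvd)
  have hle2 : Nat.card A ≤ q ^ orderOf (q : ZMod p) := by
    letI : CommGroup A := { (inferInstance : Group A) with
      mul_comm := fun a b => hAc.is_comm.comm a b }
    haveI : Nontrivial A := (Subgroup.nontrivial_iff_ne_bot A).mpr hAne
    haveI : Nontrivial (Additive A) := Additive.ofMul.nontrivial
    let φ : AddMonoid.End (Additive A) :=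
      MonoidHom.toAdditive ((MulAut.conjNormal (x : G) : MulAut A).toMonoidHom)
    have hφ_apply : ∀ w : Additive A, (((φ w).toMul : A) : G) = (x : G) * (w.toMul : A).1 * (x : G)⁻¹ :=
      fun w => MulAut.conjNormal_apply (x : G) (w.toMul : A)
    have hφ_pow : ∀ (k : ℕ) (w : Additive A),
        ((((φ ^ k) w).toMul : A) : G) = (x : G) ^ k * (w.toMul : A).1 * ((x : G) ^ k)⁻¹ := by
      intro k
      induction k with
      | zero => intro w; simp
      | succ k ih =>
        intro w
        rw [pow_succ']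
        show (((φ ((φ ^ k) w)).toMul : A) : G) = _
        rw [hφ_apply, ih, pow_succ']
        group
    have hφp : φ ^ p = 1 := by
      apply AddMonoidHom.ext
      intro w
      have h1 := hφ_pow p w
      rw [hxp] at h1
      have h3 : (((φ ^ p) w).toMul : A) = (w.toMul : A) := Subtype.ext (by rw [h1]; group)
      exact congrArg Additive.ofMul h3
    have hV : ∀ v : Additive A, q • v = 0 := by
      intro v
      have h1 : (v.toMul : A) ^ q = 1 := Subtype.ext (by
        rw [Subgroup.coe_pow]; exact hAq _ (v.toMul : A).2)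
      exact congrArg Additive.ofMul h1
    have hirr' : ∀ W : AddSubgroup (Additive A), (∀ w ∈ W, φ w ∈ W) → W = ⊥ ∨ W = ⊤ := by
      intro W hW
      let B₀ : Subgroup A :=
        { carrier := {a | Additive.ofMul a ∈ W}
          mul_mem' := fun {a b} ha hb => W.add_mem ha hb
          one_mem' := W.zero_mem
          inv_mem' := fun {a} ha => W.neg_mem ha }
      have hB₀ : ∀ a : A, a ∈ B₀ ↔ Additive.ofMul a ∈ W := fun a => Iff.rfl
      set B : Subgroup G := B₀.map A.subtype with hB
      have hBA : B ≤ A := Subgroup.map_subtype_le _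
      have hxB : (x : G) ∈ Subgroup.normalizer (B : Set G) := by
        apply Subgroup.mem_normalizer_fintype
        rintro b ⟨a, ha, rfl⟩
        refine ⟨(φ (Additive.ofMul a)).toMul, ?_, ?_⟩
        · exact hW _ ((hB₀ a).mp ha)
        · exact hφ_apply (Additive.ofMul a)
      have hPB : P ≤ Subgroup.normalizer (B : Set G) := by
        rw [← hPz, Subgroup.zpowers_le]; exact hxB
      rcases hirr B hBA hPB with h | h
      · left
        rw [eq_bot_iff]
        intro w hw
        have h1 : ((w.toMul : A) : G) ∈ B := ⟨w.toMul, hw, rfl⟩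
        rw [h, Subgroup.mem_bot] at h1
        have h2 : (w.toMul : A) = 1 := Subtype.ext h1
        exact AddSubgroup.mem_bot.mpr (congrArg Additive.ofMul h2)
      · right
        rw [eq_top_iff]
        intro w _
        have h1 : ((w.toMul : A) : G) ∈ B := by rw [h]; exact (w.toMul : A).2
        obtain ⟨a, ha, hae⟩ := h1
        have h2 : a = w.toMul := Subtype.ext hae
        rw [h2] at ha
        exact ha
    have := irr_card_le hq hpq hV φ hφp hirr'
    rwa [Nat.card_congr (Additive.toMul : Additive A ≃ A)] at this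
  exact le_antisymm hle2 hle1


theorem pelt_trivial {G : Type u} [Group G] [Finite G] {p : ℕ} [Fact p.Prime] (N : Subgroup G)
    (hpN : ¬ p ∣ Nat.card N) (x : G) (hx : x ∈ N) (k : ℕ) (hxk : x ^ (p ^ k) = 1) : x = 1 := by
  have hp : p.Prime := Fact.out
  have h1 : orderOf x ∣ p ^ k := orderOf_dvd_of_pow_eq_one hxk
  have h2 : orderOf x ∣ Nat.card N := by
    have := orderOf_dvd_natCard (⟨x, hx⟩ : N)
    rwa [← Subgroup.orderOf_coe] at this
  have h3 : (p ^ k).Coprime (Nat.card N) :=
    Nat.Coprime.pow_left k ((Nat.Prime.coprime_iff_not_dvd hp).mpr hpN)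
  have h4 : orderOf x = 1 := Nat.eq_one_of_dvd_coprimes h3 h1 h2
  exact orderOf_eq_one_iff.mp h4

theorem framework {G : Type u} [Group G] [Finite G] {p : ℕ} [Fact p.Prime] (P N : Subgroup G)
    [hNn : N.Normal] (hP : Nat.card P = p) (hNne : N ≠ ⊥)
    (hmin : ∀ B : Subgroup G, B.Normal → B ≤ N → B = ⊥ ∨ B = N)
    (hsup : P ⊔ N = ⊤) (hpN : ¬ p ∣ Nat.card N) (hPnn : ¬ P.Normal)
    (hstar : ∀ H : Subgroup G, H ≠ ⊤ → P ≤ H → H ≤ Subgroup.normalizer (P : Set G)) :
    ∃ q : ℕ, q.Prime ∧ q ≠ p ∧ Nat.card G = p * q ^ orderOf (q : ZMod p) ∧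
      Nat.card N = q ^ orderOf (q : ZMod p) ∧ Cfsg.IsElementaryAbelian q N := by
  classical
  have hp : p.Prime := Fact.out
  have hcop : (Nat.card P).Coprime (Nat.card N) := by
    rw [hP]; exact (Nat.Prime.coprime_iff_not_dvd hp).mpr hpN
  have hPN : P ⊓ N = ⊥ := Subgroup.inf_eq_bot_of_coprime hcop
  have hPNone : ∀ x, x ∈ P → x ∈ N → x = 1 := by
    intro x hxP hxN
    have : x ∈ P ⊓ N := Subgroup.mem_inf.mpr ⟨hxP, hxN⟩
    rw [hPN] at this
    exact Subgroup.mem_bot.mp this
  have hcardG : Nat.card G = p * Nat.card N := by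
    have h1 := Cfsg.Agent.Lib.helper1.card_sup_of_disjoint_normal P N (disjoint_iff.mpr hPN)
    rw [hsup, Subgroup.card_top, hP, mul_comm] at h1
    exact h1
  have hnc : ¬ N ≤ Subgroup.centralizer (P : Set G) := by
    intro h
    apply hPnn
    rw [← Subgroup.normalizer_eq_top_iff, eq_top_iff, ← hsup]
    exact sup_le Subgroup.le_normalizer (h.trans (Subgroup.centralizer_le_normalizer (P : Set G)))
  have hPp : IsPGroup p P := IsPGroup.of_card (n := 1) (by rw [hP, pow_one])
  have hsolv : Group.IsSolvable P := by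
    haveI := hPp.isNilpotent
    infer_instance
  have hPnormN : P ≤ Subgroup.normalizer (N : Set G) := by
    rw [Subgroup.normalizer_eq_top]; exact le_top
  have hex : ∃ q : ℕ, ∃ _ : Fact q.Prime, ∃ Q : Sylow q N,
      P ≤ Subgroup.normalizer ((Q : Subgroup N).map N.subtype : Set G) ∧
        P ⊔ (Q : Subgroup N).map N.subtype = ⊤ := by
    by_contra hcon
    push Not at hcon
    apply hnc
    set C : Subgroup G := N ⊓ Subgroup.centralizer (P : Set G) with hC
    have hCN : C ≤ N := inf_le_left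
    have hdvd : Nat.card N ∣ Nat.card C := by
      rw [← Nat.factorization_prime_le_iff_dvd Nat.card_pos.ne' Nat.card_pos.ne']
      intro q hq
      haveI hqf : Fact q.Prime := ⟨hq⟩
      obtain ⟨Q, hQ⟩ := Cfsg.Agent.Lib.helper8.exists_invariant_sylow (p := q) P N hPnormN hcop
        (Or.inl hsolv)
      set Q' : Subgroup G := (Q : Subgroup N).map N.subtype with hQ'
      have hQ'N : Q' ≤ N := Subgroup.map_subtype_le _
      have hne := hcon q hqf Q hQ
      have h1 : Q' ≤ Subgroup.normalizer (P : Set G) :=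
        le_sup_right.trans (hstar (P ⊔ Q') hne le_sup_left)
      have h2 : Q' ≤ C := by
        intro y hy
        refine Subgroup.mem_inf.mpr ⟨hQ'N hy, ?_⟩
        rw [Subgroup.mem_centralizer_iff]
        intro a ha
        have h3 : y * a * y⁻¹ ∈ P := (Subgroup.mem_normalizer_iff.mp (h1 hy) a).mp ha
        have h4 : y * a * y⁻¹ * a⁻¹ ∈ P := P.mul_mem h3 (P.inv_mem ha)
        have h5 : y * a * y⁻¹ * a⁻¹ ∈ N := by
          have : y * (a * y⁻¹ * a⁻¹) ∈ N :=
            N.mul_mem (hQ'N hy) (hNn.conj_mem _ (N.inv_mem (hQ'N hy)) a)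
          simpa [mul_assoc] using this
        have h6 := hPNone _ h4 h5
        calc a * y = (y * a * y⁻¹ * a⁻¹)⁻¹ * (y * a) := by group
          _ = y * a := by rw [h6]; group
      have h7 : Nat.card Q' = q ^ (Nat.card N).factorization q :=
        Cfsg.Agent.Lib.helper8.card_sylow_map N Q
      have h8 : Nat.card Q' ∣ Nat.card C := Subgroup.card_dvd_of_le h2
      rw [h7] at h8
      exact (hq.pow_dvd_iff_le_factorization Nat.card_pos.ne').mp h8
    have hCeq : C = N := Subgroup.eq_of_le_of_card_ge hCN (Nat.le_of_dvd Nat.card_pos hdvd)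
    rw [← hCeq]
    exact inf_le_right
  obtain ⟨q, hqf, Q, hQnorm, hQsup⟩ := hex
  have hq : q.Prime := hqf.out
  set Q' : Subgroup G := (Q : Subgroup N).map N.subtype with hQ'
  have hQ'N : Q' ≤ N := Subgroup.map_subtype_le _
  have hNQ : N ≤ Q' := by
    intro n hn
    have h1 : n ∈ Q' ⊔ P := by rw [sup_comm, hQsup]; trivial
    rw [Cfsg.Agent.Lib.helper8.mem_sup_iff_of_le_normalizer hQnorm] at h1
    obtain ⟨b, hb, a, ha, rfl⟩ := h1
    have haN : a ∈ N := by
      have := N.mul_mem (N.inv_mem (hQ'N hb)) hn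
      simpa using this
    rw [hPNone a ha haN, mul_one]
    exact hb
  have hQeq : Q' = N := le_antisymm hQ'N hNQ
  have hNq : IsPGroup q N := by
    have h1 : IsPGroup q Q' := Q.isPGroup'.map N.subtype
    exact hQeq ▸ h1
  obtain ⟨k, hk⟩ := IsPGroup.iff_card.mp hNq
  have hk0 : k ≠ 0 := by
    rintro rfl
    rw [pow_zero] at hk
    exact hNne ((Subgroup.card_eq_one).mp hk)
  have hqp : q ≠ p := by
    rintro rfl
    apply hpN
    rw [hk]
    exact dvd_pow_self q hk0
  haveI : Nontrivial N := (Subgroup.nontrivial_iff_ne_bot N).mpr hNne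
  have hZ : (Subgroup.center N).map N.subtype = N := by
    have hZn : ((Subgroup.center N).map N.subtype).Normal :=
      Cfsg.Agent.Lib.helper7.normal_map_subtype_of_char _
    rcases hmin _ hZn (Subgroup.map_subtype_le _) with h | h
    · exfalso
      have h1 := hNq.center_nontrivial
      rw [Subgroup.map_eq_bot_iff_of_injective _ N.subtype_injective] at h
      exact (Subgroup.nontrivial_iff_ne_bot _).mp h1 h
    · exact h
  have hNcomm : ∀ a ∈ N, ∀ b ∈ N, a * b = b * a := by
    intro a ha b hb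
    rw [← hZ] at ha
    obtain ⟨a', ha', rfl⟩ := ha
    have := Subgroup.mem_center_iff.mp ha' ⟨b, hb⟩
    exact (congrArg Subtype.val this).symm
  have hNexp : ∀ a ∈ N, a ^ q = 1 := by
    let Ω : Subgroup G :=
      { carrier := {a | a ∈ N ∧ a ^ q = 1}
        mul_mem' := fun {a b} ha hb => ⟨N.mul_mem ha.1 hb.1, by
          rw [(show Commute a b from hNcomm a ha.1 b hb.1).mul_pow, ha.2, hb.2, one_mul]⟩
        one_mem' := ⟨N.one_mem, one_pow q⟩
        inv_mem' := fun {a} ha => ⟨N.inv_mem ha.1, by rw [inv_pow, ha.2, inv_one]⟩ }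
    have hΩn : Ω.Normal := by
      constructor
      intro a ha g
      exact ⟨hNn.conj_mem a ha.1 g, by rw [conj_pow, ha.2]; group⟩
    have hΩN : Ω ≤ N := fun a ha => ha.1
    rcases hmin Ω hΩn hΩN with h | h
    · exfalso
      have hqN : q ∣ Nat.card N := by rw [hk]; exact dvd_pow_self q hk0
      obtain ⟨y, hy⟩ := exists_prime_orderOf_dvd_card' q hqN
      have hyΩ : (y : G) ∈ Ω := ⟨y.2, by
        have : y ^ q = 1 := by rw [← hy]; exact pow_orderOf_eq_one y
        exact congrArg Subtype.val this⟩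
      rw [h, Subgroup.mem_bot] at hyΩ
      have : y = 1 := Subtype.ext hyΩ
      rw [this, orderOf_one] at hy
      exact hq.one_lt.ne hy
    · intro a ha
      rw [← h] at ha
      exact ha.2
  have hNel : Cfsg.IsElementaryAbelian q N :=
    ⟨⟨⟨fun a b => Subtype.ext (hNcomm a.1 a.2 b.1 b.2)⟩⟩, hNexp⟩
  have hirr : ∀ B : Subgroup G, B ≤ N → P ≤ Subgroup.normalizer (B : Set G) → B = ⊥ ∨ B = N := by
    intro B hBN hPB
    apply hmin B ?_ hBN
    rw [← Subgroup.normalizer_eq_top_iff, eq_top_iff, ← hsup]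
    refine sup_le hPB ?_
    intro n hn
    apply Subgroup.mem_normalizer_fintype
    intro b hb
    have : n * b * n⁻¹ = b := by rw [hNcomm n hn b (hBN hb)]; group
    rw [this]; exact hb
  have hcard := core hq hqp P N hP hNel hNne hirr hnc
  exact ⟨q, hq, hqp, by rw [hcardG, hcard], hcard, hNel⟩


/-- if `G/K` is `p`-closed then `P K` is normal -/
theorem sup_normal_of_quot {G : Type u} [Group G] [Finite G] {p : ℕ} [Fact p.Prime]
    (P₀ : Sylow p G) (K : Subgroup G) [K.Normal] (h : Cfsg.IsPClosed p (G ⧸ K)) :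
    ((P₀ : Subgroup G) ⊔ K).Normal := by
  have h1 := h (P₀.mapSurjective (QuotientGroup.mk'_surjective K))
  have h2 := h1.comap (QuotientGroup.mk' K)
  rw [Sylow.coe_mapSurjective, Subgroup.comap_map_eq, QuotientGroup.ker_mk'] at h2
  exact h2


/-- Structure of the non-simple minimal non-p-closed groups. Call a finite group p-closed when its Sylow p-subgroups are normal, and minimal non-p-closed when it is not p-closed but every proper subgroup and every proper quotient is. If such a group G is not simple, then there is a prime q ≠ p such that G has order p · q^e, where e is the multiplicative order of q modulo p, and G has a normal subgroup A of order q^e that is elementary abelian and is a minimal normal subgroup of G (so G is the semidirect product of A by a group of order p acting irreducibly). -/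
theorem result {G : Type*} [Group G] [Finite G] {p : ℕ} [Fact p.Prime]
    (hnc : ¬ Cfsg.IsPClosed p G) (hsub : ∀ H : Subgroup G, H ≠ ⊤ → Cfsg.IsPClosed p ↥H)
    (hquo : ∀ (N : Subgroup G) [N.Normal], N ≠ ⊥ → Cfsg.IsPClosed p (G ⧸ N)) (hns : ¬ IsSimpleGroup G) :
    ∃ q : ℕ, q.Prime ∧ q ≠ p ∧ Nat.card G = p * q ^ orderOf (q : ZMod p) ∧
      ∃ A : Subgroup G, A.Normal ∧ Nat.card ↥A = q ^ orderOf (q : ZMod p) ∧ Cfsg.IsElementaryAbelian q A ∧
        ∀ B : Subgroup G, B.Normal → B ≤ A → B = ⊥ ∨ B = A := by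
  classical
  have hp : p.Prime := Fact.out
  have hex : ∃ P₀ : Sylow p G, ¬ (P₀ : Subgroup G).Normal := by
    by_contra h; push Not at h; exact hnc h
  obtain ⟨P₀, hP₀⟩ := hex
  haveI hnt : Nontrivial G := by
    by_contra hs
    rw [not_nontrivial_iff_subsingleton] at hs
    apply hP₀
    have : (P₀ : Subgroup G) = ⊤ := Subsingleton.elim _ _
    rw [this]; infer_instance
  obtain ⟨N₀, hN₀n, hN₀b, hN₀t⟩ : ∃ H : Subgroup G, H.Normal ∧ H ≠ ⊥ ∧ H ≠ ⊤ := by
    by_contra hcon
    push Not at hcon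
    have hsimple : IsSimpleGroup G := by
      refine { toNontrivial := hnt, eq_bot_or_eq_top_of_normal := ?_ }
      intro H hH
      by_cases hb : H = ⊥
      · exact Or.inl hb
      · exact Or.inr (hcon H hH hb)
    exact hns hsimple
  obtain ⟨N, ⟨hNn, hNne, hNmin⟩, hNN₀⟩ := Cfsg.Agent.Lib.helper3.exists_minNormal_le N₀ hN₀n hN₀b
  haveI := hNn
  have hNtop : N ≠ ⊤ := fun h => hN₀t (top_le_iff.mp (h ▸ hNN₀))
  set P : Subgroup G := (P₀ : Subgroup G) with hPdef
  have hPp : IsPGroup p P := P₀.isPGroup'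
  have hPNn : (P ⊔ N).Normal := sup_normal_of_quot P₀ N (hquo N hNne)
  have hsup : P ⊔ N = ⊤ := by
    by_contra hne
    apply hP₀
    have hcl := hsub (P ⊔ N) hne (P₀.subtype le_sup_left)
    haveI hch : ((P₀.subtype (le_sup_left : P ≤ P ⊔ N) : Sylow p ↥(P ⊔ N)) :
        Subgroup ↥(P ⊔ N)).Characteristic := Sylow.characteristic_of_normal _ hcl
    have h3 := Cfsg.Agent.Lib.helper7.normal_map_subtype_of_char (H := P ⊔ N)
      ((P₀.subtype (le_sup_left : P ≤ P ⊔ N) : Sylow p ↥(P ⊔ N)) : Subgroup ↥(P ⊔ N))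
    rw [Sylow.coe_subtype, Subgroup.map_subgroupOf_eq_of_le le_sup_left] at h3
    exact h3
  have hpN : ¬ p ∣ Nat.card N := by
    intro hdvd
    obtain ⟨S⟩ : Nonempty (Sylow p N) := inferInstance
    have hSn := hsub N hNtop S
    haveI hch : (S : Subgroup N).Characteristic := Sylow.characteristic_of_normal S hSn
    have h3 := Cfsg.Agent.Lib.helper7.normal_map_subtype_of_char (H := N) (S : Subgroup N)
    rcases hNmin _ h3 (Subgroup.map_subtype_le _) with h | h
    · rw [Subgroup.map_eq_bot_iff_of_injective _ N.subtype_injective] at h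
      exact S.ne_bot_of_dvd_card hdvd h
    · have hNp : IsPGroup p N := by
        have h1 : IsPGroup p ((S : Subgroup N).map N.subtype) := S.isPGroup'.map N.subtype
        exact h ▸ h1
      have h4 : IsPGroup p (P ⊔ N : Subgroup G) := IsPGroup.to_sup_of_normal_right hPp hNp
      have h5 : P ⊔ N = P := P₀.is_maximal' h4 le_sup_left
      rw [hsup] at h5
      apply hP₀
      rw [← h5]; infer_instance
  have hPNone : ∀ x, x ∈ P → x ∈ N → x = 1 := by
    intro x hxP hxN
    obtain ⟨k, hk⟩ := hPp ⟨x, hxP⟩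
    exact pelt_trivial N hpN x hxN k (congrArg Subtype.val hk)
  have hcardP : Nat.card P = p := by
    obtain ⟨n, hn⟩ := IsPGroup.iff_card.mp hPp
    have hn0 : n ≠ 0 := by
      rintro rfl
      rw [pow_zero] at hn
      apply hP₀
      rw [(Subgroup.card_eq_one).mp hn]; infer_instance
    obtain ⟨n', rfl⟩ : ∃ n', n = n' + 1 := ⟨n - 1, by omega⟩
    obtain ⟨K, hK⟩ := Sylow.exists_subgroup_card_pow_prime (G := P) p (n := n')
      (by rw [hn]; exact pow_dvd_pow p (Nat.le_succ n'))
    have hKidx : K.index = p := by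
      have h1 := K.card_mul_index
      rw [hK, hn, pow_succ] at h1
      exact Nat.eq_of_mul_eq_mul_left (pow_pos hp.pos n') h1
    have hKn : K.Normal := by
      apply Subgroup.normal_of_index_eq_minFac_card
      rw [hKidx, hn, Nat.Prime.pow_minFac hp (by omega)]
    set P₁ : Subgroup G := K.map P.subtype with hP₁
    have hP₁P : P₁ ≤ P := Subgroup.map_subtype_le _
    have hP₁card : Nat.card P₁ = p ^ n' := by
      rw [hP₁, Subgroup.card_map_of_injective P.subtype_injective, hK]
    have hPnormP₁ : P ≤ Subgroup.normalizer (P₁ : Set G) := by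
      apply Cfsg.Agent.Lib.helper8.le_normalizer_of_conj_mem
      rintro a ha _ ⟨y, hy, rfl⟩
      exact ⟨⟨a, ha⟩ * y * ⟨a, ha⟩⁻¹, hKn.conj_mem y hy _, rfl⟩
    have hne : P₁ ⊔ N ≠ ⊤ := by
      intro htop
      have hPle : P ≤ P₁ := by
        intro x hx
        have h1 : x ∈ P₁ ⊔ N := by rw [htop]; trivial
        rw [← SetLike.mem_coe, Subgroup.mul_normal] at h1
        obtain ⟨a, ha, n, hn', rfl⟩ := Set.mem_mul.mp h1
        have hnP : n ∈ P := by
          have := P.mul_mem (P.inv_mem (hP₁P ha)) hx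
          simpa using this
        rw [hPNone n hnP hn', mul_one]; exact ha
      have := Subgroup.card_le_of_le hPle
      rw [hP₁card, hn] at this
      exact absurd this (not_le.mpr (Nat.pow_lt_pow_right hp.one_lt (Nat.lt_succ_self n')))
    obtain ⟨S, hS⟩ := (IsPGroup.comap_subtype (hPp.to_le hP₁P) (K := P₁ ⊔ N)).exists_le_sylow
    have hSn := hsub (P₁ ⊔ N) hne S
    have hcen : ∀ a ∈ P₁, ∀ n ∈ N, a * n = n * a := by
      intro a ha n hn'
      have haS : (⟨a, Subgroup.mem_sup_left ha⟩ : ↥(P₁ ⊔ N)) ∈ (S : Subgroup ↥(P₁ ⊔ N)) := hS ha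
      have hcS : (⟨a, Subgroup.mem_sup_left ha⟩ : ↥(P₁ ⊔ N)) *
          ((⟨n, Subgroup.mem_sup_right hn'⟩ : ↥(P₁ ⊔ N)) *
            (⟨a, Subgroup.mem_sup_left ha⟩ : ↥(P₁ ⊔ N))⁻¹ *
            (⟨n, Subgroup.mem_sup_right hn'⟩ : ↥(P₁ ⊔ N))⁻¹) ∈ (S : Subgroup ↥(P₁ ⊔ N)) :=
        Subgroup.mul_mem _ haS (hSn.conj_mem _ (Subgroup.inv_mem _ haS) _)
      obtain ⟨k, hk⟩ := S.isPGroup' ⟨_, hcS⟩
      have hk' : (a * (n * a⁻¹ * n⁻¹)) ^ (p ^ k) = 1 := by
        have := congrArg (fun z : (S : Subgroup ↥(P₁ ⊔ N)) => ((z : ↥(P₁ ⊔ N)) : G)) hk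
        exact this
      have hcN : a * (n * a⁻¹ * n⁻¹) ∈ N := by
        have : (a * n * a⁻¹) * n⁻¹ ∈ N := N.mul_mem (hNn.conj_mem n hn' a) (N.inv_mem hn')
        simpa [mul_assoc] using this
      have h1 := pelt_trivial N hpN _ hcN k hk'
      calc a * n = (a * (n * a⁻¹ * n⁻¹)) * (n * a) := by group
        _ = n * a := by rw [h1, one_mul]
    have hP₁n : P₁.Normal := by
      rw [← Subgroup.normalizer_eq_top_iff, eq_top_iff, ← hsup]
      refine sup_le hPnormP₁ ?_
      intro n hn'
      apply Subgroup.mem_normalizer_fintype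
      intro b hb
      have : n * b * n⁻¹ = b := by rw [← hcen b hb n hn']; group
      rw [this]; exact hb
    have hP₁bot : P₁ = ⊥ := by
      by_contra hne'
      apply hP₀
      haveI := hP₁n
      have h1 := sup_normal_of_quot P₀ P₁ (hquo P₁ hne')
      have h2 : P ⊔ P₁ = P := sup_eq_left.mpr hP₁P
      rw [← hPdef, h2] at h1
      exact h1
    rw [hP₁bot, Subgroup.card_bot] at hP₁card
    have hn'0 : n' = 0 := by
      by_contra h0
      have := Nat.one_lt_pow h0 hp.one_lt
      omega
    rw [hn, hn'0]; simp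
  have hstar : ∀ H : Subgroup G, H ≠ ⊤ → P ≤ H → H ≤ Subgroup.normalizer (P : Set G) := by
    intro H hH hPH
    have h1 := hsub H hH (P₀.subtype hPH)
    rw [Sylow.coe_subtype] at h1
    exact (Subgroup.normal_subgroupOf_iff_le_normalizer hPH).mp h1
  obtain ⟨q, hq, hqp, hG, hNc, hNel⟩ := framework P N hcardP hNne hNmin hsup hpN hP₀ hstar
  exact ⟨q, hq, hqp, hG, N, hNn, hNc, hNel, hNmin⟩

end Cfsg.Agent.S3868
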