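import Cfsg.Statements.S3869
import Mathlib
import Cfsg.Agent.S3868

set_option autoImplicit false
open Cfsg

namespace Cfsg.Agent.S3869

universe u

/-- `G = P A` with `A` abelian normal, `P` of prime order centralizing `A`: `G` is abelian -/
theorem comm_of_central {G : Type u} [Group G] {p : ℕ} [Fact p.Prime] (P A : Subgroup G) [A.Normal]
    (hP : Nat.card P = p) (hAc : ∀ a ∈ A, ∀ b ∈ A, a * b = b * a) (hsup : P ⊔ A = ⊤)
    (hcen : ∀ x ∈ P, ∀ a ∈ A, x * a = a * x) : ∀ g h : G, g * h = h * g := by
  haveI : IsCyclic P := isCyclic_of_prime_card hP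
  have hPc : ∀ x ∈ P, ∀ y ∈ P, x * y = y * x := by
    intro x hx y hy
    have := (IsCyclic.isMulCommutative (α := P)).is_comm.comm ⟨x, hx⟩ ⟨y, hy⟩
    exact congrArg Subtype.val this
  intro g h
  have hg : g ∈ P ⊔ A := by rw [hsup]; trivial
  have hh : h ∈ P ⊔ A := by rw [hsup]; trivial
  rw [← SetLike.mem_coe, Subgroup.mul_normal] at hg hh
  obtain ⟨x, hx, a, ha, rfl⟩ := Set.mem_mul.mp hg
  obtain ⟨y, hy, b, hb, rfl⟩ := Set.mem_mul.mp hh
  calc x * a * (y * b) = x * (a * y) * b := by group
    _ = x * (y * a) * b := by rw [hcen y hy a ha]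
    _ = (x * y) * (a * b) := by group
    _ = (y * x) * (b * a) := by rw [hPc x hx y hy, hAc a ha b hb]
    _ = y * (x * b) * a := by group
    _ = y * (b * x) * a := by rw [hcen x hx b hb]
    _ = y * b * (x * a) := by group


/-- Let p and q be distinct primes and G a finite non-abelian group with a normal elementary abelian q-subgroup A that is a minimal normal subgroup of G and has index p. Then A has order q^e with e the multiplicative order of q modulo p, and G is minimal non-p-closed: its Sylow p-subgroups are not normal, while in every proper subgroup and in every proper quotient of G the Sylow p-subgroups are normal. -/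
theorem result {G : Type*} [Group G] [Finite G] {p q : ℕ} [Fact p.Prime] (hq : q.Prime) (hpq : q ≠ p)
    (hna : ¬ IsMulCommutative G) (A : Subgroup G) [A.Normal] (hA : Cfsg.IsElementaryAbelian q A) (hidx : A.index = p)
    (hmin : ∀ B : Subgroup G, B.Normal → B ≤ A → B = ⊥ ∨ B = A) :
    Nat.card ↥A = q ^ orderOf (q : ZMod p) ∧ ¬ Cfsg.IsPClosed p G ∧ (∀ H : Subgroup G, H ≠ ⊤ → Cfsg.IsPClosed p ↥H) ∧
      ∀ (N : Subgroup G) [N.Normal], N ≠ ⊥ → Cfsg.IsPClosed p (G ⧸ N) := by
  classical
  have hp : p.Prime := Fact.out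
  haveI : Fact q.Prime := ⟨hq⟩
  have hAn : A.Normal := inferInstance
  obtain ⟨hAcomm, hAexp⟩ := hA
  have hAc : ∀ a ∈ A, ∀ b ∈ A, a * b = b * a := fun a ha b hb =>
    congrArg Subtype.val (hAcomm.is_comm.comm ⟨a, ha⟩ ⟨b, hb⟩)
  have hAq : IsPGroup q A := fun a => ⟨1, by rw [pow_one]; exact Subtype.ext (hAexp a.1 a.2)⟩
  obtain ⟨k, hk⟩ := IsPGroup.iff_card.mp hAq
  have hpA : ¬ p ∣ Nat.card A := by
    rw [hk]
    intro h
    exact hpq ((Nat.prime_dvd_prime_iff_eq hp hq).mp (hp.dvd_of_dvd_pow h)).symm
  have hcardG : Nat.card G = Nat.card A * p := by rw [← hidx]; exact (A.card_mul_index).symm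
  have hdisj : ∀ S : Subgroup G, IsPGroup p S → S ⊓ A = ⊥ := by
    intro S hS
    rw [eq_bot_iff]
    intro x hx
    obtain ⟨j, hj⟩ := hS ⟨x, (Subgroup.mem_inf.mp hx).1⟩
    exact Subgroup.mem_bot.mpr (Cfsg.Agent.S3868.pelt_trivial A hpA x (Subgroup.mem_inf.mp hx).2 j
      (congrArg Subtype.val hj))
  have hle : ∀ S : Subgroup G, S ⊓ A = ⊥ → Nat.card S ∣ p := by
    intro S hS
    have h1 := Cfsg.Agent.Lib.helper1.card_sup_of_disjoint_normal S A (disjoint_iff.mpr hS)
    have h2 : Nat.card (S ⊔ A : Subgroup G) ∣ Nat.card G := Subgroup.card_subgroup_dvd_card _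
    rw [h1, hcardG] at h2
    exact Nat.dvd_of_mul_dvd_mul_left Nat.card_pos h2
  have htop : ∀ S : Subgroup G, S ⊓ A = ⊥ → Nat.card S = p → S ⊔ A = ⊤ := by
    intro S hS hSp
    apply Subgroup.eq_top_of_card_eq
    rw [Cfsg.Agent.Lib.helper1.card_sup_of_disjoint_normal S A (disjoint_iff.mpr hS), hSp, hcardG]
  have hpG : p ∣ Nat.card G := by rw [hcardG]; exact dvd_mul_left p _
  obtain ⟨x, hx⟩ := exists_prime_orderOf_dvd_card' p hpG
  set P : Subgroup G := Subgroup.zpowers x with hPdef
  have hPcard : Nat.card P = p := by rw [Nat.card_zpowers, hx]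
  have hPp : IsPGroup p P := IsPGroup.of_card (n := 1) (by rw [hPcard, pow_one])
  have hPA : P ⊓ A = ⊥ := hdisj P hPp
  have hPsup : P ⊔ A = ⊤ := htop P hPA hPcard
  have hnocen : ∀ S : Subgroup G, S ⊓ A = ⊥ → Nat.card S = p →
      ¬ (∀ s ∈ S, ∀ a ∈ A, s * a = a * s) := by
    intro S hS hSp hcen
    apply hna
    exact ⟨⟨comm_of_central S A hSp hAc (htop S hS hSp) hcen⟩⟩
  have hnonorm : ∀ S : Subgroup G, S ⊓ A = ⊥ → Nat.card S = p → ¬ S.Normal := by
    intro S hS hSp hSn
    apply hnocen S hS hSp
    intro s hs a ha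
    exact Subgroup.commute_of_normal_of_disjoint S A hSn hAn (disjoint_iff.mpr hS) s a hs ha
  have hAne : A ≠ ⊥ := by
    intro hbot
    apply hnocen P hPA hPcard
    intro s hs a ha
    rw [hbot, Subgroup.mem_bot] at ha
    rw [ha, mul_one, one_mul]
  have hnormal_of : ∀ (S : Subgroup G), S ⊓ A = ⊥ → Nat.card S = p → ∀ B : Subgroup G, B ≤ A →
      S ≤ Subgroup.normalizer (B : Set G) → B.Normal := by
    intro S hS hSp B hBA hSB
    rw [← Subgroup.normalizer_eq_top_iff, eq_top_iff, ← htop S hS hSp]
    refine sup_le hSB ?_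
    intro n hn
    apply Subgroup.mem_normalizer_fintype
    intro b hb
    have : n * b * n⁻¹ = b := by rw [hAc n hn b (hBA hb)]; group
    rw [this]; exact hb
  have hcardA : Nat.card A = q ^ orderOf (q : ZMod p) := by
    apply Cfsg.Agent.S3868.core hq hpq P A hPcard ⟨hAcomm, hAexp⟩ hAne
    · intro B hBA hPB
      exact hmin B (hnormal_of P hPA hPcard B hBA hPB) hBA
    · intro hcen
      apply hnocen P hPA hPcard
      intro s hs a ha
      exact (Subgroup.mem_centralizer_iff.mp (hcen ha) s hs)
  refine ⟨hcardA, ?_, ?_, ?_⟩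
  · intro hcl
    obtain ⟨S⟩ : Nonempty (Sylow p G) := inferInstance
    have hSA := hdisj S S.isPGroup'
    have hSne : (S : Subgroup G) ≠ ⊥ := S.ne_bot_of_dvd_card hpG
    have hSp : Nat.card (S : Subgroup G) = p := by
      rcases (Nat.dvd_prime hp).mp (hle S hSA) with h | h
      · exact absurd ((Subgroup.card_eq_one).mp h) hSne
      · exact h
    exact hnonorm S hSA hSp (hcl S)
  · intro H hH T
    by_cases hT : (T : Subgroup H) = ⊥
    · rw [hT]; infer_instance
    · set T' : Subgroup G := (T : Subgroup H).map H.subtype with hT'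
      have hT'p : IsPGroup p T' := T.isPGroup'.map H.subtype
      have hT'A := hdisj T' hT'p
      have hT'ne : T' ≠ ⊥ := by
        intro h
        exact hT ((Subgroup.map_eq_bot_iff_of_injective _ H.subtype_injective).mp h)
      have hT'card : Nat.card T' = p := by
        rcases (Nat.dvd_prime hp).mp (hle T' hT'A) with h | h
        · exact absurd ((Subgroup.card_eq_one).mp h) hT'ne
        · exact h
      have hT'H : T' ≤ H := Subgroup.map_subtype_le _
      have hHAn : (H ⊓ A).Normal := by
        apply hnormal_of T' hT'A hT'card (H ⊓ A) inf_le_right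
        apply Cfsg.Agent.Lib.helper8.le_normalizer_of_conj_mem
        intro t ht y hy
        exact Subgroup.mem_inf.mpr ⟨H.mul_mem (H.mul_mem (hT'H ht) (Subgroup.mem_inf.mp hy).1)
          (H.inv_mem (hT'H ht)), hAn.conj_mem y (Subgroup.mem_inf.mp hy).2 t⟩
      have hHA : H ⊓ A = ⊥ := by
        rcases hmin (H ⊓ A) hHAn inf_le_right with h | h
        · exact h
        · exfalso
          apply hH
          rw [eq_top_iff, ← htop T' hT'A hT'card]
          exact sup_le hT'H (inf_eq_right.mp h)
      have hHcard : Nat.card H ∣ p := hle H hHA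
      have hTtop : (T : Subgroup H) = ⊤ := by
        apply Subgroup.eq_top_of_card_eq
        have h1 : Nat.card (T : Subgroup H) = p := by
          have h0 : Nat.card T' = Nat.card (T : Subgroup H) :=
            Subgroup.card_map_of_injective H.subtype_injective
          exact h0.symm.trans hT'card
        rw [h1]
        rcases (Nat.dvd_prime hp).mp hHcard with h | h
        · exfalso
          have h2 := (T : Subgroup H).card_subgroup_dvd_card
          rw [h1, h] at h2
          exact hp.one_lt.ne' (Nat.dvd_one.mp h2)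
        · exact h.symm
      rw [hTtop]; infer_instance
  · intro N hNn hNne T
    rcases hmin (N ⊓ A) inferInstance inf_le_right with h | h
    · exfalso
      have hNcard : Nat.card N = p := by
        rcases (Nat.dvd_prime hp).mp (hle N h) with h1 | h1
        · exact absurd ((Subgroup.card_eq_one).mp h1) hNne
        · exact h1
      exact hnonorm N h hNcard hNn
    · have hAN : A ≤ N := inf_eq_right.mp h
      have hcardQ : Nat.card (G ⧸ N) ∣ p := by
        have h1 : N.index ∣ A.index := Subgroup.index_dvd_of_le hAN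
        rw [hidx] at h1
        exact h1
      have hQp : IsPGroup p (G ⧸ N) := by
        rcases (Nat.dvd_prime hp).mp hcardQ with h1 | h1
        · exact IsPGroup.of_card (n := 0) (by rw [h1, pow_zero])
        · exact IsPGroup.of_card (n := 1) (by rw [h1, pow_one])
      have hTtop : (⊤ : Subgroup (G ⧸ N)) = (T : Subgroup (G ⧸ N)) :=
        T.is_maximal' (hQp.to_subgroup ⊤) le_top
      rw [← hTtop]; infer_instance

end Cfsg.Agent.S3869
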