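import Cfsg.Statements.S3870
import Mathlib

set_option autoImplicit false
open Cfsg

namespace Cfsg.Agent.S3870

open Pointwise in
theorem mem_smul_sylow {G : Type*} [Group G] {p : ℕ} (g : G) (P : Sylow p G) (x : G) :
    x ∈ g • P ↔ g⁻¹ * x * g ∈ P := by
  change x ∈ ((g • P : Sylow p G) : Subgroup G) ↔ _
  rw [Sylow.coe_subgroup_smul, Subgroup.mem_pointwise_smul_iff_inv_smul_mem]
  simp only [MulAut.smul_def, MulAut.conj_inv_apply]
  exact Iff.rfl

theorem exists_normalizing {G : Type*} [Group G] [Finite G] {p : ℕ} [Fact p.Prime] (P D : Subgroup G)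
    (hP : IsPGroup p P) (hDP : D < P) :
    ∃ x ∈ P, x ∉ D ∧ x ∈ Subgroup.normalizer (D : Set G) := by
  have hnil : Group.IsNilpotent P := hP.isNilpotent
  have hnc := Group.normalizerCondition_of_isNilpotent (G := P)
  have hlt : D.subgroupOf P < ⊤ := by
    rw [lt_top_iff_ne_top]; intro h; rw [Subgroup.subgroupOf_eq_top] at h; exact (not_le_of_gt hDP) h
  have h1 := hnc _ hlt
  obtain ⟨x, hxn, hxD⟩ := SetLike.exists_of_lt h1
  refine ⟨x, x.2, ?_, ?_⟩
  · intro h; exact hxD (Subgroup.mem_subgroupOf.mpr h)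
  · apply Subgroup.mem_normalizer_fintype
    intro d hd
    have hdP : d ∈ P := hDP.le hd
    have := (Subgroup.mem_normalizer_iff.mp hxn ⟨d, hdP⟩).mp (Subgroup.mem_subgroupOf.mpr hd)
    exact Subgroup.mem_subgroupOf.mp this

theorem sylow_eq_of_le {G : Type*} [Group G] {p : ℕ} (P Q : Sylow p G) (h : (P : Subgroup G) ≤ Q) : P = Q :=
  Sylow.ext (P.is_maximal' Q.isPGroup' h).symm

theorem normalizer_ne_top {G : Type*} [Group G] [Finite G] [IsSimpleGroup G] {p : ℕ} [Fact p.Prime]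
    (hnc : ¬ Cfsg.IsPClosed p G) (D : Subgroup G) (hD : IsPGroup p D) (hne : D ≠ ⊥) :
    Subgroup.normalizer (D : Set G) ≠ ⊤ := by
  intro htop
  have hn : D.Normal := Subgroup.normalizer_eq_top_iff.1 htop
  rcases hn.eq_bot_or_eq_top with h | h
  · exact hne h
  · apply hnc
    intro P
    have : (⊤ : Subgroup G) = P := P.is_maximal' (h ▸ hD) le_top
    rw [← this]
    infer_instance

/-- key step: given distinct Sylows `P`, `Q` with nontrivial intersection `D`, there is a Sylow `P₁`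
containing `D` and elements `x ∈ P \ D`, `y ∈ Q \ D`. -/
theorem key {G : Type*} [Group G] [Finite G] [IsSimpleGroup G] {p : ℕ} [Fact p.Prime]
    (hnc : ¬ Cfsg.IsPClosed p G) (hsub : ∀ H : Subgroup G, H ≠ ⊤ → Cfsg.IsPClosed p ↥H)
    (P Q : Sylow p G) (hPQ : P ≠ Q) (hne : (P : Subgroup G) ⊓ (Q : Subgroup G) ≠ ⊥) :
    ∃ (P₁ : Sylow p G) (x y : G), (P : Subgroup G) ⊓ (Q : Subgroup G) ≤ P₁ ∧ x ∈ P ∧ x ∈ P₁ ∧ x ∉ (P : Subgroup G) ⊓ (Q : Subgroup G)
      ∧ y ∈ Q ∧ y ∈ P₁ ∧ y ∉ (P : Subgroup G) ⊓ (Q : Subgroup G) := by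
  set D := (P : Subgroup G) ⊓ (Q : Subgroup G) with hD
  have hDP : D < P := by
    refine lt_of_le_of_ne inf_le_left ?_
    intro h
    exact hPQ (sylow_eq_of_le P Q (h ▸ inf_le_right))
  have hDQ : D < Q := by
    refine lt_of_le_of_ne inf_le_right ?_
    intro h
    exact hPQ (sylow_eq_of_le Q P (h ▸ inf_le_left)).symm
  obtain ⟨x, hxP, hxD, hxn⟩ := exists_normalizing (P : Subgroup G) D P.isPGroup' hDP
  obtain ⟨y, hyQ, hyD, hyn⟩ := exists_normalizing (Q : Subgroup G) D Q.isPGroup' hDQ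
  have hDp : IsPGroup p D := P.isPGroup'.to_le inf_le_left
  set M := Subgroup.normalizer (D : Set G) with hM
  have hMne : M ≠ ⊤ := normalizer_ne_top hnc D hDp hne
  have hcl := hsub M hMne
  obtain ⟨T⟩ : Nonempty (Sylow p M) := inferInstance
  have hTn : (T : Subgroup M).Normal := hcl T
  have huniq : ∀ T' : Sylow p M, T' = T := by
    intro T'
    have := Sylow.unique_of_normal T hTn
    exact Subsingleton.elim _ _
  have hin : ∀ (A : Subgroup G), IsPGroup p A → A.subgroupOf M ≤ T := by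
    intro A hA
    obtain ⟨T', hT'⟩ := (IsPGroup.comap_subtype (H := A) hA (K := M)).exists_le_sylow
    rw [huniq T'] at hT'
    exact hT'
  have hTp : IsPGroup p ((T : Subgroup M).map M.subtype) := T.isPGroup'.map _
  obtain ⟨P₁, hP₁⟩ := hTp.exists_le_sylow
  have hmem : ∀ (A : Subgroup G), IsPGroup p A → ∀ a ∈ A, a ∈ M → a ∈ P₁ := by
    intro A hA a ha haM
    apply hP₁
    exact ⟨⟨a, haM⟩, hin A hA (Subgroup.mem_subgroupOf.mpr ha), rfl⟩
  refine ⟨P₁, x, y, ?_, hxP, hmem P P.isPGroup' x hxP hxn, hxD, hyQ, hmem Q Q.isPGroup' y hyQ hyn, hyD⟩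
  intro d hd
  exact hmem D hDp d hd (Subgroup.le_normalizer hd)

theorem ti {G : Type*} [Group G] [Finite G] [IsSimpleGroup G] {p : ℕ} [Fact p.Prime]
    (hnc : ¬ Cfsg.IsPClosed p G) (hsub : ∀ H : Subgroup G, H ≠ ⊤ → Cfsg.IsPClosed p ↥H) :
    ∀ P Q : Sylow p G, P ≠ Q → (P : Subgroup G) ⊓ (Q : Subgroup G) = ⊥ := by
  by_contra hcon
  push Not at hcon
  obtain ⟨P₀, Q₀, hPQ₀, hne₀⟩ := hcon
  let α := {PQ : Sylow p G × Sylow p G // PQ.1 ≠ PQ.2 ∧ (PQ.1 : Subgroup G) ⊓ (PQ.2 : Subgroup G) ≠ ⊥}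
  have : Nonempty α := ⟨⟨(P₀, Q₀), hPQ₀, hne₀⟩⟩
  obtain ⟨⟨⟨P, Q⟩, hPQ, hne⟩, hmax⟩ := Finite.exists_max (fun PQ : α => Nat.card ((PQ.1.1 : Subgroup G) ⊓ (PQ.1.2 : Subgroup G) : Subgroup G))
  simp only at hPQ hne hmax
  obtain ⟨P₁, x, y, hD, hxP, hxP₁, hxD, hyQ, hyP₁, hyD⟩ := key hnc hsub P Q hPQ hne
  have h1 : P₁ = P := by
    by_contra h
    have hle : (P : Subgroup G) ⊓ (Q : Subgroup G) ≤ (P₁ : Subgroup G) ⊓ (P : Subgroup G) := le_inf hD inf_le_left
    have hne' : (P₁ : Subgroup G) ⊓ (P : Subgroup G) ≠ ⊥ := by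
      intro h0
      rw [h0, le_bot_iff] at hle
      exact hne hle
    have := hmax ⟨(P₁, P), h, hne'⟩
    simp only at this
    have heq := Subgroup.eq_of_le_of_card_ge hle this
    exact hxD (heq ▸ ⟨hxP₁, hxP⟩)
  have h2 : P₁ = Q := by
    by_contra h
    have hle : (P : Subgroup G) ⊓ (Q : Subgroup G) ≤ (P₁ : Subgroup G) ⊓ (Q : Subgroup G) := le_inf hD inf_le_right
    have hne' : (P₁ : Subgroup G) ⊓ (Q : Subgroup G) ≠ ⊥ := by
      intro h0
      rw [h0, le_bot_iff] at hle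
      exact hne hle
    have := hmax ⟨(P₁, Q), h, hne'⟩
    simp only at this
    have heq := Subgroup.eq_of_le_of_card_ge hle this
    exact hyD (heq ▸ ⟨hyP₁, hyQ⟩)
  exact hPQ (h1.symm.trans h2)

/-- Let G be a finite simple group whose Sylow p-subgroups are not normal but such that every proper subgroup of G has a normal Sylow p-subgroup. Then any two distinct Sylow p-subgroups of G intersect trivially, and for every Sylow p-subgroup P the normalizer of every non-identity subgroup of P lies in the normalizer of P. -/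
theorem result {G : Type*} [Group G] [Finite G] [IsSimpleGroup G] {p : ℕ} [Fact p.Prime]
    (hnc : ¬ Cfsg.IsPClosed p G) (hsub : ∀ H : Subgroup G, H ≠ ⊤ → Cfsg.IsPClosed p ↥H) :
    (∀ P Q : Sylow p G, P ≠ Q → (P : Subgroup G) ⊓ (Q : Subgroup G) = ⊥) ∧
      ∀ (P : Sylow p G) (R : Subgroup G), R ≤ P → R ≠ ⊥ →
        Subgroup.normalizer (R : Set G) ≤ Subgroup.normalizer ((P : Subgroup G) : Set G) := by
  have hti := ti hnc hsub
  refine ⟨hti, ?_⟩
  intro P R hRP hR g hg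
  apply (Sylow.smul_eq_iff_mem_normalizer (g := g) (P := P)).mp
  by_contra hne
  have h1 := hti (g • P) P hne
  have hle : R ≤ ((g • P : Sylow p G) : Subgroup G) ⊓ (P : Subgroup G) := by
    refine le_inf ?_ hRP
    intro r hr
    have h2 : r ∈ g • P := by
      rw [mem_smul_sylow]
      apply hRP
      exact (Subgroup.mem_normalizer_iff''.mp hg r).mp hr
    exact h2
  rw [h1, le_bot_iff] at hle
  exact hR hle

end Cfsg.Agent.S3870
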