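import Cfsg.Statements.S3873
import Mathlib
import Cfsg.Agent.S3868

set_option autoImplicit false
open Cfsg

namespace Cfsg.Agent.S3873

universe u

theorem omega_sub {G : Type u} [Group G] {p : ℕ} (K : Subgroup G)
    (h : ∃ H : Subgroup ↥K, (H : Set ↥K) = {g : ↥K | g ^ p = 1}) :
    ∃ W : Subgroup G, ∀ x, x ∈ W ↔ x ∈ K ∧ x ^ p = 1 := by
  obtain ⟨H, hH⟩ := h
  have hmem : ∀ t : K, t ∈ H ↔ t ^ p = 1 := fun t => Set.ext_iff.mp hH t
  refine ⟨H.map K.subtype, ?_⟩
  intro x
  constructor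
  · rintro ⟨t, ht, rfl⟩
    exact ⟨t.2, congrArg Subtype.val ((hmem t).mp ht)⟩
  · rintro ⟨hxK, hxp⟩
    exact ⟨⟨x, hxK⟩, (hmem _).mpr (Subtype.ext hxp), rfl⟩

theorem zpowers_pow {G : Type u} [Group G] {p : ℕ} (x : G) (hx : x ^ p = 1) :
    ∀ y ∈ Subgroup.zpowers x, y ^ p = 1 := by
  intro y hy
  obtain ⟨k, rfl⟩ := Subgroup.mem_zpowers_iff.mp hy
  rw [← zpow_natCast, ← zpow_mul, mul_comm, zpow_mul, zpow_natCast, hx, one_zpow]

/-- Lemma Z -/
theorem normalizes {G : Type u} [Group G] [Finite G] {p : ℕ} [Fact p.Prime] (N : Subgroup G)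
    [hNn : N.Normal] (hpN : ¬ p ∣ Nat.card N)
    (hsub : ∀ K : Subgroup G, K ≠ ⊤ → (∃ H : Subgroup ↥K, (H : Set ↥K) = {g : ↥K | g ^ p = 1}))
    (x : G) (hx : x ^ p = 1) (H : Subgroup G) (hH : H ≠ ⊤) (hxH : x ∈ H)
    (hHle : H ≤ Subgroup.zpowers x ⊔ N) : H ≤ Subgroup.normalizer (Subgroup.zpowers x : Set G) := by
  obtain ⟨W, hW⟩ := omega_sub H (hsub H hH)
  set P := Subgroup.zpowers x with hP
  have hPH : P ≤ H := Subgroup.zpowers_le.mpr hxH
  have hPW : P ≤ W := fun y hy => (hW y).mpr ⟨hPH hy, zpowers_pow x hx y hy⟩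
  have hWN : W ⊓ N = ⊥ := by
    rw [eq_bot_iff]
    intro y hy
    have h1 := ((hW y).mp (Subgroup.mem_inf.mp hy).1).2
    exact Subgroup.mem_bot.mpr (Cfsg.Agent.S3868.pelt_trivial N hpN y (Subgroup.mem_inf.mp hy).2 1
      (by rw [pow_one]; exact h1))
  have hPN : P ⊓ N = ⊥ := by
    rw [eq_bot_iff, ← hWN]
    exact inf_le_inf_right N hPW
  have hWH : W ≤ H := fun y hy => ((hW y).mp hy).1
  have hcard : Nat.card W ≤ Nat.card P := by
    have h1 := Cfsg.Agent.Lib.helper1.card_sup_of_disjoint_normal W N (disjoint_iff.mpr hWN)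
    have h2 := Cfsg.Agent.Lib.helper1.card_sup_of_disjoint_normal P N (disjoint_iff.mpr hPN)
    have h3 : Nat.card (W ⊔ N : Subgroup G) ≤ Nat.card (P ⊔ N : Subgroup G) :=
      Subgroup.card_le_of_le (sup_le (hWH.trans hHle) le_sup_right)
    rw [h1, h2] at h3
    exact Nat.le_of_mul_le_mul_left h3 Nat.card_pos
  have hWP : P = W := Subgroup.eq_of_le_of_card_ge hPW hcard
  rw [hWP]
  apply Cfsg.Agent.Lib.helper8.le_normalizer_of_conj_mem
  intro h hh y hy
  obtain ⟨hyH, hyp⟩ := (hW y).mp hy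
  exact (hW _).mpr ⟨H.mul_mem (H.mul_mem hh hyH) (H.inv_mem hh), by rw [conj_pow, hyp]; group⟩


/-- Say that a finite group is p-exponent closed when its elements of order dividing p form a subgroup. Let G be a finite group that is not p-exponent closed, but all of whose proper subgroups and proper quotients are, and suppose G is neither simple nor a p-group. Then there is a prime q ≠ p such that G has order p · q^e, where e is the multiplicative order of q modulo p, and G has a normal elementary abelian subgroup of order q^e that is a minimal normal subgroup of G. -/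
theorem result {G : Type*} [Group G] [Finite G] {p : ℕ} [Fact p.Prime]
    (hnc : ¬ (∃ H : Subgroup G, (H : Set G) = {g : G | g ^ p = 1})) (hsub : ∀ K : Subgroup G, K ≠ ⊤ → (∃ H : Subgroup ↥K, (H : Set ↥K) = {g : ↥K | g ^ p = 1}))
    (hquo : ∀ (N : Subgroup G) [N.Normal], N ≠ ⊥ → (∃ H : Subgroup (G ⧸ N), (H : Set (G ⧸ N)) = {g : (G ⧸ N) | g ^ p = 1}))
    (hns : ¬ IsSimpleGroup G) (hnp : ¬ IsPGroup p G) :
    ∃ q : ℕ, q.Prime ∧ q ≠ p ∧ Nat.card G = p * q ^ orderOf (q : ZMod p) ∧
      ∃ A : Subgroup G, A.Normal ∧ Nat.card ↥A = q ^ orderOf (q : ZMod p) ∧ Cfsg.IsElementaryAbelian q A ∧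
        ∀ B : Subgroup G, B.Normal → B ≤ A → B = ⊥ ∨ B = A := by
  classical
  have hp : p.Prime := Fact.out
  -- closure of Ω is everything
  have hcl : Subgroup.closure {g : G | g ^ p = 1} = ⊤ := by
    by_contra hT
    obtain ⟨W, hW⟩ := omega_sub _ (hsub _ hT)
    apply hnc
    refine ⟨W, Set.ext fun x => ?_⟩
    rw [SetLike.mem_coe, hW]
    exact ⟨fun h => h.2, fun h => ⟨Subgroup.subset_closure h, h⟩⟩
  haveI hnt : Nontrivial G := by
    by_contra hs
    rw [not_nontrivial_iff_subsingleton] at hs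
    apply hnc
    refine ⟨⊥, Set.ext fun x => ?_⟩
    have hx1 : x = 1 := Subsingleton.elim _ _
    simp [hx1]
  obtain ⟨N₀, hN₀n, hN₀b, hN₀t⟩ : ∃ H : Subgroup G, H.Normal ∧ H ≠ ⊥ ∧ H ≠ ⊤ := by
    by_contra hcon
    push Not at hcon
    have hsimple : IsSimpleGroup G := by
      refine { toNontrivial := hnt, eq_bot_or_eq_top_of_normal := ?_ }
      intro H hH
      by_cases hb : H = ⊥
      · exact Or.inl hb
      · exact Or.inr (hcon H hH hb)
    exact hns hsimple
  obtain ⟨N, ⟨hNn, hNne, hNmin⟩, hNN₀⟩ := Cfsg.Agent.Lib.helper3.exists_minNormal_le N₀ hN₀n hN₀b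
  haveI := hNn
  have hNtop : N ≠ ⊤ := fun h => hN₀t (top_le_iff.mp (h ▸ hNN₀))
  -- G/N has exponent p
  have hexp : ∀ g : G, g ^ p ∈ N := by
    obtain ⟨HQ, hHQ⟩ := hquo N hNne
    have hmem : ∀ t : G ⧸ N, t ∈ HQ ↔ t ^ p = 1 := fun t => Set.ext_iff.mp hHQ t
    have h1 : Subgroup.closure {g : G | g ^ p = 1} ≤ HQ.comap (QuotientGroup.mk' N) := by
      rw [Subgroup.closure_le]
      intro g hg
      rw [SetLike.mem_coe, Subgroup.mem_comap, hmem, ← map_pow]
      have hg' : g ^ p = 1 := hg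
      rw [hg', map_one]
    intro g
    have h2 : g ∈ HQ.comap (QuotientGroup.mk' N) := h1 (by rw [hcl]; trivial)
    rw [Subgroup.mem_comap, hmem, ← map_pow] at h2
    exact (QuotientGroup.eq_one_iff _).mp h2
  -- p does not divide |N|
  have hpN : ¬ p ∣ Nat.card N := by
    intro hdvd
    obtain ⟨W, hW⟩ := omega_sub N (hsub N hNtop)
    have hWn : W.Normal := by
      constructor
      intro y hy g
      obtain ⟨hyN, hyp⟩ := (hW y).mp hy
      exact (hW _).mpr ⟨hNn.conj_mem y hyN g, by rw [conj_pow, hyp]; group⟩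
    have hWN : W ≤ N := fun y hy => ((hW y).mp hy).1
    rcases hNmin W hWn hWN with h | h
    · obtain ⟨y, hy⟩ := exists_prime_orderOf_dvd_card' p hdvd
      have hyW : (y : G) ∈ W := (hW _).mpr ⟨y.2, by
        have : y ^ p = 1 := by rw [← hy]; exact pow_orderOf_eq_one y
        exact congrArg Subtype.val this⟩
      rw [h, Subgroup.mem_bot] at hyW
      have : y = 1 := Subtype.ext hyW
      rw [this, orderOf_one] at hy
      exact hp.one_lt.ne hy
    · apply hnp
      intro g
      refine ⟨2, ?_⟩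
      have h1 : g ^ p ∈ W := by rw [h]; exact hexp g
      have h2 := ((hW _).mp h1).2
      rw [pow_two, pow_mul]
      exact h2
  have hNone : ∀ n ∈ N, n ^ p = 1 → n = 1 := fun n hn hnp' =>
    Cfsg.Agent.S3868.pelt_trivial N hpN n hn 1 (by rw [pow_one]; exact hnp')
  by_cases hcase : ∀ x : G, x ^ p = 1 → x ∈ Subgroup.centralizer (N : Set G)
  · -- case A: N central; contradiction
    exfalso
    have hcen : ∀ g : G, ∀ n ∈ N, n * g = g * n := by
      intro g n hn
      have h1 : Subgroup.closure {g : G | g ^ p = 1} ≤ Subgroup.centralizer (N : Set G) := by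
        rw [Subgroup.closure_le]
        intro x hx
        exact hcase x hx
      have h2 : g ∈ Subgroup.centralizer (N : Set G) := h1 (by rw [hcl]; trivial)
      exact Subgroup.mem_centralizer_iff.mp h2 n hn
    obtain ⟨P₀⟩ : Nonempty (Sylow p G) := inferInstance
    have hQp : IsPGroup p (G ⧸ N) := by
      intro y
      obtain ⟨g, rfl⟩ := QuotientGroup.mk'_surjective N y
      refine ⟨1, ?_⟩
      rw [pow_one, ← map_pow]
      exact (QuotientGroup.eq_one_iff _).mpr (hexp g)
    obtain ⟨m, hm⟩ := IsPGroup.iff_card.mp hQp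
    have hNidx : N.index = p ^ m := hm
    have hsup : (P₀ : Subgroup G) ⊔ N = ⊤ := by
      rw [← Subgroup.index_eq_one]
      have h1 : ((P₀ : Subgroup G) ⊔ N).index ∣ p ^ m := by
        rw [← hNidx]; exact Subgroup.index_dvd_of_le le_sup_right
      obtain ⟨j, -, hj⟩ := (Nat.dvd_prime_pow hp).mp h1
      have h2 : ((P₀ : Subgroup G) ⊔ N).index ∣ (P₀ : Subgroup G).index :=
        Subgroup.index_dvd_of_le le_sup_left
      by_contra hne
      have hj0 : j ≠ 0 := by
        rintro rfl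
        rw [pow_zero] at hj
        exact hne hj
      apply P₀.not_dvd_index
      exact (dvd_pow_self p hj0).trans (hj ▸ h2)
    have hP₀exp : ∀ y ∈ (P₀ : Subgroup G), y ^ p = 1 := by
      intro y hy
      obtain ⟨k, hk⟩ := P₀.isPGroup' ⟨y ^ p, Subgroup.pow_mem _ hy p⟩
      exact Cfsg.Agent.S3868.pelt_trivial N hpN _ (hexp y) k (congrArg Subtype.val hk)
    apply hnc
    refine ⟨P₀, Set.ext fun y => ?_⟩
    constructor
    · intro hy
      exact hP₀exp y hy
    · intro hy
      have hy' : y ^ p = 1 := hy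
      have h1 : y ∈ (P₀ : Subgroup G) ⊔ N := by rw [hsup]; trivial
      rw [← SetLike.mem_coe, Subgroup.mul_normal] at h1
      obtain ⟨a, ha, n, hn, rfl⟩ := Set.mem_mul.mp h1
      have hcomm : Commute a n := (hcen a n hn).symm
      rw [hcomm.mul_pow, hP₀exp a ha, one_mul] at hy'
      rw [hNone n hn hy', mul_one]
      exact ha
  · -- case B
    push Not at hcase
    obtain ⟨x, hx, hxN⟩ := hcase
    set P := Subgroup.zpowers x with hP
    have hx1 : x ≠ 1 := by
      rintro rfl
      exact hxN (Subgroup.one_mem _)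
    have hxo : orderOf x = p := by
      rcases (Nat.dvd_prime hp).mp (orderOf_dvd_of_pow_eq_one hx) with h | h
      · exact absurd (orderOf_eq_one_iff.mp h) hx1
      · exact h
    have hPcard : Nat.card P = p := by rw [Nat.card_zpowers, hxo]
    have hPN : ∀ y, y ∈ P → y ∈ N → y = 1 := fun y hyP hyN =>
      hNone y hyN (zpowers_pow x hx y hyP)
    have hsup : P ⊔ N = ⊤ := by
      by_contra hne
      have h1 := normalizes N hpN hsub x hx (P ⊔ N) hne
        (Subgroup.mem_sup_left (Subgroup.mem_zpowers x)) le_rfl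
      apply hxN
      rw [Subgroup.mem_centralizer_iff]
      intro n hn
      have h2 : n * x * n⁻¹ ∈ P :=
        (Subgroup.mem_normalizer_iff.mp (h1 (Subgroup.mem_sup_right hn)) x).mp
          (Subgroup.mem_zpowers x)
      have h3 : n * x * n⁻¹ * x⁻¹ ∈ P := P.mul_mem h2 (P.inv_mem (Subgroup.mem_zpowers x))
      have h4 : n * x * n⁻¹ * x⁻¹ ∈ N := by
        have : n * (x * n⁻¹ * x⁻¹) ∈ N := N.mul_mem hn (hNn.conj_mem _ (N.inv_mem hn) x)
        simpa [mul_assoc] using this
      have h5 := hPN _ h3 h4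
      calc n * x = (n * x * n⁻¹ * x⁻¹) * (x * n) := by group
        _ = x * n := by rw [h5, one_mul]
    have hPnn : ¬ P.Normal := by
      intro hPn
      apply hxN
      rw [Subgroup.mem_centralizer_iff]
      intro n hn
      have hdis : Disjoint P N := by
        rw [Subgroup.disjoint_def]
        intro y hyP hyN
        exact hPN y hyP hyN
      exact (Subgroup.commute_of_normal_of_disjoint P N hPn hNn hdis x n (Subgroup.mem_zpowers x)
        hn).symm
    have hstar : ∀ H : Subgroup G, H ≠ ⊤ → P ≤ H → H ≤ Subgroup.normalizer (P : Set G) := by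
      intro H hH hPH
      exact normalizes N hpN hsub x hx H hH (hPH (Subgroup.mem_zpowers x))
        (by rw [hsup]; exact le_top)
    obtain ⟨q, hq, hqp, hG, hNc, hNel⟩ :=
      Cfsg.Agent.S3868.framework P N hPcard hNne hNmin hsup hpN hPnn hstar
    exact ⟨q, hq, hqp, hG, N, hNn, hNc, hNel, hNmin⟩

end Cfsg.Agent.S3873
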