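import Cfsg.Statements.S3881
import Mathlib
import Cfsg.Agent.Lib.helper19.Metacyc4

set_option autoImplicit false
open Cfsg

namespace Cfsg.Agent.S3881

/-- Let p be an odd prime and G a finite metacyclic p-group (G has a cyclic normal subgroup with cyclic quotient). Suppose G is non-abelian with |G'| = p^n. Then for 1 ≤ i ≤ n the number of elements of G whose conjugacy class has exactly p^i elements is |Z(G)| · (p^(2i) − p^(2i−2)). -/
theorem result {G : Type*} [Group G] [Finite G] {p : ℕ} [Fact p.Prime] (hp : p ≠ 2) (hG : IsPGroup p G) (hmc : Cfsg.IsMetacyclic G) (n : ℕ) (hn : n ≠ 0) (hGn : Nat.card ↥(commutator G) = p ^ n) (i : ℕ) (hi : 1 ≤ i) (hin : i ≤ n) :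
    Nat.card {g : G // (Subgroup.centralizer ({g} : Set G)).index = p ^ i} =
      Nat.card ↥(Subgroup.center G) * (p ^ (2 * i) - p ^ (2 * i - 2)) := by
  classical
  have hpp : p.Prime := Fact.out
  haveI : Fintype G := Fintype.ofFinite G
  have hmem : ∀ s, s ≤ n → ∀ g, g ∈ Subgroup.closure {x : G | ∃ y : G, y ^ p ^ s = x}
      ↔ (Subgroup.centralizer ({g} : Set G)).index ≤ p ^ (n - s) :=
    fun s hs g => Cfsg.Agent.Lib.helper19.mem_agemo_iff hp hG hmc n hGn s hs g
  have hidx : ∀ s, s ≤ n → (Subgroup.closure {x : G | ∃ y : G, y ^ p ^ s = x}).index = p ^ (2 * s) :=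
    fun s hs => Cfsg.Agent.Lib.helper19.agemo_index hp hG hmc n hGn s hs
  have hZ := Cfsg.Agent.Lib.helper19.center_index hp hG hmc
  rw [hGn] at hZ
  have hcardG : Nat.card G = Nat.card (Subgroup.center G) * p ^ (2 * n) := by
    rw [← Subgroup.card_mul_index (Subgroup.center G), hZ, ← pow_mul, mul_comm n 2]
  have hcardU : ∀ s, s ≤ n → Nat.card (Subgroup.closure {x : G | ∃ y : G, y ^ p ^ s = x})
      * p ^ (2 * s) = Nat.card (Subgroup.center G) * p ^ (2 * n) := by
    intro s hs
    rw [← hidx s hs, Subgroup.card_mul_index, hcardG]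
  have h1 : Nat.card (Subgroup.closure {x : G | ∃ y : G, y ^ p ^ (n - i) = x})
      = Nat.card (Subgroup.center G) * p ^ (2 * i) := by
    have h := hcardU (n - i) (Nat.sub_le n i)
    have e : p ^ (2 * n) = p ^ (2 * i) * p ^ (2 * (n - i)) := by rw [← pow_add]; congr 1; omega
    rw [e, ← mul_assoc] at h
    exact Nat.eq_of_mul_eq_mul_right (pow_pos hpp.pos _) h
  have h2 : Nat.card (Subgroup.closure {x : G | ∃ y : G, y ^ p ^ (n - i + 1) = x})
      = Nat.card (Subgroup.center G) * p ^ (2 * i - 2) := by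
    have h := hcardU (n - i + 1) (by omega)
    have e : p ^ (2 * n) = p ^ (2 * i - 2) * p ^ (2 * (n - i + 1)) := by
      rw [← pow_add]; congr 1; omega
    rw [e, ← mul_assoc] at h
    exact Nat.eq_of_mul_eq_mul_right (pow_pos hpp.pos _) h
  have hset : ∀ g : G, (Subgroup.centralizer ({g} : Set G)).index = p ^ i ↔
      (g ∈ Subgroup.closure {x : G | ∃ y : G, y ^ p ^ (n - i) = x}
        ∧ g ∉ Subgroup.closure {x : G | ∃ y : G, y ^ p ^ (n - i + 1) = x}) := by
    intro g
    rw [hmem (n - i) (Nat.sub_le n i) g, hmem (n - i + 1) (by omega) g]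
    have e1 : n - (n - i) = i := by omega
    have e2 : n - (n - i + 1) = i - 1 := by omega
    rw [e1, e2]
    obtain ⟨t, ht⟩ : ∃ t, (Subgroup.centralizer ({g} : Set G)).index = p ^ t := by
      obtain ⟨k, hk⟩ := IsPGroup.iff_card.mp hG
      have hd : (Subgroup.centralizer ({g} : Set G)).index ∣ p ^ k := by
        rw [← hk]; exact Subgroup.index_dvd_card _
      obtain ⟨t, _, ht⟩ := (Nat.dvd_prime_pow hpp).mp hd
      exact ⟨t, ht⟩
    rw [ht]
    constructor
    · intro h
      have hti : t = i := Nat.pow_right_injective hpp.two_le h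
      subst hti
      refine ⟨le_refl _, ?_⟩
      intro hcon
      have h3 := (Nat.pow_le_pow_iff_right hpp.one_lt).mp hcon
      omega
    · rintro ⟨h3, h4⟩
      have h5 := (Nat.pow_le_pow_iff_right hpp.one_lt).mp h3
      have h6 : ¬ t ≤ i - 1 := fun h => h4 (Nat.pow_le_pow_right hpp.pos h)
      have hti : t = i := by omega
      rw [hti]
  have hsub : Subgroup.closure {x : G | ∃ y : G, y ^ p ^ (n - i + 1) = x}
      ≤ Subgroup.closure {x : G | ∃ y : G, y ^ p ^ (n - i) = x} := by
    intro g hg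
    rw [hmem (n - i + 1) (by omega) g] at hg
    rw [hmem (n - i) (Nat.sub_le n i) g]
    exact hg.trans (Nat.pow_le_pow_right hpp.pos (by omega))
  have hc : Nat.card {g : G // (Subgroup.centralizer ({g} : Set G)).index = p ^ i}
      = (Finset.univ.filter (fun g : G => g ∈ Subgroup.closure {x : G | ∃ y : G, y ^ p ^ (n - i) = x})
          \ Finset.univ.filter
            (fun g : G => g ∈ Subgroup.closure {x : G | ∃ y : G, y ^ p ^ (n - i + 1) = x})).card := by
    apply Nat.subtype_card
    intro g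
    rw [Finset.mem_sdiff, Finset.mem_filter, Finset.mem_filter, hset g]
    simp
  rw [hc, Finset.card_sdiff_of_subset]
  · have e1 : (Finset.univ.filter
        (fun g : G => g ∈ Subgroup.closure {x : G | ∃ y : G, y ^ p ^ (n - i) = x})).card
        = Nat.card (Subgroup.closure {x : G | ∃ y : G, y ^ p ^ (n - i) = x}) :=
      (Nat.subtype_card _ (by simp)).symm
    have e2 : (Finset.univ.filter
        (fun g : G => g ∈ Subgroup.closure {x : G | ∃ y : G, y ^ p ^ (n - i + 1) = x})).card
        = Nat.card (Subgroup.closure {x : G | ∃ y : G, y ^ p ^ (n - i + 1) = x}) :=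
      (Nat.subtype_card _ (by simp)).symm
    rw [e1, e2, h1, h2, Nat.mul_sub]
  · intro g hg
    rw [Finset.mem_filter] at hg ⊢
    exact ⟨hg.1, hsub hg.2⟩

end Cfsg.Agent.S3881
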