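import Cfsg.Statements.S3883
import Mathlib
import Cfsg.Agent.Lib.helper19.Metacyc4
import Cfsg.Agent.Lib.helper1.PGroup

set_option autoImplicit false
open Cfsg

namespace Cfsg.Agent.S3883

/-- Let p be an odd prime and G a finite metacyclic p-group (G has a cyclic normal subgroup with cyclic quotient). Suppose G is non-abelian. Then an element g of G lies outside the Frattini subgroup if and only if its centralizer C_G(g) is abelian. -/
theorem result {G : Type*} [Group G] [Finite G] {p : ℕ} [Fact p.Prime] (hp : p ≠ 2) (hG : IsPGroup p G) (hmc : Cfsg.IsMetacyclic G) (hna : ¬ IsMulCommutative G) (g : G) :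
    g ∉ frattini G ↔ IsMulCommutative ↥(Subgroup.centralizer ({g} : Set G)) := by
  classical
  have hpp : p.Prime := Fact.out
  obtain ⟨n, hGn⟩ := IsPGroup.iff_card.mp (hG.to_subgroup (commutator G))
  have hn0 : n ≠ 0 := by
    rintro rfl
    rw [pow_zero, Subgroup.card_eq_one] at hGn
    exact hna (Cfsg.Agent.Lib.helper19.comm_of_commutator_eq_bot hGn)
  have hn1 : 1 ≤ n := by omega
  have hU1 : frattini G = Subgroup.closure {x : G | ∃ y : G, y ^ p ^ 1 = x} := by
    apply le_antisymm
    · haveI := Cfsg.Agent.Lib.helper19.agemo_normal (X := G) (p ^ 1)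
      apply Cfsg.Agent.Lib.helper1.frattini_le_of_elementary_quotient p
      · exact Cfsg.Agent.Lib.helper19.commutator_le_agemo hp hG hmc n hGn hn1
      · intro x
        exact Subgroup.subset_closure ⟨x, by rw [pow_one]⟩
    · rw [Subgroup.closure_le]
      rintro _ ⟨y, rfl⟩
      rw [pow_one]
      exact Cfsg.Agent.Lib.helper1.pow_mem_frattini p hG y
  rw [hU1, Cfsg.Agent.Lib.helper19.mem_agemo_iff hp hG hmc n hGn 1 hn1 g,
    Cfsg.Agent.Lib.helper19.abelian_iff_card_le hp hG hmc]
  obtain ⟨t, ht⟩ : ∃ t, (Subgroup.centralizer ({g} : Set G)).index = p ^ t := by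
    obtain ⟨k, hk⟩ := IsPGroup.iff_card.mp hG
    have hd : (Subgroup.centralizer ({g} : Set G)).index ∣ p ^ k := by
      rw [← hk]; exact Subgroup.index_dvd_card _
    obtain ⟨t, _, ht⟩ := (Nat.dvd_prime_pow hpp).mp hd
    exact ⟨t, ht⟩
  have h1 := Subgroup.card_mul_index (Subgroup.centralizer ({g} : Set G))
  have h2 := Subgroup.card_mul_index (commutator G)
  rw [ht] at h1 ⊢
  rw [hGn] at h2
  constructor
  · intro h
    have htn : n ≤ t := by
      by_contra hcon
      apply h
      exact Nat.pow_le_pow_right hpp.pos (by omega)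
    have e : p ^ t = p ^ n * p ^ (t - n) := by rw [← pow_add]; congr 1; omega
    have h3 : p ^ n * (Nat.card (Subgroup.centralizer ({g} : Set G)) * p ^ (t - n))
        = p ^ n * (commutator G).index := by
      rw [h2, ← h1, e]; ring
    have h4 := Nat.eq_of_mul_eq_mul_left (pow_pos hpp.pos n) h3
    rw [← h4]
    exact Nat.le_mul_of_pos_right _ (pow_pos hpp.pos _)
  · intro h hcon
    have htn : t ≤ n - 1 := (Nat.pow_le_pow_iff_right hpp.one_lt).mp hcon
    have e : p ^ n = p ^ t * p ^ (n - t) := by rw [← pow_add]; congr 1; omega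
    have h3 : p ^ t * Nat.card (Subgroup.centralizer ({g} : Set G))
        = p ^ t * (p ^ (n - t) * (commutator G).index) := by
      rw [mul_comm, h1, ← h2, e]; ring
    have h4 := Nat.eq_of_mul_eq_mul_left (pow_pos hpp.pos t) h3
    rw [h4] at h
    have hipos : 0 < (commutator G).index := Nat.pos_of_ne_zero Subgroup.index_ne_zero_of_finite
    have h5 : 2 ≤ p ^ (n - t) := by
      calc 2 ≤ p := hpp.two_le
        _ = p ^ 1 := (pow_one p).symm
        _ ≤ p ^ (n - t) := Nat.pow_le_pow_right hpp.pos (by omega)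
    nlinarith

end Cfsg.Agent.S3883
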