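import Cfsg.Statements.S3885
import Mathlib
import Cfsg.Agent.Lib.helper19.Metacyc3

set_option autoImplicit false
open Cfsg

namespace Cfsg.Agent.S3885

/-- Let p be an odd prime and G a finite metacyclic p-group (G has a cyclic normal subgroup with cyclic quotient). Then every abelian subgroup K of G containing the center of G is the center of its own centralizer: K = Z(C_G(K)). -/
theorem result {G : Type*} [Group G] [Finite G] {p : ℕ} [Fact p.Prime] (hp : p ≠ 2) (hG : IsPGroup p G) (hmc : Cfsg.IsMetacyclic G) (K : Subgroup G) (hK : IsMulCommutative ↥K) (hZ : Subgroup.center G ≤ K) :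
    K = Subgroup.centralizer (K : Set G) ⊓ Subgroup.centralizer (Subgroup.centralizer (K : Set G) : Set G) := by
  have hKC : K ≤ Subgroup.centralizer (K : Set G) := by
    intro x hx
    rw [Subgroup.mem_centralizer_iff]
    intro y hy
    exact congrArg Subtype.val (hK.is_comm.comm ⟨y, hy⟩ ⟨x, hx⟩)
  have hZC : Subgroup.center G ≤ Subgroup.centralizer (K : Set G) :=
    Subgroup.center_le_centralizer _
  have h1 := Cfsg.Agent.Lib.helper19.cd_eq hp hG hmc K hZ
  have h2 := Cfsg.Agent.Lib.helper19.cd_eq hp hG hmc (Subgroup.centralizer (K : Set G)) hZC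
  have hKCC : K ≤ Subgroup.centralizer
      ((Subgroup.centralizer (K : Set G) : Subgroup G) : Set G) := by
    intro x hx
    rw [Subgroup.mem_centralizer_iff]
    intro y hy
    exact (Subgroup.mem_centralizer_iff.mp hy x hx).symm
  have hcard : Nat.card (Subgroup.centralizer
      ((Subgroup.centralizer (K : Set G) : Subgroup G) : Set G)) = Nat.card K := by
    have hpos : 0 < Nat.card (Subgroup.centralizer (K : Set G)) := Nat.card_pos
    have h3 : Nat.card (Subgroup.centralizer (K : Set G)) * Nat.card (Subgroup.centralizer
        ((Subgroup.centralizer (K : Set G) : Subgroup G) : Set G))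
        = Nat.card (Subgroup.centralizer (K : Set G)) * Nat.card K := by
      rw [h2, ← h1]; ring
    exact Nat.eq_of_mul_eq_mul_left hpos h3
  have hEq := Subgroup.eq_of_le_of_card_ge hKCC (by rw [hcard])
  exact le_antisymm (le_inf hKC hKCC) (inf_le_right.trans hEq.ge)

end Cfsg.Agent.S3885
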