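import Cfsg.Statements.S3886
import Mathlib
import Cfsg.Agent.Lib.helper19.Metacyc2

set_option autoImplicit false
open Cfsg

namespace Cfsg.Agent.S3886

/-- Let p be an odd prime and G a finite metacyclic p-group (G has a cyclic normal subgroup with cyclic quotient). Then the largest value of |R| · |Z(R)| over subgroups R of G is |G : G'|², and the subgroups attaining it (the centrally large subgroups) are exactly the non-abelian subgroups together with the maximal abelian subgroups of G. -/
theorem result {G : Type*} [Group G] [Finite G] {p : ℕ} [Fact p.Prime] (hp : p ≠ 2) (hG : IsPGroup p G) (hmc : Cfsg.IsMetacyclic G) : Cfsg.maxCentralProduct G = (commutator G).index ^ 2 ∧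
    ∀ R : Subgroup G, Cfsg.IsCentrallyLarge R ↔ (¬ IsMulCommutative ↥R ∨ Maximal (fun K : Subgroup G => IsMulCommutative ↥K) R) := by
  classical
  have hpp : p.Prime := Fact.out
  have hipos : 0 < (commutator G).index := Nat.pos_of_ne_zero Subgroup.index_ne_zero_of_finite
  have hnab : ∀ R : Subgroup G, ¬ IsMulCommutative ↥R →
      Nat.card R * Nat.card (Subgroup.center ↥R) = (commutator G).index ^ 2 := by
    intro R hR
    rcases Cfsg.Agent.Lib.helper19.sub_card' hp hG hmc R with h | ⟨h, _⟩
    · have h1 := Cfsg.Agent.Lib.helper19.center_index hp (hG.to_subgroup R)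
        (Cfsg.Agent.Lib.helper19.metacyclic_subgroup hmc R)
      have h2 := Subgroup.card_mul_index (Subgroup.center ↥R)
      rw [h1] at h2
      have hcpos : 0 < Nat.card (commutator ↥R) := Nat.card_pos
      have h3 : Nat.card (commutator ↥R) * (Nat.card (Subgroup.center ↥R) * Nat.card (commutator ↥R))
          = Nat.card (commutator ↥R) * (commutator G).index := by
        calc Nat.card (commutator ↥R) * (Nat.card (Subgroup.center ↥R) * Nat.card (commutator ↥R))
            = Nat.card (Subgroup.center ↥R) * Nat.card (commutator ↥R) ^ 2 := by ring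
          _ = Nat.card R := h2
          _ = _ := by rw [h]; ring
      have h4 := Nat.eq_of_mul_eq_mul_left hcpos h3
      rw [h, pow_two, ← h4]; ring
    · exact absurd h hR
  have hab : ∀ R : Subgroup G, IsMulCommutative ↥R →
      Nat.card R * Nat.card (Subgroup.center ↥R) = Nat.card R ^ 2 := by
    intro R hR
    have h1 : Subgroup.center ↥R = ⊤ := by
      rw [eq_top_iff]
      intro x _
      rw [Subgroup.mem_center_iff]
      intro y
      exact hR.is_comm.comm y x
    rw [h1, Subgroup.card_top, pow_two]
  have hle : ∀ R : Subgroup G,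
      Nat.card R * Nat.card (Subgroup.center ↥R) ≤ (commutator G).index ^ 2 := by
    intro R
    by_cases hR : IsMulCommutative ↥R
    · rw [hab R hR]
      exact Nat.pow_le_pow_left ((Cfsg.Agent.Lib.helper19.abelian_iff_card_le hp hG hmc R).mp hR) 2
    · rw [hnab R hR]
  have htop : Nat.card (⊤ : Subgroup G) * Nat.card (Subgroup.center ↥(⊤ : Subgroup G))
      = (commutator G).index ^ 2 := by
    by_cases hR : IsMulCommutative ↥(⊤ : Subgroup G)
    · rw [hab _ hR]
      have h1 := (Cfsg.Agent.Lib.helper19.abelian_iff_card_le hp hG hmc ⊤).mp hR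
      have h2 : (commutator G).index ≤ Nat.card (⊤ : Subgroup G) := by
        rw [Subgroup.card_top]
        exact Nat.le_of_dvd Nat.card_pos (Subgroup.index_dvd_card _)
      rw [le_antisymm h1 h2]
    · exact hnab _ hR
  have hmax : Cfsg.maxCentralProduct G = (commutator G).index ^ 2 := by
    unfold Cfsg.maxCentralProduct
    apply IsGreatest.csSup_eq
    constructor
    · exact ⟨⊤, htop⟩
    · rintro k ⟨R, rfl⟩
      exact hle R
  refine ⟨hmax, ?_⟩
  intro R
  unfold Cfsg.IsCentrallyLarge
  rw [hmax]
  constructor
  · intro h
    by_cases hR : IsMulCommutative ↥R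
    · right
      rw [hab R hR] at h
      rw [Cfsg.Agent.Lib.helper19.maximal_abelian_iff hp hG hmc R]
      exact Nat.pow_left_injective (by norm_num : 2 ≠ 0) h
    · left; exact hR
  · rintro (h | h)
    · exact hnab R h
    · rw [hab R h.1, (Cfsg.Agent.Lib.helper19.maximal_abelian_iff hp hG hmc R).mp h]

end Cfsg.Agent.S3886
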