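import Cfsg.Statements.S3887
import Mathlib
import Cfsg.Agent.Lib.helper19.Metacyc3

set_option autoImplicit false
open Cfsg

namespace Cfsg.Agent.S3887

/-- Let p be an odd prime and G a finite metacyclic p-group (G has a cyclic normal subgroup with cyclic quotient). Then a subgroup R of G maximizes |R| · |C_G(R)| over all subgroups of G if and only if R contains the center of G. -/
theorem result {G : Type*} [Group G] [Finite G] {p : ℕ} [Fact p.Prime] (hp : p ≠ 2) (hG : IsPGroup p G) (hmc : Cfsg.IsMetacyclic G) (R : Subgroup G) : Cfsg.IsCentralizerLarge R ↔ Subgroup.center G ≤ R := by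
  classical
  have hcd := fun (R : Subgroup G) (hZR : Subgroup.center G ≤ R) =>
    Cfsg.Agent.Lib.helper19.cd_eq hp hG hmc R hZR
  have hCsup : ∀ R : Subgroup G,
      Subgroup.centralizer ((R ⊔ Subgroup.center G : Subgroup G) : Set G)
        = Subgroup.centralizer (R : Set G) := by
    intro R
    apply le_antisymm
    · apply Subgroup.centralizer_le
      intro x hx
      exact (le_sup_left : R ≤ R ⊔ Subgroup.center G) hx
    · intro x hx
      rw [Subgroup.mem_centralizer_iff]
      intro y hy
      have h1 : R ⊔ Subgroup.center G ≤ Subgroup.centralizer {x} := by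
        apply sup_le
        · intro y hy
          rw [Subgroup.mem_centralizer_singleton_iff]
          exact Subgroup.mem_centralizer_iff.mp hx y hy
        · exact Subgroup.center_le_centralizer _
      have h2 := h1 hy
      rw [Subgroup.mem_centralizer_singleton_iff] at h2
      exact h2
  have hle : ∀ R : Subgroup G, Nat.card R * Nat.card (Subgroup.centralizer (R : Set G))
      ≤ Nat.card G * Nat.card (Subgroup.center G) := by
    intro R
    have h1 := hcd (R ⊔ Subgroup.center G) le_sup_right
    rw [hCsup] at h1
    rw [← h1]
    exact Nat.mul_le_mul_right _ (Subgroup.card_le_of_le le_sup_left)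
  have hmax : Cfsg.maxCentralizerProduct G = Nat.card G * Nat.card (Subgroup.center G) := by
    unfold Cfsg.maxCentralizerProduct
    apply IsGreatest.csSup_eq
    constructor
    · exact ⟨Subgroup.center G, hcd _ le_rfl⟩
    · rintro k ⟨R, rfl⟩
      exact hle R
  unfold Cfsg.IsCentralizerLarge
  rw [hmax]
  constructor
  · intro h
    by_contra hZR
    have hne : R ≠ R ⊔ Subgroup.center G := by
      intro h'
      apply hZR
      rw [h']
      exact le_sup_right
    have hlt : Nat.card R < Nat.card (R ⊔ Subgroup.center G : Subgroup G) := by
      by_contra hcon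
      push_neg at hcon
      exact hne (Subgroup.eq_of_le_of_card_ge le_sup_left hcon)
    have h1 := hcd (R ⊔ Subgroup.center G) le_sup_right
    rw [hCsup, ← h] at h1
    have hpos : 0 < Nat.card (Subgroup.centralizer (R : Set G)) := Nat.card_pos
    have h2 := Nat.mul_lt_mul_of_pos_right hlt hpos
    omega
  · exact hcd R

end Cfsg.Agent.S3887
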