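import Cfsg.Statements.S3889
import Mathlib

set_option autoImplicit false
open Cfsg

namespace Cfsg.Agent.S3889

/-- A finite abelian group that is the union of a family of proper subgroups any two of which intersect trivially is elementary abelian: its exponent is a prime. -/
theorem result {G : Type*} [CommGroup G] [Finite G] (𝓑 : Set (Subgroup G)) (hprop : ∀ B ∈ 𝓑, B ≠ ⊤)
    (hcov : ∀ g : G, ∃ B ∈ 𝓑, g ∈ B) (hdisj : ∀ B ∈ 𝓑, ∀ C ∈ 𝓑, B ≠ C → B ⊓ C = ⊥) :
    (Monoid.exponent G).Prime := by
  classical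
  -- nontriviality
  obtain ⟨B₀, hB₀, -⟩ := hcov 1
  have hnt : Nontrivial G := by
    by_contra hnt
    rw [not_nontrivial_iff_subsingleton] at hnt
    exact hprop B₀ hB₀ (Subsingleton.elim _ _)
  -- step A
  have stepA : ∀ B ∈ 𝓑, ∀ a ∈ B, a ≠ 1 → ∀ b : G, b ∉ B → orderOf a = orderOf b := by
    intro B hB a haB ha1 b hbB
    obtain ⟨C, hC, habC⟩ := hcov (a * b)
    obtain ⟨D, hD, hbD⟩ := hcov b
    have hCB : C ≠ B := by
      rintro rfl
      apply hbB
      have : b = a⁻¹ * (a * b) := by group
      rw [this]; exact C.mul_mem (C.inv_mem haB) habC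
    have hDB : D ≠ B := by
      rintro rfl; exact hbB hbD
    apply Nat.dvd_antisymm
    · apply orderOf_dvd_of_pow_eq_one
      have h1 : (a * b) ^ orderOf b = a ^ orderOf b := by
        rw [mul_pow, pow_orderOf_eq_one, mul_one]
      have h2 : a ^ orderOf b ∈ C ⊓ B := ⟨h1 ▸ C.pow_mem habC _, B.pow_mem haB _⟩
      rw [hdisj C hC B hB hCB] at h2
      exact (Subgroup.mem_bot).1 h2
    · apply orderOf_dvd_of_pow_eq_one
      have h1 : (a * b) ^ orderOf a = b ^ orderOf a := by
        rw [mul_pow, pow_orderOf_eq_one, one_mul]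
      have hCD : C ≠ D := by
        rintro rfl
        apply ha1
        have h3 : a ∈ C ⊓ B := by
          refine ⟨?_, haB⟩
          have : a = (a * b) * b⁻¹ := by group
          rw [this]; exact C.mul_mem habC (C.inv_mem hbD)
        rw [hdisj C hC B hB hCB] at h3
        exact (Subgroup.mem_bot).1 h3
      have h2 : b ^ orderOf a ∈ C ⊓ D := ⟨h1 ▸ C.pow_mem habC _, D.pow_mem hbD _⟩
      rw [hdisj C hC D hD hCD] at h2
      exact (Subgroup.mem_bot).1 h2
  -- step B
  have stepB : ∀ a a' : G, a ≠ 1 → a' ≠ 1 → orderOf a = orderOf a' := by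
    intro a a' ha ha'
    obtain ⟨B, hB, haB⟩ := hcov a
    by_cases h : a' ∈ B
    · obtain ⟨b, hb⟩ : ∃ b : G, b ∉ B := by
        by_contra hall
        push Not at hall
        exact hprop B hB (eq_top_iff.2 fun x _ => hall x)
      rw [stepA B hB a haB ha b hb, stepA B hB a' h ha' b hb]
    · exact stepA B hB a haB ha a' h
  obtain ⟨g, hg⟩ := exists_ne (1 : G)
  have hn1 : orderOf g ≠ 1 := fun h => hg (orderOf_eq_one_iff.1 h)
  have hnpos : 0 < orderOf g := orderOf_pos g
  have hprime : (orderOf g).Prime := by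
    set n := orderOf g with hn
    have hq : (n.minFac).Prime := Nat.minFac_prime hn1
    have hqd : n.minFac ∣ n := Nat.minFac_dvd n
    obtain ⟨m, hm⟩ := hqd
    have hmlt : m < n := by
      have h2 : 2 ≤ n.minFac := hq.two_le
      have hmpos : 0 < m := by
        rcases Nat.eq_zero_or_pos m with h0 | h0
        · rw [h0, mul_zero] at hm; omega
        · exact h0
      nlinarith
    have hmpos : 0 < m := by
      rcases Nat.eq_zero_or_pos m with h0 | h0
      · rw [h0, mul_zero] at hm; omega
      · exact h0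
    have hne : g ^ m ≠ 1 := pow_ne_one_of_lt_orderOf hmpos.ne' (hn ▸ hmlt)
    have ho : orderOf (g ^ m) = n := stepB _ _ hne hg
    have hpow : (g ^ m) ^ n.minFac = 1 := by
      rw [← pow_mul, mul_comm, ← hm, hn, pow_orderOf_eq_one]
    have hdvd : n ∣ n.minFac := by
      have h5 := orderOf_dvd_of_pow_eq_one hpow
      rwa [ho] at h5
    have : n = n.minFac := Nat.dvd_antisymm hdvd (Nat.minFac_dvd n)
    rw [this]; exact hq
  rw [(Monoid.exponent_eq_prime_iff hprime).2 (fun a ha => stepB a g ha hg)]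
  exact hprime

end Cfsg.Agent.S3889
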