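import Cfsg.Statements.S3890
import Cfsg.Agent.Lib.helper2.NilCover

set_option autoImplicit false
open Cfsg

namespace Cfsg.Agent.S3890

open Cfsg.Agent.Lib.helper2.NilCover

/-- A cover of a group is a finite set of proper subgroups whose union is the whole group; it is minimal when no cover has fewer members, and nilpotent when all its members are nilpotent. Let G be a finite group with trivial center admitting a nilpotent minimal cover 𝓐, and let P be an abelian Sylow p-subgroup of G that is not normal. Then either P is elementary abelian of order greater than p, or P is a Sylow p-subgroup of some member A of 𝓐, the normalizer N of P is a maximal subgroup of G, N meets each of its conjugates by elements outside N in a subgroup of order prime to p, and the centralizer of P equals A. -/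
theorem result {G : Type*} [Group G] [Finite G] (hZ : Subgroup.center G = ⊥) (𝓐 : Finset (Subgroup G))
    (h𝓐 : ((∀ A ∈ 𝓐, A ≠ ⊤) ∧ (∀ g : G, ∃ A ∈ 𝓐, g ∈ A)) ∧ (∀ 𝓑 : Finset (Subgroup G), (∀ A ∈ 𝓑, A ≠ ⊤) ∧ (∀ g : G, ∃ A ∈ 𝓑, g ∈ A) → 𝓐.card ≤ 𝓑.card) ∧ (∀ A ∈ 𝓐, Group.IsNilpotent ↥A)) {p : ℕ} [Fact p.Prime] (P : Sylow p G) (hab : IsMulCommutative ↥(P : Subgroup G))
    (hnn : ¬ (P : Subgroup G).Normal) :
    (Cfsg.IsElementaryAbelian p (P : Subgroup G) ∧ p < Nat.card ↥(P : Subgroup G)) ∨
    (∃ A ∈ 𝓐, (P : Subgroup G) ≤ A ∧ ¬ p ∣ ((P : Subgroup G).subgroupOf A).index ∧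
      IsCoatom (Subgroup.normalizer ((P : Subgroup G) : Set G)) ∧
      (∀ g : G, g ∉ Subgroup.normalizer ((P : Subgroup G) : Set G) →
        ¬ p ∣ Nat.card ↥(Subgroup.normalizer ((P : Subgroup G) : Set G) ⊓
          (Subgroup.normalizer ((P : Subgroup G) : Set G)).map (MulAut.conj g).toMonoidHom)) ∧
      Subgroup.centralizer ((P : Subgroup G) : Set G) = A) := by
  have hcov : Cov 𝓐 := ⟨h𝓐.1.1, h𝓐.1.2, h𝓐.2.1, h𝓐.2.2⟩
  by_cases hcase : Cfsg.IsElementaryAbelian p (P : Subgroup G) ∧ p < Nat.card ↥(P : Subgroup G)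
  · exact Or.inl hcase
  right
  have hgood : Good (P : Subgroup G) p := by
    by_cases hE : Cfsg.IsElementaryAbelian p (P : Subgroup G)
    · have hle : Nat.card ↥(P : Subgroup G) ≤ p := by
        by_contra hh
        exact hcase ⟨hE, not_le.mp hh⟩
      right
      have hP1 : (P : Subgroup G) ≠ ⊥ := by
        intro e
        apply hnn
        rw [e]
        infer_instance
      obtain ⟨⟨x, hx⟩, hx1⟩ := Subgroup.ne_bot_iff_exists_ne_one.mp hP1
      have hx1' : x ≠ 1 := fun e => hx1 (Subtype.ext e)
      refine ⟨x, hx, ?_⟩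
      have hxp : x ^ p = 1 := hE.2 x hx
      have hord : orderOf x = p := orderOf_eq_prime hxp hx1'
      have hsub : Subgroup.zpowers x ≤ (P : Subgroup G) := Subgroup.zpowers_le.mpr hx
      have hcard : Nat.card (Subgroup.zpowers x) = p := by rw [Nat.card_zpowers, hord]
      have heq : Subgroup.zpowers x = (P : Subgroup G) := by
        apply Subgroup.eq_of_le_of_card_ge hsub
        rw [hcard]; exact hle
      intro y hy
      rw [heq]; exact hy
    · left
      by_contra hcon
      push Not at hcon
      exact hE ⟨hab, hcon⟩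
  obtain ⟨A, hA, hPA, hcent, hco, hle, hti⟩ := main hcov hZ P hab hnn hgood
  refine ⟨A, hA, hPA, ?_, hco, hti, hcent⟩
  intro hdvd
  have h1 : (P : Subgroup G).relIndex A * A.index = (P : Subgroup G).index :=
    Subgroup.relIndex_mul_index hPA
  have h2 : p ∣ (P : Subgroup G).index := by
    rw [← h1]
    exact Dvd.dvd.mul_right hdvd _
  exact P.not_dvd_index h2

end Cfsg.Agent.S3890
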