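import Cfsg.Statements.S3892
import Cfsg.Agent.Lib.helper2.NilCoverAlt

set_option autoImplicit false
open Cfsg

namespace Cfsg.Agent.S3892

open Cfsg.Agent.Lib.helper2.NilCover

/-- A cover of a group is a finite set of proper subgroups whose union is the whole group; it is minimal when no cover has fewer members, and nilpotent when all its members are nilpotent. The alternating groups of degree at least 5 and the symmetric groups of degree at least 4 have no nilpotent minimal cover. -/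
theorem result (n : ℕ) :
    (5 ≤ n → ¬ ∃ 𝓐 : Finset (Subgroup ↥(alternatingGroup (Fin n))), ((∀ A ∈ 𝓐, A ≠ ⊤) ∧ (∀ g : ↥(alternatingGroup (Fin n)), ∃ A ∈ 𝓐, g ∈ A)) ∧ (∀ 𝓑 : Finset (Subgroup ↥(alternatingGroup (Fin n))), (∀ A ∈ 𝓑, A ≠ ⊤) ∧ (∀ g : ↥(alternatingGroup (Fin n)), ∃ A ∈ 𝓑, g ∈ A) → 𝓐.card ≤ 𝓑.card) ∧ (∀ A ∈ 𝓐, Group.IsNilpotent ↥A)) ∧
    (4 ≤ n → ¬ ∃ 𝓐 : Finset (Subgroup (Equiv.Perm (Fin n))), ((∀ A ∈ 𝓐, A ≠ ⊤) ∧ (∀ g : (Equiv.Perm (Fin n)), ∃ A ∈ 𝓐, g ∈ A)) ∧ (∀ 𝓑 : Finset (Subgroup (Equiv.Perm (Fin n))), (∀ A ∈ 𝓑, A ≠ ⊤) ∧ (∀ g : (Equiv.Perm (Fin n)), ∃ A ∈ 𝓑, g ∈ A) → 𝓐.card ≤ 𝓑.card) ∧ (∀ A ∈ 𝓐, Group.IsNilpotent ↥A)) := by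
  constructor
  · rintro h5 ⟨𝓐, h𝓐⟩
    have hcov : Cov 𝓐 := ⟨h𝓐.1.1, h𝓐.1.2, h𝓐.2.1, h𝓐.2.2⟩
    by_cases h6 : 6 ≤ n
    · exact no_cover_big h6 (alternatingGroup (Fin n)).subtype Subtype.val_injective
        (by rw [Subgroup.range_subtype]) 𝓐 hcov
    · have h5' : n = 5 := by omega
      subst h5'
      exact no_cover_A5 𝓐 hcov
  · rintro h4 ⟨𝓐, h𝓐⟩
    have hcov : Cov 𝓐 := ⟨h𝓐.1.1, h𝓐.1.2, h𝓐.2.1, h𝓐.2.2⟩
    by_cases h6 : 6 ≤ n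
    · exact no_cover_big h6 (MonoidHom.id (Equiv.Perm (Fin n))) (fun _ _ h => h)
        (fun σ _ => ⟨σ, rfl⟩) 𝓐 hcov
    · rcases (show n = 4 ∨ n = 5 by omega) with h | h
      · subst h
        exact no_cover_S4 𝓐 hcov
      · subst h
        exact no_cover_S5 𝓐 hcov

end Cfsg.Agent.S3892
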