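import Cfsg.Statements.S3899
import Mathlib
import Cfsg.Agent.S3870
import Cfsg.Agent.S3897

set_option autoImplicit false
open Cfsg
open scoped commutatorElement

namespace Cfsg.Agent.S3899

universe u

/-- `x` is a `τ`-element. -/
def IsT (τ : Finset ℕ) {H : Type u} [Group H] (x : H) : Prop :=
  ∀ s : ℕ, s.Prime → s ∣ orderOf x → s ∈ τ

/-- number of classes of `τ`-elements -/
noncomputable def kk (τ : Finset ℕ) (H : Type u) [Group H] : ℕ :=
  Nat.card {c : ConjClasses H // ∀ x ∈ c.carrier, IsT τ x}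

/-- number of commuting pairs whose first member is a `τ`-element -/
noncomputable def cp (τ : Finset ℕ) (H : Type u) [Group H] : ℕ :=
  Nat.card {q : H × H // IsT τ q.1 ∧ Commute q.1 q.2}

lemma orderOf_conj_eq {H : Type u} [Group H] (g x : H) : orderOf (g * x * g⁻¹) = orderOf x :=
  orderOf_injective (MulAut.conj g).toMonoidHom (MulAut.conj g).injective x

lemma isT_conj {τ : Finset ℕ} {H : Type u} [Group H] (g x : H) (hx : IsT τ x) :
    IsT τ (g * x * g⁻¹) := by
  intro s hs hd
  rw [orderOf_conj_eq] at hd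
  exact hx s hs hd

lemma isT_of_isConj {τ : Finset ℕ} {H : Type u} [Group H] {x y : H} (h : IsConj x y)
    (hx : IsT τ x) : IsT τ y := by
  obtain ⟨c, rfl⟩ := isConj_iff.mp h
  exact isT_conj c x hx

/-- the conjugation action on `τ`-elements -/
def tSub (τ : Finset ℕ) (H : Type u) [Group H] : SubMulAction (ConjAct H) H where
  carrier := {x | IsT τ x}
  smul_mem' := by
    intro c x hx
    have : c • x = ConjAct.ofConjAct c * x * (ConjAct.ofConjAct c)⁻¹ := ConjAct.smul_def c x
    rw [Set.mem_setOf_eq, this]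
    exact isT_conj _ _ hx

lemma cp_eq (τ : Finset ℕ) (H : Type u) [Group H] [Finite H] :
    cp τ H = kk τ H * Nat.card H := by
  classical
  haveI := Fintype.ofFinite H
  have hB := MulAction.sum_card_fixedBy_eq_card_orbits_mul_card_group (ConjAct H) (tSub τ H)
  have h1 : cp τ H = ∑ a : ConjAct H, Fintype.card (MulAction.fixedBy (tSub τ H) a) := by
    rw [← Fintype.card_sigma, ← Nat.card_eq_fintype_card]
    refine Nat.card_congr
      { toFun := fun q => ⟨ConjAct.toConjAct q.1.2, ⟨⟨q.1.1, q.2.1⟩, ?_⟩⟩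
        invFun := fun s => ⟨(s.2.1.1, ConjAct.ofConjAct s.1), s.2.1.2, ?_⟩
        left_inv := ?_
        right_inv := ?_ }
    · apply Subtype.ext
      show q.1.2 * q.1.1 * q.1.2⁻¹ = q.1.1
      rw [mul_inv_eq_iff_eq_mul]
      exact q.2.2.eq.symm
    · have h := s.2.2
      have h' : ConjAct.ofConjAct s.1 * s.2.1.1 * (ConjAct.ofConjAct s.1)⁻¹ = s.2.1.1 :=
        congrArg Subtype.val h
      rw [mul_inv_eq_iff_eq_mul] at h'
      exact h'.symm
    · rintro ⟨⟨x, g⟩, h1, h2⟩
      rfl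
    · rintro ⟨a, ⟨⟨x, hx⟩, hfix⟩⟩
      rfl
  have h2 : Fintype.card (Quotient (MulAction.orbitRel (ConjAct H) (tSub τ H))) = kk τ H := by
    rw [← Nat.card_eq_fintype_card]
    let f : Quotient (MulAction.orbitRel (ConjAct H) (tSub τ H)) →
        {c : ConjClasses H // ∀ x ∈ c.carrier, IsT τ x} :=
      Quotient.lift (fun x => ⟨ConjClasses.mk x.1, fun y hy => by
        have h1 : ConjClasses.mk y = ConjClasses.mk x.1 := ConjClasses.mem_carrier_iff_mk_eq.mp hy
        exact isT_of_isConj (ConjClasses.mk_eq_mk_iff_isConj.mp h1).symm x.2⟩)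
        (by
          intro x y hxy
          apply Subtype.ext
          show ConjClasses.mk x.1 = ConjClasses.mk y.1
          have hxy' : (MulAction.orbitRel (ConjAct H) (tSub τ H)) x y := hxy
          rw [MulAction.orbitRel_apply, MulAction.mem_orbit_iff] at hxy'
          obtain ⟨a, ha⟩ := hxy'
          rw [ConjClasses.mk_eq_mk_iff_isConj]
          refine (isConj_iff.mpr ⟨ConjAct.ofConjAct a, ?_⟩).symm
          exact congrArg Subtype.val ha)
    refine Nat.card_eq_of_bijective f ⟨?_, ?_⟩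
    · intro a b hab
      induction a using Quotient.inductionOn with
      | _ x =>
        induction b using Quotient.inductionOn with
        | _ y =>
          have h1 : ConjClasses.mk x.1 = ConjClasses.mk y.1 := congrArg Subtype.val hab
          obtain ⟨c, hc⟩ := isConj_iff.mp (ConjClasses.mk_eq_mk_iff_isConj.mp h1)
          apply Quotient.sound
          show (MulAction.orbitRel (ConjAct H) (tSub τ H)) x y
          rw [MulAction.orbitRel_apply, MulAction.mem_orbit_iff]
          refine ⟨ConjAct.toConjAct c⁻¹, ?_⟩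
          apply Subtype.ext
          show c⁻¹ * y.1 * c⁻¹⁻¹ = x.1
          rw [← hc]; group
    · rintro ⟨c, hc⟩
      obtain ⟨g, rfl⟩ := ConjClasses.exists_rep c
      have hg : IsT τ g := hc g ConjClasses.mem_carrier_mk
      exact ⟨Quotient.mk _ ⟨g, hg⟩, rfl⟩
  rw [h1, hB, h2, Nat.card_eq_fintype_card]
  rfl

lemma isT_coe {τ : Finset ℕ} {H : Type u} [Group H] (K : Subgroup H) (z : K) :
    IsT τ (z : H) ↔ IsT τ z := by
  unfold IsT
  rw [Subgroup.orderOf_coe]

lemma cp_eq_sum (σ : Finset ℕ) (H : Type u) [Group H] [Finite H] [Fintype {y : H // IsT σ y}] :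
    cp σ H = ∑ y : {y : H // IsT σ y}, Nat.card (Subgroup.centralizer {y.1}) := by
  rw [← Nat.card_sigma]
  refine Nat.card_congr
    { toFun := fun q => ⟨⟨q.1.1, q.2.1⟩, ⟨q.1.2, ?_⟩⟩
      invFun := fun s => ⟨(s.1.1, s.2.1), s.1.2, ?_⟩
      left_inv := ?_
      right_inv := ?_ }
  · rw [Subgroup.mem_centralizer_singleton_iff]
    exact q.2.2.eq.symm
  · have h := s.2.2
    rw [Subgroup.mem_centralizer_singleton_iff] at h
    exact h.symm
  · rintro ⟨⟨x, g⟩, h1, h2⟩
    rfl
  · rintro ⟨⟨y, hy⟩, ⟨g, hg⟩⟩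
    rfl

/-- auxiliary type of triples -/
abbrev WT (r : ℕ) (τ : Finset ℕ) (H : Type u) [Group H] : Type u :=
  {t : H × H × H // IsT {r} t.1 ∧ (Commute t.1 t.2.1 ∧ Commute t.1 t.2.2) ∧
    IsT τ t.2.1 ∧ Commute t.2.1 t.2.2}

lemma card_WT (r : ℕ) (τ : Finset ℕ) (H : Type u) [Group H] [Finite H]
    [Fintype {y : H // IsT {r} y}] :
    Nat.card (WT r τ H) = ∑ y : {y : H // IsT {r} y}, cp τ (Subgroup.centralizer {y.1}) := by
  unfold cp
  rw [← Nat.card_sigma]
  refine Nat.card_congr
    { toFun := fun t => ⟨⟨t.1.1, t.2.1⟩, ⟨(⟨t.1.2.1, ?_⟩, ⟨t.1.2.2, ?_⟩), ?_, ?_⟩⟩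
      invFun := fun s => ⟨(s.1.1, s.2.1.1.1, s.2.1.2.1), s.1.2, ⟨?_, ?_⟩, ?_, ?_⟩
      left_inv := ?_
      right_inv := ?_ }
  · rw [Subgroup.mem_centralizer_singleton_iff]
    exact t.2.2.1.1.eq.symm
  · rw [Subgroup.mem_centralizer_singleton_iff]
    exact t.2.2.1.2.eq.symm
  · exact (isT_coe _ _).mp t.2.2.2.1
  · exact Subtype.ext t.2.2.2.2.eq
  · have h := s.2.1.1.2
    rw [Subgroup.mem_centralizer_singleton_iff] at h
    exact h.symm
  · have h := s.2.1.2.2
    rw [Subgroup.mem_centralizer_singleton_iff] at h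
    exact h.symm
  · exact (isT_coe _ _).mpr s.2.2.1
  · exact congrArg Subtype.val s.2.2.2.eq
  · rintro ⟨⟨y, z, g⟩, h⟩
    rfl
  · rintro ⟨⟨y, hy⟩, ⟨⟨⟨z, hz⟩, ⟨g, hg⟩⟩, h⟩⟩
    rfl

lemma cp_insert_le (r : ℕ) (hr : r.Prime) (τ : Finset ℕ) (H : Type u) [Group H] [Finite H]
    [Fintype {y : H // IsT {r} y}] :
    cp (insert r τ) H ≤ ∑ y : {y : H // IsT {r} y}, cp τ (Subgroup.centralizer {y.1}) := by
  classical
  have hn0 : Nat.card H ≠ 0 := Nat.card_pos.ne'
  obtain ⟨e, he⟩ : ∃ e, e = (Nat.card H).factorization r := ⟨_, rfl⟩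
  obtain ⟨m, hm⟩ : ∃ m, m = Nat.card H / r ^ e := ⟨_, rfl⟩
  have hnm : r ^ e * m = Nat.card H := by
    rw [hm, he]; exact Nat.ordProj_mul_ordCompl_eq_self _ r
  have hrm : ¬ r ∣ m := by
    rw [hm, he]; exact Nat.not_dvd_ordCompl hr hn0
  have hcop : Nat.Coprime (r ^ e) m :=
    Nat.Coprime.pow_left e ((Nat.Prime.coprime_iff_not_dvd hr).mpr hrm)
  obtain ⟨a, ha1, ha2⟩ := Nat.chineseRemainder hcop 1 0
  obtain ⟨b, hb1, hb2⟩ := Nat.chineseRemainder hcop 0 1
  have hab : a + b ≡ 1 [MOD Nat.card H] := by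
    rw [← hnm]
    refine (Nat.modEq_and_modEq_iff_modEq_mul hcop).mp ⟨?_, ?_⟩
    · simpa using ha1.add hb1
    · simpa using ha2.add hb2
  have hpow : ∀ x : H, x ^ a * x ^ b = x := by
    intro x
    rw [← pow_add]
    have h1 : a + b ≡ 1 [MOD orderOf x] := hab.of_dvd (orderOf_dvd_natCard x)
    have h2 := pow_eq_pow_iff_modEq.mpr h1
    rw [h2, pow_one]
  have hma : m ∣ a := (Nat.modEq_zero_iff_dvd).mp ha2
  have hrb : r ^ e ∣ b := (Nat.modEq_zero_iff_dvd).mp hb1
  have hxa : ∀ x : H, (x ^ a) ^ (r ^ e) = 1 := by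
    intro x
    rw [← pow_mul]
    obtain ⟨c, rfl⟩ := hma
    have h1 : m * c * r ^ e = Nat.card H * c := by rw [← hnm]; ring
    rw [h1, pow_mul, pow_card_eq_one', one_pow]
  have hxb : ∀ x : H, (x ^ b) ^ m = 1 := by
    intro x
    rw [← pow_mul]
    obtain ⟨c, rfl⟩ := hrb
    have h1 : r ^ e * c * m = Nat.card H * c := by rw [← hnm]; ring
    rw [h1, pow_mul, pow_card_eq_one', one_pow]
  have hTa : ∀ x : H, IsT {r} (x ^ a) := by
    intro x s hs hd
    have h1 : orderOf (x ^ a) ∣ r ^ e := orderOf_dvd_of_pow_eq_one (hxa x)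
    have h2 : s = r := (Nat.prime_dvd_prime_iff_eq hs hr).mp (hs.dvd_of_dvd_pow (hd.trans h1))
    simp [h2]
  rw [← card_WT]
  refine Nat.card_le_card_of_injective
    (fun q => (⟨(q.1.1 ^ a, q.1.1 ^ b, q.1.2), hTa _,
      ⟨Commute.pow_pow_self _ _ _, q.2.2.pow_left a⟩, ?_, q.2.2.pow_left b⟩ : WT r τ H)) ?_
  · intro s hs hd
    have h1 : s ∣ orderOf q.1.1 := hd.trans (orderOf_pow_dvd b)
    have h2 := q.2.1 s hs h1
    rw [Finset.mem_insert] at h2
    rcases h2 with h2 | h2
    · exfalso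
      apply hrm
      rw [← h2]
      exact hd.trans (orderOf_dvd_of_pow_eq_one (hxb _))
    · exact h2
  · rintro ⟨⟨x, g⟩, h1, h2⟩ ⟨⟨x', g'⟩, h1', h2'⟩ heq
    have heq' := congrArg Subtype.val heq
    simp only [Prod.mk.injEq] at heq'
    obtain ⟨e1, e2, e3⟩ := heq'
    apply Subtype.ext
    simp only [Prod.mk.injEq]
    refine ⟨?_, e3⟩
    rw [← hpow x, ← hpow x', e1, e2]

lemma kk_single_le (r : ℕ) (hr : r.Prime) (H : Type u) [Group H] [Finite H] :
    kk {r} H ≤ r ^ (Nat.card H).factorization r := by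
  haveI : Fact r.Prime := ⟨hr⟩
  obtain ⟨P⟩ : Nonempty (Sylow r H) := inferInstance
  rw [← Sylow.card_eq_multiplicity P]
  refine Nat.card_le_card_of_surjective (fun x : (P : Subgroup H) =>
    (⟨ConjClasses.mk x.1, ?_⟩ : {c : ConjClasses H // ∀ x ∈ c.carrier, IsT {r} x})) ?_
  · intro y hy s hs hd
    have h1 := ConjClasses.mem_carrier_iff_mk_eq.mp hy
    obtain ⟨c, hc⟩ := isConj_iff.mp (ConjClasses.mk_eq_mk_iff_isConj.mp h1)
    have h2 : orderOf y = orderOf x.1 := by rw [← hc, orderOf_conj_eq]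
    obtain ⟨k, hk⟩ := (IsPGroup.iff_orderOf.mp P.isPGroup') x
    rw [h2, Subgroup.orderOf_coe, hk] at hd
    simp [(Nat.prime_dvd_prime_iff_eq hs hr).mp (hs.dvd_of_dvd_pow hd)]
  · rintro ⟨c, hc⟩
    obtain ⟨g, rfl⟩ := ConjClasses.exists_rep c
    have hg : IsT {r} g := hc g ConjClasses.mem_carrier_mk
    have hpg : IsPGroup r (Subgroup.zpowers g) := by
      have h1 : orderOf g = r ^ (orderOf g).primeFactorsList.length :=
        Nat.eq_prime_pow_of_unique_prime_dvd (orderOf_pos g).ne'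
          (fun {d} hd hdd => by simpa using hg d hd hdd)
      refine IsPGroup.of_card (n := (orderOf g).primeFactorsList.length) ?_
      rw [Nat.card_zpowers]
      exact h1
    obtain ⟨Q, hQ⟩ := hpg.exists_le_sylow
    obtain ⟨h, hh⟩ := MulAction.exists_smul_eq H Q P
    have hmem : h * g * h⁻¹ ∈ (P : Subgroup H) := by
      have h3 : h * g * h⁻¹ ∈ h • Q := by
        rw [Cfsg.Agent.S3870.mem_smul_sylow]
        have : h⁻¹ * (h * g * h⁻¹) * h = g := by group
        rw [this]
        exact hQ (Subgroup.mem_zpowers g)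
      rw [hh] at h3
      exact h3
    refine ⟨⟨h * g * h⁻¹, hmem⟩, ?_⟩
    apply Subtype.ext
    show ConjClasses.mk (h * g * h⁻¹) = ConjClasses.mk g
    exact ConjClasses.mk_eq_mk_iff_isConj.mpr (isConj_iff.mpr ⟨h, rfl⟩).symm

lemma kk_insert_le (r : ℕ) (hr : r.Prime) (τ : Finset ℕ)
    (ih : ∀ (K : Type u) [Group K] [Finite K],
      kk τ K ≤ τ.prod (fun s => s ^ (Nat.card K).factorization s))
    (H : Type u) [Group H] [Finite H] :
    kk (insert r τ) H ≤ kk {r} H * τ.prod (fun s => s ^ (Nat.card H).factorization s) := by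
  classical
  haveI := Fintype.ofFinite H
  have h1 := cp_insert_le r hr τ H
  have h2 : ∑ y : {y : H // IsT {r} y}, cp τ (Subgroup.centralizer {y.1}) ≤
      ∑ y : {y : H // IsT {r} y}, Nat.card (Subgroup.centralizer {y.1}) *
        τ.prod (fun s => s ^ (Nat.card H).factorization s) := by
    refine Finset.sum_le_sum fun y _ => ?_
    rw [cp_eq, mul_comm]
    refine Nat.mul_le_mul_left _ ((ih _).trans ?_)
    refine Finset.prod_le_prod (fun s _ => Nat.zero_le _) (fun s _ => ?_)
    rcases Nat.eq_zero_or_pos s with h0 | h0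
    · subst h0
      simp
    · refine Nat.pow_le_pow_right h0 ?_
      exact (Nat.factorization_le_iff_dvd Nat.card_pos.ne' Nat.card_pos.ne').mpr
        (Subgroup.card_subgroup_dvd_card _) s
  rw [← Finset.sum_mul, ← cp_eq_sum, cp_eq] at h2
  rw [cp_eq] at h1
  have h3 := h1.trans h2
  have hpos : 0 < Nat.card H := Nat.card_pos
  refine Nat.le_of_mul_le_mul_right ?_ hpos
  calc kk (insert r τ) H * Nat.card H
      ≤ kk {r} H * Nat.card H * τ.prod (fun s => s ^ (Nat.card H).factorization s) := h3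
    _ = kk {r} H * τ.prod (fun s => s ^ (Nat.card H).factorization s) * Nat.card H := by ring

lemma kk_le (τ : Finset ℕ) (hτ : ∀ s ∈ τ, s.Prime) :
    ∀ (H : Type u) [Group H] [Finite H],
      kk τ H ≤ τ.prod (fun s => s ^ (Nat.card H).factorization s) := by
  classical
  induction τ using Finset.induction_on with
  | empty =>
    intro H _ _
    rw [Finset.prod_empty]
    unfold kk
    rw [Finite.card_le_one_iff_subsingleton]
    constructor
    have key : ∀ c : {c : ConjClasses H // ∀ x ∈ c.carrier, IsT ∅ x}, c.1 = ConjClasses.mk 1 := by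
      rintro ⟨c, hc⟩
      obtain ⟨g, rfl⟩ := ConjClasses.exists_rep c
      have h1 : g = 1 := by
        by_contra hne
        have h2 : orderOf g ≠ 1 := fun h => hne (orderOf_eq_one_iff.mp h)
        obtain ⟨s, hs, hd⟩ := Nat.exists_prime_and_dvd h2
        exact absurd (hc g ConjClasses.mem_carrier_mk s hs hd) (Finset.notMem_empty s)
      show ConjClasses.mk g = ConjClasses.mk 1
      rw [h1]
    intro c d
    exact Subtype.ext ((key c).trans (key d).symm)
  | insert r τ hrτ ih =>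
    intro H _ _
    have hr : r.Prime := hτ r (Finset.mem_insert_self r τ)
    have ih' := ih (fun s hs => hτ s (Finset.mem_insert_of_mem hs))
    have h1 := kk_insert_le r hr τ ih' H
    rw [Finset.prod_insert hrτ]
    exact h1.trans (Nat.mul_le_mul_right _ (kk_single_le r hr H))


/-- Let π be a finite non-empty set of odd primes with smallest member p and G a finite group. Write k_π(G) for the number of conjugacy classes of G consisting of π-elements (elements all of whose order's prime divisors lie in π) and |G|_π for the π-part of the order of G. If k_π(G) > (p + 1)|G|_π/(2p), then G has a normal π-complement (a normal subgroup of order prime to π whose index is a π-number) and an abelian Hall π-subgroup. -/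
theorem result {G : Type*} [Group G] [Finite G] (π : Finset ℕ) (hπ : ∀ r ∈ π, r.Prime) (h2 : 2 ∉ π) (p : ℕ) (hp : p ∈ π)
    (hmin : ∀ r ∈ π, p ≤ r) (hk : (p + 1) * π.prod (fun r => r ^ (Nat.card G).factorization r) < 2 * p * Nat.card {c : ConjClasses G // ∀ x ∈ c.carrier, ∀ r : ℕ, r.Prime → r ∣ orderOf x → r ∈ π}) :
    (∃ N : Subgroup G, N.Normal ∧ (∀ r : ℕ, r.Prime → r ∣ Nat.card ↥N → r ∉ π) ∧ ∀ r : ℕ, r.Prime → r ∣ N.index → r ∈ π) ∧ ∃ H : Subgroup G, Cfsg.IsPiHall (↑π : Set ℕ) H ∧ IsMulCommutative ↥H := by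
  classical
  have key : ∀ r ∈ π, ∃ N : Subgroup G, N.Normal ∧ ¬ r ∣ Nat.card N ∧ (∃ k : ℕ, N.index = r ^ k) ∧
      commutator G ≤ N := by
    intro r hrπ
    have hr := hπ r hrπ
    haveI : Fact r.Prime := ⟨hr⟩
    have hr2 : r ≠ 2 := fun h => h2 (h ▸ hrπ)
    have hins : insert r (π.erase r) = π := Finset.insert_erase hrπ
    have h1 := kk_insert_le r hr (π.erase r)
      (fun K _ _ => kk_le (π.erase r) (fun s hs => hπ s (Finset.mem_of_mem_erase hs)) K) G
    rw [hins] at h1
    have hprod : π.prod (fun s => s ^ (Nat.card G).factorization s) =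
        r ^ (Nat.card G).factorization r *
          (π.erase r).prod (fun s => s ^ (Nat.card G).factorization s) :=
      (Finset.mul_prod_erase π _ hrπ).symm
    have hE : 0 < (π.erase r).prod (fun s => s ^ (Nat.card G).factorization s) :=
      Finset.prod_pos (fun s hs => pow_pos (hπ s (Finset.mem_of_mem_erase hs)).pos _)
    have hk' : (p + 1) * π.prod (fun s => s ^ (Nat.card G).factorization s) < 2 * p * kk π G := hk
    have h3 : (p + 1) * r ^ (Nat.card G).factorization r < 2 * p * kk {r} G := by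
      rw [hprod] at hk'
      have h4 : (p + 1) * (r ^ (Nat.card G).factorization r *
          (π.erase r).prod (fun s => s ^ (Nat.card G).factorization s)) <
          2 * p * (kk {r} G * (π.erase r).prod (fun s => s ^ (Nat.card G).factorization s)) :=
        lt_of_lt_of_le hk' (Nat.mul_le_mul_left _ h1)
      by_contra hcon
      push Not at hcon
      have h5 := Nat.mul_le_mul_right
        ((π.erase r).prod (fun s => s ^ (Nat.card G).factorization s)) hcon
      have h6 : 2 * p * (kk {r} G * (π.erase r).prod (fun s => s ^ (Nat.card G).factorization s)) =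
          2 * p * kk {r} G * (π.erase r).prod (fun s => s ^ (Nat.card G).factorization s) := by
        ring
      have h7 : (p + 1) * (r ^ (Nat.card G).factorization r *
          (π.erase r).prod (fun s => s ^ (Nat.card G).factorization s)) =
          (p + 1) * r ^ (Nat.card G).factorization r *
            (π.erase r).prod (fun s => s ^ (Nat.card G).factorization s) := by ring
      rw [h6, h7] at h4
      exact absurd h5 (not_le.mpr h4)
    have hpr : p ≤ r := hmin r hrπ
    have hp0 : 0 < p := (hπ p hp).pos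
    have hkk : Nat.card {c : ConjClasses G // ∀ x ∈ c.carrier, ∃ k : ℕ, orderOf x = r ^ k} =
        kk {r} G := by
      unfold kk
      refine Nat.card_congr (Equiv.subtypeEquivRight fun c => ?_)
      refine forall₂_congr fun x _ => ?_
      constructor
      · rintro ⟨k, hk⟩ s hs hd
        rw [hk] at hd
        simp [(Nat.prime_dvd_prime_iff_eq hs hr).mp (hs.dvd_of_dvd_pow hd)]
      · intro h
        exact ⟨_, Nat.eq_prime_pow_of_unique_prime_dvd (orderOf_pos x).ne'
          (fun {d} hd hdd => by simpa using h d hd hdd)⟩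
    have h4 : ∀ Q : Sylow r G, (r + 1) * Nat.card ↥(Q : Subgroup G) <
        2 * r * Nat.card {c : ConjClasses G // ∀ x ∈ c.carrier, ∃ k : ℕ, orderOf x = r ^ k} := by
      intro Q
      rw [hkk, Sylow.card_eq_multiplicity Q]
      by_contra hcon
      push Not at hcon
      have e1 := Nat.mul_le_mul_right p hcon
      have e2 := Nat.mul_lt_mul_of_pos_right h3 hr.pos
      have e3 := Nat.mul_le_mul_left (r ^ (Nat.card G).factorization r) hpr
      have e4 : 0 < r ^ (Nat.card G).factorization r := pow_pos hr.pos _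
      nlinarith
    obtain ⟨⟨P, N, hN, hcompl⟩, -⟩ := (Cfsg.Agent.S3897.result hr2 (default : Sylow r G)).mp (h4 default)
    obtain ⟨-, hab⟩ := (Cfsg.Agent.S3897.result hr2 P).mp (h4 P)
    refine ⟨N, hN, ?_, ?_, ?_⟩
    · rw [← hcompl.index_eq_card]
      exact P.not_dvd_index
    · refine ⟨(Nat.card G).factorization r, ?_⟩
      rw [hcompl.symm.index_eq_card]
      exact Sylow.card_eq_multiplicity P
    · rw [commutator_def, Subgroup.commutator_le]
      have hdec : ∀ x : G, ∃ u ∈ (P : Subgroup G), (QuotientGroup.mk x : G ⧸ N) = QuotientGroup.mk u := by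
        intro x
        have hx : x ∈ ((N ⊔ (P : Subgroup G) : Subgroup G) : Set G) := by
          rw [hcompl.sup_eq_top]; exact Set.mem_univ x
        rw [Subgroup.normal_mul] at hx
        obtain ⟨n, hn, u, hu, rfl⟩ := Set.mem_mul.mp hx
        refine ⟨u, hu, ?_⟩
        rw [QuotientGroup.mk_mul, (QuotientGroup.eq_one_iff n).mpr hn, one_mul]
      intro x _ y _
      obtain ⟨u, hu, hxu⟩ := hdec x
      obtain ⟨v, hv, hyv⟩ := hdec y
      rw [← QuotientGroup.eq_one_iff]
      have huv : ⁅u, v⁆ = 1 := by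
        rw [commutatorElement_eq_one_iff_commute]
        exact congrArg Subtype.val (hab.is_comm.comm ⟨u, hu⟩ ⟨v, hv⟩)
      have hq : (QuotientGroup.mk ⁅x, y⁆ : G ⧸ N) = QuotientGroup.mk ⁅u, v⁆ := by
        show (QuotientGroup.mk' N) ⁅x, y⁆ = (QuotientGroup.mk' N) ⁅u, v⁆
        rw [map_commutatorElement, map_commutatorElement]
        show ⁅(QuotientGroup.mk x : G ⧸ N), QuotientGroup.mk y⁆ = ⁅(QuotientGroup.mk u : G ⧸ N), QuotientGroup.mk v⁆
        rw [hxu, hyv]
      rw [hq, huv]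
      rfl
  choose! Nf hNf using key
  have hNnorm : (⨅ r ∈ π, Nf r).Normal :=
    Subgroup.normal_iInf_normal fun r => Subgroup.normal_iInf_normal fun hr => (hNf r hr).1
  have hN1 : ∀ r : ℕ, r.Prime → r ∣ Nat.card ↥(⨅ r ∈ π, Nf r) → r ∉ π := by
    intro r hr hd hrπ
    exact (hNf r hrπ).2.1 (hd.trans (Subgroup.card_dvd_of_le (iInf₂_le r hrπ)))
  have hN2 : ∀ s : ℕ, s.Prime → s ∣ (⨅ r ∈ π, Nf r).index → s ∈ π := by
    intro s hs hd
    by_contra hsπ
    haveI : Fact s.Prime := ⟨hs⟩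
    obtain ⟨S⟩ : Nonempty (Sylow s G) := inferInstance
    have hS : (S : Subgroup G) ≤ ⨅ r ∈ π, Nf r := by
      refine le_iInf₂ fun r hrπ => ?_
      intro x hx
      obtain ⟨hnorm, -, ⟨k, hk⟩, -⟩ := hNf r hrπ
      haveI := hnorm
      obtain ⟨j, hj⟩ := (IsPGroup.iff_orderOf.mp S.isPGroup') ⟨x, hx⟩
      rw [Subgroup.orderOf_mk] at hj
      have d1 : orderOf (QuotientGroup.mk' (Nf r) x) ∣ s ^ j := by
        rw [← hj]; exact orderOf_map_dvd _ x
      have d2 : orderOf (QuotientGroup.mk' (Nf r) x) ∣ r ^ k := by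
        rw [← hk, Subgroup.index_eq_card]; exact orderOf_dvd_natCard _
      have hsr : s ≠ r := fun h => hsπ (h ▸ hrπ)
      have hcop : Nat.Coprime (s ^ j) (r ^ k) :=
        Nat.Coprime.pow _ _ ((Nat.coprime_primes hs (hπ r hrπ)).mpr hsr)
      have h1 : orderOf (QuotientGroup.mk' (Nf r) x) = 1 :=
        Nat.eq_one_of_dvd_coprimes hcop d1 d2
      rw [orderOf_eq_one_iff] at h1
      exact (QuotientGroup.eq_one_iff x).mp h1
    exact S.not_dvd_index (hd.trans (Subgroup.index_dvd_of_le hS))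
  have hNc : commutator G ≤ ⨅ r ∈ π, Nf r := le_iInf₂ fun r hrπ => (hNf r hrπ).2.2.2
  refine ⟨⟨_, hNnorm, hN1, hN2⟩, ?_⟩
  have hcop : Nat.Coprime (Nat.card ↥(⨅ r ∈ π, Nf r)) (⨅ r ∈ π, Nf r).index := by
    by_contra hnc
    obtain ⟨q, hq, hq1, hq2⟩ := Nat.Prime.not_coprime_iff_dvd.mp hnc
    exact hN1 q hq hq1 (hN2 q hq hq2)
  haveI := hNnorm
  obtain ⟨H, hH⟩ := Subgroup.exists_right_complement'_of_coprime hcop
  refine ⟨H, ⟨?_, ?_⟩, ?_⟩
  · intro q hq hd
    rw [← hH.symm.index_eq_card] at hd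
    exact Finset.mem_coe.mpr (hN2 q hq hd)
  · intro q hq hqπ hd
    rw [hH.index_eq_card] at hd
    exact hN1 q hq hd (Finset.mem_coe.mp hqπ)
  · refine ⟨⟨fun a b => Subtype.ext ?_⟩⟩
    have h1 : ⁅a.1, b.1⁆ ∈ ⨅ r ∈ π, Nf r :=
      hNc (by rw [commutator_def]; exact Subgroup.commutator_mem_commutator (Subgroup.mem_top _) (Subgroup.mem_top _))
    have h2 : ⁅a.1, b.1⁆ ∈ H := by
      rw [commutatorElement_def]
      exact H.mul_mem (H.mul_mem (H.mul_mem a.2 b.2) (H.inv_mem a.2)) (H.inv_mem b.2)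
    have h3 : ⁅a.1, b.1⁆ = 1 := Subgroup.disjoint_def.mp hH.disjoint h1 h2
    show a.1 * b.1 = b.1 * a.1
    exact (commutatorElement_eq_one_iff_commute.mp h3).eq

end Cfsg.Agent.S3899
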