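import Cfsg.Statements.S3898
import Mathlib
import Cfsg.Agent.S3899
import Cfsg.Agent.S3895

set_option autoImplicit false
open Cfsg
open scoped commutatorElement

namespace Cfsg.Agent.S3898

open Cfsg.Agent.S3899 (IsT kk kk_insert_le kk_le isT_conj isT_of_isConj isT_coe)

universe u

theorem conj_injOn {G : Type u} [Group G] [Finite G] (a x : G) (n : ℕ)
    (hcop : ∀ d : ℕ, 0 < d → d < n → Nat.Coprime d (orderOf a)) (hax : a * x ≠ x * a) :
    Set.InjOn (fun i : ℕ => a ^ i * x * (a ^ i)⁻¹) (Finset.range n : Set ℕ) := by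
  have key : ∀ i j : ℕ, i < j → j < n → a ^ i * x * (a ^ i)⁻¹ ≠ a ^ j * x * (a ^ j)⁻¹ := by
    intro i j hij hjn h
    obtain ⟨d, rfl⟩ : ∃ d, j = i + d := ⟨j - i, by omega⟩
    have hd : 0 < d := by omega
    have hc : a ^ d * x = x * a ^ d := by
      have e : a ^ d * x * (a ^ d)⁻¹ = x := by
        calc a ^ d * x * (a ^ d)⁻¹ = (a ^ i)⁻¹ * (a ^ (i + d) * x * (a ^ (i + d))⁻¹) * a ^ i := by
              rw [pow_add]; group
          _ = (a ^ i)⁻¹ * (a ^ i * x * (a ^ i)⁻¹) * a ^ i := by rw [h]
          _ = x := by group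
      calc a ^ d * x = (a ^ d * x * (a ^ d)⁻¹) * a ^ d := by group
        _ = x * a ^ d := by rw [e]
    obtain ⟨m, hm⟩ := exists_pow_eq_self_of_coprime (hcop d hd (by omega))
    have hc' : Commute ((a ^ d) ^ m) x := (show Commute (a ^ d) x from hc).pow_left m
    rw [hm] at hc'
    exact hax hc'.eq
  intro i hi j hj hij
  simp only [Finset.coe_range, Set.mem_Iio] at hi hj
  by_contra hne
  rcases Nat.lt_or_gt_of_ne hne with h | h
  · exact key i j h hj hij
  · exact key j i h hi hij.symm

theorem exists_conj_mem_sylow {K : Type u} [Group K] [Finite K] {r : ℕ} [Fact r.Prime]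
    (R : Sylow r K) (x : K) (hx : IsT {r} x) : ∃ g : K, g * x * g⁻¹ ∈ (R : Subgroup K) := by
  have hk : orderOf x = r ^ (orderOf x).primeFactorsList.length :=
    Nat.eq_prime_pow_of_unique_prime_dvd (orderOf_pos x).ne'
      (fun {d} hd hdd => by simpa using hx d hd hdd)
  have h2 : IsPGroup r (Subgroup.zpowers x) := by
    apply IsPGroup.of_card (n := (orderOf x).primeFactorsList.length)
    rw [Nat.card_zpowers]; exact hk
  obtain ⟨P', hP'⟩ := h2.exists_le_sylow
  obtain ⟨g, hg⟩ := MulAction.exists_smul_eq K P' R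
  refine ⟨g, ?_⟩
  have hx' : x ∈ (P' : Subgroup K) := hP' (Subgroup.mem_zpowers x)
  rw [← hg, Cfsg.Agent.Lib.lead.mem_smul_sylow]
  have e : g⁻¹ * (g * x * g⁻¹) * g = x := by group
  rw [e]; exact hx'

theorem count {K : Type u} [Group K] [Finite K] (r : ℕ) [Fact r.Prime] (R : Sylow r K)
    (C : Subgroup K) (hC : C ≤ (R : Subgroup K)) (n : ℕ)
    (h : ∀ x ∈ (R : Subgroup K), x ∉ C → ∃ u : K,
      u ∈ Subgroup.normalizer ((R : Subgroup K) : Set K) ∧
      (∀ d : ℕ, 0 < d → d < n → Nat.Coprime d (orderOf u)) ∧ u * x ≠ x * u ∧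
      ∀ i : ℕ, u ^ i * x * (u ^ i)⁻¹ ∉ C) :
    n * kk {r} K + Nat.card C ≤ Nat.card (R : Subgroup K) + n * Nat.card C := by
  classical
  haveI : Fintype K := Fintype.ofFinite K
  let cls : K → ConjClasses K := ConjClasses.mk
  let sR : Finset K := Finset.univ.filter (fun x => x ∈ (R : Subgroup K))
  let sC : Finset K := Finset.univ.filter (fun x => x ∈ C)
  let sB : Finset K := Finset.univ.filter (fun x => x ∈ (R : Subgroup K) ∧ x ∉ C)
  have hcR : Nat.card (R : Subgroup K) = sR.card := Nat.subtype_card sR (fun x => by simp [sR])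
  have hcC : Nat.card C = sC.card := Nat.subtype_card sC (fun x => by simp [sC])
  have hBC : sB.card + sC.card ≤ sR.card := by
    rw [← Finset.card_union_of_disjoint]
    · apply Finset.card_le_card
      intro x hx
      rcases Finset.mem_union.mp hx with h | h
      · simp only [sB, Finset.mem_filter, Finset.mem_univ, true_and] at h
        simp only [sR, Finset.mem_filter, Finset.mem_univ, true_and]; exact h.1
      · simp only [sC, Finset.mem_filter, Finset.mem_univ, true_and] at h
        simp only [sR, Finset.mem_filter, Finset.mem_univ, true_and]; exact hC h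
    · rw [Finset.disjoint_left]
      intro x hxB hxC
      simp only [sB, Finset.mem_filter, Finset.mem_univ, true_and] at hxB
      simp only [sC, Finset.mem_filter, Finset.mem_univ, true_and] at hxC
      exact hxB.2 hxC
  have hC1 : (sC.image cls).card ≤ sC.card := Finset.card_image_le
  have hBn : n * (sB.image cls).card ≤ sB.card := by
    apply Finset.mul_card_image_le_card
    intro b hb
    obtain ⟨x, hx, rfl⟩ := Finset.mem_image.mp hb
    simp only [sB, Finset.mem_filter, Finset.mem_univ, true_and] at hx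
    obtain ⟨u, huN, hcop, hux, hnC⟩ := h x hx.1 hx.2
    have hinj := conj_injOn u x n hcop hux
    have hsub : (Finset.range n).image (fun i : ℕ => u ^ i * x * (u ^ i)⁻¹) ⊆
        sB.filter (fun a => cls a = cls x) := by
      intro a ha
      obtain ⟨i, -, rfl⟩ := Finset.mem_image.mp ha
      simp only [sB, Finset.mem_filter, Finset.mem_univ, true_and]
      refine ⟨⟨(Subgroup.mem_normalizer_iff.mp (Subgroup.pow_mem _ huN i) x).mp hx.1, hnC i⟩, ?_⟩
      exact Cfsg.Agent.S3895.cls_conj (u ^ i) x
    calc n = ((Finset.range n).image (fun i : ℕ => u ^ i * x * (u ^ i)⁻¹)).card := by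
          rw [Finset.card_image_of_injOn hinj, Finset.card_range]
      _ ≤ _ := Finset.card_le_card hsub
  have hK : kk {r} K ≤ (sB.image cls ∪ sC.image cls).card := by
    unfold kk
    rw [Nat.subtype_card (Finset.univ.filter
      (fun c : ConjClasses K => ∀ x ∈ c.carrier, IsT {r} x)) (fun x => by simp)]
    apply Finset.card_le_card
    intro c hc
    simp only [Finset.mem_filter, Finset.mem_univ, true_and] at hc
    obtain ⟨x₀, rfl⟩ := ConjClasses.exists_rep c
    have h0 : x₀ ∈ (ConjClasses.mk x₀).carrier := ConjClasses.mem_carrier_mk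
    obtain ⟨g, hg⟩ := exists_conj_mem_sylow R x₀ (hc x₀ h0)
    have hcls : cls (g * x₀ * g⁻¹) = ConjClasses.mk x₀ := Cfsg.Agent.S3895.cls_conj g x₀
    by_cases hq : g * x₀ * g⁻¹ ∈ C
    · apply Finset.mem_union_right
      rw [Finset.mem_image]
      refine ⟨g * x₀ * g⁻¹, ?_, hcls⟩
      simp only [sC, Finset.mem_filter, Finset.mem_univ, true_and]
      exact hq
    · apply Finset.mem_union_left
      rw [Finset.mem_image]
      refine ⟨g * x₀ * g⁻¹, ?_, hcls⟩
      simp only [sB, Finset.mem_filter, Finset.mem_univ, true_and]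
      exact ⟨hg, hq⟩
  have hU := Finset.card_union_le (sB.image cls) (sC.image cls)
  have h1 : n * kk {r} K ≤ n * (sB.image cls).card + n * (sC.image cls).card := by
    rw [← Nat.mul_add]
    exact Nat.mul_le_mul_left n (hK.trans hU)
  have h2 : n * (sC.image cls).card ≤ n * sC.card := Nat.mul_le_mul_left n hC1
  rw [hcR, hcC]
  omega

theorem mem_of_coprime_index {G : Type u} [Group G] [Finite G] (K : Subgroup G) [K.Normal] (x : G)
    (h : Nat.Coprime (orderOf x) K.index) : x ∈ K := by
  have d1 : orderOf (QuotientGroup.mk' K x) ∣ orderOf x := orderOf_map_dvd _ x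
  have d2 : orderOf (QuotientGroup.mk' K x) ∣ K.index := by
    rw [Subgroup.index_eq_card]; exact orderOf_dvd_natCard _
  have h1 : orderOf (QuotientGroup.mk' K x) = 1 := Nat.eq_one_of_dvd_coprimes h d1 d2
  rw [orderOf_eq_one_iff] at h1
  exact (QuotientGroup.eq_one_iff x).mp h1

/-- Odd-order groups: many classes of `r`-elements force a normal `r`-complement and abelian Sylow. -/
theorem lemmaO {K : Type u} [Group K] [Finite K] (hodd : Odd (Nat.card K)) (r : ℕ) (hr : r.Prime)
    (hk : r ^ (Nat.card K).factorization r < 2 * kk {r} K) :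
    ∃ M : Subgroup K, M.Normal ∧ ¬ r ∣ Nat.card M ∧ (∃ k : ℕ, M.index = r ^ k) ∧
      commutator K ≤ M := by
  classical
  haveI : Fact r.Prime := ⟨hr⟩
  obtain ⟨R⟩ : Nonempty (Sylow r K) := inferInstance
  have hcardR := Sylow.card_eq_multiplicity R
  have hoddel : ∀ u : K, Nat.Coprime (orderOf u) 2 := fun u =>
    Nat.coprime_two_right.mpr (hodd.of_dvd_nat (orderOf_dvd_natCard u))
  by_cases hNC : Subgroup.normalizer ((R : Subgroup K) : Set K) ≤
      Subgroup.centralizer ((R : Subgroup K) : Set K)
  · have hcompl := MonoidHom.ker_transferSylow_isComplement' R hNC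
    have hab : ∀ u ∈ (R : Subgroup K), ∀ v ∈ (R : Subgroup K), u * v = v * u := by
      intro u hu v hv
      exact (hNC (Subgroup.le_normalizer hu) v hv).symm
    refine ⟨(MonoidHom.transferSylow R hNC).ker, inferInstance, ?_, ?_, ?_⟩
    · rw [← hcompl.index_eq_card]
      exact R.not_dvd_index
    · refine ⟨(Nat.card K).factorization r, ?_⟩
      rw [hcompl.symm.index_eq_card]
      exact hcardR
    · set N := (MonoidHom.transferSylow R hNC).ker with hN
      rw [commutator_def, Subgroup.commutator_le]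
      have hdec : ∀ x : K, ∃ u ∈ (R : Subgroup K), (QuotientGroup.mk x : K ⧸ N) = QuotientGroup.mk u := by
        intro x
        have hx : x ∈ ((N ⊔ (R : Subgroup K) : Subgroup K) : Set K) := by
          rw [hcompl.sup_eq_top]; exact Set.mem_univ x
        rw [Subgroup.normal_mul] at hx
        obtain ⟨n, hn, u, hu, rfl⟩ := Set.mem_mul.mp hx
        refine ⟨u, hu, ?_⟩
        rw [QuotientGroup.mk_mul, (QuotientGroup.eq_one_iff n).mpr hn, one_mul]
      intro x _ y _
      obtain ⟨u, hu, hxu⟩ := hdec x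
      obtain ⟨v, hv, hyv⟩ := hdec y
      rw [← QuotientGroup.eq_one_iff]
      have huv : ⁅u, v⁆ = 1 := by
        rw [commutatorElement_eq_one_iff_commute]
        exact hab u hu v hv
      have hq : (QuotientGroup.mk ⁅x, y⁆ : K ⧸ N) = QuotientGroup.mk ⁅u, v⁆ := by
        show (QuotientGroup.mk' N) ⁅x, y⁆ = (QuotientGroup.mk' N) ⁅u, v⁆
        rw [map_commutatorElement, map_commutatorElement]
        show ⁅(QuotientGroup.mk x : K ⧸ N), QuotientGroup.mk y⁆ = ⁅(QuotientGroup.mk u : K ⧸ N), QuotientGroup.mk v⁆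
        rw [hxu, hyv]
      rw [hq, huv]
      rfl
  · exfalso
    rw [SetLike.not_le_iff_exists] at hNC
    obtain ⟨a, haN, haC⟩ := hNC
    rw [Subgroup.mem_centralizer_iff] at haC
    push Not at haC
    obtain ⟨x₁, hx₁R, hx₁a⟩ := haC
    -- r ≥ 3
    have hr3 : 3 ≤ r := by
      obtain ⟨j, hj⟩ := (IsPGroup.iff_orderOf.mp R.isPGroup') ⟨x₁, hx₁R⟩
      rw [Subgroup.orderOf_mk] at hj
      have hj0 : j ≠ 0 := by
        rintro rfl
        rw [pow_zero, orderOf_eq_one_iff] at hj
        apply hx₁a
        rw [hj]; simp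
      have h1 : r ∣ orderOf x₁ := by rw [hj]; exact dvd_pow_self r hj0
      have h2 : Odd r := hodd.of_dvd_nat (h1.trans (orderOf_dvd_natCard x₁))
      have h3 : r ≠ 2 := by
        rintro rfl
        exact absurd h2 (by decide)
      have := hr.two_le
      omega
    have hRpos : 0 < Nat.card (R : Subgroup K) := Nat.card_pos
    suffices hsuff : 2 * kk {r} K ≤ Nat.card (R : Subgroup K) by
      rw [hcardR] at hsuff
      omega
    obtain ⟨eR, heR⟩ := IsPGroup.iff_card.mp R.isPGroup'
    by_cases hab : ∀ u ∈ (R : Subgroup K), ∀ x ∈ (R : Subgroup K), u * x = x * u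
    · -- abelian Sylow, nontrivial automizer
      obtain ⟨e, m, hm, ho⟩ := Nat.exists_eq_pow_mul_and_not_dvd (orderOf_pos a).ne' r hr.ne_one
      have hcop_mr : Nat.Coprime m r := ((Nat.Prime.coprime_iff_not_dvd hr).mpr hm).symm
      set b : K := a ^ m with hb
      set a' : K := a ^ r ^ e with ha'
      have hbpow : b ^ r ^ e = 1 := by
        rw [hb, ← pow_mul, mul_comm, ← ho, pow_orderOf_eq_one]
      have ha'pow : a' ^ m = 1 := by
        rw [ha', ← pow_mul, ← ho, pow_orderOf_eq_one]
      have hbR : b ∈ (R : Subgroup K) := by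
        obtain ⟨j, -, hj⟩ := (Nat.dvd_prime_pow hr).mp (orderOf_dvd_of_pow_eq_one hbpow)
        have h2 : IsPGroup r (Subgroup.zpowers b) := by
          apply IsPGroup.of_card (n := j)
          rw [Nat.card_zpowers]; exact hj
        have hle : Subgroup.zpowers b ≤ Subgroup.normalizer ((R : Subgroup K) : Set K) := by
          rw [Subgroup.zpowers_le]
          exact Subgroup.pow_mem _ haN m
        have h3 := IsPGroup.to_sup_of_normal_right' h2 R.isPGroup' hle
        have h4 := R.is_maximal' h3 le_sup_right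
        have h5 : b ∈ Subgroup.zpowers b ⊔ (R : Subgroup K) :=
          (le_sup_left : Subgroup.zpowers b ≤ _) (Subgroup.mem_zpowers b)
        rw [h4] at h5
        exact h5
      have hbC : b ∈ Subgroup.centralizer ((R : Subgroup K) : Set K) := by
        rw [Subgroup.mem_centralizer_iff]
        intro x hx
        exact (hab b hbR x hx).symm
      have ha'N : a' ∈ Subgroup.normalizer ((R : Subgroup K) : Set K) := Subgroup.pow_mem _ haN _
      have ha'C : a' ∉ Subgroup.centralizer ((R : Subgroup K) : Set K) := by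
        intro hcon
        have hg : Nat.gcd m (r ^ e) = 1 := Nat.Coprime.pow_right e hcop_mr
        have hbez := Nat.gcd_eq_gcd_ab m (r ^ e)
        rw [hg] at hbez
        have haa : a = b ^ (Nat.gcdA m (r ^ e)) * a' ^ (Nat.gcdB m (r ^ e)) := by
          rw [hb, ha', ← zpow_natCast a m, ← zpow_natCast a (r ^ e), ← zpow_mul, ← zpow_mul,
            ← zpow_add, ← hbez]
          simp
        have haC : a ∈ Subgroup.centralizer ((R : Subgroup K) : Set K) := by
          rw [haa]
          exact Subgroup.mul_mem _ (Subgroup.zpow_mem _ hbC _) (Subgroup.zpow_mem _ hcon _)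
        exact hx₁a (Subgroup.mem_centralizer_iff.mp haC x₁ hx₁R)
      have ha'cop : Nat.Coprime (orderOf a') r :=
        Nat.Coprime.coprime_dvd_left (orderOf_dvd_of_pow_eq_one ha'pow) hcop_mr
      -- the subgroup C_R(a')
      set C : Subgroup K := (R : Subgroup K) ⊓ Subgroup.centralizer ({a'} : Set K) with hC
      have hCR : C ≤ (R : Subgroup K) := inf_le_left
      have hCne : ∃ x ∈ (R : Subgroup K), x ∉ C := by
        rw [Subgroup.mem_centralizer_iff] at ha'C
        push Not at ha'C
        obtain ⟨x, hx, hxa⟩ := ha'C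
        refine ⟨x, hx, fun h => ?_⟩
        have := (Subgroup.mem_inf.mp h).2
        rw [Subgroup.mem_centralizer_singleton_iff] at this
        exact hxa this
      -- index
      have hidx : r * Nat.card C ≤ Nat.card (R : Subgroup K) := by
        set H : Subgroup (R : Subgroup K) := C.subgroupOf (R : Subgroup K) with hH
        have hcardH : Nat.card H = Nat.card C :=
          Nat.card_congr (Subgroup.subgroupOfEquivOfLe hCR).toEquiv
        have hmul : Nat.card H * H.index = Nat.card (R : Subgroup K) := Subgroup.card_mul_index H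
        have hdvd : H.index ∣ r ^ eR := by rw [← heR, ← hmul]; exact dvd_mul_left _ _
        obtain ⟨j, -, hj⟩ := (Nat.dvd_prime_pow hr).mp hdvd
        have hj0 : j ≠ 0 := by
          rintro rfl
          rw [pow_zero, Subgroup.index_eq_one] at hj
          obtain ⟨x, hx, hxC⟩ := hCne
          apply hxC
          have : (⟨x, hx⟩ : (R : Subgroup K)) ∈ H := by rw [hj]; exact Subgroup.mem_top _
          exact Subgroup.mem_subgroupOf.mp this
        have hrd : r ∣ H.index := by rw [hj]; exact dvd_pow_self r hj0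
        obtain ⟨t, ht⟩ := hrd
        have htpos : 0 < t := by
          rcases Nat.eq_zero_or_pos t with h | h
          · exfalso
            rw [h, mul_zero] at ht
            rw [ht, mul_zero] at hmul
            omega
          · exact h
        rw [← hmul, ht, ← hcardH]
        calc r * Nat.card H = Nat.card H * (r * 1) := by ring
          _ ≤ Nat.card H * (r * t) := Nat.mul_le_mul_left _ (Nat.mul_le_mul_left _ htpos)
      have hfib : ∀ n : ℕ, (∀ d : ℕ, 0 < d → d < n → Nat.Coprime d (orderOf a')) →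
          n * kk {r} K + Nat.card C ≤ Nat.card (R : Subgroup K) + n * Nat.card C := by
        intro n hn
        apply count r R C hCR n
        intro x hxR hxC
        have hxa : a' * x ≠ x * a' := by
          intro h
          apply hxC
          exact Subgroup.mem_inf.mpr ⟨hxR, Subgroup.mem_centralizer_singleton_iff.mpr h.symm⟩
        refine ⟨a', ha'N, hn, hxa, ?_⟩
        intro i hi
        have h1 := (Subgroup.mem_inf.mp hi).2
        rw [Subgroup.mem_centralizer_singleton_iff] at h1
        exact Cfsg.Agent.S3895.conj_ne a' (a' ^ i) x ((Commute.refl a').pow_left i) hxa h1.symm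
      have hCpos : 0 < Nat.card C := Nat.card_pos
      by_cases h3 : r = 3
      · have h5 := hfib 5 (by
          intro d hd0 hd5
          have c2 : Nat.Coprime 2 (orderOf a') := (hoddel a').symm
          have c3 : Nat.Coprime 3 (orderOf a') := by
            have hh := ha'cop.symm
            rwa [h3] at hh
          interval_cases d
          · exact Nat.coprime_one_left _
          · exact c2
          · exact c3
          · exact Nat.Coprime.pow_left 2 c2)
        have hidx3 : 3 * Nat.card C ≤ Nat.card (R : Subgroup K) :=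
          (Nat.mul_le_mul_right (Nat.card C) h3.symm.le).trans hidx
        omega
      · have h5 := hfib 3 (by
          intro d hd0 hd3
          have c2 : Nat.Coprime 2 (orderOf a') := (hoddel a').symm
          interval_cases d
          · exact Nat.coprime_one_left _
          · exact c2)
        have hr5 : 5 ≤ r := by
          have h4 : r ≠ 4 := by
            rintro rfl
            exact absurd hr (by decide)
          omega
        have := Nat.mul_le_mul_right (Nat.card C) hr5
        omega
    · -- nonabelian Sylow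
      push Not at hab
      obtain ⟨u₀, hu₀, x₀, hx₀, hux₀⟩ := hab
      set Z : Subgroup (R : Subgroup K) := Subgroup.center (R : Subgroup K) with hZ
      set C : Subgroup K := Z.map (R : Subgroup K).subtype with hC
      have hCR : C ≤ (R : Subgroup K) := Subgroup.map_subtype_le _
      have hcardC : Nat.card C = Nat.card Z :=
        Subgroup.card_map_of_injective (R : Subgroup K).subtype_injective
      have hmemC : ∀ x : K, x ∈ C ↔ x ∈ (R : Subgroup K) ∧ ∀ v ∈ (R : Subgroup K), v * x = x * v := by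
        intro x
        rw [hC, Subgroup.mem_map]
        constructor
        · rintro ⟨z, hz, rfl⟩
          refine ⟨z.2, fun v hv => ?_⟩
          have := Subgroup.mem_center_iff.mp hz ⟨v, hv⟩
          exact congrArg Subtype.val this
        · rintro ⟨hx, hc⟩
          refine ⟨⟨x, hx⟩, ?_, rfl⟩
          rw [hZ, Subgroup.mem_center_iff]
          intro v
          apply Subtype.ext
          exact hc v v.2
      have hidx : 5 * Nat.card C ≤ Nat.card (R : Subgroup K) := by
        have hmul : Nat.card Z * Z.index = Nat.card (R : Subgroup K) := Subgroup.card_mul_index Z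
        have hdvd : Z.index ∣ r ^ eR := by rw [← heR, ← hmul]; exact dvd_mul_left _ _
        obtain ⟨j, -, hj⟩ := (Nat.dvd_prime_pow hr).mp hdvd
        have hnc : ¬ (∀ s t : (R : Subgroup K), s * t = t * s) := by
          intro h
          apply hux₀
          exact congrArg Subtype.val (h ⟨u₀, hu₀⟩ ⟨x₀, hx₀⟩)
        have hj2 : 2 ≤ j := by
          by_contra hlt
          push Not at hlt
          interval_cases j
          · rw [pow_zero, Subgroup.index_eq_one] at hj
            apply hnc
            intro s t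
            have : t ∈ Z := by rw [hj]; exact Subgroup.mem_top _
            exact (Subgroup.mem_center_iff.mp this s)
          · rw [pow_one] at hj
            have hq : Nat.card ((R : Subgroup K) ⧸ Z) = r := by
              rw [← Subgroup.index_eq_card]; exact hj
            haveI : IsCyclic ((R : Subgroup K) ⧸ Z) := isCyclic_of_prime_card hq
            have hcomm := MonoidHom.isMulCommutative_of_isCyclic_of_ker_le_center
              (QuotientGroup.mk' Z) (by rw [QuotientGroup.ker_mk'])
            apply hnc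
            intro s t
            exact hcomm.is_comm.comm s t
        have h9 : r ^ 2 ∣ Z.index := by rw [hj]; exact pow_dvd_pow r hj2
        obtain ⟨t, ht⟩ := h9
        have htpos : 0 < t := by
          rcases Nat.eq_zero_or_pos t with h | h
          · exfalso
            rw [h, mul_zero] at ht
            rw [ht, mul_zero] at hmul
            omega
          · exact h
        have hr9 : 9 ≤ r ^ 2 := by nlinarith
        rw [← hmul, ht, hcardC]
        have h91 : 9 * 1 ≤ r ^ 2 * t := Nat.mul_le_mul hr9 htpos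
        calc 5 * Nat.card Z ≤ Nat.card Z * (9 * 1) := by omega
          _ ≤ Nat.card Z * (r ^ 2 * t) := Nat.mul_le_mul_left _ h91
      have h5 := count r R C hCR 3 (by
        intro x hxR hxC
        have hex : ∃ v ∈ (R : Subgroup K), v * x ≠ x * v := by
          by_contra hcon
          push Not at hcon
          exact hxC ((hmemC x).mpr ⟨hxR, hcon⟩)
        obtain ⟨v, hv, hvx⟩ := hex
        refine ⟨v, Subgroup.le_normalizer hv, ?_, hvx, ?_⟩
        · intro d hd0 hd3
          have c2 : Nat.Coprime 2 (orderOf v) := (hoddel v).symm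
          interval_cases d
          · exact Nat.coprime_one_left _
          · exact c2
        · intro i hi
          apply hxC
          rw [hmemC] at hi ⊢
          refine ⟨hxR, fun w hw => ?_⟩
          have hw' : v ^ i * w * (v ^ i)⁻¹ ∈ (R : Subgroup K) :=
            Subgroup.mul_mem _ (Subgroup.mul_mem _ (Subgroup.pow_mem _ hv i) hw)
              (Subgroup.inv_mem _ (Subgroup.pow_mem _ hv i))
          have h1 := hi.2 _ hw'
          calc w * x = (v ^ i)⁻¹ * ((v ^ i * w * (v ^ i)⁻¹) * (v ^ i * x * (v ^ i)⁻¹)) * v ^ i := by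
                group
            _ = (v ^ i)⁻¹ * ((v ^ i * x * (v ^ i)⁻¹) * (v ^ i * w * (v ^ i)⁻¹)) * v ^ i := by
                rw [h1]
            _ = x * w := by group)
      omega

theorem assemble {G : Type u} [Group G] [Finite G] (π : Finset ℕ) (hπ : ∀ r ∈ π, r.Prime)
    (key : ∀ r ∈ π, ∃ N : Subgroup G, N.Normal ∧ ¬ r ∣ Nat.card N ∧ (∃ k : ℕ, N.index = r ^ k) ∧
      commutator G ≤ N) :
    (∃ N : Subgroup G, N.Normal ∧ (∀ r : ℕ, r.Prime → r ∣ Nat.card ↥N → r ∉ π) ∧
      ∀ r : ℕ, r.Prime → r ∣ N.index → r ∈ π) ∧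
    ∃ H : Subgroup G, Cfsg.IsPiHall (↑π : Set ℕ) H ∧ IsMulCommutative ↥H := by
  classical
  choose! Nf hNf using key
  have hNnorm : (⨅ r ∈ π, Nf r).Normal :=
    Subgroup.normal_iInf_normal fun r => Subgroup.normal_iInf_normal fun hr => (hNf r hr).1
  have hN1 : ∀ r : ℕ, r.Prime → r ∣ Nat.card ↥(⨅ r ∈ π, Nf r) → r ∉ π := by
    intro r hr hd hrπ
    exact (hNf r hrπ).2.1 (hd.trans (Subgroup.card_dvd_of_le (iInf₂_le r hrπ)))
  have hN2 : ∀ s : ℕ, s.Prime → s ∣ (⨅ r ∈ π, Nf r).index → s ∈ π := by
    intro s hs hd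
    by_contra hsπ
    haveI : Fact s.Prime := ⟨hs⟩
    obtain ⟨S⟩ : Nonempty (Sylow s G) := inferInstance
    have hS : (S : Subgroup G) ≤ ⨅ r ∈ π, Nf r := by
      refine le_iInf₂ fun r hrπ => ?_
      intro x hx
      obtain ⟨hnorm, -, ⟨k, hk⟩, -⟩ := hNf r hrπ
      haveI := hnorm
      obtain ⟨j, hj⟩ := (IsPGroup.iff_orderOf.mp S.isPGroup') ⟨x, hx⟩
      rw [Subgroup.orderOf_mk] at hj
      have d1 : orderOf (QuotientGroup.mk' (Nf r) x) ∣ s ^ j := by
        rw [← hj]; exact orderOf_map_dvd _ x
      have d2 : orderOf (QuotientGroup.mk' (Nf r) x) ∣ r ^ k := by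
        rw [← hk, Subgroup.index_eq_card]; exact orderOf_dvd_natCard _
      have hsr : s ≠ r := fun h => hsπ (h ▸ hrπ)
      have hcop : Nat.Coprime (s ^ j) (r ^ k) :=
        Nat.Coprime.pow _ _ ((Nat.coprime_primes hs (hπ r hrπ)).mpr hsr)
      have h1 : orderOf (QuotientGroup.mk' (Nf r) x) = 1 :=
        Nat.eq_one_of_dvd_coprimes hcop d1 d2
      rw [orderOf_eq_one_iff] at h1
      exact (QuotientGroup.eq_one_iff x).mp h1
    exact S.not_dvd_index (hd.trans (Subgroup.index_dvd_of_le hS))
  have hNc : commutator G ≤ ⨅ r ∈ π, Nf r := le_iInf₂ fun r hrπ => (hNf r hrπ).2.2.2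
  refine ⟨⟨_, hNnorm, hN1, hN2⟩, ?_⟩
  have hcop : Nat.Coprime (Nat.card ↥(⨅ r ∈ π, Nf r)) (⨅ r ∈ π, Nf r).index := by
    by_contra hnc
    obtain ⟨q, hq, hq1, hq2⟩ := Nat.Prime.not_coprime_iff_dvd.mp hnc
    exact hN1 q hq hq1 (hN2 q hq hq2)
  haveI := hNnorm
  obtain ⟨H, hH⟩ := Subgroup.exists_right_complement'_of_coprime hcop
  refine ⟨H, ⟨?_, ?_⟩, ?_⟩
  · intro q hq hd
    rw [← hH.symm.index_eq_card] at hd
    exact Finset.mem_coe.mpr (hN2 q hq hd)
  · intro q hq hqπ hd
    rw [hH.index_eq_card] at hd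
    exact hN1 q hq hd (Finset.mem_coe.mp hqπ)
  · refine ⟨⟨fun a b => Subtype.ext ?_⟩⟩
    have h1 : ⁅a.1, b.1⁆ ∈ ⨅ r ∈ π, Nf r :=
      hNc (by rw [commutator_def]; exact Subgroup.commutator_mem_commutator (Subgroup.mem_top _) (Subgroup.mem_top _))
    have h2 : ⁅a.1, b.1⁆ ∈ H := by
      rw [commutatorElement_def]
      exact H.mul_mem (H.mul_mem (H.mul_mem a.2 b.2) (H.inv_mem a.2)) (H.inv_mem b.2)
    have h3 : ⁅a.1, b.1⁆ = 1 := Subgroup.disjoint_def.mp hH.disjoint h1 h2
    show a.1 * b.1 = b.1 * a.1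
    exact (commutatorElement_eq_one_iff_commute.mp h3).eq

/-- Let π be a finite set of primes containing 2 and G a finite group. Write k_π(G) for the number of conjugacy classes of G consisting of π-elements (elements all of whose order's prime divisors lie in π) and |G|_π for the π-part of the order of G. If k_π(G) > |G|_π/2, then G has a normal π-complement (a normal subgroup of order prime to π whose index is a π-number) and an abelian Hall subgroup for the set of odd primes in π. -/
theorem result {G : Type*} [Group G] [Finite G] (π : Finset ℕ) (hπ : ∀ r ∈ π, r.Prime) (h2 : 2 ∈ π)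
    (hk : π.prod (fun r => r ^ (Nat.card G).factorization r) < 2 * Nat.card {c : ConjClasses G // ∀ x ∈ c.carrier, ∀ r : ℕ, r.Prime → r ∣ orderOf x → r ∈ π}) :
    (∃ N : Subgroup G, N.Normal ∧ (∀ r : ℕ, r.Prime → r ∣ Nat.card ↥N → r ∉ π) ∧ ∀ r : ℕ, r.Prime → r ∣ N.index → r ∈ π) ∧ ∃ H : Subgroup G, Cfsg.IsPiHall ((↑π : Set ℕ) \ {2}) H ∧ IsMulCommutative ↥H := by
  classical
  set τ := π.erase 2 with hτ
  have hτp : ∀ s ∈ τ, s.Prime := fun s hs => hπ s (Finset.mem_of_mem_erase hs)
  have hsingle : ∀ r ∈ π, r ^ (Nat.card G).factorization r < 2 * kk {r} G := by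
    intro r hrπ
    have hr := hπ r hrπ
    have hins : insert r (π.erase r) = π := Finset.insert_erase hrπ
    have h1 := kk_insert_le r hr (π.erase r)
      (fun K _ _ => kk_le (π.erase r) (fun s hs => hπ s (Finset.mem_of_mem_erase hs)) K) G
    rw [hins] at h1
    have hprod : π.prod (fun s => s ^ (Nat.card G).factorization s) =
        r ^ (Nat.card G).factorization r *
          (π.erase r).prod (fun s => s ^ (Nat.card G).factorization s) :=
      (Finset.mul_prod_erase π _ hrπ).symm
    have hk' : π.prod (fun s => s ^ (Nat.card G).factorization s) < 2 * kk π G := hk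
    rw [hprod] at hk'
    by_contra hcon
    push Not at hcon
    have h5 := Nat.mul_le_mul_right
      ((π.erase r).prod (fun s => s ^ (Nat.card G).factorization s)) hcon
    have h6 := Nat.mul_le_mul_left 2 h1
    have h7 : 2 * (kk {r} G * (π.erase r).prod (fun s => s ^ (Nat.card G).factorization s)) =
        2 * kk {r} G * (π.erase r).prod (fun s => s ^ (Nat.card G).factorization s) := by ring
    rw [h7] at h6
    exact absurd (lt_of_lt_of_le hk' (h6.trans h5)) (lt_irrefl _)
  -- the prime 2
  have hkk2 : Nat.card {c : ConjClasses G // ∀ x ∈ c.carrier, ∃ k : ℕ, orderOf x = 2 ^ k} =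
      kk {2} G := by
    unfold kk
    refine Nat.card_congr (Equiv.subtypeEquivRight fun c => ?_)
    refine forall₂_congr fun x _ => ?_
    constructor
    · rintro ⟨k, hk⟩ s hs hd
      rw [hk] at hd
      simp [(Nat.prime_dvd_prime_iff_eq hs Nat.prime_two).mp (hs.dvd_of_dvd_pow hd)]
    · intro h
      exact ⟨_, Nat.eq_prime_pow_of_unique_prime_dvd (orderOf_pos x).ne'
        (fun {d} hd hdd => by simpa using h d hd hdd)⟩
  obtain ⟨P₀⟩ : Nonempty (Sylow 2 G) := inferInstance
  have h3 : Nat.card (P₀ : Subgroup G) <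
      2 * Nat.card {c : ConjClasses G // ∀ x ∈ c.carrier, ∃ k : ℕ, orderOf x = 2 ^ k} := by
    rw [hkk2, Sylow.card_eq_multiplicity]; exact hsingle 2 h2
  obtain ⟨⟨P, K, hKn, hcompl⟩, -⟩ := (Cfsg.Agent.S3895.result P₀).mp h3
  haveI := hKn
  have hKodd : Odd (Nat.card K) := by
    rw [← hcompl.index_eq_card, ← Nat.not_even_iff_odd, even_iff_two_dvd]
    exact P.not_dvd_index
  have hKidx : K.index = 2 ^ (Nat.card G).factorization 2 := by
    rw [hcompl.symm.index_eq_card]; exact Sylow.card_eq_multiplicity P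
  have hfact : ∀ r : ℕ, r.Prime → r ≠ 2 →
      (Nat.card K).factorization r = (Nat.card G).factorization r := by
    intro r hr hr2
    have h1 : Nat.card K * K.index = Nat.card G := Subgroup.card_mul_index K
    rw [← h1, Nat.factorization_mul Nat.card_pos.ne' (by rw [hKidx]; positivity), hKidx,
      Nat.Prime.factorization_pow Nat.prime_two]
    simp [hr2.symm]
  have hkkK : ∀ r : ℕ, r.Prime → r ≠ 2 → kk {r} G ≤ kk {r} K := by
    intro r hr hr2
    unfold kk
    refine Nat.card_le_card_of_surjective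
      (fun c : {c : ConjClasses K // ∀ x ∈ c.carrier, IsT {r} x} =>
        (⟨ConjClasses.map K.subtype c.1, ?_⟩ : {c : ConjClasses G // ∀ x ∈ c.carrier, IsT {r} x})) ?_
    · obtain ⟨c, hc⟩ := c
      obtain ⟨z, rfl⟩ := ConjClasses.exists_rep c
      intro x hx
      rw [ConjClasses.mem_carrier_iff_mk_eq] at hx
      have hx' : ConjClasses.mk x = ConjClasses.mk (z : G) := hx
      rw [ConjClasses.mk_eq_mk_iff_isConj] at hx'
      have hz : IsT {r} z := hc z ConjClasses.mem_carrier_mk
      exact isT_of_isConj hx'.symm ((isT_coe K z).mpr hz)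
    · rintro ⟨c, hc⟩
      obtain ⟨x₀, rfl⟩ := ConjClasses.exists_rep c
      have hx₀ : IsT {r} x₀ := hc x₀ ConjClasses.mem_carrier_mk
      have hx₀K : x₀ ∈ K := by
        apply mem_of_coprime_index K x₀
        rw [hKidx]
        apply Nat.Coprime.pow_right
        rw [Nat.coprime_comm, Nat.Prime.coprime_iff_not_dvd Nat.prime_two]
        intro h
        have := hx₀ 2 Nat.prime_two h
        simp at this
        exact hr2 this.symm
      refine ⟨⟨ConjClasses.mk ⟨x₀, hx₀K⟩, ?_⟩, ?_⟩
      · intro y hy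
        rw [ConjClasses.mem_carrier_iff_mk_eq, ConjClasses.mk_eq_mk_iff_isConj] at hy
        exact isT_of_isConj hy.symm ((isT_coe K ⟨x₀, hx₀K⟩).mp hx₀)
      · rfl
  have keyK : ∀ r ∈ τ, ∃ M : Subgroup K, M.Normal ∧ ¬ r ∣ Nat.card M ∧
      (∃ k : ℕ, M.index = r ^ k) ∧ commutator K ≤ M := by
    intro r hrτ
    have hrπ := Finset.mem_of_mem_erase hrτ
    have hr2 : r ≠ 2 := Finset.ne_of_mem_erase hrτ
    have hr := hπ r hrπ
    apply lemmaO hKodd r hr
    rw [hfact r hr hr2]
    exact lt_of_lt_of_le (hsingle r hrπ) (Nat.mul_le_mul_left 2 (hkkK r hr hr2))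
  obtain ⟨⟨N₀, hN₀n, hN₀1, hN₀2⟩, H₀, ⟨hH₀1, hH₀2⟩, hH₀c⟩ := assemble τ hτp keyK
  haveI := hN₀n
  have hcopN : Nat.Coprime (Nat.card N₀) N₀.index := by
    by_contra hnc
    obtain ⟨q, hq, hq1, hq2⟩ := Nat.Prime.not_coprime_iff_dvd.mp hnc
    exact hN₀1 q hq hq1 (hN₀2 q hq hq2)
  have hcharN : ∀ x : K, x ∈ N₀ ↔ x ^ Nat.card N₀ = 1 := by
    intro x
    constructor
    · intro hx
      have h1 := pow_card_eq_one' (G := N₀) (x := ⟨x, hx⟩)
      have h2 := congrArg Subtype.val h1
      exact h2
    · intro hx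
      apply mem_of_coprime_index N₀ x
      exact Nat.Coprime.coprime_dvd_left (orderOf_dvd_of_pow_eq_one hx) hcopN
  set N : Subgroup G := N₀.map K.subtype with hN
  have hNn : N.Normal := by
    constructor
    intro x hx g
    obtain ⟨x₀, hx₀, rfl⟩ := hx
    have hgK : g * (x₀ : G) * g⁻¹ ∈ K := hKn.conj_mem _ x₀.2 g
    refine ⟨⟨g * (x₀ : G) * g⁻¹, hgK⟩, ?_, rfl⟩
    rw [SetLike.mem_coe, hcharN]
    apply Subtype.ext
    have h1 : (x₀ : G) ^ Nat.card N₀ = 1 := by
      have h2 := congrArg Subtype.val ((hcharN x₀).mp hx₀)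
      simpa using h2
    show (g * (x₀ : G) * g⁻¹) ^ Nat.card N₀ = 1
    rw [conj_pow, h1]; group
  have hcardN : Nat.card N = Nat.card N₀ := Subgroup.card_map_of_injective K.subtype_injective
  have hidxN : N.index = N₀.index * K.index := Subgroup.index_map_subtype N₀
  refine ⟨⟨N, hNn, ?_, ?_⟩, H₀.map K.subtype, ⟨?_, ?_⟩, ?_⟩
  · intro q hq hd hqπ
    rw [hcardN] at hd
    by_cases hq2 : q = 2
    · subst hq2
      have h1 := hd.trans (Subgroup.card_subgroup_dvd_card N₀)
      exact (Nat.not_even_iff_odd.mpr hKodd) (even_iff_two_dvd.mpr h1)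
    · exact hN₀1 q hq hd (Finset.mem_erase.mpr ⟨hq2, hqπ⟩)
  · intro q hq hd
    rw [hidxN, hKidx] at hd
    rcases (Nat.Prime.dvd_mul hq).mp hd with h | h
    · exact Finset.mem_of_mem_erase (hN₀2 q hq h)
    · have h1 := (Nat.prime_dvd_prime_iff_eq hq Nat.prime_two).mp (hq.dvd_of_dvd_pow h)
      rw [h1]; exact h2
  · intro q hq hd
    rw [Subgroup.card_map_of_injective K.subtype_injective] at hd
    have h' := Finset.mem_coe.mp (hH₀1 q hq hd)
    refine ⟨Finset.mem_coe.mpr (Finset.mem_of_mem_erase h'), ?_⟩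
    simpa using Finset.ne_of_mem_erase h'
  · intro q hq hqπ hd
    obtain ⟨hq1, hq2⟩ := hqπ
    have hq2' : q ≠ 2 := by simpa using hq2
    rw [Subgroup.index_map_subtype, hKidx] at hd
    rcases (Nat.Prime.dvd_mul hq).mp hd with h | h
    · exact hH₀2 q hq (Finset.mem_coe.mpr (Finset.mem_erase.mpr ⟨hq2', Finset.mem_coe.mp hq1⟩)) h
    · exact hq2' ((Nat.prime_dvd_prime_iff_eq hq Nat.prime_two).mp (hq.dvd_of_dvd_pow h))
  · refine ⟨⟨fun a b => ?_⟩⟩
    obtain ⟨a, ha⟩ := a
    obtain ⟨b, hb⟩ := b
    obtain ⟨a₀, ha₀, rfl⟩ := ha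
    obtain ⟨b₀, hb₀, rfl⟩ := hb
    apply Subtype.ext
    have h1 := hH₀c.is_comm.comm ⟨a₀, ha₀⟩ ⟨b₀, hb₀⟩
    have h2 : a₀ * b₀ = b₀ * a₀ := congrArg Subtype.val h1
    have h3 : (a₀ : G) * (b₀ : G) = (b₀ : G) * (a₀ : G) := by
      have := congrArg Subtype.val h2
      simpa using this
    exact h3

end Cfsg.Agent.S3898
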