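import Cfsg.Statements.S4262
import Mathlib
import Cfsg.Agent.S0035
import Cfsg.Agent.Lib.helper7.Sup
import Cfsg.Agent.Lib.helper8.CoprimeAction
import Cfsg.Agent.Lib.helper1.ThompsonJ
import Cfsg.Agent.Lib.helper20.PiClosed

set_option autoImplicit false
open Cfsg

namespace Cfsg.Agent.S4262

open scoped Pointwise

universe u

/-- Centralizers of noncentral elements are maximal subgroups. -/
def CM (G : Type u) [Group G] : Prop :=
  ∀ g : G, g ∉ Subgroup.center G → IsCoatom (Subgroup.centralizer ({g} : Set G))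

theorem conj_inv_smul' {G : Type*} [Group G] (g x : G) :
    (MulAut.conj g)⁻¹ • x = g⁻¹ * x * g := by
  simp [MulAut.smul_def]

theorem coatom_eq {G : Type*} [Group G] {S T : Subgroup G} (hS : IsCoatom S) (hle : S ≤ T)
    (hT : T ≠ ⊤) : S = T := by
  by_contra hne
  exact hT (hS.2 _ (lt_of_le_of_ne hle hne))

theorem cm_quot {G : Type u} [Group G] (h : CM G) : CM (G ⧸ Subgroup.center G) := by
  intro xb hxb
  obtain ⟨x, rfl⟩ := QuotientGroup.mk'_surjective _ xb
  obtain ⟨π, hπ⟩ : ∃ π : G →* G ⧸ Subgroup.center G, π = QuotientGroup.mk' (Subgroup.center G) :=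
    ⟨_, rfl⟩
  rw [← hπ] at hxb ⊢
  have hπs : Function.Surjective π := by rw [hπ]; exact QuotientGroup.mk'_surjective _
  have hx : x ∉ Subgroup.center G := by
    intro hx
    apply hxb
    have : π x = 1 := by rw [hπ]; exact (QuotientGroup.eq_one_iff x).mpr hx
    rw [this]
    exact one_mem _
  have hco := h x hx
  obtain ⟨Cb, hCb⟩ : ∃ Cb : Subgroup (G ⧸ Subgroup.center G),
      Cb = Subgroup.centralizer ({π x} : Set (G ⧸ Subgroup.center G)) := ⟨_, rfl⟩
  rw [← hCb]
  have hle : Subgroup.centralizer ({x} : Set G) ≤ Cb.comap π := by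
    intro g hg
    rw [Subgroup.mem_centralizer_singleton_iff] at hg
    rw [Subgroup.mem_comap, hCb, Subgroup.mem_centralizer_singleton_iff, ← map_mul, ← map_mul, hg]
  have hCbtop : Cb ≠ ⊤ := by
    intro htop
    apply hxb
    rw [Subgroup.mem_center_iff]
    intro g
    have : g ∈ Cb := by rw [htop]; trivial
    rw [hCb, Subgroup.mem_centralizer_singleton_iff] at this
    exact this
  have hcomaptop : Cb.comap π ≠ ⊤ := by
    intro htop
    apply hCbtop
    rw [eq_top_iff]
    intro g _
    obtain ⟨g', rfl⟩ := hπs g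
    have : g' ∈ Cb.comap π := by rw [htop]; trivial
    exact this
  have heq : Subgroup.centralizer ({x} : Set G) = Cb.comap π := coatom_eq hco hle hcomaptop
  refine ⟨hCbtop, ?_⟩
  intro K hK
  have h1 : Cb.comap π < K.comap π := by
    refine lt_of_le_of_ne (Subgroup.comap_mono hK.le) ?_
    intro heq'
    exact hK.ne (Subgroup.comap_injective hπs heq')
  rw [← heq] at h1
  have h2 := hco.2 _ h1
  rw [eq_top_iff]
  intro g _
  obtain ⟨g', rfl⟩ := hπs g
  have : g' ∈ K.comap π := by rw [h2]; trivial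
  exact this

theorem sol_of_center_quot {G : Type u} [Group G]
    (h : Group.IsSolvable (G ⧸ Subgroup.center G)) : Group.IsSolvable G := by
  haveI := h
  haveI : Group.IsSolvable (Subgroup.center G) :=
    Group.isSolvable_of_comm (fun a b => Subtype.ext (Subgroup.mem_center_iff.mp b.2 (a : G)))
  refine Group.isSolvable_of_ker_le_range (Subgroup.center G).subtype
    (QuotientGroup.mk' (Subgroup.center G)) ?_
  rw [QuotientGroup.ker_mk']
  intro x hx
  exact ⟨⟨x, hx⟩, rfl⟩

theorem sol_of_top {G : Type u} [Group G] (h : Group.IsSolvable (⊤ : Subgroup G)) :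
    Group.IsSolvable G := by
  haveI := h
  exact Group.isSolvable_of_surjective (f := (⊤ : Subgroup G).subtype)
    (fun g => ⟨⟨g, Subgroup.mem_top g⟩, rfl⟩)

theorem coat_of_ne_one {G : Type u} [Group G] (hG : CM G) (hZ : Subgroup.center G = ⊥)
    (g : G) (hg : g ≠ 1) : IsCoatom (Subgroup.centralizer ({g} : Set G)) := by
  apply hG
  rw [hZ, Subgroup.mem_bot]
  exact hg

/-- Case A: some maximal centralizer is normal. -/
theorem caseA {G : Type u} [Group G] [Finite G] (hG : CM G) (hZ : Subgroup.center G = ⊥)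
    (ih : ∀ (H : Type u) [Group H] [Finite H], Nat.card H < Nat.card G → CM H →
      Group.IsSolvable H)
    (x : G) (hx : x ≠ 1) (hn : (Subgroup.centralizer ({x} : Set G)).Normal) :
    Group.IsSolvable G := by
  classical
  have hcoat := coat_of_ne_one hG hZ
  obtain ⟨M, hMdef⟩ : ∃ M : Subgroup G, M = Subgroup.centralizer ({x} : Set G) := ⟨_, rfl⟩
  have hMmem : ∀ g : G, g ∈ M ↔ g * x = x * g := by
    intro g
    rw [hMdef, Subgroup.mem_centralizer_singleton_iff]
  have hMco : IsCoatom M := by rw [hMdef]; exact hcoat x hx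
  haveI hMn : M.Normal := by rw [hMdef]; exact hn
  obtain ⟨y, hy⟩ : ∃ y : G, y ∉ M := by
    by_contra hall
    push Not at hall
    exact hMco.1 (eq_top_iff.mpr (fun g _ => hall g))
  have hy1 : y ≠ 1 := fun h => hy (h ▸ one_mem M)
  obtain ⟨My, hMydef⟩ : ∃ My : Subgroup G, My = Subgroup.centralizer ({y} : Set G) := ⟨_, rfl⟩
  have hMymem : ∀ g : G, g ∈ My ↔ g * y = y * g := by
    intro g
    rw [hMydef, Subgroup.mem_centralizer_singleton_iff]
  have hMyco : IsCoatom My := by rw [hMydef]; exact hcoat y hy1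
  obtain ⟨A, hAdef⟩ : ∃ A : Subgroup G, A = M ⊓ Subgroup.centralizer (M : Set G) := ⟨_, rfl⟩
  have hAmem : ∀ a : G, a ∈ A ↔ a ∈ M ∧ ∀ m ∈ M, m * a = a * m := by
    intro a
    rw [hAdef, Subgroup.mem_inf, Subgroup.mem_centralizer_iff]
    rfl
  haveI hAn : A.Normal := by
    rw [hAdef]
    infer_instance
  have hxA : x ∈ A := (hAmem x).mpr ⟨(hMmem x).mpr rfl, fun m hm => (hMmem m).mp hm⟩
  have hAcent : ∀ a ∈ A, a ≠ 1 → Subgroup.centralizer ({a} : Set G) = M := by
    intro a ha ha1
    have hle : M ≤ Subgroup.centralizer ({a} : Set G) := by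
      intro m hm
      rw [Subgroup.mem_centralizer_singleton_iff]
      exact ((hAmem a).mp ha).2 m hm
    exact (coatom_eq hMco hle (hcoat a ha1).1).symm
  have hAMy : A ⊓ My = ⊥ := by
    rw [eq_bot_iff]
    rintro a ⟨haA, haMy⟩
    rw [Subgroup.mem_bot]
    by_contra ha1
    apply hy
    rw [← hAcent a haA ha1, Subgroup.mem_centralizer_singleton_iff]
    exact ((hMymem a).mp haMy).symm
  have hAMytop : A ⊔ My = ⊤ := by
    apply hMyco.2
    refine lt_of_le_of_ne le_sup_right ?_
    intro heq
    have hxMy : x ∈ My := by rw [heq]; exact Subgroup.mem_sup_left hxA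
    have : x ∈ A ⊓ My := ⟨hxA, hxMy⟩
    rw [hAMy, Subgroup.mem_bot] at this
    exact hx this
  have hMytop' : M ⊔ Subgroup.zpowers y = ⊤ := by
    apply hMco.2
    refine lt_of_le_of_ne le_sup_left ?_
    intro heq
    apply hy
    rw [heq]
    exact Subgroup.mem_sup_right (Subgroup.mem_zpowers y)
  obtain ⟨D, hDdef⟩ : ∃ D : Subgroup G, D = M ⊓ My := ⟨_, rfl⟩
  have hDM : D ≤ M := by rw [hDdef]; exact inf_le_left
  have hDMy : D ≤ My := by rw [hDdef]; exact inf_le_right
  have hdecA : ∀ g : G, ∃ a ∈ A, ∃ m ∈ My, g = a * m := by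
    intro g
    have hg : g ∈ A ⊔ My := by rw [hAMytop]; trivial
    have hnA : My ≤ Subgroup.normalizer (A : Set G) := by
      rw [Subgroup.normalizer_eq_top]; exact le_top
    exact (Cfsg.Agent.Lib.helper8.mem_sup_iff_of_le_normalizer hnA g).mp hg
  have hdecM : ∀ g : G, ∃ m ∈ M, ∃ i : ℤ, g = m * y ^ i := by
    intro g
    have hg : g ∈ M ⊔ Subgroup.zpowers y := by rw [hMytop']; trivial
    have hnM : Subgroup.zpowers y ≤ Subgroup.normalizer (M : Set G) := by
      rw [Subgroup.normalizer_eq_top]; exact le_top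
    obtain ⟨m, hm, w, hw, rfl⟩ :=
      (Cfsg.Agent.Lib.helper8.mem_sup_iff_of_le_normalizer hnM g).mp hg
    obtain ⟨i, rfl⟩ := Subgroup.mem_zpowers_iff.mp hw
    exact ⟨m, hm, i, rfl⟩
  have hyiMy : ∀ i : ℤ, y ^ i ∈ My := by
    intro i
    rw [hMymem]
    exact ((Commute.refl y).zpow_left i).eq
  have hDlt : Nat.card D < Nat.card G := by
    have h2 : D ≠ ⊤ := fun h => hMco.1 (top_le_iff.mp (h ▸ hDM))
    exact lt_of_le_of_ne (Subgroup.card_le_card_group D)
      (fun h => h2 ((Subgroup.card_eq_iff_eq_top D).mp h))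
  have hDCM : CM D := by
    intro c hc
    have hc1 : (c : G) ≠ 1 := by
      intro h
      apply hc
      have : c = 1 := Subtype.ext h
      rw [this]
      exact one_mem _
    have hcM : (c : G) ∈ M := hDM c.2
    have hcMy : (c : G) ∈ My := hDMy c.2
    obtain ⟨Mc, hMcdef⟩ : ∃ Mc : Subgroup G, Mc = Subgroup.centralizer ({(c : G)} : Set G) :=
      ⟨_, rfl⟩
    have hMcmem : ∀ g : G, g ∈ Mc ↔ g * (c : G) = (c : G) * g := by
      intro g
      rw [hMcdef, Subgroup.mem_centralizer_singleton_iff]
    have hMcco : IsCoatom Mc := by rw [hMcdef]; exact hcoat _ hc1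
    have hyc : Commute y (c : G) := ((hMymem _).mp hcMy).symm
    refine ⟨?_, ?_⟩
    · intro htop
      apply hc
      rw [Subgroup.mem_center_iff]
      intro d
      have : d ∈ Subgroup.centralizer ({c} : Set D) := by rw [htop]; trivial
      rw [Subgroup.mem_centralizer_singleton_iff] at this
      exact this
    · intro E' hE'
      obtain ⟨E, hEdef⟩ : ∃ E : Subgroup G, E = E'.map D.subtype := ⟨_, rfl⟩
      have hEmem : ∀ g : G, g ∈ E ↔ ∃ h : g ∈ D, (⟨g, h⟩ : D) ∈ E' := by
        intro g
        rw [hEdef]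
        constructor
        · rintro ⟨e, he, rfl⟩
          exact ⟨e.2, he⟩
        · rintro ⟨h, he⟩
          exact ⟨⟨g, h⟩, he, rfl⟩
      have hED : E ≤ D := fun g hg => ((hEmem g).mp hg).1
      have hCE : ∀ d : G, d ∈ D → d * (c : G) = (c : G) * d → d ∈ E := by
        intro d hd hcomm
        rw [hEmem]
        refine ⟨hd, hE'.le ?_⟩
        rw [Subgroup.mem_centralizer_singleton_iff]
        exact Subtype.ext hcomm
      obtain ⟨H, hHdef⟩ : ∃ H : Subgroup G, H = A ⊔ (E ⊔ Subgroup.zpowers y) := ⟨_, rfl⟩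
      have hMcH : Mc ≤ H := by
        intro g hg
        obtain ⟨a, ha, m, hm, rfl⟩ := hdecA g
        have haMc : a ∈ Mc := by
          rw [hMcmem]
          exact (((hAmem a).mp ha).2 _ hcM).symm
        have hmMc : m ∈ Mc := by
          have := Mc.mul_mem (Mc.inv_mem haMc) hg
          rwa [inv_mul_cancel_left] at this
        obtain ⟨d, hd, i, rfl⟩ := hdecM m
        have hdMy : d ∈ My := by
          have := My.mul_mem hm (My.inv_mem (hyiMy i))
          rwa [mul_inv_cancel_right] at this
        have hyiMc : y ^ i ∈ Mc := by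
          rw [hMcmem]
          exact (hyc.zpow_left i).eq
        have hdMc : d ∈ Mc := by
          have := Mc.mul_mem hmMc (Mc.inv_mem hyiMc)
          rwa [mul_inv_cancel_right] at this
        have hdD : d ∈ D := by rw [hDdef]; exact ⟨hd, hdMy⟩
        have hdE : d ∈ E := hCE d hdD ((hMcmem d).mp hdMc)
        rw [hHdef]
        exact Subgroup.mul_mem_sup ha
          (Subgroup.mul_mem_sup hdE (Subgroup.mem_zpowers_iff.mpr ⟨i, rfl⟩))
      have hHne : Mc ≠ H := by
        intro heq
        obtain ⟨e, heE', hec⟩ := SetLike.exists_of_lt hE'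
        apply hec
        rw [Subgroup.mem_centralizer_singleton_iff]
        apply Subtype.ext
        have heE : (e : G) ∈ E := (hEmem _).mpr ⟨e.2, heE'⟩
        have : (e : G) ∈ Mc := by
          rw [heq, hHdef]
          exact Subgroup.mem_sup_right (Subgroup.mem_sup_left heE)
        exact (hMcmem _).mp this
      have hHtop : H = ⊤ := hMcco.2 _ (lt_of_le_of_ne hMcH hHne)
      rw [eq_top_iff]
      intro d _
      have hdH : (d : G) ∈ H := by rw [hHtop]; trivial
      rw [hHdef] at hdH
      have hnA : E ⊔ Subgroup.zpowers y ≤ Subgroup.normalizer (A : Set G) := by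
        rw [Subgroup.normalizer_eq_top]; exact le_top
      obtain ⟨a, ha, w, hw, hdw⟩ :=
        (Cfsg.Agent.Lib.helper8.mem_sup_iff_of_le_normalizer hnA _).mp hdH
      have hEy : ∀ e ∈ E, y * e = e * y := by
        intro e he
        exact ((hMymem e).mp (hDMy (hED he))).symm
      have hnE : Subgroup.zpowers y ≤ Subgroup.normalizer (E : Set G) := by
        apply Cfsg.Agent.Lib.helper7.zpowers_le_normalizer_of_conj
        · intro e he
          rw [hEy e he, mul_inv_cancel_right]
          exact he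
        · intro e he
          have : y⁻¹ * e * y = e := by rw [mul_assoc, ← hEy e he, inv_mul_cancel_left]
          rw [this]
          exact he
      obtain ⟨e, he, v, hv, hwev⟩ :=
        (Cfsg.Agent.Lib.helper8.mem_sup_iff_of_le_normalizer hnE _).mp hw
      obtain ⟨i, hvi⟩ := Subgroup.mem_zpowers_iff.mp hv
      rw [hwev, ← hvi] at hdw
      have hdD : (d : G) ∈ D := d.2
      have heD := hED he
      have hyiM : y ^ i ∈ M := by
        have h1 : y ^ i = e⁻¹ * (a⁻¹ * (d : G)) := by rw [hdw]; group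
        rw [h1]
        exact M.mul_mem (M.inv_mem (hDM heD))
          (M.mul_mem (M.inv_mem ((hAmem a).mp ha).1) (hDM hdD))
      have hyiD : y ^ i ∈ D := by rw [hDdef]; exact ⟨hyiM, hyiMy i⟩
      have hyiE : y ^ i ∈ E := hCE _ hyiD (hyc.zpow_left i).eq
      have haD : a ∈ D := by
        have h1 : a = (d : G) * (e * y ^ i)⁻¹ := by rw [hdw]; group
        rw [h1]
        exact D.mul_mem hdD (D.inv_mem (D.mul_mem heD hyiD))
      have ha1 : a = 1 := by
        have : a ∈ A ⊓ My := ⟨ha, hDMy haD⟩
        rw [hAMy, Subgroup.mem_bot] at this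
        exact this
      have hdE : (d : G) ∈ E := by
        rw [hdw, ha1, one_mul]
        exact E.mul_mem he hyiE
      obtain ⟨h', hmem⟩ := (hEmem _).mp hdE
      exact hmem
  have hDsol : Group.IsSolvable D := ih D hDlt hDCM
  haveI := hDsol
  haveI hAsol : Group.IsSolvable A :=
    Group.isSolvable_of_comm (fun a b =>
      Subtype.ext (((hAmem a).mp a.2).2 b ((hAmem b).mp b.2).1).symm)
  have hnD : D ≤ Subgroup.normalizer (A : Set G) := by
    rw [Subgroup.normalizer_eq_top]; exact le_top
  haveI hADsol : Group.IsSolvable (A ⊔ D : Subgroup G) :=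
    Cfsg.Agent.Lib.helper7.isSolvable_sup_of_le_normalizer A D hnD
  have hADM : A ⊔ D = M := by
    apply le_antisymm
    · exact sup_le (fun a ha => ((hAmem a).mp ha).1) hDM
    · intro m hm
      obtain ⟨a, ha, w, hw, rfl⟩ := hdecA m
      have hwM : w ∈ M := by
        have := M.mul_mem (M.inv_mem ((hAmem a).mp ha).1) hm
        rwa [inv_mul_cancel_left] at this
      exact Subgroup.mul_mem_sup ha (by rw [hDdef]; exact ⟨hwM, hw⟩)
  have hny : Subgroup.zpowers y ≤ Subgroup.normalizer ((A ⊔ D : Subgroup G) : Set G) := by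
    rw [hADM, Subgroup.normalizer_eq_top]; exact le_top
  have hsol := Cfsg.Agent.Lib.helper7.isSolvable_sup_of_le_normalizer (A ⊔ D)
    (Subgroup.zpowers y) hny
  have htop : (A ⊔ D) ⊔ Subgroup.zpowers y = ⊤ := by rw [hADM]; exact hMytop'
  rw [htop] at hsol
  exact sol_of_top hsol

/-- Case B1: an abelian maximal centralizer yields a normal maximal centralizer. -/
theorem caseB1 {G : Type u} [Group G] [Finite G] (hG : CM G) (hZ : Subgroup.center G = ⊥)
    (x : G) (hx : x ≠ 1)
    (hab : ∀ u ∈ Subgroup.centralizer ({x} : Set G), ∀ v ∈ Subgroup.centralizer ({x} : Set G),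
      u * v = v * u) :
    ∃ k : G, k ≠ 1 ∧ (Subgroup.centralizer ({k} : Set G)).Normal := by
  classical
  have hcoat := coat_of_ne_one hG hZ
  obtain ⟨M, hMdef⟩ : ∃ M : Subgroup G, M = Subgroup.centralizer ({x} : Set G) := ⟨_, rfl⟩
  rw [← hMdef] at hab
  by_cases hn : M.Normal
  · exact ⟨x, hx, by rw [← hMdef]; exact hn⟩
  have hMco : IsCoatom M := by rw [hMdef]; exact hcoat x hx
  have hxM : x ∈ M := by rw [hMdef, Subgroup.mem_centralizer_singleton_iff]
  have hnorm : ∀ g : G, g ∉ M → ¬ (∀ h : G, h ∈ M ↔ g * h * g⁻¹ ∈ M) := by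
    intro g hg hall
    have hgN : g ∈ Subgroup.normalizer (M : Set G) := Subgroup.mem_normalizer_iff.mpr hall
    have hle : M ≤ Subgroup.normalizer (M : Set G) := Subgroup.le_normalizer
    have hNtop : Subgroup.normalizer (M : Set G) = ⊤ := by
      apply hMco.2
      exact lt_of_le_of_ne hle (fun heq => hg (heq ▸ hgN))
    exact hn (Subgroup.normalizer_eq_top_iff.mp hNtop)
  have hcentral : ∀ t : G, (∀ m ∈ M, m * t = t * m) → ∀ w : G, w ∉ M → w * t = t * w →
      t = 1 := by
    intro t ht w hw hwt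
    by_contra ht1
    have hle : M ≤ Subgroup.centralizer ({t} : Set G) :=
      fun m hm => Subgroup.mem_centralizer_singleton_iff.mpr (ht m hm)
    have hlt : M < Subgroup.centralizer ({t} : Set G) :=
      lt_of_le_of_ne hle
        (fun heq => hw (heq ▸ Subgroup.mem_centralizer_singleton_iff.mpr hwt))
    exact (hcoat t ht1).1 (hMco.2 _ hlt)
  have hTI : ∀ g : G, g ∉ M → M ⊓ (MulAut.conj g • M) = ⊥ := by
    intro g hg
    rw [eq_bot_iff]
    rintro t ⟨htM, htg⟩
    rw [Subgroup.mem_bot]
    have htg' : g⁻¹ * t * g ∈ M := by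
      have h1 : t ∈ MulAut.conj g • M := htg
      rw [Subgroup.mem_pointwise_smul_iff_inv_smul_mem, conj_inv_smul'] at h1
      exact h1
    have hnot := hnorm g hg
    rw [not_forall] at hnot
    obtain ⟨h, hh⟩ := hnot
    by_cases hhM : h ∈ M
    · have hghM : g * h * g⁻¹ ∉ M := fun h' => hh ⟨fun _ => h', fun _ => hhM⟩
      apply hcentral t (fun m hm => hab m hm t htM) (g * h * g⁻¹) hghM
      have h1 := hab h hhM _ htg'
      have e : g * h * g⁻¹ * t = g * (h * (g⁻¹ * t * g)) * g⁻¹ := by group
      rw [e, h1]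
      group
    · have hghM : g * h * g⁻¹ ∈ M := by
        by_contra h'
        exact hh ⟨fun h'' => absurd h'' hhM, fun h'' => absurd h'' h'⟩
      have ht' : g⁻¹ * t * g = 1 := by
        apply hcentral (g⁻¹ * t * g) (fun m hm => hab m hm _ htg') h hhM
        have h1 := hab _ hghM t htM
        have e : h * (g⁻¹ * t * g) = g⁻¹ * ((g * h * g⁻¹) * t) * g := by group
        rw [e, h1]
        group
      have e : t = g * (g⁻¹ * t * g) * g⁻¹ := by group
      rw [e, ht']
      group
  have hMbot : M ≠ ⊥ := by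
    intro h
    rw [h, Subgroup.mem_bot] at hxM
    exact hx hxM
  have hfrob : Cfsg.IsFrobeniusComplement M := ⟨hMbot, hMco.1, hTI⟩
  obtain ⟨K, hKset, hKn, hKc⟩ := Cfsg.Agent.S0035.result M hfrob
  have hKmem : ∀ g : G, g ∈ K ↔ (g = 1 ∨ ∀ w : G, g ∉ MulAut.conj w • M) := by
    intro g
    rw [← SetLike.mem_coe, hKset]
    rfl
  have hKbot : K ≠ ⊥ := by
    intro h
    have := hKc.sup_eq_top
    rw [h, bot_sup_eq] at this
    exact hMco.1 this
  obtain ⟨k, hkK, hk1⟩ : ∃ k ∈ K, k ≠ 1 := by
    by_contra hall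
    push Not at hall
    exact hKbot (eq_bot_iff.mpr (fun g hg => Subgroup.mem_bot.mpr (hall g hg)))
  refine ⟨k, hk1, ?_⟩
  have hCK : Subgroup.centralizer ({k} : Set G) ≤ K := by
    intro c hc
    rw [Subgroup.mem_centralizer_singleton_iff] at hc
    by_contra hcK
    rw [hKmem] at hcK
    push Not at hcK
    obtain ⟨hc1, w, hcw⟩ := hcK
    rw [Subgroup.mem_pointwise_smul_iff_inv_smul_mem, conj_inv_smul'] at hcw
    have hkw : w⁻¹ * k * w ∉ M := by
      intro hmem
      rcases (hKmem k).mp hkK with h1 | h2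
      · exact hk1 h1
      · apply h2 w
        rw [Subgroup.mem_pointwise_smul_iff_inv_smul_mem, conj_inv_smul']
        exact hmem
    have hti := hTI _ hkw
    have hmem : w⁻¹ * c * w ∈ M ⊓ (MulAut.conj (w⁻¹ * k * w) • M) := by
      refine ⟨hcw, ?_⟩
      show w⁻¹ * c * w ∈ MulAut.conj (w⁻¹ * k * w) • M
      rw [Subgroup.mem_pointwise_smul_iff_inv_smul_mem, conj_inv_smul']
      have e : (w⁻¹ * k * w)⁻¹ * (w⁻¹ * c * w) * (w⁻¹ * k * w) = w⁻¹ * (k⁻¹ * (c * k)) * w := by
        group
      rw [e, hc, inv_mul_cancel_left]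
      exact hcw
    rw [hti, Subgroup.mem_bot] at hmem
    apply hc1
    have e : c = w * (w⁻¹ * c * w) * w⁻¹ := by group
    rw [e, hmem]
    group
  have hKtop : K ≠ ⊤ := by
    intro h
    have hd : K ⊓ M = ⊥ := hKc.disjoint.eq_bot
    rw [h, top_inf_eq] at hd
    exact hMbot hd
  have heq : Subgroup.centralizer ({k} : Set G) = K := coatom_eq (hcoat k hk1) hCK hKtop
  rw [heq]
  exact hKn

/-- In a nonabelian maximal centralizer all elements have the same prime order. -/
theorem caseP {G : Type u} [Group G] [Finite G] (hG : CM G) (hZ : Subgroup.center G = ⊥)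
    (x : G) (hx : x ≠ 1)
    (hnab : ¬ ∀ u ∈ Subgroup.centralizer ({x} : Set G),
      ∀ v ∈ Subgroup.centralizer ({x} : Set G), u * v = v * u) :
    (orderOf x).Prime ∧ ∀ u ∈ Subgroup.centralizer ({x} : Set G), u ^ orderOf x = 1 := by
  classical
  have hcoat := coat_of_ne_one hG hZ
  obtain ⟨M, hMdef⟩ : ∃ M : Subgroup G, M = Subgroup.centralizer ({x} : Set G) := ⟨_, rfl⟩
  rw [← hMdef] at hnab ⊢
  have hMmem : ∀ g : G, g ∈ M ↔ g * x = x * g := by
    intro g
    rw [hMdef, Subgroup.mem_centralizer_singleton_iff]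
  have hMco : IsCoatom M := by rw [hMdef]; exact hcoat x hx
  have hcentA : ∀ a : G, (∀ m ∈ M, m * a = a * m) → a ≠ 1 →
      Subgroup.centralizer ({a} : Set G) = M := by
    intro a haA ha1
    have hle : M ≤ Subgroup.centralizer ({a} : Set G) := by
      intro m hm
      rw [Subgroup.mem_centralizer_singleton_iff]
      exact haA m hm
    exact (coatom_eq hMco hle (hcoat a ha1).1).symm
  have hnotA : ∀ u : G, ¬ (∀ m ∈ M, m * u = u * m) →
      Subgroup.centralizer ({u} : Set G) ≠ M := by
    intro u hnu heq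
    apply hnu
    intro m hm
    rw [← heq, Subgroup.mem_centralizer_singleton_iff] at hm
    exact hm
  have hmono : ∀ (z : G) (k : ℕ), Subgroup.centralizer ({z} : Set G) ≤
      Subgroup.centralizer ({z ^ k} : Set G) := by
    intro z k g hg
    rw [Subgroup.mem_centralizer_singleton_iff] at hg ⊢
    exact ((show Commute g z from hg).pow_right k).eq
  have key : ∀ a u : G, (∀ m ∈ M, m * a = a * m) → a ≠ 1 → u ∈ M →
      ¬ (∀ m ∈ M, m * u = u * m) → orderOf a = orderOf u := by
    intro a u haA ha1 huM huA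
    have hu1 : u ≠ 1 := by
      intro h
      apply huA
      intro m _
      rw [h, mul_one, one_mul]
    have hau : Commute a u := (haA u huM).symm
    have hCa := hcentA a haA ha1
    obtain ⟨T, hTdef⟩ : ∃ T : Subgroup G, T = Subgroup.centralizer ({u} : Set G) := ⟨_, rfl⟩
    have hTco : IsCoatom T := by rw [hTdef]; exact hcoat u hu1
    have hTM : T ≠ M := by rw [hTdef]; exact hnotA u huA
    have hau1 : a * u ≠ 1 := by
      intro h
      apply huA
      have hu_eq : u = a⁻¹ := (inv_eq_of_mul_eq_one_right h).symm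
      intro m hm
      rw [hu_eq]
      exact ((show Commute m a from haA m hm).inv_right).eq
    have hCau : IsCoatom (Subgroup.centralizer ({a * u} : Set G)) := hcoat _ hau1
    have h1 : u ^ orderOf a = 1 := by
      by_contra hne
      have e1 : (a * u) ^ orderOf a = u ^ orderOf a := by
        rw [hau.mul_pow, pow_orderOf_eq_one, one_mul]
      have hT1 : T = Subgroup.centralizer ({u ^ orderOf a} : Set G) := by
        rw [hTdef]
        exact coatom_eq (hcoat u hu1) (hmono u _) (hcoat _ hne).1
      have hT2 : Subgroup.centralizer ({a * u} : Set G) =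
          Subgroup.centralizer ({u ^ orderOf a} : Set G) := by
        apply coatom_eq hCau _ (hcoat _ hne).1
        rw [← e1]
        exact hmono (a * u) _
      apply hTM
      apply coatom_eq hTco _ hMco.1
      intro t ht
      have ht1 : t ∈ Subgroup.centralizer ({a * u} : Set G) := by rw [hT2, ← hT1]; exact ht
      have ht2 : t ∈ Subgroup.centralizer ({u} : Set G) := by rw [← hTdef]; exact ht
      rw [Subgroup.mem_centralizer_singleton_iff] at ht1 ht2
      rw [← hCa, Subgroup.mem_centralizer_singleton_iff]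
      have c1 : Commute t (a * u) := ht1
      have c2 : Commute t u := ht2
      have c3 := c1.mul_right c2.inv_right
      rw [mul_inv_cancel_right] at c3
      exact c3.eq
    have h2 : a ^ orderOf u = 1 := by
      by_contra hne
      have e1 : (a * u) ^ orderOf u = a ^ orderOf u := by
        rw [hau.mul_pow, pow_orderOf_eq_one, mul_one]
      have hakA : ∀ m ∈ M, m * a ^ orderOf u = a ^ orderOf u * m :=
        fun m hm => ((show Commute m a from haA m hm).pow_right _).eq
      have hCak := hcentA _ hakA hne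
      have hT2 : Subgroup.centralizer ({a * u} : Set G) = M := by
        apply coatom_eq hCau _ hMco.1
        rw [← hCak, ← e1]
        exact hmono (a * u) _
      apply huA
      intro m hm
      have hm1 : m ∈ Subgroup.centralizer ({a * u} : Set G) := by rw [hT2]; exact hm
      rw [Subgroup.mem_centralizer_singleton_iff] at hm1
      have c1 : Commute m (a * u) := hm1
      have c2 : Commute m a := haA m hm
      have c3 := c2.inv_right.mul_right c1
      rw [inv_mul_cancel_left] at c3
      exact c3.eq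
    exact Nat.dvd_antisymm (orderOf_dvd_of_pow_eq_one h2) (orderOf_dvd_of_pow_eq_one h1)
  have hxM : x ∈ M := (hMmem x).mpr rfl
  have hxA : ∀ m ∈ M, m * x = x * m := fun m hm => (hMmem m).mp hm
  obtain ⟨u₀, hu₀M, hu₀A⟩ : ∃ u₀ ∈ M, ¬ (∀ m ∈ M, m * u₀ = u₀ * m) := by
    by_contra hall
    push Not at hall
    exact hnab (fun u hu v hv => hall v hv u hu)
  have hord := key x u₀ hxA hx hu₀M hu₀A
  have hprime : (orderOf x).Prime := by
    by_contra hnp
    have hn1 : orderOf x ≠ 1 := fun h => hx (orderOf_eq_one_iff.mp h)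
    obtain ⟨r, hr, hrdvd⟩ := Nat.exists_prime_and_dvd hn1
    have hrlt : r < orderOf x :=
      lt_of_le_of_ne (Nat.le_of_dvd (orderOf_pos x) hrdvd) (fun h => hnp (h ▸ hr))
    have hxr1 : x ^ r ≠ 1 := by
      intro h
      exact absurd (Nat.le_of_dvd hr.pos (orderOf_dvd_of_pow_eq_one h)) (not_le.mpr hrlt)
    have hxrA : ∀ m ∈ M, m * x ^ r = x ^ r * m :=
      fun m hm => ((show Commute m x from hxA m hm).pow_right r).eq
    have hord2 := key (x ^ r) u₀ hxrA hxr1 hu₀M hu₀A
    have h3 : orderOf (x ^ r) = orderOf x / r := orderOf_pow_of_dvd hr.ne_zero hrdvd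
    have h4 : orderOf x / r < orderOf x := Nat.div_lt_self (orderOf_pos x) hr.one_lt
    rw [hord2, ← hord] at h3
    omega
  refine ⟨hprime, ?_⟩
  intro m hm
  by_cases hmA : ∀ m' ∈ M, m' * m = m * m'
  · by_cases hm1 : m = 1
    · rw [hm1, one_pow]
    · have := key m u₀ hmA hm1 hu₀M hu₀A
      rw [hord, ← this]
      exact pow_orderOf_eq_one m
  · have := key x m hxA hx hm hmA
    rw [this]
    exact pow_orderOf_eq_one m

/-- Case B2: all maximal centralizers non-normal and nonabelian is impossible. -/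
theorem caseB2 {G : Type u} [Group G] [Finite G] (hG : CM G) (hZ : Subgroup.center G = ⊥)
    (hB : ∀ k : G, k ≠ 1 → ¬ (Subgroup.centralizer ({k} : Set G)).Normal)
    (hP : ∀ x : G, x ≠ 1 → (orderOf x).Prime ∧
      ∀ u ∈ Subgroup.centralizer ({x} : Set G), u ^ orderOf x = 1)
    (hnab : ∀ x : G, x ≠ 1 → ¬ ∀ u ∈ Subgroup.centralizer ({x} : Set G),
      ∀ v ∈ Subgroup.centralizer ({x} : Set G), u * v = v * u)
    (x : G) (hx : x ≠ 1) : False := by
  classical
  have hcoat := coat_of_ne_one hG hZ
  obtain ⟨p, hpdef⟩ : ∃ p : ℕ, p = orderOf x := ⟨_, rfl⟩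
  have hpp : p.Prime := hpdef ▸ (hP x hx).1
  haveI : Fact p.Prime := ⟨hpp⟩
  obtain ⟨M, hMdef⟩ : ∃ M : Subgroup G, M = Subgroup.centralizer ({x} : Set G) := ⟨_, rfl⟩
  have hMexp : ∀ u ∈ M, u ^ p = 1 := by rw [hMdef, hpdef]; exact (hP x hx).2
  have hMco : IsCoatom M := by rw [hMdef]; exact hcoat x hx
  have hMmem : ∀ g : G, g ∈ M ↔ g * x = x * g := by
    intro g
    rw [hMdef, Subgroup.mem_centralizer_singleton_iff]
  have hxM : x ∈ M := (hMmem x).mpr rfl
  have hMn : ¬ M.Normal := by rw [hMdef]; exact hB x hx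
  have hp2 : p ≠ 2 := by
    intro h2
    apply hnab x hx
    rw [← hMdef]
    intro u hu v hv
    have hu2 : u * u = 1 := by have := hMexp u hu; rwa [h2, pow_two] at this
    have hv2 : v * v = 1 := by have := hMexp v hv; rwa [h2, pow_two] at this
    have huv2 : (u * v) * (u * v) = 1 := by
      have := hMexp (u * v) (M.mul_mem hu hv); rwa [h2, pow_two] at this
    have e : v * u = u⁻¹ * ((u * v) * (u * v)) * v⁻¹ := by group
    rw [huv2, mul_one, inv_eq_of_mul_eq_one_left hu2, inv_eq_of_mul_eq_one_left hv2] at e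
    exact e.symm
  have hMp : IsPGroup p M := by
    intro g
    refine ⟨1, ?_⟩
    rw [pow_one]
    apply Subtype.ext
    rw [Subgroup.coe_pow]
    exact hMexp g g.2
  obtain ⟨P, hMP⟩ := hMp.exists_le_sylow
  have hnotp : ¬ IsPGroup p G := by
    intro hGp
    haveI : Nontrivial G := ⟨⟨x, 1, hx⟩⟩
    haveI := hGp.center_nontrivial
    obtain ⟨z, hz⟩ := exists_ne (1 : Subgroup.center G)
    apply hz
    have hz2 : ∀ w : G, w ∈ Subgroup.center G → w = 1 := fun w hw => by
      rw [hZ, Subgroup.mem_bot] at hw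
      exact hw
    exact Subtype.ext (hz2 z z.2)
  have hPM : (P : Subgroup G) = M := by
    by_contra hne
    have htop : (P : Subgroup G) = ⊤ := hMco.2 _ (lt_of_le_of_ne hMP (Ne.symm hne))
    apply hnotp
    have hPp := P.isPGroup'
    intro g
    obtain ⟨k, hk⟩ := hPp ⟨g, by rw [htop]; trivial⟩
    exact ⟨k, congrArg Subtype.val hk⟩
  have hth := Cfsg.Agent.Lib.helper1.thompson_npc p hp2 G P trivial
  by_cases hnpc : Cfsg.HasNormalPComplement p G
  · rw [Cfsg.Agent.S0072.hasNormalPComplement_iff] at hnpc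
    obtain ⟨K, hKn, hKc, a, ha⟩ := hnpc
    haveI := hKn
    have hKbot : K ≠ ⊥ := by
      intro h
      apply hnotp
      rw [h, Subgroup.index_bot] at ha
      exact IsPGroup.of_card ha
    obtain ⟨y, hyK, hy1⟩ : ∃ y ∈ K, y ≠ 1 := by
      by_contra hall
      push Not at hall
      exact hKbot (eq_bot_iff.mpr (fun g hg => Subgroup.mem_bot.mpr (hall g hg)))
    have hq := (hP y hy1).1
    have hqp : orderOf y ≠ p := by
      intro h
      have h1 : orderOf y ∣ Nat.card K := Subgroup.orderOf_dvd_natCard K hyK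
      rw [h] at h1
      exact (Nat.Prime.coprime_iff_not_dvd hpp).mp hKc.symm h1
    have hQK : Subgroup.centralizer ({y} : Set G) ≤ K := by
      intro u hu
      have h1 : u ^ orderOf y = 1 := (hP y hy1).2 u hu
      have h2 : u ^ K.index ∈ K := Subgroup.pow_index_mem K u
      rw [ha] at h2
      have hcop : Nat.Coprime (orderOf y) (p ^ a) :=
        Nat.Coprime.pow_right a ((Nat.coprime_primes hq hpp).mpr hqp)
      exact Cfsg.Agent.Lib.helper20.PiClosed.mem_of_pow_mem_coprime K u hcop (h1 ▸ one_mem K) h2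
    have hKtop : K ≠ ⊤ := by
      intro h
      rw [h] at hKc
      have h1 : orderOf x ∣ Nat.card (⊤ : Subgroup G) := Subgroup.orderOf_dvd_natCard _ trivial
      rw [← hpdef] at h1
      exact (Nat.Prime.coprime_iff_not_dvd hpp).mp hKc.symm h1
    have heq : Subgroup.centralizer ({y} : Set G) = K := coatom_eq (hcoat y hy1) hQK hKtop
    apply hB y hy1
    rw [heq]
    exact hKn
  · apply hnpc
    apply hth
    constructor
    · show Cfsg.HasNormalPComplement p
        ↥(Subgroup.normalizer ((Cfsg.thompsonSubgroupOf p (P : Subgroup G) : Subgroup G) : Set G))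
      by_contra hJ
      obtain ⟨J, hJdef⟩ : ∃ J : Subgroup G, J = Cfsg.thompsonSubgroupOf p (P : Subgroup G) :=
        ⟨_, rfl⟩
      rw [← hJdef] at hJ
      have hle : M ≤ Subgroup.normalizer (J : Set G) := by
        rw [hJdef, ← hPM]
        exact Subgroup.le_normalizer.trans
          (Cfsg.Agent.Lib.helper1.PFun.normalizer_le (Cfsg.Agent.Lib.helper1.JJ p) G
            (P : Subgroup G))
      have hNtop : Subgroup.normalizer (J : Set G) = ⊤ := by
        by_contra hne
        have hNM : M = Subgroup.normalizer (J : Set G) := coatom_eq hMco hle hne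
        apply hJ
        exact Cfsg.Agent.Lib.helper1.npc_of_le hNM.ge (Cfsg.Agent.Lib.helper1.npc_of_isPGroup hMp)
      have hJn : J.Normal := Subgroup.normalizer_eq_top_iff.mp hNtop
      have hPbot : (P : Subgroup G) ≠ ⊥ := by
        rw [hPM]
        intro h
        rw [h, Subgroup.mem_bot] at hxM
        exact hx hxM
      have hJbot : J ≠ ⊥ := by
        rw [hJdef]
        exact (Cfsg.Agent.Lib.helper1.JJ p).ne_bot G (P : Subgroup G) P.isPGroup' hPbot
      have hJM : J ≤ M := by
        rw [hJdef, ← hPM]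
        exact (Cfsg.Agent.Lib.helper1.JJ p).le G (P : Subgroup G)
      -- an element of order different from p
      obtain ⟨y, hy⟩ : ∃ y : G, ¬ ∃ k : ℕ, y ^ p ^ k = 1 := by
        by_contra hall
        push Not at hall
        exact hnotp hall
      have hy1 : y ≠ 1 := by
        intro h
        apply hy
        exact ⟨0, by rw [h, one_pow]⟩
      have hq := (hP y hy1).1
      have hqp : orderOf y ≠ p := by
        intro h
        apply hy
        refine ⟨1, ?_⟩
        rw [pow_one, ← h]
        exact pow_orderOf_eq_one y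
      have hcop : Nat.Coprime p (orderOf y) := (Nat.coprime_primes hpp hq).mpr (Ne.symm hqp)
      obtain ⟨Q, hQdef⟩ : ∃ Q : Subgroup G, Q = Subgroup.centralizer ({y} : Set G) := ⟨_, rfl⟩
      have hQexp : ∀ u ∈ Q, u ^ orderOf y = 1 := by rw [hQdef]; exact (hP y hy1).2
      have hQco : IsCoatom Q := by rw [hQdef]; exact hcoat y hy1
      have hMQ : ∀ u ∈ M, u ∈ Q → u = 1 := by
        intro u huM huQ
        exact Cfsg.Agent.Lib.helper1.eq_one_of_pow_coprime u _ _ (hMexp u huM) (hQexp u huQ) hcop
      obtain ⟨j, hjJ, hj1⟩ : ∃ j ∈ J, j ≠ 1 := by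
        by_contra hall
        push Not at hall
        exact hJbot (eq_bot_iff.mpr (fun g hg => Subgroup.mem_bot.mpr (hall g hg)))
      have hJQtop : J ⊔ Q = ⊤ := by
        apply hQco.2
        refine lt_of_le_of_ne le_sup_right ?_
        intro heq
        have hjQ : j ∈ Q := by rw [heq]; exact Subgroup.mem_sup_left hjJ
        exact hj1 (hMQ j (hJM hjJ) hjQ)
      have hMJ : M ≤ J := by
        intro m hm
        have hmtop : m ∈ J ⊔ Q := by rw [hJQtop]; trivial
        have hnJ : Q ≤ Subgroup.normalizer (J : Set G) := by rw [hNtop]; exact le_top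
        obtain ⟨j', hj', u, hu, rfl⟩ :=
          (Cfsg.Agent.Lib.helper8.mem_sup_iff_of_le_normalizer hnJ m).mp hmtop
        have huM : u ∈ M := by
          have := M.mul_mem (M.inv_mem (hJM hj')) hm
          rwa [inv_mul_cancel_left] at this
        rw [hMQ u huM hu, mul_one]
        exact hj'
      apply hMn
      rw [le_antisymm hMJ hJM]
      exact hJn
    · show Cfsg.HasNormalPComplement p
        ↥(Subgroup.centralizer (((P : Subgroup G) ⊓
          Subgroup.centralizer ((P : Subgroup G) : Set G) : Subgroup G) : Set G))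
      apply Cfsg.Agent.Lib.helper1.npc_of_le (K := M) ?_
        (Cfsg.Agent.Lib.helper1.npc_of_isPGroup hMp)
      intro g hg
      have hxZ : x ∈ (P : Subgroup G) ⊓ Subgroup.centralizer ((P : Subgroup G) : Set G) := by
        rw [hPM]
        exact ⟨hxM, Subgroup.mem_centralizer_iff.mpr (fun m hm => (hMmem m).mp hm)⟩
      have := Subgroup.mem_centralizer_iff.mp hg x hxZ
      rw [hMmem]
      exact this.symm

theorem main : ∀ (n : ℕ) (G : Type u) [Group G] [Finite G], Nat.card G = n → CM G →
    Group.IsSolvable G := by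
  intro n
  induction n using Nat.strong_induction_on with
  | _ n ih =>
  intro G _ _ hn hG
  classical
  have ih' : ∀ (H : Type u) [Group H] [Finite H], Nat.card H < Nat.card G → CM H →
      Group.IsSolvable H :=
    fun H _ _ hlt hH => ih (Nat.card H) (hn ▸ hlt) H rfl hH
  by_cases hZ : Subgroup.center G = ⊥
  swap
  · apply sol_of_center_quot
    apply ih' _ _ (cm_quot hG)
    rw [← Subgroup.index_eq_card]
    have h1 := Subgroup.card_mul_index (Subgroup.center G)
    have h2 : 1 < Nat.card (Subgroup.center G) := (Subgroup.one_lt_card_iff_ne_bot _).mpr hZ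
    have h3 : 0 < (Subgroup.center G).index := Nat.pos_of_ne_zero Subgroup.index_ne_zero_of_finite
    nlinarith
  · by_cases hA : ∃ k : G, k ≠ 1 ∧ (Subgroup.centralizer ({k} : Set G)).Normal
    · obtain ⟨k, hk1, hkn⟩ := hA
      exact caseA hG hZ ih' k hk1 hkn
    · push Not at hA
      by_cases htriv : ∀ g : G, g = 1
      · haveI : Subsingleton G := ⟨fun a b => by rw [htriv a, htriv b]⟩
        infer_instance
      · push Not at htriv
        obtain ⟨x, hx⟩ := htriv
        exfalso
        have hnab : ∀ z : G, z ≠ 1 → ¬ ∀ u ∈ Subgroup.centralizer ({z} : Set G),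
            ∀ v ∈ Subgroup.centralizer ({z} : Set G), u * v = v * u := by
          intro z hz hab
          obtain ⟨k, hk1, hkn⟩ := caseB1 hG hZ z hz hab
          exact hA k hk1 hkn
        have hP := fun z hz => caseP hG hZ z hz (hnab z hz)
        exact caseB2 hG hZ hA hP hnab x hx

/-- Let G be a finite group in which the centralizer of every non-central element is a maximal subgroup of G. Then G is solvable. -/
theorem result {G : Type*} [Group G] [Finite G]
    (h : ∀ g : G, g ∉ Subgroup.center G → IsCoatom (Subgroup.centralizer ({g} : Set G))) :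
    Group.IsSolvable G := by
  exact main _ G rfl h

end Cfsg.Agent.S4262
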