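import Cfsg.Statements.S3903
import Mathlib
import Cfsg.Agent.S0035
import Cfsg.Agent.S0042
import Cfsg.Agent.S4262
import Cfsg.Agent.Lib.helper7.Sup
import Cfsg.Agent.Lib.helper1.NilpMax

set_option autoImplicit false
open Cfsg

namespace Cfsg.Agent.S3903

open scoped Pointwise

universe u

/-- Outside `N`, centralizers are `p`-groups. -/
theorem cent_pgroup {G : Type*} [Group G] [Finite G] (N : Subgroup G)
    (h : ∀ x : G, x ∉ N → IsPrimePow (orderOf x))
    (x : G) (hx : x ∉ N) (p k : ℕ) (hp : p.Prime) (hk : 0 < k) (hpk : p ^ k = orderOf x) :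
    IsPGroup p (Subgroup.centralizer ({x} : Set G)) := by
  intro m
  have hmx : (m : G) * x = x * m := Subgroup.mem_centralizer_singleton_iff.mp m.2
  obtain ⟨j, b, hb, hjb⟩ :=
    Nat.exists_eq_pow_mul_and_not_dvd (orderOf_pos (m : G)).ne' p hp.ne_one
  refine ⟨j, ?_⟩
  obtain ⟨m', hm'⟩ : ∃ m' : G, m' = (m : G) ^ (p ^ j) := ⟨_, rfl⟩
  have hpj : p ^ j ≠ 0 := pow_ne_zero _ hp.ne_zero
  have hom' : orderOf m' = b := by
    rw [hm', orderOf_pow_of_dvd hpj (by rw [hjb]; exact dvd_mul_right _ _), hjb]
    exact Nat.mul_div_cancel_left b (Nat.pos_of_ne_zero hpj)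
  have hcomm : Commute x m' := by
    rw [hm']
    exact (Commute.pow_right (show Commute x (m : G) from hmx.symm) _)
  have hcop : (orderOf x).Coprime (orderOf m') := by
    rw [hom', ← hpk]
    exact Nat.Coprime.pow_left k ((Nat.Prime.coprime_iff_not_dvd hp).mpr hb)
  have hord : orderOf (x * m') = orderOf x * orderOf m' :=
    hcomm.orderOf_mul_eq_mul_orderOf_of_coprime hcop
  have hnotN : x * m' ∉ N := by
    intro hmem
    have h1 : (x * m') ^ b = x ^ b := by
      rw [hcomm.mul_pow, ← hom', pow_orderOf_eq_one, mul_one]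
    have h2 : x ^ b ∈ N := by rw [← h1]; exact N.pow_mem hmem b
    have hcop' : b.Coprime (orderOf x) := by rw [← hom']; exact hcop.symm
    obtain ⟨c, hc⟩ := exists_pow_eq_self_of_coprime hcop'
    apply hx
    rw [← hc]
    exact N.pow_mem h2 c
  have hpp := h _ hnotN
  rw [hord, hom', ← hpk] at hpp
  have hb1 : b = 1 := by
    obtain ⟨q, e, hq, he, hqe⟩ := (isPrimePow_nat_iff _).mp hpp
    have hpq : p = q := by
      have h1 : p ∣ q ^ e := by
        rw [hqe]
        exact Dvd.dvd.mul_right (dvd_pow_self p hk.ne') b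
      exact (Nat.prime_dvd_prime_iff_eq hp hq).mp (hp.dvd_of_dvd_pow h1)
    subst hpq
    have h2 : b ∣ p ^ e := by rw [hqe]; exact dvd_mul_left b _
    obtain ⟨i, hi, hbi⟩ := (Nat.dvd_prime_pow hp).mp h2
    rcases Nat.eq_zero_or_pos i with hi0 | hi0
    · rw [hbi, hi0, pow_zero]
    · exfalso
      apply hb
      rw [hbi]
      exact dvd_pow_self p hi0.ne'
  have hm1 : m' = 1 := by
    rw [← orderOf_eq_one_iff, hom', hb1]
  exact Subtype.ext (by rw [Subgroup.coe_pow, ← hm', hm1, Subgroup.coe_one])

/-- Herstein: a finite group with an abelian maximal subgroup is solvable. -/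
theorem herstein : ∀ (n : ℕ) (G : Type u) [Group G] [Finite G], Nat.card G = n →
    ∀ S : Subgroup G, IsCoatom S → (∀ u ∈ S, ∀ v ∈ S, u * v = v * u) → Group.IsSolvable G := by
  intro n
  induction n using Nat.strong_induction_on with
  | _ n ih =>
  intro G _ _ hn S hS hab
  classical
  haveI hSsol : Group.IsSolvable S :=
    Group.isSolvable_of_comm (fun a b => Subtype.ext (hab a a.2 b b.2))
  by_cases hnorm : Subgroup.normalizer (S : Set G) = ⊤
  · obtain ⟨g, hg⟩ : ∃ g : G, g ∉ S := by
      by_contra hall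
      push Not at hall
      exact hS.1 (eq_top_iff.mpr (fun g _ => hall g))
    have hsup : S ⊔ Subgroup.zpowers g = ⊤ := by
      apply hS.2
      refine lt_of_le_of_ne le_sup_left (fun heq => hg ?_)
      rw [heq]
      exact Subgroup.mem_sup_right (Subgroup.mem_zpowers g)
    have hle : Subgroup.zpowers g ≤ Subgroup.normalizer (S : Set G) := by
      rw [hnorm]; exact le_top
    have hsol := Cfsg.Agent.Lib.helper7.isSolvable_sup_of_le_normalizer S (Subgroup.zpowers g) hle
    rw [hsup] at hsol
    exact Cfsg.Agent.S4262.sol_of_top hsol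
  · have hNS : S = Subgroup.normalizer (S : Set G) :=
      Cfsg.Agent.S4262.coatom_eq hS Subgroup.le_normalizer hnorm
    have hZS : Subgroup.center G ≤ S := by
      intro z hz
      have : z ∈ Subgroup.normalizer (S : Set G) := Subgroup.center_le_normalizer (S : Set G) hz
      exact hNS ▸ this
    by_cases hZ : Subgroup.center G = ⊥
    swap
    · apply Cfsg.Agent.S4262.sol_of_center_quot
      have hcard : Nat.card (G ⧸ Subgroup.center G) < Nat.card G := by
        rw [← Subgroup.index_eq_card]
        have h1 := Subgroup.card_mul_index (Subgroup.center G)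
        have h2 : 1 < Nat.card (Subgroup.center G) := (Subgroup.one_lt_card_iff_ne_bot _).mpr hZ
        have h3 : 0 < (Subgroup.center G).index :=
          Nat.pos_of_ne_zero Subgroup.index_ne_zero_of_finite
        nlinarith
      refine ih _ (hn ▸ hcard) (G ⧸ Subgroup.center G) rfl
        (S.map (QuotientGroup.mk' (Subgroup.center G)))
        (Cfsg.Agent.Lib.helper1.isCoatom_map_mk _ S hZS hS) ?_
      rintro _ ⟨u, hu, rfl⟩ _ ⟨v, hv, rfl⟩
      rw [← map_mul, ← map_mul, hab u hu v hv]
    · have hnormS : ∀ g : G, g ∉ S → ¬ (∀ h : G, h ∈ S ↔ g * h * g⁻¹ ∈ S) := by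
        intro g hg hall
        have hgN : g ∈ Subgroup.normalizer (S : Set G) := Subgroup.mem_normalizer_iff.mpr hall
        exact hg (hNS ▸ hgN)
      have hcentral : ∀ t : G, (∀ m ∈ S, m * t = t * m) → ∀ w : G, w ∉ S → w * t = t * w →
          t = 1 := by
        intro t ht w hw hwt
        have hle : S ≤ Subgroup.centralizer ({t} : Set G) :=
          fun m hm => Subgroup.mem_centralizer_singleton_iff.mpr (ht m hm)
        have hlt : S < Subgroup.centralizer ({t} : Set G) :=
          lt_of_le_of_ne hle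
            (fun heq => hw (heq ▸ Subgroup.mem_centralizer_singleton_iff.mpr hwt))
        have htop := hS.2 _ hlt
        have htZ : t ∈ Subgroup.center G := by
          rw [Subgroup.mem_center_iff]
          intro g
          have : g ∈ Subgroup.centralizer ({t} : Set G) := by rw [htop]; exact Subgroup.mem_top g
          exact Subgroup.mem_centralizer_singleton_iff.mp this
        rw [hZ, Subgroup.mem_bot] at htZ
        exact htZ
      have hTI : ∀ g : G, g ∉ S → S ⊓ (MulAut.conj g • S) = ⊥ := by
        intro g hg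
        rw [eq_bot_iff]
        rintro t ⟨htM, htg⟩
        rw [Subgroup.mem_bot]
        have htg' : g⁻¹ * t * g ∈ S := by
          have h1 : t ∈ MulAut.conj g • S := htg
          rw [Subgroup.mem_pointwise_smul_iff_inv_smul_mem, Cfsg.Agent.S4262.conj_inv_smul'] at h1
          exact h1
        have hnot := hnormS g hg
        rw [not_forall] at hnot
        obtain ⟨h, hh⟩ := hnot
        by_cases hhM : h ∈ S
        · have hghM : g * h * g⁻¹ ∉ S := fun h' => hh ⟨fun _ => h', fun _ => hhM⟩
          apply hcentral t (fun m hm => hab m hm t htM) (g * h * g⁻¹) hghM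
          have h1 := hab h hhM _ htg'
          have e : g * h * g⁻¹ * t = g * (h * (g⁻¹ * t * g)) * g⁻¹ := by group
          rw [e, h1]
          group
        · have hghM : g * h * g⁻¹ ∈ S := by
            by_contra h'
            exact hh ⟨fun h'' => absurd h'' hhM, fun h'' => absurd h'' h'⟩
          have ht' : g⁻¹ * t * g = 1 := by
            apply hcentral (g⁻¹ * t * g) (fun m hm => hab m hm _ htg') h hhM
            have h1 := hab _ hghM t htM
            have e : h * (g⁻¹ * t * g) = g⁻¹ * ((g * h * g⁻¹) * t) * g := by group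
            rw [e, h1]
            group
          have e : t = g * (g⁻¹ * t * g) * g⁻¹ := by group
          rw [e, ht']
          group
      have hSbot : S ≠ ⊥ := by
        intro hbot
        apply hnorm
        rw [hbot]
        exact Subgroup.normalizer_eq_top_iff.mpr inferInstance
      have hfrob : Cfsg.IsFrobeniusComplement S := ⟨hSbot, hS.1, hTI⟩
      obtain ⟨K, hKset, hKn, hKc⟩ := Cfsg.Agent.S0035.result S hfrob
      obtain ⟨K', hK'set, hK'n, hK'nil⟩ := Cfsg.Agent.S0042.result S hfrob
      have hKK : K' = K := SetLike.coe_injective (hK'set.trans hKset.symm)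
      subst hKK
      haveI := hK'nil
      haveI hKsol : Group.IsSolvable K' := inferInstance
      have hle : S ≤ Subgroup.normalizer (K' : Set G) := by
        rw [Subgroup.normalizer_eq_top]; exact le_top
      have hsol := Cfsg.Agent.Lib.helper7.isSolvable_sup_of_le_normalizer K' S hle
      rw [hKc.sup_eq_top] at hsol
      exact Cfsg.Agent.S4262.sol_of_top hsol

/-- The counting lemma. -/
theorem count_lemma {G : Type*} [Group G] [Finite G] (N S : Subgroup G) [N.Normal]
    (hNS : N ⊔ S = ⊤)
    (A : Set G) (hAS : A ⊆ (S : Set G)) (hAN : ∀ a ∈ A, a ∉ N)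
    (hAc : ∀ a ∈ A, ∀ s ∈ S, s * a = a * s)
    (hcov : ∀ y : G, y ∉ N → ∃ g : G, g⁻¹ * y * g ∈ A) :
    ∀ y ∈ S, y ∉ N → y ∈ A := by
  classical
  obtain ⟨f, hf⟩ : ∃ f : (G ⧸ S) × A → G,
      f = fun qa => qa.1.out * (qa.2 : G) * (qa.1.out)⁻¹ := ⟨_, rfl⟩
  have hcovf : ∀ y : G, y ∉ N → y ∈ Set.range f := by
    intro y hy
    obtain ⟨g, hg⟩ := hcov y hy
    obtain ⟨s, hs⟩ := QuotientGroup.mk_out_eq_mul S g
    refine ⟨((QuotientGroup.mk g : G ⧸ S), ⟨_, hg⟩), ?_⟩
    rw [hf]
    show (QuotientGroup.mk g : G ⧸ S).out * (g⁻¹ * y * g) * ((QuotientGroup.mk g : G ⧸ S).out)⁻¹ = y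
    rw [hs]
    have h1 := hAc _ hg s s.2
    have e : g * (s : G) * (g⁻¹ * y * g) * (g * (s : G))⁻¹
        = g * ((s : G) * (g⁻¹ * y * g)) * (s : G)⁻¹ * g⁻¹ := by group
    rw [e, h1]
    group
  have huniv : (Set.univ : Set G) ⊆ (N : Set G) ∪ Set.range f := by
    intro y _
    by_cases hy : y ∈ N
    · exact Or.inl hy
    · exact Or.inr (hcovf y hy)
  have hc1 : Nat.card G ≤ Nat.card N + S.index * A.ncard := by
    have h1 : (Set.univ : Set G).ncard ≤ ((N : Set G) ∪ Set.range f).ncard :=
      Set.ncard_le_ncard huniv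
    have h2 := Set.ncard_union_le (N : Set G) (Set.range f)
    have h3 : (Set.range f).ncard ≤ S.index * A.ncard := by
      rw [← Set.image_univ]
      refine (Set.ncard_image_le (Set.toFinite _)).trans ?_
      rw [Set.ncard_univ, Nat.card_prod, ← Subgroup.index_eq_card, Nat.card_coe_set_eq]
    have h4 : (N : Set G).ncard = Nat.card N := (Nat.card_coe_set_eq (N : Set G)).symm
    rw [Set.ncard_univ] at h1
    omega
  have hc2 : S.index * Nat.card S = Nat.card G := by
    rw [mul_comm]; exact Subgroup.card_mul_index S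
  have hc3 : Nat.card N = S.index * Nat.card (N ⊓ S : Subgroup G) := by
    have h1 : N.relIndex (N ⊔ S) = N.relIndex S := Subgroup.relIndex_sup_left (H := S) (K := N)
    rw [hNS, Subgroup.relIndex_top_right] at h1
    have h2 : Nat.card (N ⊓ S : Subgroup G) * N.relIndex S = Nat.card S := by
      have := Subgroup.relIndex_mul_relIndex (⊥ : Subgroup G) (N ⊓ S) S bot_le inf_le_right
      rw [Subgroup.relIndex_bot_left, Subgroup.relIndex_bot_left,
        Subgroup.inf_relIndex_right] at this
      exact this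
    have h3 := Subgroup.card_mul_index N
    have h4 : Nat.card N * N.index = S.index * Nat.card (N ⊓ S : Subgroup G) * N.index := by
      rw [h3, ← hc2, ← h2, h1]; ring
    exact Nat.eq_of_mul_eq_mul_right (Nat.pos_of_ne_zero Subgroup.index_ne_zero_of_finite) h4
  have hSpos : 0 < S.index := Nat.pos_of_ne_zero Subgroup.index_ne_zero_of_finite
  have hc4 : Nat.card S ≤ Nat.card (N ⊓ S : Subgroup G) + A.ncard := by
    have : S.index * Nat.card S ≤ S.index * (Nat.card (N ⊓ S : Subgroup G) + A.ncard) := by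
      rw [hc2, mul_add, ← hc3]; exact hc1
    exact Nat.le_of_mul_le_mul_left this hSpos
  have hdisj : Disjoint A ((N ⊓ S : Subgroup G) : Set G) := by
    rw [Set.disjoint_left]
    intro a ha hmem
    exact hAN a ha hmem.1
  have hsub : A ∪ ((N ⊓ S : Subgroup G) : Set G) ⊆ (S : Set G) := by
    intro a ha
    rcases ha with ha | ha
    · exact hAS ha
    · exact ha.2
  have hcard : (S : Set G).ncard ≤ (A ∪ ((N ⊓ S : Subgroup G) : Set G)).ncard := by
    rw [Set.ncard_union_eq hdisj]
    have e1 : (S : Set G).ncard = Nat.card S := (Nat.card_coe_set_eq (S : Set G)).symm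
    have e2 : ((N ⊓ S : Subgroup G) : Set G).ncard = Nat.card (N ⊓ S : Subgroup G) :=
      (Nat.card_coe_set_eq ((N ⊓ S : Subgroup G) : Set G)).symm
    omega
  have heq := Set.eq_of_subset_of_ncard_le hsub hcard
  intro y hyS hyN
  have hmem : y ∈ A ∪ ((N ⊓ S : Subgroup G) : Set G) := by rw [heq]; exact hyS
  rcases hmem with h | h
  · exact h
  · exact absurd h.1 hyN

/-- Let N be a proper normal subgroup of the finite group G such that every element x of G outside N has prime power order and has centralizer C_G(x) a maximal subgroup of G. Then N is solvable. -/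
theorem result {G : Type*} [Group G] [Finite G] (N : Subgroup G) [N.Normal] (hN : N ≠ ⊤)
    (h : ∀ x : G, x ∉ N → IsPrimePow (orderOf x) ∧ IsCoatom (Subgroup.centralizer ({x} : Set G))) : Group.IsSolvable ↥N := by
  classical
  obtain ⟨x, hx⟩ : ∃ x : G, x ∉ N := by
    by_contra hall
    push Not at hall
    exact hN (eq_top_iff.mpr (fun g _ => hall g))
  by_cases hodd : ∃ x : G, x ∉ N ∧ ∃ p k, p.Prime ∧ p ≠ 2 ∧ 0 < k ∧ p ^ k = orderOf x
  · obtain ⟨x, hx, p, k, hp, hp2, hk, hpk⟩ := hodd
    haveI : Fact p.Prime := ⟨hp⟩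
    have hpg := cent_pgroup N (fun y hy => (h y hy).1) x hx p k hp hk hpk
    have hGsol : Group.IsSolvable G := by
      apply Cfsg.Agent.Lib.helper1.nilp_max_odd_solvable _ (h x hx).2 hpg.isNilpotent
      obtain ⟨n, hn⟩ := IsPGroup.iff_card.mp hpg
      rw [hn]
      exact Odd.pow (hp.odd_of_ne_two hp2)
    infer_instance
  have h2 : ∀ y : G, y ∉ N → IsPGroup 2 (Subgroup.centralizer ({y} : Set G)) := by
    intro y hy
    obtain ⟨p, k, hp, hk, hpk⟩ := (isPrimePow_nat_iff _).mp (h y hy).1
    have hp2 : p = 2 := by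
      by_contra hne
      exact hodd ⟨y, hy, p, k, hp, hne, hk, hpk⟩
    subst hp2
    exact cent_pgroup N (fun y hy => (h y hy).1) y hy 2 k hp hk hpk
  obtain ⟨S, hSdef⟩ : ∃ S : Subgroup G, S = Subgroup.centralizer ({x} : Set G) := ⟨_, rfl⟩
  have hScoat : IsCoatom S := by rw [hSdef]; exact (h x hx).2
  have hS2 : IsPGroup 2 S := by rw [hSdef]; exact h2 x hx
  have hxS : x ∈ S := by rw [hSdef, Subgroup.mem_centralizer_singleton_iff]
  haveI : Fact (Nat.Prime 2) := ⟨Nat.prime_two⟩
  by_cases hNS : N ⊔ S = ⊤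
  swap
  · have hle : N ≤ S := by
      have : S = N ⊔ S := Cfsg.Agent.S4262.coatom_eq hScoat le_sup_right hNS
      exact le_sup_left.trans (le_of_eq this.symm)
    have hN2 : IsPGroup 2 N := by
      intro n
      obtain ⟨k, hk⟩ := hS2 ⟨(n : G), hle n.2⟩
      refine ⟨k, Subtype.ext ?_⟩
      have := congrArg Subtype.val hk
      simpa using this
    haveI := hN2.isNilpotent
    infer_instance
  by_cases hG2 : IsPGroup 2 G
  · haveI := (hG2.to_subgroup N).isNilpotent
    infer_instance
  have hsyl : ∀ y : G, y ∉ N →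
      ∃ P : Sylow 2 G, (P : Subgroup G) = Subgroup.centralizer ({y} : Set G) := by
    intro y hy
    obtain ⟨P, hP⟩ := (h2 y hy).exists_le_sylow
    refine ⟨P, (Cfsg.Agent.S4262.coatom_eq (h y hy).2 hP ?_).symm⟩
    intro htop
    apply hG2
    intro g
    obtain ⟨k, hk⟩ := P.isPGroup' ⟨g, by rw [htop]; exact Subgroup.mem_top g⟩
    refine ⟨k, ?_⟩
    have := congrArg Subtype.val hk
    simpa using this
  obtain ⟨P₀, hP₀⟩ := hsyl x hx
  rw [← hSdef] at hP₀
  have hconj : ∀ y : G, y ∉ N →
      ∃ g : G, Subgroup.centralizer ({y} : Set G) = MulAut.conj g • S := by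
    intro y hy
    obtain ⟨P, hP⟩ := hsyl y hy
    obtain ⟨g, hg⟩ := MulAction.exists_smul_eq G P₀ P
    refine ⟨g, ?_⟩
    rw [← hP, ← hP₀, ← hg, Sylow.smul_def, Sylow.pointwise_smul_def]
  obtain ⟨A, hAdef⟩ : ∃ A : Set G,
      A = {a | a ∉ N ∧ Subgroup.centralizer ({a} : Set G) = S} := ⟨_, rfl⟩
  have hAmem : ∀ a, a ∈ A ↔ (a ∉ N ∧ Subgroup.centralizer ({a} : Set G) = S) := by
    intro a; rw [hAdef]; rfl
  have hAS : A ⊆ (S : Set G) := by
    intro a ha
    have := ((hAmem a).mp ha).2
    show a ∈ S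
    rw [← this, Subgroup.mem_centralizer_singleton_iff]
  have hAc : ∀ a ∈ A, ∀ s ∈ S, s * a = a * s := by
    intro a ha s hs
    rw [← ((hAmem a).mp ha).2] at hs
    exact Subgroup.mem_centralizer_singleton_iff.mp hs
  have hcov : ∀ y : G, y ∉ N → ∃ g : G, g⁻¹ * y * g ∈ A := by
    intro y hy
    obtain ⟨g, hg⟩ := hconj y hy
    refine ⟨g, (hAmem _).mpr ⟨?_, ?_⟩⟩
    · intro hmem
      apply hy
      have := Subgroup.Normal.conj_mem inferInstance _ hmem g
      have e : g * (g⁻¹ * y * g) * g⁻¹ = y := by group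
      rwa [e] at this
    · ext c
      rw [Subgroup.mem_centralizer_singleton_iff]
      have h1 : g * c * g⁻¹ ∈ Subgroup.centralizer ({y} : Set G) ↔ c ∈ S := by
        rw [hg, Subgroup.mem_pointwise_smul_iff_inv_smul_mem, Cfsg.Agent.S4262.conj_inv_smul']
        have e : g⁻¹ * (g * c * g⁻¹) * g = c := by group
        rw [e]
      rw [← h1, Subgroup.mem_centralizer_singleton_iff]
      constructor
      · intro hc
        have e : g * c * g⁻¹ * y = g * (c * (g⁻¹ * y * g)) * g⁻¹ := by group
        rw [e, hc]; group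
      · intro hc
        have e : c * (g⁻¹ * y * g) = g⁻¹ * (g * c * g⁻¹ * y) * g := by group
        rw [e, hc]; group
  have hkey := count_lemma N S hNS A hAS (fun a ha => ((hAmem a).mp ha).1) hAc hcov
  have hcent : ∀ y ∈ S, y ∉ N → ∀ v ∈ S, v * y = y * v := by
    intro y hyS hyN v hv
    have := ((hAmem y).mp (hkey y hyS hyN)).2
    rw [← this] at hv
    exact Subgroup.mem_centralizer_singleton_iff.mp hv
  have hab : ∀ u ∈ S, ∀ v ∈ S, u * v = v * u := by
    intro u hu v hv
    by_cases huN : u ∈ N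
    · have hxu : x * u ∉ N := fun hmem => hx ((Subgroup.mul_mem_cancel_right N huN).mp hmem)
      have h1 := hcent (x * u) (S.mul_mem hxS hu) hxu v hv
      have h2 := hcent x hxS hx v hv
      have : x * (u * v) = x * (v * u) := by
        calc x * (u * v) = (x * u) * v := (mul_assoc _ _ _).symm
          _ = v * (x * u) := h1.symm
          _ = (v * x) * u := (mul_assoc _ _ _).symm
          _ = (x * v) * u := by rw [h2]
          _ = x * (v * u) := mul_assoc _ _ _
      exact mul_left_cancel this
    · exact (hcent u hu huN v hv).symm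
  have hGsol : Group.IsSolvable G := herstein _ G rfl S hScoat hab
  infer_instance

end Cfsg.Agent.S3903
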