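import Cfsg.Statements.S3904
import Mathlib
import Cfsg.Agent.S4262
import Cfsg.Agent.Lib.helper8.CoprimeAction
import Cfsg.Agent.Lib.helper20.PiClosed

set_option autoImplicit false
open Cfsg

namespace Cfsg.Agent.S3904

open scoped Pointwise

open Cfsg.Agent.S4262 (CM coatom_eq cm_quot coat_of_ne_one caseB1 caseP caseB2)

universe u

/-- Commutators lie in a normal maximal subgroup. -/
theorem comm_mem_of_normal_coatom {G : Type*} [Group G] (M : Subgroup G) [hMn : M.Normal]
    (hM : IsCoatom M) (a b : G) : a * b * a⁻¹ * b⁻¹ ∈ M := by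
  by_cases ha : a ∈ M
  · have h1 : b * a⁻¹ * b⁻¹ ∈ M := hMn.conj_mem _ (M.inv_mem ha) b
    have e : a * b * a⁻¹ * b⁻¹ = a * (b * a⁻¹ * b⁻¹) := by group
    rw [e]
    exact M.mul_mem ha h1
  · have htop : M ⊔ Subgroup.zpowers a = ⊤ := by
      apply hM.2
      refine lt_of_le_of_ne le_sup_left (fun heq => ha ?_)
      rw [heq]
      exact Subgroup.mem_sup_right (Subgroup.mem_zpowers a)
    have hb : b ∈ M ⊔ Subgroup.zpowers a := by rw [htop]; trivial
    have hn : Subgroup.zpowers a ≤ Subgroup.normalizer (M : Set G) := by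
      rw [Subgroup.normalizer_eq_top]; exact le_top
    obtain ⟨m, hm, w, hw, rfl⟩ :=
      (Cfsg.Agent.Lib.helper8.mem_sup_iff_of_le_normalizer hn b).mp hb
    obtain ⟨i, rfl⟩ := Subgroup.mem_zpowers_iff.mp hw
    have e : a * (m * a ^ i) * a⁻¹ * (m * a ^ i)⁻¹ = (a * m * a⁻¹) * m⁻¹ := by group
    rw [e]
    exact M.mul_mem (hMn.conj_mem _ hm a) (M.inv_mem hm)

/-- A commutative group in which all non-identity elements have prime order has prime
exponent. -/
theorem exp_prime_of_comm {A : Type*} [Group A] (hc : ∀ a b : A, a * b = b * a)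
    (hne : ∃ a : A, a ≠ 1) (hp : ∀ a : A, a ≠ 1 → (orderOf a).Prime) :
    ∃ p : ℕ, p.Prime ∧ ∀ a : A, a ^ p = 1 := by
  obtain ⟨a₀, ha₀⟩ := hne
  refine ⟨orderOf a₀, hp a₀ ha₀, ?_⟩
  intro a
  by_cases ha : a = 1
  · rw [ha, one_pow]
  by_cases hq : orderOf a = orderOf a₀
  · rw [← hq]; exact pow_orderOf_eq_one a
  exfalso
  have hcop : (orderOf a₀).Coprime (orderOf a) :=
    (Nat.coprime_primes (hp a₀ ha₀) (hp a ha)).mpr (fun h => hq h.symm)
  have hcomm : Commute a₀ a := hc a₀ a
  have hord := hcomm.orderOf_mul_eq_mul_orderOf_of_coprime hcop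
  have hne1 : a₀ * a ≠ 1 := by
    intro h1
    rw [h1, orderOf_one] at hord
    have h2 := (hp a₀ ha₀).two_le
    have h3 := (hp a ha).two_le
    nlinarith
  have hprime := hp _ hne1
  rw [hord] at hprime
  exact Nat.not_prime_mul (hp a₀ ha₀).ne_one (hp a ha).ne_one hprime

/-- In a CM-group of class two, every element has a prime power in the centre. -/
theorem class2_pow {G : Type u} [Group G] [Finite G] (hG : CM G)
    (hab : ∀ a b : G, a * b * a⁻¹ * b⁻¹ ∈ Subgroup.center G) (x : G)
    (hx : x ∉ Subgroup.center G) : ∃ p : ℕ, p.Prime ∧ x ^ p ∈ Subgroup.center G := by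
  obtain ⟨g₀, hg₀⟩ : ∃ g₀ : G, g₀ * x ≠ x * g₀ := by
    by_contra hall
    push Not at hall
    exact hx (Subgroup.mem_center_iff.mpr hall)
  obtain ⟨c, hcdef⟩ : ∃ c : G, c = x * g₀ * x⁻¹ * g₀⁻¹ := ⟨_, rfl⟩
  have hcZ : c ∈ Subgroup.center G := by rw [hcdef]; exact hab x g₀
  have hcc : ∀ g : G, g * c = c * g := Subgroup.mem_center_iff.mp hcZ
  have hc1 : c ≠ 1 := by
    intro h1
    apply hg₀
    have h0 : x * g₀ * x⁻¹ * g₀⁻¹ = 1 := by rw [← hcdef]; exact h1
    have h2 : x * g₀ * x⁻¹ = g₀ := mul_inv_eq_one.mp h0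
    have h3 : x * g₀ = g₀ * x := mul_inv_eq_iff_eq_mul.mp h2
    exact h3.symm
  have hxg : x * g₀ = c * g₀ * x := by rw [hcdef]; group
  have hpow1 : ∀ n : ℕ, x * g₀ ^ n = c ^ n * g₀ ^ n * x := by
    intro n
    induction n with
    | zero => simp
    | succ n ih =>
      calc x * g₀ ^ (n + 1) = (x * g₀ ^ n) * g₀ := by rw [pow_succ, mul_assoc]
        _ = c ^ n * g₀ ^ n * (x * g₀) := by rw [ih]; group
        _ = c ^ n * g₀ ^ n * (c * g₀ * x) := by rw [hxg]
        _ = c ^ n * (g₀ ^ n * c) * g₀ * x := by group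
        _ = c ^ n * (c * g₀ ^ n) * g₀ * x := by rw [hcc (g₀ ^ n)]
        _ = c ^ (n + 1) * g₀ ^ (n + 1) * x := by rw [pow_succ, pow_succ]; group
  have hgen : ∀ (g e : G), (∀ w : G, w * e = e * w) → x * g = e * g * x →
      ∀ n : ℕ, x ^ n * g = e ^ n * g * x ^ n := by
    intro g e he hxe n
    induction n with
    | zero => simp
    | succ n ih =>
      calc x ^ (n + 1) * g = x * (x ^ n * g) := by rw [pow_succ']; group
        _ = x * (e ^ n * g * x ^ n) := by rw [ih]
        _ = (x * e ^ n) * g * x ^ n := by group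
        _ = (e ^ n * x) * g * x ^ n := by
          have : x * e ^ n = e ^ n * x := by
            have hcm : Commute x e := he x
            exact (hcm.pow_right n).eq
          rw [this]
        _ = e ^ n * (x * g) * x ^ n := by group
        _ = e ^ n * (e * g * x) * x ^ n := by rw [hxe]
        _ = e ^ (n + 1) * g * x ^ (n + 1) := by rw [pow_succ, pow_succ']; group
  obtain ⟨n₀, hn₀⟩ : ∃ n₀ : ℕ, n₀ = orderOf c := ⟨_, rfl⟩
  have hn₀pos : 0 < n₀ := by rw [hn₀]; exact orderOf_pos c
  have hn₀1 : n₀ ≠ 1 := by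
    rw [hn₀]
    intro h
    exact hc1 (orderOf_eq_one_iff.mp h)
  obtain ⟨p, hpdef⟩ : ∃ p : ℕ, p = n₀.minFac := ⟨_, rfl⟩
  have hpp : p.Prime := by rw [hpdef]; exact Nat.minFac_prime hn₀1
  have hpd : p ∣ n₀ := by rw [hpdef]; exact Nat.minFac_dvd n₀
  obtain ⟨k, hk⟩ := hpd
  have hkpos : 0 < k := by
    rcases Nat.eq_zero_or_pos k with h0 | h0
    · rw [h0, mul_zero] at hk; omega
    · exact h0
  have hklt : k < n₀ := by
    rw [hk]
    have := hpp.two_le
    nlinarith
  refine ⟨p, hpp, ?_⟩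
  by_contra hxp
  obtain ⟨g₂, hg₂def⟩ : ∃ g₂ : G, g₂ = g₀ ^ k := ⟨_, rfl⟩
  have h1 : x * g₂ = c ^ k * g₂ * x := by rw [hg₂def]; exact hpow1 k
  have hck1 : c ^ k ≠ 1 := by
    apply pow_ne_one_of_lt_orderOf hkpos.ne'
    rw [← hn₀]; exact hklt
  have hckc : ∀ w : G, w * c ^ k = c ^ k * w := by
    intro w
    have hcm : Commute w c := hcc w
    exact (hcm.pow_right k).eq
  have h2 := hgen g₂ (c ^ k) hckc h1 p
  have h3 : (c ^ k) ^ p = 1 := by
    rw [← pow_mul, mul_comm, ← hk, hn₀]
    exact pow_orderOf_eq_one c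
  rw [h3, one_mul] at h2
  -- g₂ commutes with x ^ p but not with x
  have hCx := hG x hx
  have hCxp := hG (x ^ p) hxp
  have hle : Subgroup.centralizer ({x} : Set G) ≤ Subgroup.centralizer ({x ^ p} : Set G) := by
    intro w hw
    rw [Subgroup.mem_centralizer_singleton_iff] at hw ⊢
    have hcm : Commute w x := hw
    exact (hcm.pow_right p).eq
  have heq := coatom_eq hCx hle hCxp.1
  have hg₂mem : g₂ ∈ Subgroup.centralizer ({x ^ p} : Set G) := by
    rw [Subgroup.mem_centralizer_singleton_iff]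
    exact h2.symm
  rw [← heq, Subgroup.mem_centralizer_singleton_iff] at hg₂mem
  apply hck1
  -- x * g₂ = c^k * g₂ * x and g₂ * x = x * g₂
  have h4 : c ^ k * (g₂ * x) = 1 * (g₂ * x) := by
    rw [one_mul, ← mul_assoc, ← h1, hg₂mem]
  exact mul_right_cancel h4

/-- Claim C: a CM-group whose central quotient has nontrivial centre has class two. -/
theorem claimC {G : Type u} [Group G] [Finite G] (hG : CM G) (x₀ : G)
    (hx₀ : x₀ ∉ Subgroup.center G)
    (hx₀' : ∀ g : G, x₀ * g * x₀⁻¹ * g⁻¹ ∈ Subgroup.center G) :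
    ∀ a b : G, a * b * a⁻¹ * b⁻¹ ∈ Subgroup.center G := by
  intro a b
  -- elements not commuting with x₀ have normal centralizers
  have hnorm : ∀ g : G, g * x₀ ≠ x₀ * g → (a * b * a⁻¹ * b⁻¹) * g = g * (a * b * a⁻¹ * b⁻¹) := by
    intro g hg
    have hgZ : g ∉ Subgroup.center G := by
      intro hmem
      exact hg ((Subgroup.mem_center_iff.mp hmem x₀).symm)
    have hco := hG g hgZ
    obtain ⟨M, hMdef⟩ : ∃ M : Subgroup G, M = Subgroup.centralizer ({g} : Set G) := ⟨_, rfl⟩
    rw [← hMdef] at hco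
    have hZM : ∀ z ∈ Subgroup.center G, z ∈ M := by
      intro z hz
      rw [hMdef, Subgroup.mem_centralizer_singleton_iff]
      exact (Subgroup.mem_center_iff.mp hz g).symm
    have hx₀M : x₀ ∉ M := by
      rw [hMdef, Subgroup.mem_centralizer_singleton_iff]
      exact fun h => hg h.symm
    have hx₀N : x₀ ∈ Subgroup.normalizer (M : Set G) := by
      rw [Subgroup.mem_normalizer_iff]
      intro m
      constructor
      · intro hm
        have e : x₀ * m * x₀⁻¹ = (x₀ * m * x₀⁻¹ * m⁻¹) * m := by group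
        rw [e]
        exact M.mul_mem (hZM _ (hx₀' m)) hm
      · intro hm
        have e : m = (x₀ * m * x₀⁻¹ * m⁻¹)⁻¹ * (x₀ * m * x₀⁻¹) := by group
        rw [e]
        exact M.mul_mem (M.inv_mem (hZM _ (hx₀' m))) hm
    have hNtop : Subgroup.normalizer (M : Set G) = ⊤ := by
      apply hco.2
      exact lt_of_le_of_ne Subgroup.le_normalizer (fun heq => hx₀M (heq ▸ hx₀N))
    haveI hMn : M.Normal := Subgroup.normalizer_eq_top_iff.mp hNtop
    have hmem := comm_mem_of_normal_coatom M hco a b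
    rw [hMdef, Subgroup.mem_centralizer_singleton_iff] at hmem
    exact hmem
  rw [Subgroup.mem_center_iff]
  intro g
  by_cases hg : g * x₀ = x₀ * g
  · obtain ⟨g₀, hg₀⟩ : ∃ g₀ : G, g₀ * x₀ ≠ x₀ * g₀ := by
      by_contra hall
      push Not at hall
      exact hx₀ (Subgroup.mem_center_iff.mpr hall)
    have hg₀g : g₀ * g * x₀ ≠ x₀ * (g₀ * g) := by
      intro h
      apply hg₀
      have h1 : g₀ * x₀ * g = x₀ * g₀ * g := by
        calc g₀ * x₀ * g = g₀ * (x₀ * g) := by group
          _ = g₀ * (g * x₀) := by rw [hg]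
          _ = g₀ * g * x₀ := by group
          _ = x₀ * (g₀ * g) := h
          _ = x₀ * g₀ * g := by group
      exact mul_right_cancel h1
    have h1 := hnorm g₀ hg₀
    have h2 := hnorm (g₀ * g) hg₀g
    -- c * (g₀ g) = (g₀ g) * c, c * g₀ = g₀ * c ⟹ g * c = c * g
    obtain ⟨c, hc⟩ : ∃ c : G, c = a * b * a⁻¹ * b⁻¹ := ⟨_, rfl⟩
    rw [← hc] at h1 h2 ⊢
    have h3 : g₀ * (g * c) = g₀ * (c * g) := by
      calc g₀ * (g * c) = g₀ * g * c := by group
        _ = c * (g₀ * g) := h2.symm
        _ = (c * g₀) * g := by group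
        _ = (g₀ * c) * g := by rw [h1]
        _ = g₀ * (c * g) := by group
    exact mul_left_cancel h3
  · exact (hnorm g hg).symm

/-- The structure of a centerless CM-group. -/
theorem T0 {G : Type u} [Group G] [Finite G] (hG : CM G) (hZ : Subgroup.center G = ⊥)
    (hnt : ∃ x : G, x ≠ 1) :
    ¬ IsMulCommutative G ∧ (∀ H : Subgroup G, H ≠ ⊤ → IsMulCommutative ↥H) ∧
      ∃ p q a : ℕ, p.Prime ∧ q.Prime ∧ p ≠ q ∧ Nat.card G = p ^ a * q ∧
        ∀ P : Subgroup G, Nat.card ↥P = p ^ a → P.Normal := by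
  classical
  have hcoat := coat_of_ne_one hG hZ
  have hA : ∃ k : G, k ≠ 1 ∧ (Subgroup.centralizer ({k} : Set G)).Normal := by
    by_contra hA
    push Not at hA
    obtain ⟨x, hx⟩ := hnt
    have hnab : ∀ z : G, z ≠ 1 → ¬ ∀ u ∈ Subgroup.centralizer ({z} : Set G),
        ∀ v ∈ Subgroup.centralizer ({z} : Set G), u * v = v * u := by
      intro z hz hab
      obtain ⟨k, hk1, hkn⟩ := caseB1 hG hZ z hz hab
      exact hA k hk1 hkn
    have hP := fun z hz => caseP hG hZ z hz (hnab z hz)
    exact caseB2 hG hZ hA hP hnab x hx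
  obtain ⟨x, hx, hn⟩ := hA
  obtain ⟨M, hMdef⟩ : ∃ M : Subgroup G, M = Subgroup.centralizer ({x} : Set G) := ⟨_, rfl⟩
  have hMmem : ∀ g : G, g ∈ M ↔ g * x = x * g := by
    intro g
    rw [hMdef, Subgroup.mem_centralizer_singleton_iff]
  have hMco : IsCoatom M := by rw [hMdef]; exact hcoat x hx
  haveI hMn : M.Normal := by rw [hMdef]; exact hn
  have hxM : x ∈ M := (hMmem x).mpr rfl
  obtain ⟨A, hAdef⟩ : ∃ A : Subgroup G, A = M ⊓ Subgroup.centralizer (M : Set G) := ⟨_, rfl⟩
  have hAmem : ∀ a : G, a ∈ A ↔ a ∈ M ∧ ∀ m ∈ M, m * a = a * m := by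
    intro a
    rw [hAdef, Subgroup.mem_inf, Subgroup.mem_centralizer_iff]
    rfl
  haveI hAn : A.Normal := by
    rw [hAdef]
    infer_instance
  have hxA : x ∈ A := (hAmem x).mpr ⟨hxM, fun m hm => (hMmem m).mp hm⟩
  have hAcent : ∀ a ∈ A, a ≠ 1 → Subgroup.centralizer ({a} : Set G) = M := by
    intro a ha ha1
    have hle : M ≤ Subgroup.centralizer ({a} : Set G) := by
      intro m hm
      rw [Subgroup.mem_centralizer_singleton_iff]
      exact ((hAmem a).mp ha).2 m hm
    exact (coatom_eq hMco hle (hcoat a ha1).1).symm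
  -- facts about elements outside `M`
  have aux : ∀ y : G, y ∉ M → A ⊓ Subgroup.centralizer ({y} : Set G) = ⊥ ∧
      (∀ g : G, ∃ a ∈ A, ∃ m ∈ Subgroup.centralizer ({y} : Set G), g = a * m) ∧
      (∀ g : G, ∃ m ∈ M, ∃ i : ℤ, g = m * y ^ i) := by
    intro y hy
    have hy1 : y ≠ 1 := fun h => hy (h ▸ one_mem M)
    obtain ⟨My, hMydef⟩ : ∃ My : Subgroup G, My = Subgroup.centralizer ({y} : Set G) := ⟨_, rfl⟩
    rw [← hMydef]
    have hMymem : ∀ g : G, g ∈ My ↔ g * y = y * g := by
      intro g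
      rw [hMydef, Subgroup.mem_centralizer_singleton_iff]
    have hMyco : IsCoatom My := by rw [hMydef]; exact hcoat y hy1
    have hAMy : A ⊓ My = ⊥ := by
      rw [eq_bot_iff]
      rintro a ⟨haA, haMy⟩
      rw [Subgroup.mem_bot]
      by_contra ha1
      apply hy
      rw [← hAcent a haA ha1, Subgroup.mem_centralizer_singleton_iff]
      exact ((hMymem a).mp haMy).symm
    have hAMytop : A ⊔ My = ⊤ := by
      apply hMyco.2
      refine lt_of_le_of_ne le_sup_right ?_
      intro heq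
      have hxMy : x ∈ My := by rw [heq]; exact Subgroup.mem_sup_left hxA
      have : x ∈ A ⊓ My := ⟨hxA, hxMy⟩
      rw [hAMy, Subgroup.mem_bot] at this
      exact hx this
    have hMytop' : M ⊔ Subgroup.zpowers y = ⊤ := by
      apply hMco.2
      refine lt_of_le_of_ne le_sup_left ?_
      intro heq
      apply hy
      rw [heq]
      exact Subgroup.mem_sup_right (Subgroup.mem_zpowers y)
    refine ⟨hAMy, ?_, ?_⟩
    · intro g
      have hg : g ∈ A ⊔ My := by rw [hAMytop]; trivial
      have hnA : My ≤ Subgroup.normalizer (A : Set G) := by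
        rw [Subgroup.normalizer_eq_top]; exact le_top
      exact (Cfsg.Agent.Lib.helper8.mem_sup_iff_of_le_normalizer hnA g).mp hg
    · intro g
      have hg : g ∈ M ⊔ Subgroup.zpowers y := by rw [hMytop']; trivial
      have hnM : Subgroup.zpowers y ≤ Subgroup.normalizer (M : Set G) := by
        rw [Subgroup.normalizer_eq_top]; exact le_top
      obtain ⟨m, hm, w, hw, rfl⟩ :=
        (Cfsg.Agent.Lib.helper8.mem_sup_iff_of_le_normalizer hnM g).mp hg
      obtain ⟨i, rfl⟩ := Subgroup.mem_zpowers_iff.mp hw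
      exact ⟨m, hm, i, rfl⟩
  -- the key fact: elements outside `M` have no fixed points in `M`
  have key : ∀ y : G, y ∉ M → M ⊓ Subgroup.centralizer ({y} : Set G) = ⊥ := by
    intro y hy
    obtain ⟨hAMy, hdecA, -⟩ := aux y hy
    obtain ⟨My, hMydef⟩ : ∃ My : Subgroup G, My = Subgroup.centralizer ({y} : Set G) := ⟨_, rfl⟩
    rw [← hMydef] at hAMy hdecA ⊢
    rw [eq_bot_iff]
    rintro d ⟨hdM, hdMy⟩
    rw [Subgroup.mem_bot]
    by_contra hd1
    have hdx1 : d * x ≠ 1 := by
      intro h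
      have hdA : d ∈ A := by
        have : d = x⁻¹ := eq_inv_of_mul_eq_one_left h
        rw [this]; exact A.inv_mem hxA
      have : d ∈ A ⊓ My := ⟨hdA, hdMy⟩
      rw [hAMy, Subgroup.mem_bot] at this
      exact hd1 this
    have hco := hcoat (d * x) hdx1
    have hle : Subgroup.centralizer ({d * x} : Set G) ≤ M := by
      intro c hc
      rw [Subgroup.mem_centralizer_singleton_iff] at hc
      obtain ⟨a, ha, m, hm, rfl⟩ := hdecA c
      have haM : a ∈ M := ((hAmem a).mp ha).1
      have had : d * a = a * d := ((hAmem a).mp ha).2 d hdM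
      have hax : x * a = a * x := ((hAmem a).mp ha).2 x hxM
      have hm' : m * (d * x) = (d * x) * m := by
        have h1 : a * (m * (d * x)) = a * ((d * x) * m) := by
          calc a * (m * (d * x)) = a * m * (d * x) := by group
            _ = d * x * (a * m) := hc
            _ = d * (x * a) * m := by group
            _ = d * (a * x) * m := by rw [hax]
            _ = (d * a) * x * m := by group
            _ = (a * d) * x * m := by rw [had]
            _ = a * ((d * x) * m) := by group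
        exact mul_left_cancel h1
      have h2 : m * d * m⁻¹ ∈ My := My.mul_mem (My.mul_mem hm hdMy) (My.inv_mem hm)
      have h3 : m * x * m⁻¹ ∈ A := hAn.conj_mem x hxA m
      have h4 : d⁻¹ * (m * d * m⁻¹) = x * (m * x * m⁻¹)⁻¹ := by
        have hprod : (m * d * m⁻¹) * (m * x * m⁻¹) = d * x := by
          have e : (m * d * m⁻¹) * (m * x * m⁻¹) = m * (d * x) * m⁻¹ := by group
          rw [e, hm']; group
        calc d⁻¹ * (m * d * m⁻¹)
            = d⁻¹ * ((m * d * m⁻¹) * (m * x * m⁻¹)) * (m * x * m⁻¹)⁻¹ := by group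
          _ = d⁻¹ * (d * x) * (m * x * m⁻¹)⁻¹ := by rw [hprod]
          _ = x * (m * x * m⁻¹)⁻¹ := by group
      have h5 : x * (m * x * m⁻¹)⁻¹ ∈ A ⊓ My := by
        refine ⟨A.mul_mem hxA (A.inv_mem h3), ?_⟩
        rw [← h4]
        exact My.mul_mem (My.inv_mem hdMy) h2
      rw [hAMy, Subgroup.mem_bot] at h5
      have h6 : m * x = x * m := by
        have hxeq : x = m * x * m⁻¹ := mul_inv_eq_one.mp h5
        calc m * x = (m * x * m⁻¹) * m := by group
          _ = x * m := by rw [← hxeq]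
      exact M.mul_mem haM ((hMmem m).mpr h6)
    have hne : Subgroup.centralizer ({d * x} : Set G) ≠ M := by
      intro heq
      have hdxA : d * x ∈ A := by
        rw [hAmem]
        refine ⟨M.mul_mem hdM hxM, fun m hm => ?_⟩
        have : m ∈ Subgroup.centralizer ({d * x} : Set G) := by rw [heq]; exact hm
        exact Subgroup.mem_centralizer_singleton_iff.mp this
      have hdA : d ∈ A := by
        have := A.mul_mem hdxA (A.inv_mem hxA)
        rwa [mul_inv_cancel_right] at this
      have : d ∈ A ⊓ My := ⟨hdA, hdMy⟩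
      rw [hAMy, Subgroup.mem_bot] at this
      exact hd1 this
    exact hMco.1 (hco.2 M (lt_of_le_of_ne hle hne))
  -- pick an element outside `M`
  obtain ⟨y₀, hy₀⟩ : ∃ y : G, y ∉ M := by
    by_contra hall
    push Not at hall
    exact hMco.1 (eq_top_iff.mpr (fun g _ => hall g))
  -- `M` is abelian
  have hMA : ∀ m ∈ M, m ∈ A := by
    intro m hm
    obtain ⟨-, hdecA, -⟩ := aux y₀ hy₀
    obtain ⟨a, ha, m', hm', rfl⟩ := hdecA m
    have haM : a ∈ M := ((hAmem a).mp ha).1
    have hm'M : m' ∈ M := by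
      have := M.mul_mem (M.inv_mem haM) hm
      rwa [inv_mul_cancel_left] at this
    have : m' ∈ M ⊓ Subgroup.centralizer ({y₀} : Set G) := ⟨hm'M, hm'⟩
    rw [key y₀ hy₀, Subgroup.mem_bot] at this
    rw [this, mul_one]
    exact ha
  have hMab : ∀ u ∈ M, ∀ v ∈ M, u * v = v * u := by
    intro u hu v hv
    exact (((hAmem u).mp (hMA u hu)).2 v hv).symm
  -- centralizers of outside elements are cyclic
  have hcyc : ∀ y : G, y ∉ M → ∀ c ∈ Subgroup.centralizer ({y} : Set G), c ∈ Subgroup.zpowers y := by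
    intro y hy c hc
    obtain ⟨-, -, hdecM⟩ := aux y hy
    obtain ⟨m, hm, i, rfl⟩ := hdecM c
    have hyi : y ^ i ∈ Subgroup.centralizer ({y} : Set G) := by
      rw [Subgroup.mem_centralizer_singleton_iff]
      exact ((Commute.refl y).zpow_left i).eq
    have hmC : m ∈ Subgroup.centralizer ({y} : Set G) := by
      have := Subgroup.mul_mem _ hc (Subgroup.inv_mem _ hyi)
      rwa [mul_inv_cancel_right] at this
    have : m ∈ M ⊓ Subgroup.centralizer ({y} : Set G) := ⟨hm, hmC⟩
    rw [key y hy, Subgroup.mem_bot] at this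
    rw [this, one_mul]
    exact Subgroup.mem_zpowers_iff.mpr ⟨i, rfl⟩
  -- minimality of `M`
  have hmin : ∀ L : Subgroup G, L ≤ M → L.Normal → L = ⊥ ∨ M ≤ L := by
    intro L hLM hLn
    haveI := hLn
    have hy1 : y₀ ≠ 1 := fun h => hy₀ (h ▸ one_mem M)
    have hQco := hcoat y₀ hy1
    by_cases hLQ : L ≤ Subgroup.centralizer ({y₀} : Set G)
    · left
      rw [eq_bot_iff]
      intro l hl
      have : l ∈ M ⊓ Subgroup.centralizer ({y₀} : Set G) := ⟨hLM hl, hLQ hl⟩
      rw [key y₀ hy₀] at this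
      exact this
    · right
      have htop : L ⊔ Subgroup.centralizer ({y₀} : Set G) = ⊤ := by
        apply hQco.2
        refine lt_of_le_of_ne le_sup_right (fun heq => hLQ ?_)
        rw [heq]
        exact le_sup_left
      intro m hm
      have hmem : m ∈ L ⊔ Subgroup.centralizer ({y₀} : Set G) := by rw [htop]; trivial
      have hnL : Subgroup.centralizer ({y₀} : Set G) ≤ Subgroup.normalizer (L : Set G) := by
        rw [Subgroup.normalizer_eq_top]; exact le_top
      obtain ⟨l, hl, c, hc, rfl⟩ :=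
        (Cfsg.Agent.Lib.helper8.mem_sup_iff_of_le_normalizer hnL m).mp hmem
      have hcM : c ∈ M := by
        have := M.mul_mem (M.inv_mem (hLM hl)) hm
        rwa [inv_mul_cancel_left] at this
      have : c ∈ M ⊓ Subgroup.centralizer ({y₀} : Set G) := ⟨hcM, hc⟩
      rw [key y₀ hy₀, Subgroup.mem_bot] at this
      rw [this, mul_one]
      exact hl
  -- an element of prime order outside `M`
  obtain ⟨y, q, hyM, hq, hyq⟩ : ∃ (y : G) (q : ℕ), y ∉ M ∧ q.Prime ∧ orderOf y = q := by
    have hy1 : y₀ ≠ 1 := fun h => hy₀ (h ▸ one_mem M)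
    obtain ⟨n, hn⟩ : ∃ n : ℕ, n = orderOf y₀ := ⟨_, rfl⟩
    have hnpos : 0 < n := by rw [hn]; exact orderOf_pos y₀
    have hn1 : n ≠ 1 := by
      rw [hn]
      intro h
      exact hy1 (orderOf_eq_one_iff.mp h)
    have hqp : n.minFac.Prime := Nat.minFac_prime hn1
    obtain ⟨k, hk⟩ := Nat.minFac_dvd n
    have hkpos : 0 < k := by
      rcases Nat.eq_zero_or_pos k with h0 | h0
      · rw [h0, mul_zero] at hk; omega
      · exact h0
    have hord : orderOf (y₀ ^ k) = n.minFac := by
      rw [orderOf_pow_of_dvd hkpos.ne' (by rw [← hn, hk]; exact dvd_mul_left _ _), ← hn]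
      conv_lhs => rw [hk]
      exact Nat.mul_div_cancel _ hkpos
    refine ⟨y₀ ^ k, n.minFac, ?_, hqp, hord⟩
    intro hmem
    have hc : y₀ ^ k ∈ Subgroup.centralizer ({y₀} : Set G) := by
      rw [Subgroup.mem_centralizer_singleton_iff]
      exact ((Commute.refl y₀).pow_left k).eq
    have : y₀ ^ k ∈ M ⊓ Subgroup.centralizer ({y₀} : Set G) := ⟨hmem, hc⟩
    rw [key y₀ hy₀, Subgroup.mem_bot] at this
    rw [this, orderOf_one] at hord
    exact hqp.ne_one hord.symm
  -- index of `M`
  have hMQ : M ⊓ Subgroup.zpowers y = ⊥ := by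
    rw [eq_bot_iff]
    intro g hg
    have hgc : g ∈ Subgroup.centralizer ({y} : Set G) := by
      obtain ⟨i, rfl⟩ := Subgroup.mem_zpowers_iff.mp hg.2
      rw [Subgroup.mem_centralizer_singleton_iff]
      exact ((Commute.refl y).zpow_left i).eq
    have : g ∈ M ⊓ Subgroup.centralizer ({y} : Set G) := ⟨hg.1, hgc⟩
    rw [key y hyM] at this
    exact this
  have hMtop : M ⊔ Subgroup.zpowers y = ⊤ := by
    apply hMco.2
    refine lt_of_le_of_ne le_sup_left ?_
    intro heq
    apply hyM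
    rw [heq]
    exact Subgroup.mem_sup_right (Subgroup.mem_zpowers y)
  have hidx : M.index = q := by
    have h1 : M.relIndex (M ⊔ Subgroup.zpowers y) = M.relIndex (Subgroup.zpowers y) :=
      Subgroup.relIndex_sup_left (H := Subgroup.zpowers y) (K := M)
    rw [hMtop, Subgroup.relIndex_top_right] at h1
    rw [h1, ← Subgroup.inf_relIndex_right, hMQ, Subgroup.relIndex_bot_left, Nat.card_zpowers, hyq]
  -- `M` has prime exponent
  obtain ⟨p, hp, hMp⟩ : ∃ p : ℕ, p.Prime ∧ ∀ m ∈ M, m ^ p = 1 := by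
    obtain ⟨n, hn⟩ : ∃ n : ℕ, n = orderOf x := ⟨_, rfl⟩
    have hnpos : 0 < n := by rw [hn]; exact orderOf_pos x
    have hn1 : n ≠ 1 := by
      rw [hn]
      intro h
      exact hx (orderOf_eq_one_iff.mp h)
    have hpp : n.minFac.Prime := Nat.minFac_prime hn1
    obtain ⟨k, hk⟩ := Nat.minFac_dvd n
    have hkpos : 0 < k := by
      rcases Nat.eq_zero_or_pos k with h0 | h0
      · rw [h0, mul_zero] at hk; omega
      · exact h0
    have hord : orderOf (x ^ k) = n.minFac := by
      rw [orderOf_pow_of_dvd hkpos.ne' (by rw [← hn, hk]; exact dvd_mul_left _ _), ← hn]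
      conv_lhs => rw [hk]
      exact Nat.mul_div_cancel _ hkpos
    refine ⟨n.minFac, hpp, ?_⟩
    obtain ⟨L, hLdef⟩ : ∃ L : Subgroup G, ∀ g : G, g ∈ L ↔ g ∈ M ∧ g ^ n.minFac = 1 := by
      refine ⟨{ carrier := {g | g ∈ M ∧ g ^ n.minFac = 1}
                mul_mem' := ?_
                one_mem' := ⟨one_mem M, one_pow _⟩
                inv_mem' := ?_ }, fun g => Iff.rfl⟩
      · rintro a b ⟨haM, ha⟩ ⟨hbM, hb⟩
        refine ⟨M.mul_mem haM hbM, ?_⟩
        have hcm : Commute a b := hMab a haM b hbM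
        rw [hcm.mul_pow, ha, hb, one_mul]
      · rintro a ⟨haM, ha⟩
        exact ⟨M.inv_mem haM, by rw [inv_pow, ha, inv_one]⟩
    have hLM : L ≤ M := fun g hg => ((hLdef g).mp hg).1
    have hLn : L.Normal := by
      constructor
      intro l hl g
      rw [hLdef] at hl ⊢
      refine ⟨hMn.conj_mem l hl.1 g, ?_⟩
      rw [conj_pow, hl.2, mul_one, mul_inv_cancel]
    rcases hmin L hLM hLn with hbot | hML
    · exfalso
      have hxk : x ^ k ∈ L := by
        rw [hLdef]
        refine ⟨M.pow_mem hxM k, ?_⟩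
        rw [← hord]
        exact pow_orderOf_eq_one _
      rw [hbot, Subgroup.mem_bot] at hxk
      rw [hxk, orderOf_one] at hord
      exact hpp.ne_one hord.symm
    · intro m hm
      exact ((hLdef m).mp (hML hm)).2
  haveI : Fact p.Prime := ⟨hp⟩
  have hMpg : IsPGroup p M := by
    intro m
    refine ⟨1, ?_⟩
    apply Subtype.ext
    rw [pow_one, Subgroup.coe_pow, hMp m m.2, Subgroup.coe_one]
  obtain ⟨a, ha⟩ := IsPGroup.iff_card.mp hMpg
  have hcard : Nat.card G = p ^ a * q := by
    rw [← Subgroup.card_mul_index M, ha, hidx]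
  have hpq : p ≠ q := by
    intro heq
    have hGp : IsPGroup p G := by
      apply IsPGroup.of_card (n := a + 1)
      rw [hcard, ← heq, pow_succ]
    haveI : Nontrivial G := by
      obtain ⟨x', hx'⟩ := hnt
      exact ⟨⟨x', 1, hx'⟩⟩
    have hcn := hGp.center_nontrivial
    rw [hZ] at hcn
    obtain ⟨⟨u, hu⟩, ⟨v, hv⟩, huv⟩ := hcn
    apply huv
    apply Subtype.ext
    rw [Subgroup.mem_bot] at hu hv
    exact hu.trans hv.symm
  refine ⟨?_, ?_, p, q, a, hp, hq, hpq, hcard, ?_⟩
  · intro hcomm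
    apply hx
    have : x ∈ Subgroup.center G := by
      rw [Subgroup.mem_center_iff]
      intro g
      exact hcomm.is_comm.comm g x
    rw [hZ, Subgroup.mem_bot] at this
    exact this
  · intro H hH
    have hHab : ∀ u ∈ H, ∀ v ∈ H, u * v = v * u := by
      by_cases hHM : H ≤ M
      · intro u hu v hv
        exact hMab u (hHM hu) v (hHM hv)
      · obtain ⟨l₀, hl₀H, hl₀M⟩ := SetLike.not_le_iff_exists.mp hHM
        obtain ⟨-, -, hdecM⟩ := aux l₀ hl₀M
        have hLn : (H ⊓ M).Normal := by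
          constructor
          intro l hl g
          obtain ⟨m, hm, i, rfl⟩ := hdecM g
          have h1 : l₀ ^ i * l * (l₀ ^ i)⁻¹ ∈ H :=
            H.mul_mem (H.mul_mem (H.zpow_mem hl₀H i) hl.1) (H.inv_mem (H.zpow_mem hl₀H i))
          have h2 : l₀ ^ i * l * (l₀ ^ i)⁻¹ ∈ M := hMn.conj_mem l hl.2 _
          have e : m * l₀ ^ i * l * (m * l₀ ^ i)⁻¹ = m * (l₀ ^ i * l * (l₀ ^ i)⁻¹) * m⁻¹ := by
            group
          rw [e, hMab m hm _ h2, mul_inv_cancel_right]
          exact ⟨h1, h2⟩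
        have hHMbot : H ⊓ M = ⊥ := by
          rcases hmin (H ⊓ M) inf_le_right hLn with hbot | hML
          · exact hbot
          · exfalso
            apply hH
            rw [eq_top_iff]
            intro g _
            obtain ⟨m, hm, i, rfl⟩ := hdecM g
            exact H.mul_mem (hML hm).1 (H.zpow_mem hl₀H i)
        intro u hu v hv
        have hc1 : u * v * u⁻¹ * v⁻¹ ∈ H ⊓ M :=
          ⟨H.mul_mem (H.mul_mem (H.mul_mem hu hv) (H.inv_mem hu)) (H.inv_mem hv),
            comm_mem_of_normal_coatom M hMco u v⟩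
        rw [hHMbot, Subgroup.mem_bot] at hc1
        have h2 : u * v * u⁻¹ = v := mul_inv_eq_one.mp hc1
        exact mul_inv_eq_iff_eq_mul.mp h2
    exact ⟨⟨fun u v => Subtype.ext (hHab u u.2 v v.2)⟩⟩
  · intro P hP
    have hPM : P ≤ M := by
      intro u hu
      have h1 : u ^ (p ^ a) ∈ M := by
        have : (⟨u, hu⟩ : P) ^ Nat.card P = 1 := pow_card_eq_one'
        have h2 : u ^ Nat.card P = 1 := by
          have h3 := congrArg Subtype.val this
          rw [Subgroup.coe_pow, Subgroup.coe_one] at h3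
          exact h3
        rw [← hP, h2]
        exact one_mem M
      have h2 : u ^ q ∈ M := by
        rw [← hidx]
        exact Subgroup.pow_index_mem M u
      have hcop : (p ^ a).Coprime q :=
        Nat.Coprime.pow_left a ((Nat.coprime_primes hp hq).mpr hpq)
      exact Cfsg.Agent.Lib.helper20.PiClosed.mem_of_pow_mem_coprime M u hcop h1 h2
    have hPeq : P = M := by
      apply Subgroup.eq_of_le_of_card_ge hPM
      rw [hP, ha]
    rw [hPeq]
    exact hMn

/-- Let G be a non-abelian finite group in which the centralizer of every non-central element is a maximal subgroup. Then G/Z(G) is either an elementary abelian p-group for some prime p, or a minimal non-abelian group (non-abelian with all proper subgroups abelian) of order p^a · q for distinct primes p, q with a normal Sylow p-subgroup. -/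
theorem result {G : Type*} [Group G] [Finite G] (hna : ¬ IsMulCommutative G)
    (h : ∀ x : G, x ∉ Subgroup.center G → IsCoatom (Subgroup.centralizer ({x} : Set G))) :
    (∃ p : ℕ, p.Prime ∧ Cfsg.IsElementaryAbelian p (⊤ : Subgroup (G ⧸ Subgroup.center G))) ∨
    (¬ IsMulCommutative (G ⧸ Subgroup.center G) ∧ (∀ H : Subgroup (G ⧸ Subgroup.center G), H ≠ ⊤ → IsMulCommutative ↥H) ∧
      ∃ p q a : ℕ, p.Prime ∧ q.Prime ∧ p ≠ q ∧ Nat.card (G ⧸ Subgroup.center G) = p ^ a * q ∧
        ∀ P : Subgroup (G ⧸ Subgroup.center G), Nat.card ↥P = p ^ a → P.Normal) := by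
  classical
  have hG : CM G := h
  obtain ⟨xnc, hxnc⟩ : ∃ x : G, x ∉ Subgroup.center G := by
    by_contra hall
    push Not at hall
    exact hna ⟨⟨fun a b => (Subgroup.mem_center_iff.mp (hall b) a)⟩⟩
  have hnt : ∃ xb : G ⧸ Subgroup.center G, xb ≠ 1 :=
    ⟨(xnc : G ⧸ Subgroup.center G), fun h1 => hxnc ((QuotientGroup.eq_one_iff xnc).mp h1)⟩
  by_cases hab : ∀ a b : G, a * b * a⁻¹ * b⁻¹ ∈ Subgroup.center G
  · left
    have hcomm : ∀ u v : G ⧸ Subgroup.center G, u * v = v * u := by
      intro u v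
      obtain ⟨a, rfl⟩ := QuotientGroup.mk'_surjective _ u
      obtain ⟨b, rfl⟩ := QuotientGroup.mk'_surjective _ v
      have h1 : QuotientGroup.mk' (Subgroup.center G) (a * b * a⁻¹ * b⁻¹) = 1 :=
        (QuotientGroup.eq_one_iff _).mpr (hab a b)
      rw [map_mul, map_mul, map_mul, map_inv, map_inv] at h1
      have h2 := mul_inv_eq_one.mp h1
      exact mul_inv_eq_iff_eq_mul.mp h2
    have hprime : ∀ u : G ⧸ Subgroup.center G, u ≠ 1 → (orderOf u).Prime := by
      intro u hu
      obtain ⟨x, rfl⟩ := QuotientGroup.mk'_surjective _ u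
      have hxZ : x ∉ Subgroup.center G := by
        intro hmem
        exact hu ((QuotientGroup.eq_one_iff x).mpr hmem)
      obtain ⟨r, hr, hxr⟩ := class2_pow hG hab x hxZ
      haveI : Fact r.Prime := ⟨hr⟩
      have h1 : (QuotientGroup.mk' (Subgroup.center G) x) ^ r = 1 := by
        rw [← map_pow]
        exact (QuotientGroup.eq_one_iff _).mpr hxr
      rw [orderOf_eq_prime h1 hu]
      exact hr
    obtain ⟨p, hp, hpow⟩ := exp_prime_of_comm hcomm hnt hprime
    refine ⟨p, hp, ⟨⟨fun u v => Subtype.ext (hcomm u.1 v.1)⟩⟩, fun u _ => hpow u⟩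
  · right
    have hQ : CM (G ⧸ Subgroup.center G) := cm_quot hG
    have hZQ : Subgroup.center (G ⧸ Subgroup.center G) = ⊥ := by
      by_contra hne
      apply hab
      obtain ⟨xb, hxb, hxb1⟩ : ∃ xb ∈ Subgroup.center (G ⧸ Subgroup.center G), xb ≠ 1 := by
        by_contra hall
        push Not at hall
        exact hne (eq_bot_iff.mpr (fun g hg => Subgroup.mem_bot.mpr (hall g hg)))
      obtain ⟨x₀, rfl⟩ := QuotientGroup.mk'_surjective _ xb
      have hx₀ : x₀ ∉ Subgroup.center G := by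
        intro hmem
        exact hxb1 ((QuotientGroup.eq_one_iff x₀).mpr hmem)
      have hx₀' : ∀ g : G, x₀ * g * x₀⁻¹ * g⁻¹ ∈ Subgroup.center G := by
        intro g
        have hc : QuotientGroup.mk' (Subgroup.center G) g * QuotientGroup.mk' (Subgroup.center G) x₀
            = QuotientGroup.mk' (Subgroup.center G) x₀ * QuotientGroup.mk' (Subgroup.center G) g :=
          Subgroup.mem_center_iff.mp hxb _
        have h1 : QuotientGroup.mk' (Subgroup.center G) (x₀ * g * x₀⁻¹ * g⁻¹) = 1 := by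
          rw [map_mul, map_mul, map_mul, map_inv, map_inv, ← hc]
          group
        exact (QuotientGroup.eq_one_iff _).mp h1
      exact claimC hG x₀ hx₀ hx₀'
    exact T0 hQ hZQ hnt

end Cfsg.Agent.S3904
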