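import Cfsg.Statements.S3986
import Cfsg.Agent.Lib.helper20.ClassSize

set_option autoImplicit false
open Cfsg

namespace Cfsg.Agent.S3986

open Cfsg.Agent.Lib.helper20

/-- If `p`-elements commute with all `q`-elements (`q ≠ p`), they commute with all `p'`-elements. -/
theorem comm_of_coprime {G : Type*} [Group G] [Finite G] (p : ℕ) [Fact p.Prime]
    (h : ∀ x y : G, (∃ a : ℕ, orderOf x = p ^ a) →
      (∃ q b : ℕ, q.Prime ∧ q ≠ p ∧ orderOf y = q ^ b) → x * y = y * x) :
    ∀ (n : ℕ) (v : G), orderOf v = n → n.Coprime p → ∀ x : G, (∃ a : ℕ, orderOf x = p ^ a) →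
      x * v = v * x := by
  have hp : p.Prime := Fact.out
  intro n
  induction n using Nat.strong_induction_on with
  | _ n ih =>
    intro v hv hcop x hx
    by_cases hv1 : v = 1
    · rw [hv1, mul_one, one_mul]
    have hn1 : orderOf v ≠ 1 := by rwa [Ne, orderOf_eq_one_iff]
    have hq : (orderOf v).minFac.Prime := Nat.minFac_prime hn1
    have hqd : (orderOf v).minFac ∣ orderOf v := Nat.minFac_dvd _
    set q := (orderOf v).minFac with hqdef
    have hqp : q ≠ p := by
      intro hqp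
      rw [hqp, hv] at hqd
      have : p ∣ Nat.gcd n p := Nat.dvd_gcd hqd dvd_rfl
      rw [hcop] at this
      exact hp.one_lt.ne' (Nat.dvd_one.mp this)
    haveI : Fact q.Prime := ⟨hq⟩
    obtain ⟨u', v', hguv, huv, ⟨k, hk⟩, hvcop, hu, hv'⟩ := exists_p_decomp q v
    have hu' : ∃ j : ℕ, orderOf u' = q ^ j := by
      obtain ⟨j, -, hj⟩ := (Nat.dvd_prime_pow hq).mp (orderOf_dvd_of_pow_eq_one hk)
      exact ⟨j, hj⟩
    obtain ⟨j, hj⟩ := hu'
    have h1 : x * u' = u' * x := h x u' hx ⟨q, j, hq, hqp, hj⟩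
    have hdvd : orderOf v' ∣ orderOf v := orderOf_dvd_of_mem_zpowers hv'
    have hlt : orderOf v' < n := by
      rw [← hv]
      apply lt_of_le_of_ne (Nat.le_of_dvd (orderOf_pos v) hdvd)
      intro heq
      rw [heq] at hvcop
      have : q ∣ Nat.gcd (orderOf v) q := Nat.dvd_gcd hqd dvd_rfl
      rw [hvcop] at this
      exact hq.one_lt.ne' (Nat.dvd_one.mp this)
    have h2 : x * v' = v' * x := ih _ hlt v' rfl
      (Nat.Coprime.coprime_dvd_left (hv ▸ hdvd) hcop) x hx
    rw [hguv, ← mul_assoc, h1, mul_assoc, h2, mul_assoc]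

/-- Let p be a prime and G a finite group. Then some Sylow p-subgroup of G is a direct factor of G (it is normal and has a normal complement) if and only if every element of p-power order commutes with every element whose order is a power of a prime other than p. -/
theorem result {G : Type*} [Group G] [Finite G] (p : ℕ) [Fact p.Prime] : (∃ (P : Sylow p G) (K : Subgroup G), (P : Subgroup G).Normal ∧ K.Normal ∧ (P : Subgroup G) ⊓ K = ⊥ ∧ (P : Subgroup G) ⊔ K = ⊤) ↔ ∀ x y : G, (∃ a : ℕ, orderOf x = p ^ a) → (∃ q b : ℕ, q.Prime ∧ q ≠ p ∧ orderOf y = q ^ b) → x * y = y * x := by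
  classical
  have hp : p.Prime := Fact.out
  constructor
  · rintro ⟨P, K, hPn, hKn, hinf, hsup⟩ x y ⟨a, ha⟩ ⟨q, b, hq, hqp, hb⟩
    haveI := hPn
    haveI := hKn
    have hcomm : ∀ c ∈ (P : Subgroup G), ∀ d ∈ K, c * d = d * c := by
      intro c hc d hd
      have h1 : c * d * c⁻¹ * d⁻¹ ∈ (P : Subgroup G) ⊓ K := by
        constructor
        · have e : c * d * c⁻¹ * d⁻¹ = c * (d * c⁻¹ * d⁻¹) := by group
          rw [e]
          exact Subgroup.mul_mem _ hc (hPn.conj_mem _ (Subgroup.inv_mem _ hc) d)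
        · exact Subgroup.mul_mem _ (hKn.conj_mem _ hd c) (Subgroup.inv_mem _ hd)
      rw [hinf, Subgroup.mem_bot] at h1
      have h2 : c * d * c⁻¹ = d := by rwa [mul_inv_eq_one] at h1
      exact mul_inv_eq_iff_eq_mul.mp h2
    -- x ∈ P
    have hxP : x ∈ (P : Subgroup G) := by
      have h1 : IsPGroup p (Subgroup.zpowers x) := IsPGroup.of_card (n := a) (by
        rw [Nat.card_zpowers, ha])
      obtain ⟨Q, hQ⟩ := h1.exists_le_sylow
      haveI := Sylow.unique_of_normal P hPn
      have : Q = P := Subsingleton.elim _ _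
      rw [← this]
      exact hQ (Subgroup.mem_zpowers x)
    -- y ∈ K
    have hyK : y ∈ K := by
      have hy : y ∈ (P : Subgroup G) ⊔ K := by rw [hsup]; trivial
      obtain ⟨c, hc, d, hd, hcd⟩ := Subgroup.mem_sup_of_normal_right.mp hy
      have hcd' : Commute c d := hcomm c hc d hd
      have h1 : y ^ (q ^ b) = 1 := by rw [← hb]; exact pow_orderOf_eq_one y
      rw [← hcd, hcd'.mul_pow] at h1
      have h2 : c ^ (q ^ b) ∈ (P : Subgroup G) ⊓ K := by
        refine ⟨Subgroup.pow_mem _ hc _, ?_⟩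
        have : c ^ (q ^ b) = (d ^ (q ^ b))⁻¹ := eq_inv_of_mul_eq_one_left h1
        rw [this]
        exact Subgroup.inv_mem _ (Subgroup.pow_mem _ hd _)
      rw [hinf, Subgroup.mem_bot] at h2
      obtain ⟨k, hk⟩ := P.2 ⟨c, hc⟩
      have hk' : c ^ (p ^ k) = 1 := by simpa using congrArg Subtype.val hk
      have hcop : Nat.Coprime (q ^ b) (p ^ k) :=
        Nat.Coprime.pow b k ((Nat.coprime_primes hq hp).mpr hqp)
      have h3 := pow_gcd_eq_one.mpr ⟨h2, hk'⟩
      rw [hcop, pow_one] at h3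
      rw [← hcd, h3, one_mul]
      exact hd
    exact hcomm x hxP y hyK
  · intro h
    have hcomm := comm_of_coprime p h
    obtain ⟨P⟩ : Nonempty (Sylow p G) := inferInstance
    -- the centralizer of all p-elements
    let C₀ : Subgroup G := Subgroup.centralizer {x : G | ∃ a : ℕ, orderOf x = p ^ a}
    have hC₀mem : ∀ c : G, c ∈ C₀ ↔ ∀ x : G, (∃ a : ℕ, orderOf x = p ^ a) → x * c = c * x := by
      intro c
      exact Subgroup.mem_centralizer_iff
    haveI hC₀n : C₀.Normal := by
      constructor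
      intro c hc g
      rw [hC₀mem] at hc ⊢
      intro x hx
      have hx' : ∃ a : ℕ, orderOf (g⁻¹ * x * g) = p ^ a := by
        obtain ⟨a, ha⟩ := hx
        refine ⟨a, ?_⟩
        rw [← ha]
        have := (MulAut.conj g⁻¹).orderOf_eq x
        rwa [MulAut.conj_apply, inv_inv] at this
      have := hc _ hx'
      calc x * (g * c * g⁻¹) = g * ((g⁻¹ * x * g) * c) * g⁻¹ := by group
        _ = g * (c * (g⁻¹ * x * g)) * g⁻¹ := by rw [this]
        _ = g * c * g⁻¹ * x := by group
    have hC₀P : ∀ c ∈ C₀, ∀ x ∈ (P : Subgroup G), x * c = c * x := by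
      intro c hc x hx
      obtain ⟨k, hk⟩ := (IsPGroup.iff_orderOf.mp P.2) ⟨x, hx⟩
      exact (hC₀mem c).mp hc x ⟨k, by rw [← hk, Subgroup.orderOf_mk]⟩
    -- the quotient by C₀ is a p-group
    have hquot : IsPGroup p (G ⧸ C₀) := by
      intro gb
      obtain ⟨g, rfl⟩ := QuotientGroup.mk_surjective gb
      obtain ⟨u, v, hguv, huv, ⟨k, hk⟩, hvcop, hu, hv⟩ := exists_p_decomp p g
      refine ⟨k, ?_⟩
      have hvC : v ∈ C₀ := (hC₀mem v).mpr (fun x hx => hcomm _ v rfl hvcop x hx)
      have : (QuotientGroup.mk g : G ⧸ C₀) = QuotientGroup.mk u := by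
        rw [hguv, QuotientGroup.mk_mul, (QuotientGroup.eq_one_iff v).mpr hvC, mul_one]
      rw [this, ← QuotientGroup.mk_pow, hk, QuotientGroup.mk_one]
    have hsup : (P : Subgroup G) ⊔ C₀ = ⊤ := by
      rw [← Subgroup.index_eq_one]
      have h1 : ((P : Subgroup G) ⊔ C₀).index ∣ (P : Subgroup G).index :=
        Subgroup.index_dvd_of_le le_sup_left
      have h2 : ((P : Subgroup G) ⊔ C₀).index ∣ C₀.index :=
        Subgroup.index_dvd_of_le le_sup_right
      obtain ⟨m, hm⟩ := IsPGroup.iff_card.mp hquot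
      rw [Subgroup.index_eq_card C₀, hm] at h2
      obtain ⟨j, -, hj⟩ := (Nat.dvd_prime_pow hp).mp h2
      rcases Nat.eq_zero_or_pos j with h0 | h0
      · rw [hj, h0, pow_zero]
      · exfalso
        have : p ∣ (P : Subgroup G).index := by
          refine Dvd.dvd.trans ?_ h1
          rw [hj]; exact dvd_pow_self p h0.ne'
        exact P.not_dvd_index this
    haveI hPn : (P : Subgroup G).Normal := by
      constructor
      intro n hn g
      have hg : g ∈ (P : Subgroup G) ⊔ C₀ := by rw [hsup]; trivial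
      obtain ⟨c, hc, d, hd, hcd⟩ := Subgroup.mem_sup_of_normal_right.mp hg
      have e : g * n * g⁻¹ = c * (d * n * d⁻¹) * c⁻¹ := by rw [← hcd]; group
      rw [e]
      have : d * n * d⁻¹ = n := by
        rw [← hC₀P d hd n hn, mul_inv_cancel_right]
      rw [this]
      exact Subgroup.mul_mem _ (Subgroup.mul_mem _ hc hn) (Subgroup.inv_mem _ hc)
    -- Schur-Zassenhaus
    have hcopP : Nat.Coprime (Nat.card (P : Subgroup G)) (P : Subgroup G).index := by
      obtain ⟨m, hm⟩ := IsPGroup.iff_card.mp P.2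
      rw [hm]
      exact Nat.Coprime.pow_left m ((Nat.Prime.coprime_iff_not_dvd hp).mpr P.not_dvd_index)
    obtain ⟨L, hL⟩ := Subgroup.exists_right_complement'_of_coprime hcopP
    have hLcard : Nat.card L = (P : Subgroup G).index := by
      have h1 := hL.card_mul_card
      have h2 := Subgroup.card_mul_index (P : Subgroup G)
      have h3 : 0 < Nat.card (P : Subgroup G) := Nat.card_pos
      exact Nat.eq_of_mul_eq_mul_left h3 (h1.trans h2.symm)
    have hLP : ∀ l ∈ L, ∀ x ∈ (P : Subgroup G), x * l = l * x := by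
      intro l hl x hx
      obtain ⟨k, hk⟩ := (IsPGroup.iff_orderOf.mp P.2) ⟨x, hx⟩
      refine hcomm _ l rfl ?_ x ⟨k, by rw [← hk, Subgroup.orderOf_mk]⟩
      have hdvd : orderOf l ∣ (P : Subgroup G).index := by
        rw [← hLcard]
        have := orderOf_dvd_natCard (⟨l, hl⟩ : L)
        rwa [Subgroup.orderOf_mk] at this
      exact Nat.Coprime.coprime_dvd_left hdvd
        ((Nat.Prime.coprime_iff_not_dvd hp).mpr P.not_dvd_index).symm
    refine ⟨P, L, hPn, ?_, hL.disjoint.eq_bot, hL.sup_eq_top⟩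
    constructor
    intro n hn g
    have hg : g ∈ (P : Subgroup G) ⊔ L := by rw [hL.sup_eq_top]; trivial
    obtain ⟨c, hc, d, hd, hcd⟩ := Subgroup.mem_sup_of_normal_left.mp hg
    have e : g * n * g⁻¹ = c * (d * n * d⁻¹) * c⁻¹ := by rw [← hcd]; group
    rw [e]
    have hdn : d * n * d⁻¹ ∈ L := Subgroup.mul_mem _ (Subgroup.mul_mem _ hd hn) (Subgroup.inv_mem _ hd)
    have : c * (d * n * d⁻¹) * c⁻¹ = d * n * d⁻¹ := by
      rw [hLP _ hdn c hc, mul_inv_cancel_right]
    rw [this]
    exact hdn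

end Cfsg.Agent.S3986
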