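import Cfsg.Statements.S3939
import Mathlib
import Cfsg.Agent.Lib.helper20.Engel
import Cfsg.Agent.Lib.helper20.ClassSize
import Cfsg.Agent.S3986

set_option autoImplicit false

universe u

open Cfsg

namespace Cfsg.Agent.S3939

open Cfsg.Agent.Lib.helper20

/-- In a finite nilpotent group, a `p`-element and a `q`-element (`q ≠ p`) commute. -/
theorem comm_of_nilpotent {K : Type*} [Group K] [Finite K] [Group.IsNilpotent K] (p q : ℕ)
    [Fact p.Prime] [Fact q.Prime] (hpq : p ≠ q) (x y : K) (hx : ∃ a : ℕ, orderOf x = p ^ a)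
    (hy : ∃ b : ℕ, orderOf y = q ^ b) : x * y = y * x := by
  have hnorm : ∀ (r : ℕ) (_ : Fact r.Prime) (P : Sylow r K), (P : Subgroup K).Normal :=
    (Group.isNilpotent_of_finite_tfae (G := K)).out 0 3 rfl rfl |>.mp inferInstance
  obtain ⟨a, ha⟩ := hx
  obtain ⟨b, hb⟩ := hy
  have hxp : IsPGroup p (Subgroup.zpowers x) :=
    IsPGroup.of_card (n := a) (by rw [Nat.card_zpowers, ha])
  have hyq : IsPGroup q (Subgroup.zpowers y) :=
    IsPGroup.of_card (n := b) (by rw [Nat.card_zpowers, hb])
  obtain ⟨P, hP⟩ := hxp.exists_le_sylow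
  obtain ⟨Q, hQ⟩ := hyq.exists_le_sylow
  have hPn := hnorm p inferInstance P
  have hQn := hnorm q inferInstance Q
  have hxP : x ∈ (P : Subgroup K) := hP (Subgroup.mem_zpowers x)
  have hyQ : y ∈ (Q : Subgroup K) := hQ (Subgroup.mem_zpowers y)
  have h1 : x * y * x⁻¹ * y⁻¹ ∈ (P : Subgroup K) := by
    have e : x * y * x⁻¹ * y⁻¹ = x * (y * x⁻¹ * y⁻¹) := by group
    rw [e]
    exact Subgroup.mul_mem _ hxP (hPn.conj_mem _ (Subgroup.inv_mem _ hxP) y)
  have h2 : x * y * x⁻¹ * y⁻¹ ∈ (Q : Subgroup K) :=
    Subgroup.mul_mem _ (hQn.conj_mem _ hyQ x) (Subgroup.inv_mem _ hyQ)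
  have hdis : Disjoint (P : Subgroup K) (Q : Subgroup K) :=
    IsPGroup.disjoint_of_ne p q hpq _ _ P.2 Q.2
  have h3 : x * y * x⁻¹ * y⁻¹ = 1 := by
    have : x * y * x⁻¹ * y⁻¹ ∈ (P : Subgroup K) ⊓ (Q : Subgroup K) := ⟨h1, h2⟩
    rw [disjoint_iff.mp hdis] at this
    exact Subgroup.mem_bot.mp this
  calc x * y = (x * y * x⁻¹ * y⁻¹) * (y * x) := by group
    _ = y * x := by rw [h3, one_mul]

/-- In a finite nilpotent group, a `p`-element commutes with every `p'`-element. -/
theorem comm_p_p' {K : Type*} [Group K] [Finite K] [Group.IsNilpotent K] (p : ℕ)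
    [Fact p.Prime] (x v : K) (hx : ∃ a : ℕ, orderOf x = p ^ a) (hv : (orderOf v).Coprime p) :
    x * v = v * x := by
  refine Cfsg.Agent.S3986.comm_of_coprime p ?_ (orderOf v) v rfl hv x hx
  rintro x y hx ⟨q, b, hq, hqp, hy⟩
  haveI : Fact q.Prime := ⟨hq⟩
  exact comm_of_nilpotent p q (Ne.symm hqp) x y hx ⟨b, hy⟩

/-- The upper central series of `G` meets a subgroup inside the upper central series of the
subgroup. -/
theorem ucs_subgroupOf_le {G : Type*} [Group G] (H : Subgroup G) :
    ∀ n : ℕ, (Subgroup.upperCentralSeries G n).subgroupOf H ≤ Subgroup.upperCentralSeries H n := by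
  intro n
  induction n with
  | zero =>
    rw [Subgroup.upperCentralSeries_zero, Subgroup.upperCentralSeries_zero, Subgroup.bot_subgroupOf]
  | succ n ih =>
    intro z hz
    rw [Subgroup.mem_subgroupOf, Subgroup.mem_upperCentralSeries_succ_iff] at hz
    rw [Subgroup.mem_upperCentralSeries_succ_iff]
    intro y
    apply ih
    rw [Subgroup.mem_subgroupOf]
    have := hz (y : G)
    simpa [commutatorElement_def] using this

/-- If `g` is hypercentral then `⟨x, g⟩` is nilpotent. -/
theorem nilpotent_closure_of_mem {G : Type*} [Group G] (x g : G) (n : ℕ)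
    (hg : g ∈ Subgroup.upperCentralSeries G n) :
    Group.IsNilpotent ↥(Subgroup.closure ({x, g} : Set G)) := by
  set K := Subgroup.closure ({x, g} : Set G) with hK
  have hxK : x ∈ K := Subgroup.subset_closure (by simp)
  have hgK : g ∈ K := Subgroup.subset_closure (by simp)
  set U := Subgroup.upperCentralSeries K n with hU
  have hgU : (⟨g, hgK⟩ : K) ∈ U := ucs_subgroupOf_le K n (Subgroup.mem_subgroupOf.mpr hg)
  have hall : ∀ k : K, (QuotientGroup.mk k : K ⧸ U) ∈
      Subgroup.zpowers (QuotientGroup.mk (⟨x, hxK⟩ : K) : K ⧸ U) := by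
    have hT : (⊤ : Subgroup K) ≤
        (Subgroup.zpowers (QuotientGroup.mk (⟨x, hxK⟩ : K) : K ⧸ U)).comap (QuotientGroup.mk' U) := by
      rw [← Subgroup.closure_closure_coe_preimage, Subgroup.closure_le]
      intro z hz
      have hz' : (z : G) ∈ ({x, g} : Set G) := hz
      rw [SetLike.mem_coe, Subgroup.mem_comap]
      rcases hz' with h | h
      · have : z = ⟨x, hxK⟩ := Subtype.ext h
        rw [this]
        exact Subgroup.mem_zpowers _
      · have h' : (z : G) = g := h
        have : z = ⟨g, hgK⟩ := Subtype.ext h'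
        rw [this]
        have h1 : (QuotientGroup.mk' U) (⟨g, hgK⟩ : K) = 1 := (QuotientGroup.eq_one_iff _).mpr hgU
        rw [h1]
        exact Subgroup.one_mem _
    intro k
    exact hT (Subgroup.mem_top k)
  have htop : Subgroup.upperCentralSeries K (n + 1) = ⊤ := by
    rw [eq_top_iff]
    intro k _
    rw [Subgroup.mem_upperCentralSeries_succ_iff]
    intro y
    rw [← hU, ← QuotientGroup.eq_one_iff]
    obtain ⟨i, hi⟩ := hall k
    obtain ⟨j, hj⟩ := hall y
    have hc : (QuotientGroup.mk k : K ⧸ U) * QuotientGroup.mk y =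
        QuotientGroup.mk y * QuotientGroup.mk k := by
      rw [← hi, ← hj, ← zpow_add, ← zpow_add, add_comm]
    rw [commutatorElement_def, QuotientGroup.mk_mul, QuotientGroup.mk_mul, QuotientGroup.mk_mul,
      QuotientGroup.mk_inv, QuotientGroup.mk_inv, hc]
    group
  exact ⟨⟨n + 1, htop⟩⟩

/-- A `p`-element `u` with `⟨x, u⟩` nilpotent for all `x` is hypercentral. -/
theorem p_element_mem : ∀ (n : ℕ) (G : Type u) [Group G] [Finite G], Nat.card G = n →
    ∀ (p : ℕ) [Fact p.Prime] (u : G), (∃ k : ℕ, u ^ (p ^ k) = 1) →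
    (∀ x : G, Group.IsNilpotent ↥(Subgroup.closure ({x, u} : Set G))) →
    ∃ m : ℕ, u ∈ Subgroup.upperCentralSeries G m := by
  intro n
  induction n using Nat.strong_induction_on with
  | _ n ih =>
    intro G _ _ hcard p _ u ⟨k, hk⟩ hnil
    by_cases hu1 : u = 1
    · exact ⟨0, by rw [hu1]; exact Subgroup.one_mem _⟩
    have hp : p.Prime := Fact.out
    obtain ⟨a, -, ha⟩ := (Nat.dvd_prime_pow hp).mp (orderOf_dvd_of_pow_eq_one hk)
    -- (a) `u` commutes with all `p'`-elements
    have hcomm : ∀ y : G, (orderOf y).Coprime p → u * y = y * u := by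
      intro y hy
      haveI := hnil y
      have huK : u ∈ Subgroup.closure ({y, u} : Set G) := Subgroup.subset_closure (by simp)
      have hyK : y ∈ Subgroup.closure ({y, u} : Set G) := Subgroup.subset_closure (by simp)
      have := comm_p_p' p (⟨u, huK⟩ : Subgroup.closure ({y, u} : Set G)) ⟨y, hyK⟩
        ⟨a, by rw [Subgroup.orderOf_mk]; exact ha⟩ (by rw [Subgroup.orderOf_mk]; exact hy)
      exact congrArg Subtype.val this
    -- (b) `u` is a left Engel element, hence lies in the Fitting subgroup
    have hE : ∀ x : G, ∃ m, engelSeq u x m = 1 := by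
      intro x
      have hKn := hnil x
      have hxK : x ∈ Subgroup.closure ({x, u} : Set G) := Subgroup.subset_closure (by simp)
      have huK : u ∈ Subgroup.closure ({x, u} : Set G) := Subgroup.subset_closure (by simp)
      obtain ⟨c, hc⟩ := (Subgroup.isNilpotent_iff_lowerCentralSeries
        (Subgroup.closure ({x, u} : Set G))).mp hKn
      have hmem : ∀ j, engelSeq u x (j + 1) ∈
          (Subgroup.closure ({x, u} : Set G)).lowerCentralSeries j := by
        intro j
        induction j with
        | zero =>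
          rw [engelSeq_succ, engelSeq_zero, Subgroup.lowerCentralSeries_zero]
          exact Subgroup.mul_mem _ (Subgroup.mul_mem _ (Subgroup.mul_mem _ hxK huK)
            (Subgroup.inv_mem _ hxK)) (Subgroup.inv_mem _ huK)
        | succ j ihj =>
          rw [engelSeq_succ, Subgroup.lowerCentralSeries_succ]
          exact Subgroup.commutator_mem_commutator ihj huK
      refine ⟨c + 1, ?_⟩
      have := hmem c
      rw [hc] at this
      exact Subgroup.mem_bot.mp this
    have hsub := engel_subnormal u hE
    have huF : u ∈ Cfsg.fittingSubgroup G :=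
      le_fitting_of_subnormal_nilpotent hsub (zpowers_isNilpotent u) (Subgroup.mem_zpowers u)
    -- (c) a normal `p`-subgroup containing `u`
    haveI hFn : (Cfsg.fittingSubgroup G).Normal := Cfsg.Agent.Lib.helper1.fitting_normal G
    haveI hFnil : Group.IsNilpotent (Cfsg.fittingSubgroup G) :=
      Cfsg.Agent.Lib.helper1.fitting_isNilpotent G
    have huFp : IsPGroup p (Subgroup.zpowers (⟨u, huF⟩ : Cfsg.fittingSubgroup G)) :=
      IsPGroup.of_card (n := a) (by rw [Nat.card_zpowers, Subgroup.orderOf_mk, ha])
    obtain ⟨PF, hPF⟩ := huFp.exists_le_sylow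
    have hPFn : (PF : Subgroup (Cfsg.fittingSubgroup G)).Normal :=
      ((Group.isNilpotent_of_finite_tfae (G := Cfsg.fittingSubgroup G)).out 0 3 rfl rfl |>.mp
        inferInstance) p inferInstance PF
    haveI : (PF : Subgroup (Cfsg.fittingSubgroup G)).Characteristic :=
      Sylow.characteristic_of_normal PF hPFn
    set U : Subgroup G :=
      (PF : Subgroup (Cfsg.fittingSubgroup G)).map (Cfsg.fittingSubgroup G).subtype with hU
    have hUn : U.Normal := inferInstance
    have hUp : IsPGroup p U := PF.2.map _
    have huU : u ∈ U := ⟨⟨u, huF⟩, hPF (Subgroup.mem_zpowers _), rfl⟩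
    -- the subgroup `W`
    let W : Subgroup G :=
      { carrier := {w | w ∈ U ∧ ∀ y : G, (orderOf y).Coprime p → w * y = y * w}
        mul_mem' := by
          rintro w₁ w₂ ⟨h1, h1c⟩ ⟨h2, h2c⟩
          refine ⟨U.mul_mem h1 h2, fun y hy => ?_⟩
          rw [mul_assoc, h2c y hy, ← mul_assoc, h1c y hy, mul_assoc]
        one_mem' := ⟨U.one_mem, fun y _ => by rw [one_mul, mul_one]⟩
        inv_mem' := by
          rintro w ⟨h1, h1c⟩
          refine ⟨U.inv_mem h1, fun y hy => ?_⟩
          have := h1c y hy
          calc w⁻¹ * y = w⁻¹ * (y * w) * w⁻¹ := by group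
            _ = w⁻¹ * (w * y) * w⁻¹ := by rw [this]
            _ = y * w⁻¹ := by group }
    have hWmem : ∀ w : G, w ∈ W ↔ w ∈ U ∧ ∀ y : G, (orderOf y).Coprime p → w * y = y * w :=
      fun w => Iff.rfl
    haveI hWn : W.Normal := by
      constructor
      rintro w ⟨h1, h1c⟩ g
      refine ⟨hUn.conj_mem w h1 g, fun y hy => ?_⟩
      have ho : orderOf (g⁻¹ * y * g) = orderOf y := by
        have := (MulAut.conj g⁻¹).orderOf_eq y
        rw [MulAut.conj_apply, inv_inv] at this
        exact this
      have := h1c (g⁻¹ * y * g) (by rw [ho]; exact hy)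
      calc g * w * g⁻¹ * y = g * (w * (g⁻¹ * y * g)) * g⁻¹ := by group
        _ = g * ((g⁻¹ * y * g) * w) * g⁻¹ := by rw [this]
        _ = y * (g * w * g⁻¹) := by group
    have hWU : W ≤ U := fun w hw => hw.1
    have hWp : IsPGroup p W := hUp.to_le hWU
    have huW : u ∈ W := ⟨huU, hcomm⟩
    -- a nontrivial fixed point of a Sylow `p`-subgroup on `W`
    obtain ⟨P⟩ : Nonempty (Sylow p G) := inferInstance
    letI : MulAction P W :=
      MulAction.compHom W ((MulAut.conjNormal : G →* MulAut W).comp (P : Subgroup G).subtype)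
    have hdvd : p ∣ Nat.card W := by
      rcases hWp.card_eq_or_dvd with h | h
      · exfalso
        have hbot : W = ⊥ := Subgroup.card_eq_one.mp h
        rw [hbot, Subgroup.mem_bot] at huW
        exact hu1 huW
      · exact h
    have h1fix : (1 : W) ∈ MulAction.fixedPoints P W := by
      intro c
      change (MulAut.conjNormal (c : G) : MulAut W) (1 : W) = 1
      exact map_one _
    obtain ⟨b, hbfix, hb1⟩ :=
      P.2.exists_fixed_point_of_prime_dvd_card_of_fixed_point W hdvd h1fix
    have hbP : ∀ c ∈ (P : Subgroup G), c * (b : G) * c⁻¹ = (b : G) := by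
      intro c hc
      have h2 : (MulAut.conjNormal c : MulAut W) b = b := hbfix ⟨c, hc⟩
      have h3 := congrArg Subtype.val h2
      rwa [MulAut.conjNormal_apply] at h3
    have hbne : (b : G) ≠ 1 := by
      intro h
      apply hb1
      exact (Subtype.ext h).symm
    -- `b` is central
    have hbcent : (b : G) ∈ Subgroup.center G := by
      have hPC : (P : Subgroup G) ≤ Subgroup.centralizer ({(b : G)} : Set G) := by
        intro c hc
        rw [Subgroup.mem_centralizer_iff]
        intro y hy
        rw [Set.mem_singleton_iff] at hy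
        rw [hy]
        have := hbP c hc
        calc (b : G) * c = (c * (b : G) * c⁻¹) * c := by rw [this]
          _ = c * (b : G) := by group
      have hSC : ∀ y : G, (orderOf y).Coprime p →
          y ∈ Subgroup.centralizer ({(b : G)} : Set G) := by
        intro y hy
        rw [Subgroup.mem_centralizer_iff]
        intro z hz
        rw [Set.mem_singleton_iff] at hz
        rw [hz]
        exact b.2.2 y hy
      have htop : Subgroup.centralizer ({(b : G)} : Set G) = ⊤ := by
        rw [← Subgroup.index_eq_one]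
        by_contra hne
        obtain ⟨q, hq, hqd⟩ := Nat.exists_prime_and_dvd hne
        by_cases hqp : q = p
        · have := dvd_trans hqd (Subgroup.index_dvd_of_le hPC)
          rw [hqp] at this
          exact P.not_dvd_index this
        · haveI : Fact q.Prime := ⟨hq⟩
          obtain ⟨Q⟩ : Nonempty (Sylow q G) := inferInstance
          have hQC : (Q : Subgroup G) ≤ Subgroup.centralizer ({(b : G)} : Set G) := by
            intro y hy
            apply hSC
            obtain ⟨j, hj⟩ := Q.2 ⟨y, hy⟩
            have hj' : y ^ (q ^ j) = 1 := by simpa using congrArg Subtype.val hj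
            obtain ⟨i, -, hi⟩ := (Nat.dvd_prime_pow hq).mp (orderOf_dvd_of_pow_eq_one hj')
            rw [hi]
            exact Nat.Coprime.pow_left i ((Nat.coprime_primes hq hp).mpr hqp)
          exact Q.not_dvd_index (dvd_trans hqd (Subgroup.index_dvd_of_le hQC))
      rw [Subgroup.mem_center_iff]
      intro g
      have hg : g ∈ Subgroup.centralizer ({(b : G)} : Set G) := by rw [htop]; trivial
      exact ((Subgroup.mem_centralizer_iff.mp hg) _ (Set.mem_singleton _)).symm
    have hZne : Subgroup.center G ≠ ⊥ := by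
      intro h
      rw [h, Subgroup.mem_bot] at hbcent
      exact hbne hbcent
    -- pass to the quotient by the center
    have hlt : Nat.card (G ⧸ Subgroup.center G) < n := by
      rw [← hcard, ← Subgroup.index_eq_card, ← Subgroup.card_mul_index (Subgroup.center G)]
      have h1 : 1 < Nat.card (Subgroup.center G) := by
        rcases Nat.lt_or_ge 1 (Nat.card (Subgroup.center G)) with h | h
        · exact h
        · exfalso
          have : Nat.card (Subgroup.center G) = 1 := le_antisymm h Nat.card_pos
          exact hZne (Subgroup.card_eq_one.mp this)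
      have h2 : 0 < (Subgroup.center G).index :=
        Nat.pos_of_ne_zero Subgroup.index_ne_zero_of_finite
      nlinarith
    have hub : (QuotientGroup.mk u : G ⧸ Subgroup.center G) ^ (p ^ k) = 1 := by
      rw [← QuotientGroup.mk_pow, hk]; rfl
    have hnil' : ∀ x : G ⧸ Subgroup.center G, Group.IsNilpotent
        ↥(Subgroup.closure ({x, (QuotientGroup.mk u : G ⧸ Subgroup.center G)} : Set _)) := by
      intro x
      obtain ⟨x, rfl⟩ := QuotientGroup.mk_surjective x
      have e : Subgroup.closure ({(QuotientGroup.mk x : G ⧸ Subgroup.center G),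
          (QuotientGroup.mk u : G ⧸ Subgroup.center G)} : Set _) =
          (Subgroup.closure ({x, u} : Set G)).map (QuotientGroup.mk' (Subgroup.center G)) := by
        rw [MonoidHom.map_closure, Set.image_pair]
        rfl
      rw [e]
      haveI := hnil x
      exact Group.nilpotent_of_surjective
        ((QuotientGroup.mk' (Subgroup.center G)).subgroupMap (Subgroup.closure ({x, u} : Set G)))
        (MonoidHom.subgroupMap_surjective _ _)
    obtain ⟨m, hm⟩ := ih _ hlt (G ⧸ Subgroup.center G) rfl p _ ⟨k, hub⟩ hnil'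
    refine ⟨m + 1, ?_⟩
    rw [← Subgroup.comap_upperCentralSeries_quotient_center, Subgroup.mem_comap]
    exact hm

/-- General case. -/
theorem mem_of_hyp {G : Type u} [Group G] [Finite G] : ∀ (n : ℕ) (g : G), orderOf g = n →
    (∀ x : G, Group.IsNilpotent ↥(Subgroup.closure ({x, g} : Set G))) →
    ∃ m : ℕ, g ∈ Subgroup.upperCentralSeries G m := by
  intro n
  induction n using Nat.strong_induction_on with
  | _ n ih =>
    intro g hgn hnil
    by_cases hg1 : g = 1
    · exact ⟨0, by rw [hg1]; exact Subgroup.one_mem _⟩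
    have hn1 : n ≠ 1 := by
      rw [← hgn]; intro h; exact hg1 (orderOf_eq_one_iff.mp h)
    have hqp : n.minFac.Prime := Nat.minFac_prime hn1
    haveI : Fact n.minFac.Prime := ⟨hqp⟩
    have hqn : n.minFac ∣ n := Nat.minFac_dvd n
    obtain ⟨u, v, hguv, hcomm, ⟨j, hu⟩, hvq, huz, hvz⟩ := exists_p_decomp n.minFac g
    have hsub : ∀ h : G, h ∈ Subgroup.zpowers g → ∀ x : G,
        Group.IsNilpotent ↥(Subgroup.closure ({x, h} : Set G)) := by
      intro h hh x
      have hle : Subgroup.closure ({x, h} : Set G) ≤ Subgroup.closure ({x, g} : Set G) := by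
        rw [Subgroup.closure_le]
        intro z hz
        rcases hz with hz | hz
        · rw [hz]; exact Subgroup.subset_closure (by simp)
        · have hz' : z = h := hz
          rw [hz']
          have : Subgroup.zpowers g ≤ Subgroup.closure ({x, g} : Set G) := by
            rw [Subgroup.zpowers_le]; exact Subgroup.subset_closure (by simp)
          exact this hh
      haveI := hnil x
      exact Group.nilpotent_of_mulEquiv (Subgroup.subgroupOfEquivOfLe hle)
    have hvdvd : orderOf v ∣ n := by
      rw [← hgn]; exact orderOf_dvd_of_mem_zpowers hvz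
    have hvlt : orderOf v < n := by
      have hpos : 0 < n := by rw [← hgn]; exact orderOf_pos g
      rcases (Nat.le_of_dvd hpos hvdvd).lt_or_eq with h | h
      · exact h
      · exfalso
        rw [h] at hvq
        exact hqp.one_lt.ne' (Nat.Coprime.eq_one_of_dvd hvq.symm hqn)
    obtain ⟨m₁, hm₁⟩ := p_element_mem (Nat.card G) G rfl n.minFac u ⟨j, hu⟩ (hsub u huz)
    obtain ⟨m₂, hm₂⟩ := ih (orderOf v) hvlt v rfl (hsub v hvz)
    refine ⟨max m₁ m₂, ?_⟩
    rw [hguv]
    exact Subgroup.mul_mem _ (Subgroup.upperCentralSeries_mono G (le_max_left m₁ m₂) hm₁)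
      (Subgroup.upperCentralSeries_mono G (le_max_right m₁ m₂) hm₂)

theorem result {G : Type*} [Group G] [Finite G] (g : G) :
    (∀ x : G, Group.IsNilpotent ↥(Subgroup.closure ({x, g} : Set G))) ↔ g ∈ ⨆ n : ℕ, Subgroup.upperCentralSeries G n := by
  have hdir : Directed (· ≤ ·) (Subgroup.upperCentralSeries G) :=
    (Subgroup.upperCentralSeries_mono G).directed_le
  rw [Subgroup.mem_iSup_of_directed hdir]
  constructor
  · intro h
    exact mem_of_hyp (orderOf g) g rfl h
  · rintro ⟨n, hn⟩ x
    exact nilpotent_closure_of_mem x g n hn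

end Cfsg.Agent.S3939
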