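import Cfsg.Statements.S3983
import Mathlib

set_option autoImplicit false
open Cfsg

namespace Cfsg.Agent.S3983

open scoped Pointwise

theorem mem_conj_smul {G : Type*} [Group G] {S : Subgroup G} {g y : G} :
    y ∈ MulAut.conj g • S ↔ g⁻¹ * y * g ∈ S := by
  rw [Subgroup.mem_pointwise_smul_iff_inv_smul_mem]
  simp [MulAut.smul_def]

/-- Elementwise form of the TI property, transported to every Sylow `p`-subgroup. -/
theorem ti_all {G : Type*} [Group G] [Finite G] (p : ℕ) [Fact p.Prime] (P : Sylow p G)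
    (hTI : ∀ g : G, g ∉ Subgroup.normalizer ((P : Subgroup G) : Set G) →
      (P : Subgroup G) ⊓ (MulAut.conj g • (P : Subgroup G)) = ⊥) (P₁ : Sylow p G) :
    ∀ g a : G, a ∈ (P₁ : Subgroup G) → g⁻¹ * a * g ∈ (P₁ : Subgroup G) → a ≠ 1 →
      g ∈ Subgroup.normalizer ((P₁ : Subgroup G) : Set G) := by
  have hP : ∀ g a : G, a ∈ (P : Subgroup G) → g⁻¹ * a * g ∈ (P : Subgroup G) → a ≠ 1 →
      g ∈ Subgroup.normalizer ((P : Subgroup G) : Set G) := by
    intro g a ha hga ha1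
    by_contra hg
    have h := hTI g hg
    have : a ∈ (P : Subgroup G) ⊓ (MulAut.conj g • (P : Subgroup G)) :=
      ⟨ha, mem_conj_smul.mpr hga⟩
    rw [h, Subgroup.mem_bot] at this
    exact ha1 this
  obtain ⟨h, hh⟩ := MulAction.exists_smul_eq G P P₁
  have hmem : ∀ b : G, b ∈ (P₁ : Subgroup G) ↔ h⁻¹ * b * h ∈ (P : Subgroup G) := by
    intro b
    rw [← hh]
    exact mem_conj_smul
  intro g a ha hga ha1
  have h1 := hP (h⁻¹ * g * h) (h⁻¹ * a * h) ((hmem a).mp ha) (by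
    have := (hmem _).mp hga
    have e : (h⁻¹ * g * h)⁻¹ * (h⁻¹ * a * h) * (h⁻¹ * g * h) = h⁻¹ * (g⁻¹ * a * g) * h := by
      group
    rw [e]; exact this) (by
    intro h1
    apply ha1
    have e : a = h * (h⁻¹ * a * h) * h⁻¹ := by group
    rw [e, h1]; group)
  rw [Subgroup.mem_set_normalizer_iff] at h1 ⊢
  intro b
  change b ∈ (P₁ : Subgroup G) ↔ g * b * g⁻¹ ∈ (P₁ : Subgroup G)
  rw [hmem, hmem]
  have := h1 (h⁻¹ * b * h)
  have e : h⁻¹ * g * h * (h⁻¹ * b * h) * (h⁻¹ * g * h)⁻¹ = h⁻¹ * (g * b * g⁻¹) * h := by group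
  rw [e] at this
  exact this

/-- Let P be a Sylow p-subgroup of the finite group G that meets each conjugate g P g⁻¹ with g outside N_G(P) trivially, and let U be a subgroup of G of order divisible by p. Then a Sylow p-subgroup Q of U has the same property inside U: Q meets each conjugate u Q u⁻¹ with u ∈ U outside N_U(Q) trivially. -/
theorem result {G : Type*} [Group G] [Finite G] (p : ℕ) [Fact p.Prime] (P : Sylow p G) (hTI : ∀ g : G, g ∉ Subgroup.normalizer ((P : Subgroup G) : Set G) → (P : Subgroup G) ⊓ (MulAut.conj g • (P : Subgroup G)) = ⊥) (U : Subgroup G) (hU : p ∣ Nat.card ↥U) (Q : Sylow p ↥U) : ∀ u : ↥U, u ∉ Subgroup.normalizer ((Q : Subgroup ↥U) : Set ↥U) → (Q : Subgroup ↥U) ⊓ (MulAut.conj u • (Q : Subgroup ↥U)) = ⊥ := by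
  intro u hu
  have hQ'p : IsPGroup p ((Q : Subgroup U).map U.subtype) := Q.2.map _
  obtain ⟨P₁, hP₁⟩ := hQ'p.exists_le_sylow
  have hti := ti_all p P hTI P₁
  have hQmem : ∀ b : U, b ∈ (Q : Subgroup U) ↔ (b : G) ∈ (P₁ : Subgroup G) := by
    intro b
    constructor
    · intro hb
      exact hP₁ ⟨b, hb, rfl⟩
    · intro hb
      have hp' : IsPGroup p ((P₁ : Subgroup G).subgroupOf U) := P₁.2.comap_subtype
      have hle : (Q : Subgroup U) ≤ (P₁ : Subgroup G).subgroupOf U := by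
        intro c hc
        rw [Subgroup.mem_subgroupOf]
        exact hP₁ ⟨c, hc, rfl⟩
      have := Q.3 hp' hle
      rw [← this, Subgroup.mem_subgroupOf]
      exact hb
  rw [Subgroup.eq_bot_iff_forall]
  rintro a ⟨ha1, ha2⟩
  by_contra hane
  apply hu
  have ha1 : a ∈ (Q : Subgroup U) := ha1
  have ha2 : u⁻¹ * a * u ∈ (Q : Subgroup U) := mem_conj_smul.mp ha2
  have huN := hti (u : G) (a : G) ((hQmem a).mp ha1) (by
    have := (hQmem _).mp ha2
    simpa using this) (fun h => hane (Subtype.ext h))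
  rw [Subgroup.mem_set_normalizer_iff] at huN ⊢
  intro b
  change b ∈ (Q : Subgroup U) ↔ u * b * u⁻¹ ∈ (Q : Subgroup U)
  rw [hQmem, hQmem]
  exact huN (b : G)

end Cfsg.Agent.S3983
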