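import Cfsg.Statements.S3982
import Cfsg.Agent.S3983

set_option autoImplicit false
open Cfsg

namespace Cfsg.Agent.S3982

open scoped Pointwise
open Cfsg.Agent.S3983

/-- Normalizers grow in `p`-groups. -/
theorem exists_normalizer_not_mem {G : Type*} [Group G] [Finite G] {p : ℕ} [Fact p.Prime]
    {R Q : Subgroup G} (hR : IsPGroup p R) (hQR : Q ≤ R) (hne : R ≠ Q) :
    ∃ r ∈ R, r ∈ Subgroup.normalizer (Q : Set G) ∧ r ∉ Q := by
  haveI : Group.IsNilpotent R := hR.isNilpotent
  have hnc : NormalizerCondition R := Group.normalizerCondition_of_isNilpotent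
  have hlt : Q.subgroupOf R < ⊤ := by
    rw [lt_top_iff_ne_top]
    intro h
    rw [Subgroup.subgroupOf_eq_top] at h
    exact hne (le_antisymm h hQR)
  have h2 := hnc _ hlt
  obtain ⟨r, hr1, hr2⟩ := SetLike.exists_of_lt h2
  refine ⟨r, r.2, ?_, fun h => hr2 (Subgroup.mem_subgroupOf.mpr h)⟩
  rw [Subgroup.mem_set_normalizer_iff]
  have hr1' := Subgroup.mem_set_normalizer_iff.mp hr1
  intro g
  constructor
  · intro hg
    have := (hr1' ⟨g, hQR hg⟩).mp (Subgroup.mem_subgroupOf.mpr hg)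
    exact Subgroup.mem_subgroupOf.mp this
  · intro hg
    have hgR : g ∈ R := by
      have e : g = (r : G)⁻¹ * ((r : G) * g * (r : G)⁻¹) * (r : G) := by group
      rw [e]
      exact Subgroup.mul_mem _ (Subgroup.mul_mem _ (Subgroup.inv_mem _ r.2) (hQR hg)) r.2
    have := (hr1' ⟨g, hgR⟩).mpr (Subgroup.mem_subgroupOf.mpr hg)
    exact Subgroup.mem_subgroupOf.mp this

/-- An involutory automorphism of a group of odd order fixes a Sylow `p`-subgroup. -/
theorem exists_invariant_sylow {C : Type*} [Group C] [Finite C] (p : ℕ) [Fact p.Prime]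
    (hodd : Odd (Nat.card C)) (τ : MulAut C) (hτ : τ ^ 2 = 1) :
    ∃ R : Sylow p C, ∀ c ∈ R, τ c ∈ R := by
  classical
  haveI : Fact (Nat.Prime 2) := ⟨Nat.prime_two⟩
  haveI : Fintype (Sylow p C) := Fintype.ofFinite _
  obtain ⟨R₁⟩ : Nonempty (Sylow p C) := inferInstance
  have hcard : ¬ 2 ∣ Fintype.card (Sylow p C) := by
    intro h
    rw [← Nat.card_eq_fintype_card] at h
    have h1 : 2 ∣ Nat.card C :=
      (h.trans (Sylow.card_dvd_index R₁)).trans (Subgroup.index_dvd_card _)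
    exact (Nat.not_even_iff_odd.mpr hodd) (even_iff_two_dvd.mpr h1)
  have hσ : (MulAction.toPermHom (MulAut C) (Sylow p C) τ) ^ 2 ^ 1 = 1 := by
    rw [pow_one, ← map_pow, hτ, map_one]
  obtain ⟨R, hR⟩ := Equiv.Perm.exists_fixed_point_of_prime hcard hσ
  refine ⟨R, fun c hc => ?_⟩
  have h1 : τ • R = R := hR
  have h2 : τ • c ∈ τ • (R : Subgroup C) := Subgroup.smul_mem_pointwise_smul c τ _ hc
  rw [← Sylow.pointwise_smul_def, h1] at h2
  exact h2

/-- Square roots in groups of odd order. -/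
theorem exists_sq_eq {G : Type*} [Group G] (c : G) (hodd : Odd (orderOf c)) :
    ∃ k : ℕ, (c ^ k) ^ 2 = c := by
  obtain ⟨k, hk⟩ := hodd
  refine ⟨k + 1, ?_⟩
  rw [← pow_mul]
  have : (k + 1) * 2 = orderOf c + 1 := by omega
  rw [this, pow_succ, pow_orderOf_eq_one, one_mul]

/-- Let p be an odd prime and G a finite group of even order divisible by p in which the centralizer of every non-identity p-element has odd order. If some nontrivial p-subgroup of G has a normalizer of even order, then the normalizer of every Sylow p-subgroup of G has even order. -/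
theorem result {G : Type*} [Group G] [Finite G] (p : ℕ) [Fact p.Prime] (hp2 : p ≠ 2) (hpG : p ∣ Nat.card G) (h2G : 2 ∣ Nat.card G) (hC : ∀ g : G, g ≠ 1 → (∃ k : ℕ, orderOf g = p ^ k) → Odd (Nat.card ↥(Subgroup.centralizer ({g} : Set G)))) (Q : Subgroup G) (hQ : IsPGroup p ↥Q) (hQ1 : Q ≠ ⊥) (hev : Even (Nat.card ↥(Subgroup.normalizer (Q : Set G)))) (P : Sylow p G) : Even (Nat.card ↥(Subgroup.normalizer ((P : Subgroup G) : Set G))) := by
  classical
  have hp : p.Prime := Fact.out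
  haveI : Fact (Nat.Prime 2) := ⟨Nat.prime_two⟩
  -- F0
  have F0 : ∀ a t : G, a ≠ 1 → (∃ k : ℕ, a ^ (p ^ k) = 1) → orderOf t = 2 → a * t ≠ t * a := by
    rintro a t ha1 ⟨k, hk⟩ ht hcomm
    have hpa : ∃ k : ℕ, orderOf a = p ^ k := by
      obtain ⟨j, -, hj⟩ := (Nat.dvd_prime_pow hp).mp (orderOf_dvd_of_pow_eq_one hk)
      exact ⟨j, hj⟩
    have hodd := hC a ha1 hpa
    have htc : t ∈ Subgroup.centralizer ({a} : Set G) := by
      rw [Subgroup.mem_centralizer_iff]
      intro z hz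
      rw [Set.mem_singleton_iff] at hz
      subst hz
      exact hcomm
    have h2 : 2 ∣ Nat.card (Subgroup.centralizer ({a} : Set G)) := by
      have := orderOf_dvd_natCard (⟨t, htc⟩ : Subgroup.centralizer ({a} : Set G))
      rwa [Subgroup.orderOf_mk, ht] at this
    exact (Nat.not_even_iff_odd.mpr hodd) (even_iff_two_dvd.mpr h2)
  -- step 1: involution t
  obtain ⟨t', ht'⟩ := exists_prime_orderOf_dvd_card' 2 (even_iff_two_dvd.mp hev)
  set t : G := (t' : G) with ht_def
  have hto : orderOf t = 2 := by rw [← ht', ht_def, Subgroup.orderOf_coe]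
  have htQ : t ∈ Subgroup.normalizer (Q : Set G) := t'.2
  have ht2 : t * t = 1 := by
    have := pow_orderOf_eq_one t
    rwa [hto, pow_two] at this
  have htinv : t⁻¹ = t := inv_eq_of_mul_eq_one_left ht2
  have htt : ∀ w : G, t * (t * w * t⁻¹) * t⁻¹ = w := by
    intro w
    rw [htinv]
    calc t * (t * w * t) * t = (t * t) * w * (t * t) := by group
      _ = w := by rw [ht2, one_mul, mul_one]
  -- step 2: maximal
  obtain ⟨Qs, ⟨hQsp, hQQs, htQs⟩, hmax⟩ := Set.exists_max_image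
    {R : Subgroup G | IsPGroup p R ∧ Q ≤ R ∧ t ∈ Subgroup.normalizer (R : Set G)}
    (fun R => Nat.card R) (Set.toFinite _) ⟨Q, hQ, le_rfl, htQ⟩
  have hmax' : ∀ R : Subgroup G, IsPGroup p R → Qs ≤ R →
      t ∈ Subgroup.normalizer (R : Set G) → R = Qs := by
    intro R hR hle ht
    exact (Subgroup.eq_of_le_of_card_ge hle (hmax R ⟨hR, hQQs.trans hle, ht⟩)).symm
  have hQs1 : Qs ≠ ⊥ := fun h => hQ1 (le_bot_iff.mp (h ▸ hQQs))
  have hpelt : ∀ q ∈ Qs, ∃ k : ℕ, q ^ (p ^ k) = 1 := by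
    intro q hq
    obtain ⟨k, hk⟩ := hQsp ⟨q, hq⟩
    exact ⟨k, by simpa using congrArg Subtype.val hk⟩
  have htQs' := Subgroup.mem_set_normalizer_iff.mp htQs
  -- step 3: t inverts Qs
  let φ : Qs →* Qs :=
    { toFun := fun q => ⟨t * q * t⁻¹, (htQs' q).mp q.2⟩
      map_one' := by apply Subtype.ext; simp
      map_mul' := fun a b => by apply Subtype.ext; simp }
  have hφfpf : MonoidHom.FixedPointFree φ := by
    intro q hq
    by_contra hq1
    have h1 : t * (q : G) * t⁻¹ = q := congrArg Subtype.val hq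
    have h2 : (q : G) * t = t * q := (mul_inv_eq_iff_eq_mul.mp h1).symm
    exact F0 (q : G) t (fun h => hq1 (Subtype.ext h)) (hpelt q q.2) hto h2
  have hφinv : Function.Involutive φ := by
    intro q
    apply Subtype.ext
    exact htt q
  have hinvert : ∀ q ∈ Qs, t * q * t⁻¹ = q⁻¹ := by
    intro q hq
    have h1 := congrFun (hφfpf.coe_eq_inv_of_involutive hφinv) ⟨q, hq⟩
    exact congrArg Subtype.val h1
  have hQscomm : ∀ a ∈ Qs, ∀ b ∈ Qs, a * b = b * a := by
    intro a ha b hb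
    have := hφfpf.commute_all_of_involutive hφinv ⟨a, ha⟩ ⟨b, hb⟩
    exact congrArg Subtype.val this.eq
  -- step 4: C
  set C : Subgroup G := Subgroup.centralizer (Qs : Set G) with hCdef
  have hCmem : ∀ c : G, c ∈ C ↔ ∀ q ∈ Qs, q * c = c * q := fun c => Subgroup.mem_centralizer_iff
  have hQsC : Qs ≤ C := by
    intro a ha
    rw [hCmem]
    intro q hq
    exact hQscomm q hq a ha
  have hCodd : Odd (Nat.card C) := by
    obtain ⟨q₀, hq₀⟩ := Subgroup.ne_bot_iff_exists_ne_one.mp hQs1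
    have hq₀' : (q₀ : G) ≠ 1 := fun h => hq₀ (Subtype.ext h)
    obtain ⟨k, hk⟩ := (IsPGroup.iff_orderOf.mp hQsp) q₀
    have hodd := hC (q₀ : G) hq₀' ⟨k, by rw [← hk, Subgroup.orderOf_coe]⟩
    have hle : C ≤ Subgroup.centralizer ({(q₀ : G)} : Set G) :=
      Subgroup.centralizer_le (by simpa using q₀.2)
    exact Odd.of_dvd_nat hodd (Subgroup.card_dvd_of_le hle)
  -- elements centralizing Qs elementwise normalize it
  have hconj_id : ∀ c ∈ C, ∀ q : G, q ∈ Qs ↔ c * q * c⁻¹ ∈ Qs := by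
    intro c hc q
    have hcq : ∀ q' ∈ Qs, c * q' * c⁻¹ = q' := by
      intro q' hq'
      rw [← (hCmem c).mp hc q' hq', mul_inv_cancel_right]
    constructor
    · intro hq
      rw [hcq q hq]; exact hq
    · intro hq
      have h1 := hcq _ hq
      have h2 : c * q * c⁻¹ = q := by
        have := congrArg (fun w => c⁻¹ * w * c) h1
        have this : c⁻¹ * (c * (c * q * c⁻¹) * c⁻¹) * c = c⁻¹ * (c * q * c⁻¹) * c := this
        have e1 : c⁻¹ * (c * (c * q * c⁻¹) * c⁻¹) * c = c * q * c⁻¹ := by group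
        have e2 : c⁻¹ * (c * q * c⁻¹) * c = q := by group
        rw [e1, e2] at this
        exact this
      rw [← h2]; exact hq
  have hCN : C ≤ Subgroup.normalizer (Qs : Set G) := by
    intro c hc
    rw [Subgroup.mem_set_normalizer_iff]
    exact hconj_id c hc
  -- normalizer of Qs normalizes C
  have hNC : ∀ n ∈ Subgroup.normalizer (Qs : Set G), ∀ c ∈ C, n⁻¹ * c * n ∈ C := by
    intro n hn c hc
    rw [hCmem] at hc ⊢
    intro q hq
    have hq' : n * q * n⁻¹ ∈ Qs := (Subgroup.mem_set_normalizer_iff.mp hn q).mp hq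
    have := hc _ hq'
    calc q * (n⁻¹ * c * n) = n⁻¹ * ((n * q * n⁻¹) * c) * n := by group
      _ = n⁻¹ * (c * (n * q * n⁻¹)) * n := by rw [this]
      _ = n⁻¹ * c * n * q := by group
  have htC : ∀ c ∈ C, t * c * t⁻¹ ∈ C := by
    intro c hc
    have := hNC t⁻¹ (Subgroup.inv_mem _ htQs) c hc
    rwa [inv_inv] at this
  have htCN : t ∈ Subgroup.normalizer (C : Set G) := by
    rw [Subgroup.mem_set_normalizer_iff]
    intro c
    constructor
    · exact htC c
    · intro hc
      have := htC _ hc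
      rwa [htt] at this
  -- step 5: Qs is "Sylow" in C
  have hsylC : ∀ y ∈ C, (∃ k : ℕ, y ^ (p ^ k) = 1) → y ∈ Qs := by
    set τ : MulAut C := C.normalizerMonoidHom ⟨t, htCN⟩ with hτdef
    have hτapp : ∀ c : C, ((τ c : C) : G) = t * (c : G) * t⁻¹ := fun c => rfl
    have hτ2 : τ ^ 2 = 1 := by
      ext c
      rw [pow_two, MulAut.mul_apply, hτapp, hτapp]
      simp only [MulAut.one_apply]
      exact htt c
    obtain ⟨R₀, hR₀⟩ := exists_invariant_sylow p hCodd τ hτ2
    set R₀' : Subgroup G := (R₀ : Subgroup C).map C.subtype with hR₀'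
    have hR₀'p : IsPGroup p R₀' := R₀.2.map _
    have hR₀'mem : ∀ g : G, g ∈ R₀' ↔ ∃ h : g ∈ C, (⟨g, h⟩ : C) ∈ R₀ := by
      intro g
      constructor
      · rintro ⟨c, hc, rfl⟩
        exact ⟨c.2, hc⟩
      · rintro ⟨h, hc⟩
        exact ⟨⟨g, h⟩, hc, rfl⟩
    have htR₀' : t ∈ Subgroup.normalizer (R₀' : Set G) := by
      have hfw : ∀ g ∈ R₀', t * g * t⁻¹ ∈ R₀' := by
        intro g hg
        obtain ⟨h, hc⟩ := (hR₀'mem g).mp hg
        exact (hR₀'mem _).mpr ⟨htC g h, hR₀ _ hc⟩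
      rw [Subgroup.mem_set_normalizer_iff]
      intro g
      constructor
      · exact hfw g
      · intro hg
        have := hfw _ hg
        rwa [htt] at this
    have hQsR₀' : Qs ≤ R₀' := by
      have hQsCp : IsPGroup p (Qs.subgroupOf C) := hQsp.comap_subtype
      have hnorm : (R₀ : Subgroup C) ≤
          Subgroup.normalizer ((Qs.subgroupOf C : Subgroup C) : Set C) := by
        intro c _
        rw [Subgroup.mem_set_normalizer_iff]
        intro d
        change d ∈ Qs.subgroupOf C ↔ c * d * c⁻¹ ∈ Qs.subgroupOf C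
        rw [Subgroup.mem_subgroupOf, Subgroup.mem_subgroupOf]
        exact hconj_id (c : G) c.2 (d : G)
      have hsup := R₀.2.to_sup_of_normal_right' hQsCp hnorm
      have heq := R₀.3 hsup le_sup_left
      intro q hq
      rw [hR₀'mem]
      refine ⟨hQsC hq, ?_⟩
      have hmem : (⟨q, hQsC hq⟩ : C) ∈ (R₀ : Subgroup C) ⊔ Qs.subgroupOf C :=
        Subgroup.mem_sup_right (Subgroup.mem_subgroupOf.mpr hq)
      rw [heq] at hmem
      exact hmem
    have hR₀'eq : R₀' = Qs := hmax' R₀' hR₀'p hQsR₀' htR₀'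
    rintro y hyC ⟨k, hk⟩
    have hYp : IsPGroup p (Subgroup.zpowers y) := by
      obtain ⟨i, -, hi⟩ := (Nat.dvd_prime_pow hp).mp (orderOf_dvd_of_pow_eq_one hk)
      exact IsPGroup.of_card (n := i) (by rw [Nat.card_zpowers, hi])
    have hyN : Subgroup.zpowers y ≤ Subgroup.normalizer (Qs : Set G) := by
      rw [Subgroup.zpowers_le]
      exact hCN hyC
    have hP'p : IsPGroup p (Qs ⊔ Subgroup.zpowers y : Subgroup G) :=
      hQsp.to_sup_of_normal_left' hYp hyN
    have hle : (R₀ : Subgroup C) ≤ (Qs ⊔ Subgroup.zpowers y : Subgroup G).subgroupOf C := by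
      intro c hc
      rw [Subgroup.mem_subgroupOf]
      have : (c : G) ∈ R₀' := ⟨c, hc, rfl⟩
      rw [hR₀'eq] at this
      exact Subgroup.mem_sup_left this
    have heq2 : (Qs ⊔ Subgroup.zpowers y : Subgroup G).subgroupOf C = (R₀ : Subgroup C) :=
      R₀.3 hP'p.comap_subtype hle
    have hy1 : (⟨y, hyC⟩ : C) ∈ (Qs ⊔ Subgroup.zpowers y : Subgroup G).subgroupOf C := by
      rw [Subgroup.mem_subgroupOf]
      exact Subgroup.mem_sup_right (Subgroup.mem_zpowers y)
    have hy2 : (⟨y, hyC⟩ : C) ∈ (R₀ : Subgroup C) := heq2 ▸ hy1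
    rw [← hR₀'eq]
    exact ⟨⟨y, hyC⟩, hy2, rfl⟩
  -- step 6: Qs is a Sylow p-subgroup of G
  obtain ⟨P₁, hP₁⟩ := hQsp.exists_le_sylow
  have hQsP₁ : (P₁ : Subgroup G) = Qs := by
    by_contra hne
    obtain ⟨y, hyP₁, hyN, hyQs⟩ := exists_normalizer_not_mem P₁.2 hP₁ hne
    obtain ⟨a, ha⟩ := P₁.2 ⟨y, hyP₁⟩
    have ha' : y ^ (p ^ a) = 1 := by simpa using congrArg Subtype.val ha
    have hyN' := Subgroup.mem_set_normalizer_iff.mp hyN
    -- c₀
    set c₀ : G := t * (y⁻¹ * t * y) with hc₀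
    have hc₀C : c₀ ∈ C := by
      rw [hCmem]
      intro q hq
      have h1 : y * q * y⁻¹ ∈ Qs := (hyN' q).mp hq
      have h2 := hinvert _ h1
      have h3 := hinvert q⁻¹ (Subgroup.inv_mem _ hq)
      rw [inv_inv] at h3
      have h4 : c₀ * q * c₀⁻¹ = q := by
        rw [hc₀]
        calc t * (y⁻¹ * t * y) * q * (t * (y⁻¹ * t * y))⁻¹
            = t * (y⁻¹ * (t * (y * q * y⁻¹) * t⁻¹) * y) * t⁻¹ := by group
          _ = t * (y⁻¹ * (y * q * y⁻¹)⁻¹ * y) * t⁻¹ := by rw [h2]
          _ = t * q⁻¹ * t⁻¹ := by group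
          _ = q := h3
      exact (mul_inv_eq_iff_eq_mul.mp h4).symm
    have hc₀inv : t * c₀ * t⁻¹ = c₀⁻¹ := by
      have e1 : c₀⁻¹ = y⁻¹ * t⁻¹ * y * t⁻¹ := by rw [hc₀]; group
      rw [e1, hc₀, htinv]
      calc t * (t * (y⁻¹ * t * y)) * t = (t * t) * (y⁻¹ * t * y * t) := by group
        _ = y⁻¹ * t * y * t := by rw [ht2, one_mul]
    have hc₀odd : Odd (orderOf c₀) := by
      have hdvd : orderOf c₀ ∣ Nat.card C := by
        have := orderOf_dvd_natCard (⟨c₀, hc₀C⟩ : C)
        rwa [Subgroup.orderOf_mk] at this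
      exact Odd.of_dvd_nat hCodd hdvd
    obtain ⟨k, hk⟩ := exists_sq_eq c₀ hc₀odd
    set e : G := c₀ ^ k with he
    have heC : e ∈ C := Subgroup.pow_mem _ hc₀C _
    have heinv : t * e * t⁻¹ = e⁻¹ := by
      rw [he, ← conj_pow, hc₀inv, inv_pow]
    -- z = y * e⁻¹ commutes with t
    set z : G := y * e⁻¹ with hz
    have hzt : z * t = t * z := by
      have h1 : y⁻¹ * t * y = t * c₀ := by
        rw [hc₀, ← mul_assoc t t, ht2, one_mul]
      have h2 : t * c₀ = c₀⁻¹ * t := by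
        rw [← hc₀inv]; group
      have h3 : e⁻¹ * t * e = c₀⁻¹ * t := by
        have h4 : t * e = e⁻¹ * t := by
          rw [← heinv]; group
        rw [mul_assoc, h4, ← mul_assoc, ← hk, pow_two, mul_inv_rev]
      have h5 : y⁻¹ * t * y = e⁻¹ * t * e := by rw [h1, h2, h3]
      rw [hz]
      calc y * e⁻¹ * t = y * (e⁻¹ * t * e) * e⁻¹ := by group
        _ = y * (y⁻¹ * t * y) * e⁻¹ := by rw [h5]
        _ = t * (y * e⁻¹) := by group
    -- the order of z is prime to p
    have hzcop : (orderOf z).Coprime p := by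
      rw [Nat.coprime_comm, Nat.Prime.coprime_iff_not_dvd hp]
      intro hdvd
      have ho : orderOf (z ^ (orderOf z / p)) = p :=
        orderOf_pow_orderOf_div (orderOf_pos z).ne' hdvd
      have hz1 : z ^ (orderOf z / p) ≠ 1 := by
        intro h
        rw [h, orderOf_one] at ho
        exact hp.one_lt.ne ho
      have hcomm : Commute (z ^ (orderOf z / p)) t := (show Commute z t from hzt).pow_left _
      have hpow1 : (z ^ (orderOf z / p)) ^ p ^ 1 = 1 := by
        rw [pow_one, ← pow_mul, Nat.div_mul_cancel hdvd, pow_orderOf_eq_one]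
      exact F0 _ t hz1 ⟨1, hpow1⟩ hto hcomm.eq
    -- y ∈ C
    have hzN : z ∈ Subgroup.normalizer (Qs : Set G) := by
      rw [hz]
      exact Subgroup.mul_mem _ hyN (Subgroup.inv_mem _ (hCN heC))
    have hpowC : ∀ i : ℕ, ∃ c ∈ C, y ^ i = z ^ i * c := by
      intro i
      induction i with
      | zero => exact ⟨1, Subgroup.one_mem _, by simp⟩
      | succ i ih =>
        obtain ⟨c, hc, hci⟩ := ih
        refine ⟨z⁻¹ * c * z * e, Subgroup.mul_mem _ (hNC z hzN c hc) heC, ?_⟩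
        have hy : y = z * e := by rw [hz]; group
        rw [pow_succ, hci, pow_succ]
        have hstep : z ^ i * c * y = z ^ i * c * (z * e) := by rw [← hy]
        rw [hstep]
        group
    have hyC : y ∈ C := by
      obtain ⟨c, hc, hci⟩ := hpowC (orderOf z)
      rw [pow_orderOf_eq_one, one_mul] at hci
      have hcop2 : (orderOf z).Coprime (orderOf y) := by
        obtain ⟨i, -, hi⟩ := (Nat.dvd_prime_pow hp).mp (orderOf_dvd_of_pow_eq_one ha')
        rw [hi]
        exact Nat.Coprime.pow_right i hzcop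
      obtain ⟨s, hs⟩ := exists_pow_eq_self_of_coprime hcop2
      rw [← hs, hci]
      exact Subgroup.pow_mem _ hc _
    exact hyQs (hsylC y hyC ⟨a, ha'⟩)
  -- step 7
  obtain ⟨g, hg⟩ := MulAction.exists_smul_eq G P₁ P
  have hPmem : ∀ s : G, s ∈ (P : Subgroup G) ↔ g⁻¹ * s * g ∈ Qs := by
    intro s
    rw [← hg, ← hQsP₁]
    exact mem_conj_smul
  have hgt : g * t * g⁻¹ ∈ Subgroup.normalizer ((P : Subgroup G) : Set G) := by
    rw [Subgroup.mem_set_normalizer_iff]
    intro s
    change s ∈ (P : Subgroup G) ↔ g * t * g⁻¹ * s * (g * t * g⁻¹)⁻¹ ∈ (P : Subgroup G)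
    rw [hPmem, hPmem]
    have e : g⁻¹ * (g * t * g⁻¹ * s * (g * t * g⁻¹)⁻¹) * g = t * (g⁻¹ * s * g) * t⁻¹ := by group
    rw [e]
    exact htQs' _
  have ho : orderOf (g * t * g⁻¹) = 2 := by
    rw [← hto]; exact (MulAut.conj g).orderOf_eq t
  have h2 : 2 ∣ Nat.card (Subgroup.normalizer ((P : Subgroup G) : Set G)) := by
    have := orderOf_dvd_natCard (⟨g * t * g⁻¹, hgt⟩ :
      Subgroup.normalizer ((P : Subgroup G) : Set G))
    rwa [Subgroup.orderOf_mk, ho] at this
  exact even_iff_two_dvd.mpr h2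

end Cfsg.Agent.S3982
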