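import Cfsg.Statements.S3992
import Mathlib
import Cfsg.Agent.S1475
import Cfsg.Agent.Lib.helper9.Generation
import Cfsg.Agent.Lib.helper16.PSolv

set_option autoImplicit false
open Cfsg
open scoped commutatorElement

namespace Cfsg.Agent.S3992

theorem eppo_commute {H : Type*} [Group H] (hpp : ∀ g : H, g ≠ 1 → IsPrimePow (orderOf g))
    (x y : H) (hxy : Commute x y) (hx : x ≠ 1) (hy : y ≠ 1)
    (hco : (orderOf x).Coprime (orderOf y)) : False := by
  have h1 := hxy.orderOf_mul_eq_mul_orderOf_of_coprime hco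
  have hx1 : orderOf x ≠ 1 := fun h => hx (orderOf_eq_one_iff.mp h)
  have hy1 : orderOf y ≠ 1 := fun h => hy (orderOf_eq_one_iff.mp h)
  have hxy1 : x * y ≠ 1 := by
    intro h
    rw [h, orderOf_one] at h1
    exact hx1 (Nat.eq_one_of_mul_eq_one_right h1.symm)
  have h2 := hpp _ hxy1
  rw [h1] at h2
  have h3 := (hco.isPrimePow_dvd_mul h2).mp dvd_rfl
  have hx0 : orderOf x ≠ 0 := fun h => h2.ne_zero (by rw [h, zero_mul])
  have hy0 : orderOf y ≠ 0 := fun h => h2.ne_zero (by rw [h, mul_zero])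
  rcases h3 with h3 | h3
  · have h4 := Nat.le_of_dvd (Nat.pos_of_ne_zero hx0) h3
    have h5 : orderOf y ≤ 1 := by nlinarith [Nat.pos_of_ne_zero hx0]
    omega
  · have h4 := Nat.le_of_dvd (Nat.pos_of_ne_zero hy0) h3
    have h5 : orderOf x ≤ 1 := by nlinarith [Nat.pos_of_ne_zero hy0]
    omega

theorem eppo_order {H : Type*} [Group H] (hpp : ∀ g : H, g ≠ 1 → IsPrimePow (orderOf g))
    {p : ℕ} (hp : p.Prime) (a : H) (ha : orderOf a = p) (g : H) (hc : Commute a g) :
    ∃ k : ℕ, orderOf g = p ^ k := by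
  by_cases hg : g = 1
  · exact ⟨0, by rw [hg, orderOf_one, pow_zero]⟩
  obtain ⟨r, j, hr, hj, hrj⟩ := hpp g hg
  have hr' : r.Prime := Nat.prime_iff.mpr hr
  by_cases hrp : r = p
  · exact ⟨j, by rw [← hrj, hrp]⟩
  exfalso
  have ha1 : a ≠ 1 := by
    intro h
    rw [h, orderOf_one] at ha
    exact hp.one_lt.ne' ha.symm
  apply eppo_commute hpp a g hc ha1 hg
  rw [ha, ← hrj]
  exact Nat.Coprime.pow_right _ ((Nat.coprime_primes hp hr').mpr (Ne.symm hrp))

theorem eppo_subgroup {H : Type*} [Group H] (hpp : ∀ g : H, g ≠ 1 → IsPrimePow (orderOf g))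
    (K : Subgroup H) : ∀ g : ↥K, g ≠ 1 → IsPrimePow (orderOf g) := by
  intro g hg
  rw [← Subgroup.orderOf_coe]
  exact hpp _ (fun h => hg (Subtype.ext h))

theorem eppo_quot {H : Type*} [Group H] (hpp : ∀ g : H, g ≠ 1 → IsPrimePow (orderOf g))
    (N : Subgroup H) [N.Normal] : ∀ g : H ⧸ N, g ≠ 1 → IsPrimePow (orderOf g) := by
  intro g hg
  obtain ⟨x, rfl⟩ := QuotientGroup.mk_surjective g
  have hx : x ≠ 1 := by
    rintro rfl
    exact hg rfl
  have h1 : orderOf (QuotientGroup.mk' N x) ∣ orderOf x := orderOf_map_dvd _ x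
  exact (hpp x hx).dvd h1 (fun h => hg (orderOf_eq_one_iff.mp h))

theorem exists_other_prime {H : Type*} [Group H] [Finite H] (q : ℕ) [Fact q.Prime]
    (h : ¬ IsPGroup q H) : ∃ p, p.Prime ∧ p ≠ q ∧ p ∣ Nat.card H := by
  by_contra hcon
  push Not at hcon
  apply h
  have h1 := Nat.eq_prime_pow_of_unique_prime_dvd (Nat.card_pos (α := H)).ne' (p := q)
    (fun {d} hd hdvd => by_contra fun hne => hcon d hd hne hdvd)
  exact IsPGroup.of_card h1

theorem pgroup_solvable {H : Type*} [Group H] [Finite H] {p : ℕ} (hp : p.Prime)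
    (h : IsPGroup p H) : Group.IsSolvable H := by
  haveI : Fact p.Prime := ⟨hp⟩
  haveI := h.isNilpotent
  infer_instance

theorem solvable_of_quot {G : Type*} [Group G] (R : Subgroup G) [R.Normal]
    (h1 : Group.IsSolvable ↥R) (h2 : Group.IsSolvable (G ⧸ R)) : Group.IsSolvable G :=
  Group.isSolvable_of_ker_le_range R.subtype (QuotientGroup.mk' R)
    (by rw [QuotientGroup.ker_mk', Subgroup.range_subtype])

theorem comm_of_pow {G : Type*} [Group G] (u a b : G) (i j : ℤ) (ha : a⁻¹ * u * a = u ^ i)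
    (hb : b⁻¹ * u * b = u ^ j) :
    (a * b * a⁻¹ * b⁻¹) * u = u * (a * b * a⁻¹ * b⁻¹) := by
  have h1 : a⁻¹ * (b⁻¹ * u * b) * a = u ^ (i * j) := by
    rw [hb]
    have h := conj_zpow (a := a⁻¹) (b := u) (i := j)
    rw [inv_inv] at h
    rw [← h, ha, ← zpow_mul]
  have h2 : b⁻¹ * (a⁻¹ * u * a) * b = u ^ (i * j) := by
    rw [ha]
    have h := conj_zpow (a := b⁻¹) (b := u) (i := i)
    rw [inv_inv] at h
    rw [← h, hb, ← zpow_mul, mul_comm]
  have E : a⁻¹ * (b⁻¹ * u * b) * a = b⁻¹ * (a⁻¹ * u * a) * b := h1.trans h2.symm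
  calc (a * b * a⁻¹ * b⁻¹) * u = a * b * (a⁻¹ * (b⁻¹ * u * b) * a) * a⁻¹ * b⁻¹ := by group
    _ = a * b * (b⁻¹ * (a⁻¹ * u * a) * b) * a⁻¹ * b⁻¹ := by rw [E]
    _ = u * (a * b * a⁻¹ * b⁻¹) := by group

theorem radical_pgroup {G : Type*} [Group G] [Finite G] (hns : ¬ Group.IsSolvable G)
    (hpp : ∀ g : G, g ≠ 1 → IsPrimePow (orderOf g))
    (R : Subgroup G) [R.Normal] (hRs : Group.IsSolvable ↥R) :
    ∃ p : ℕ, p.Prime ∧ IsPGroup p ↥R := by
  classical
  by_cases hR : R = ⊥
  · subst hR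
    exact ⟨2, Nat.prime_two, IsPGroup.of_bot⟩
  have hppR := eppo_subgroup hpp R
  have hex : ∃ n, derivedSeries ↥R n = ⊥ := hRs.solvable
  have hm : derivedSeries ↥R (Nat.find hex) = ⊥ := Nat.find_spec hex
  have hm0 : Nat.find hex ≠ 0 := by
    intro h0
    rw [h0, derivedSeries_zero] at hm
    apply hR
    rw [eq_bot_iff]
    intro x hx
    have h1 : (⟨x, hx⟩ : ↥R) ∈ (⊤ : Subgroup ↥R) := Subgroup.mem_top _
    rw [hm, Subgroup.mem_bot] at h1
    rw [Subgroup.mem_bot]
    exact congrArg Subtype.val h1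
  obtain ⟨k, hk⟩ := Nat.exists_eq_succ_of_ne_zero hm0
  have hDne : derivedSeries ↥R k ≠ ⊥ := fun h => Nat.find_min hex (by omega) h
  have hDcomm : ∀ x ∈ derivedSeries ↥R k, ∀ y ∈ derivedSeries ↥R k, Commute x y := by
    intro x hx y hy
    have h1 : ⁅x, y⁆ ∈ derivedSeries ↥R (k + 1) := by
      rw [derivedSeries_succ]
      exact Subgroup.commutator_mem_commutator hx hy
    rw [← Nat.succ_eq_add_one, ← hk, hm, Subgroup.mem_bot] at h1
    exact commutatorElement_eq_one_iff_commute.mp h1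
  obtain ⟨D, hD⟩ : ∃ D : Subgroup ↥R, D = derivedSeries ↥R k := ⟨_, rfl⟩
  have hDn : D.Normal := hD ▸ derivedSeries_normal ↥R k
  rw [← hD] at hDne hDcomm
  have hcardD : Nat.card ↥D ≠ 1 := fun h => hDne (Subgroup.eq_bot_of_card_eq D h)
  obtain ⟨p, hp, hpD⟩ : ∃ p, p.Prime ∧ p ∣ Nat.card ↥D :=
    ⟨_, Nat.minFac_prime hcardD, Nat.minFac_dvd _⟩
  haveI : Fact p.Prime := ⟨hp⟩
  obtain ⟨a₀, ha₀⟩ := exists_prime_orderOf_dvd_card' p hpD
  have ha₀' : orderOf (a₀ : ↥R) = p := by
    rw [Subgroup.orderOf_coe]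
    exact ha₀
  have hDord : ∀ d ∈ D, ∃ j : ℕ, orderOf d = p ^ j := fun d hd =>
    eppo_order hppR hp (a₀ : ↥R) ha₀' d (hDcomm _ a₀.2 d hd)
  have hDp : IsPGroup p ↥D := by
    intro d
    obtain ⟨j, hj⟩ := hDord d d.2
    refine ⟨j, ?_⟩
    have h1 := pow_orderOf_eq_one (d : ↥R)
    rw [hj] at h1
    exact Subtype.ext (by rw [Subgroup.coe_pow, h1]; rfl)
  refine ⟨p, hp, ?_⟩
  by_contra hRp
  obtain ⟨q, hq, hqp, hqR⟩ := exists_other_prime p hRp
  haveI : Fact q.Prime := ⟨hq⟩
  obtain ⟨Q⟩ : Nonempty (Sylow q ↥R) := inferInstance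
  have hQcard : q ∣ Nat.card ↥(Q : Subgroup ↥R) := by
    rw [Sylow.card_eq_multiplicity]
    exact dvd_pow_self q ((Nat.Prime.factorization_pos_of_dvd hq Nat.card_pos.ne' hqR).ne')
  haveI hQnt : Nontrivial ↥(Q : Subgroup ↥R) := by
    rw [← Finite.one_lt_card_iff_nontrivial]
    exact lt_of_lt_of_le hq.one_lt (Nat.le_of_dvd Nat.card_pos hQcard)
  haveI := Q.isPGroup'.center_nontrivial
  have hZcard : q ∣ Nat.card ↥(Subgroup.center ↥(Q : Subgroup ↥R)) := by
    rcases (Q.isPGroup'.to_subgroup (Subgroup.center ↥(Q : Subgroup ↥R))).card_eq_or_dvd with h | h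
    · exact absurd h (Finite.one_lt_card).ne'
    · exact h
  obtain ⟨z, hz⟩ := exists_prime_orderOf_dvd_card' q hZcard
  obtain ⟨u, hu⟩ : ∃ u : ↥R, u = ((z : ↥(Q : Subgroup ↥R)) : ↥R) := ⟨_, rfl⟩
  have huQ : u ∈ (Q : Subgroup ↥R) := hu ▸ (z : ↥(Q : Subgroup ↥R)).2
  have huord : orderOf u = q := by
    rw [hu, Subgroup.orderOf_coe, Subgroup.orderOf_coe]
    exact hz
  have hucomm : ∀ v ∈ (Q : Subgroup ↥R), Commute v u := by
    intro v hv
    have h1 := Subgroup.mem_center_iff.mp z.2 ⟨v, hv⟩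
    have h2 := congrArg Subtype.val h1
    rw [hu]
    exact h2
  have hfpf : ∀ w : ↥R, orderOf w = q → ∀ d ∈ D, Commute w d → d = 1 := by
    intro w hw d hd hc
    obtain ⟨j, hj⟩ := hDord d hd
    obtain ⟨i, hi⟩ := eppo_order hppR hq w hw d hc
    rw [hj] at hi
    by_cases hj0 : j = 0
    · rw [hj0, pow_zero] at hj
      exact orderOf_eq_one_iff.mp hj
    · exfalso
      have h1 : p ∣ q ^ i := hi ▸ dvd_pow_self p hj0
      exact hqp ((Nat.prime_dvd_prime_iff_eq hp hq).mp (hp.dvd_of_dvd_pow h1)).symm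
  have hkey : ∀ v ∈ (Q : Subgroup ↥R), orderOf v = q → v ∈ Subgroup.zpowers u := by
    intro v hvQ hvord
    by_contra hvu
    have hcommS : ∀ x ∈ ({v, u} : Set ↥R), ∀ y ∈ ({v, u} : Set ↥R), x * y = y * x := by
      intro x hx y hy
      rcases hx with rfl | rfl <;> rcases hy with rfl | rfl
      · rfl
      · exact hucomm _ hvQ
      · exact (hucomm _ hvQ).symm
      · rfl
    haveI hA : IsMulCommutative ↥(Subgroup.closure ({v, u} : Set ↥R)) :=
      Subgroup.isMulCommutative_closure hcommS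
    have hAQ : Subgroup.closure ({v, u} : Set ↥R) ≤ (Q : Subgroup ↥R) := by
      rw [Subgroup.closure_le]
      intro x hx
      rcases hx with rfl | rfl
      · exact hvQ
      · exact huQ
    have hAp : IsPGroup q ↥(Subgroup.closure ({v, u} : Set ↥R)) := Q.isPGroup'.to_le hAQ
    have hcop : (Nat.card ↥(Subgroup.closure ({v, u} : Set ↥R))).Coprime (Nat.card ↥D) := by
      obtain ⟨n1, h1⟩ := IsPGroup.iff_card.mp hAp
      obtain ⟨n2, h2⟩ := IsPGroup.iff_card.mp hDp
      rw [h1, h2]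
      exact Nat.Coprime.pow _ _ ((Nat.coprime_primes hq hp).mpr hqp)
    have hcop2 : (Nat.card ↥D).Coprime q := by
      obtain ⟨n2, h2⟩ := IsPGroup.iff_card.mp hDp
      rw [h2]
      exact Nat.Coprime.pow_left _ ((Nat.coprime_primes hp hq).mpr (Ne.symm hqp))
    have hDbot : D ≤ ⊥ := by
      refine Cfsg.Agent.Lib.helper9.rank2_gen (Subgroup.closure ({v, u} : Set ↥R)) hq v u
        (Subgroup.subset_closure (Set.mem_insert _ _))
        (Subgroup.subset_closure (Set.mem_insert_of_mem _ rfl)) ⊥ (Nat.card ↥D) D le_rfl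
        (Group.isSolvable_of_comm ?_) ?_ hcop hcop2 ?_ ?_ ?_ ?_
      · intro a b
        exact Subtype.ext (hDcomm _ a.2 _ b.2)
      · rw [Subgroup.normalizer_eq_top]
        exact le_top
      · rw [← hvord, pow_orderOf_eq_one]
        exact one_mem _
      · rw [← huord, pow_orderOf_eq_one]
        exact one_mem _
      · intro d hd
        obtain ⟨hdD, hdc⟩ := Subgroup.mem_inf.mp hd
        rw [Subgroup.mem_bot]
        exact hfpf u huord d hdD (Subgroup.mem_centralizer_iff.mp hdc u rfl)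
      · intro j hj d hd
        obtain ⟨hdD, hdc⟩ := Subgroup.mem_inf.mp hd
        rw [Subgroup.mem_bot]
        have hw1 : v * u ^ j ≠ 1 := by
          intro h
          apply hvu
          have h2 : v = (u ^ j)⁻¹ := eq_inv_of_mul_eq_one_left h
          rw [h2]
          exact inv_mem (Subgroup.pow_mem _ (Subgroup.mem_zpowers u) j)
        have hw2 : (v * u ^ j) ^ q = 1 := by
          rw [((hucomm v hvQ).pow_right j).mul_pow, ← hvord, pow_orderOf_eq_one, one_mul,
            ← pow_mul, mul_comm, pow_mul, hvord, ← huord, pow_orderOf_eq_one, one_pow]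
        exact hfpf (v * u ^ j) (orderOf_eq_prime hw2 hw1) d hdD
          (Subgroup.mem_centralizer_iff.mp hdc _ rfl)
    exact hDne (le_bot_iff.mp hDbot)
  -- back in G
  obtain ⟨u', hu'⟩ : ∃ u' : G, u' = (u : G) := ⟨_, rfl⟩
  have hu'ord : orderOf u' = q := by
    rw [hu', Subgroup.orderOf_coe]
    exact huord
  obtain ⟨Q', hQ'⟩ : ∃ Q' : Subgroup G, Q' = (Q : Subgroup ↥R).map R.subtype := ⟨_, rfl⟩
  have hfrat : (Subgroup.normalizer (Q' : Set G)) ⊔ R = ⊤ := by
    rw [hQ']
    exact Sylow.normalizer_sup_eq_top Q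
  have hnorm : ∀ g ∈ (Subgroup.normalizer (Q' : Set G)), ∃ i : ℤ, g * u' * g⁻¹ = u' ^ i := by
    intro g hg
    have h1 : g * u' * g⁻¹ ∈ Q' := by
      rw [← (Subgroup.mem_normalizer_iff.mp hg) u', hQ', hu']
      exact Subgroup.mem_map_of_mem _ huQ
    rw [hQ'] at h1
    obtain ⟨w, hwQ, hw⟩ := Subgroup.mem_map.mp h1
    have hword : orderOf w = q := by
      rw [← Subgroup.orderOf_coe]
      have h2 : ((w : ↥R) : G) = MulAut.conj g u' := by
        rw [MulAut.conj_apply]
        exact hw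
      rw [h2, MulEquiv.orderOf_eq]
      exact hu'ord
    obtain ⟨i, hi⟩ := Subgroup.mem_zpowers_iff.mp (hkey w hwQ hword)
    refine ⟨i, ?_⟩
    rw [← hw, ← hi, hu']
    simp
  have hsolN : Group.IsSolvable ↥(Subgroup.normalizer (Q' : Set G)) := by
    obtain ⟨K, hK⟩ : ∃ K : Subgroup ↥(Subgroup.normalizer (Q' : Set G)),
        K = (Subgroup.centralizer {u'}).subgroupOf (Subgroup.normalizer (Q' : Set G)) := ⟨_, rfl⟩
    have hKc : ∀ y ∈ K, Commute u' (y : G) := by
      intro y hy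
      rw [hK, Subgroup.mem_subgroupOf, Subgroup.mem_centralizer_iff] at hy
      exact hy u' rfl
    have hKp : IsPGroup q ↥K := by
      intro x
      have hxc : Commute u' ((x : ↥(Subgroup.normalizer (Q' : Set G))) : G) := hKc x x.2
      obtain ⟨j, hj⟩ := eppo_order hpp hq u' hu'ord _ hxc
      refine ⟨j, ?_⟩
      have h2 := pow_orderOf_eq_one ((x : ↥(Subgroup.normalizer (Q' : Set G))) : G)
      rw [hj] at h2
      apply Subtype.ext
      apply Subtype.ext
      simpa using h2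
    haveI : Group.IsSolvable ↥K := pgroup_solvable hq hKp
    refine Group.isSolvable_of_ker_le_range K.subtype
      (Abelianization.of (G := ↥(Subgroup.normalizer (Q' : Set G)))) ?_
    rw [Abelianization.ker_of, Subgroup.range_subtype, commutator_def, Subgroup.commutator_le]
    intro a _ b _
    rw [hK, Subgroup.mem_subgroupOf, Subgroup.mem_centralizer_iff]
    intro h hh
    rw [Set.mem_singleton_iff] at hh
    rw [hh]
    obtain ⟨i, hi⟩ := hnorm (a⁻¹ : ↥(Subgroup.normalizer (Q' : Set G))) (a⁻¹ : ↥(Subgroup.normalizer (Q' : Set G))).2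
    obtain ⟨j, hj⟩ := hnorm (b⁻¹ : ↥(Subgroup.normalizer (Q' : Set G))) (b⁻¹ : ↥(Subgroup.normalizer (Q' : Set G))).2
    have h3 := comm_of_pow u' (a : G) (b : G) i j (by simpa using hi) (by simpa using hj)
    rw [commutatorElement_def]
    simpa using h3.symm
  apply hns
  haveI : Group.IsSolvable (G ⧸ R) := by
    have hsurj : Function.Surjective ((QuotientGroup.mk' R).comp (Subgroup.normalizer (Q' : Set G)).subtype) := by
      intro x
      obtain ⟨g, rfl⟩ := QuotientGroup.mk_surjective x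
      have hg : g ∈ (((Subgroup.normalizer (Q' : Set G)) ⊔ R : Subgroup G) : Set G) := by
        rw [hfrat]
        exact Subgroup.mem_top g
      rw [Subgroup.mul_normal] at hg
      obtain ⟨n, hn, r, hr, rfl⟩ := Set.mem_mul.mp hg
      refine ⟨⟨n, hn⟩, ?_⟩
      rw [MonoidHom.comp_apply]
      show (n : G ⧸ R) = ((n * r : G) : G ⧸ R)
      rw [QuotientGroup.eq]
      simpa using hr
    exact Group.isSolvable_of_surjective hsurj
  exact solvable_of_quot R hRs inferInstance

theorem socle_simple {K : Type*} [Group K] [Finite K]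
    (hpp : ∀ g : K, g ≠ 1 → IsPrimePow (orderOf g)) [hnt : Nontrivial K]
    (hrad : ∀ N : Subgroup K, N.Normal → Group.IsSolvable ↥N → N = ⊥) :
    ∃ M : Subgroup K, M.Normal ∧ IsSimpleGroup ↥M ∧ ¬ IsMulCommutative ↥M ∧
        ∀ N : Subgroup K, N.Normal → N ≠ ⊥ → M ≤ N := by
  classical
  have hex : ∃ n, ∃ M : Subgroup K, M.Normal ∧ M ≠ ⊥ ∧ Nat.card ↥M = n :=
    ⟨_, ⊤, inferInstance, top_ne_bot, rfl⟩
  obtain ⟨M, hMn, hMne, hMcard⟩ := Nat.find_spec hex
  have hMmin : ∀ N : Subgroup K, N.Normal → N ≠ ⊥ → Nat.card ↥M ≤ Nat.card ↥N :=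
    fun N hN hN0 => by
      rw [hMcard]
      exact Nat.find_min' hex ⟨N, hN, hN0, rfl⟩
  haveI := hMn
  have hMnotp : ∀ p : ℕ, p.Prime → ¬ IsPGroup p ↥M := fun p hp h =>
    hMne (hrad M hMn (pgroup_solvable hp h))
  have hppM := eppo_subgroup hpp M
  have huniq : ∀ N : Subgroup K, N.Normal → N ≠ ⊥ → M ≤ N := by
    intro N hN hN0
    haveI := hN
    by_cases hMN : M ⊓ N = ⊥
    · exfalso
      have hcardN : Nat.card ↥N ≠ 1 := fun h => hN0 (Subgroup.eq_bot_of_card_eq N h)
      have hqp := Nat.minFac_prime hcardN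
      haveI : Fact (Nat.card ↥N).minFac.Prime := ⟨hqp⟩
      obtain ⟨y, hy⟩ := exists_prime_orderOf_dvd_card' (Nat.card ↥N).minFac (Nat.minFac_dvd _)
      obtain ⟨p, hp, hpq, hpM⟩ := exists_other_prime (Nat.card ↥N).minFac (hMnotp _ hqp)
      haveI : Fact p.Prime := ⟨hp⟩
      obtain ⟨x, hx⟩ := exists_prime_orderOf_dvd_card' p hpM
      have hc : Commute (x : K) (y : K) :=
        Subgroup.commute_of_normal_of_disjoint M N hMn hN (disjoint_iff.mpr hMN) x y x.2 y.2
      refine eppo_commute hpp (x : K) (y : K) hc ?_ ?_ ?_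
      · intro h
        have h1 : orderOf (x : K) = 1 := by rw [h, orderOf_one]
        rw [Subgroup.orderOf_coe, hx] at h1
        exact hp.one_lt.ne' h1
      · intro h
        have h1 : orderOf (y : K) = 1 := by rw [h, orderOf_one]
        rw [Subgroup.orderOf_coe, hy] at h1
        exact hqp.one_lt.ne' h1
      · rw [Subgroup.orderOf_coe, Subgroup.orderOf_coe, hx, hy]
        exact (Nat.coprime_primes hp hqp).mpr hpq
    · have h1 := hMmin (M ⊓ N) inferInstance hMN
      have h2 : M ⊓ N = M := Subgroup.eq_of_le_of_card_ge inf_le_left h1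
      exact inf_eq_left.mp h2
  have hMsimple : IsSimpleGroup ↥M := by
    haveI : Nontrivial ↥M := (Subgroup.nontrivial_iff_ne_bot M).mpr hMne
    refine ⟨fun S₀ hS₀ => ?_⟩
    by_contra hcon
    push Not at hcon
    obtain ⟨hS₀bot, hS₀top⟩ := hcon
    have hex2 : ∃ n, ∃ S : Subgroup ↥M, S.Normal ∧ S ≠ ⊥ ∧ Nat.card ↥S = n :=
      ⟨_, S₀, hS₀, hS₀bot, rfl⟩
    obtain ⟨S, hSn, hSne, hScard⟩ := Nat.find_spec hex2
    have hSmin : ∀ N : Subgroup ↥M, N.Normal → N ≠ ⊥ → Nat.card ↥S ≤ Nat.card ↥N :=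
      fun N hN hN0 => by
        rw [hScard]
        exact Nat.find_min' hex2 ⟨N, hN, hN0, rfl⟩
    have hSlt : Nat.card ↥S < Nat.card ↥M := by
      have h1 := hSmin S₀ hS₀ hS₀bot
      have h2 : Nat.card ↥S₀ < Nat.card ↥M := by
        rcases (Subgroup.card_le_card_group S₀).lt_or_eq with h | h
        · exact h
        · exact absurd (Subgroup.eq_top_of_card_eq S₀ h) hS₀top
      omega
    have hS'nn : ¬ (S.map M.subtype).Normal := by
      intro hnorm
      have h1 := hMmin (S.map M.subtype) hnorm (by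
        intro h
        apply hSne
        exact (Subgroup.map_eq_bot_iff_of_injective S M.subtype_injective).mp h)
      rw [Subgroup.card_map_of_injective M.subtype_injective] at h1
      omega
    obtain ⟨g, s, hs, hgs⟩ : ∃ g : K, ∃ s ∈ S.map M.subtype, g * s * g⁻¹ ∉ S.map M.subtype := by
      by_contra h
      push Not at h
      exact hS'nn ⟨fun n hn g => h g n hn⟩
    obtain ⟨s₀, hs₀, rfl⟩ := Subgroup.mem_map.mp hs
    obtain ⟨T, hT⟩ : ∃ T : Subgroup ↥M,
        T = S.map (MulAut.conjNormal g : MulAut ↥M).toMonoidHom := ⟨_, rfl⟩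
    have hTn : T.Normal := by
      rw [hT]
      exact hSn.map _ (MulEquiv.surjective _)
    have hTcard : Nat.card ↥T = Nat.card ↥S := by
      rw [hT]
      exact Subgroup.card_map_of_injective (MulEquiv.injective _)
    have hTS : T ≠ S := by
      intro h
      apply hgs
      have h1 : (MulAut.conjNormal g : MulAut ↥M) s₀ ∈ T := by
        rw [hT]
        exact Subgroup.mem_map_of_mem _ hs₀
      rw [h] at h1
      have h2 := Subgroup.mem_map_of_mem M.subtype h1
      simpa [MulAut.conjNormal_apply] using h2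
    have hdisj : S ⊓ T = ⊥ := by
      by_contra hne
      haveI := hSn
      haveI := hTn
      have h1 := hSmin (S ⊓ T) inferInstance hne
      have h2 : S ⊓ T = S := Subgroup.eq_of_le_of_card_ge inf_le_left h1
      have h3 : S ≤ T := inf_eq_left.mp h2
      exact hTS (Subgroup.eq_of_le_of_card_ge h3 hTcard.le).symm
    have hSnotp : ∀ p : ℕ, p.Prime → ¬ IsPGroup p ↥S := by
      intro p hp hSp
      haveI : Fact p.Prime := ⟨hp⟩
      have h1 : S ≤ Cfsg.pCore p ↥M := Cfsg.Agent.Lib.helper15.le_pCore hSn hSp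
      have h2 : (Cfsg.pCore p ↥M).map M.subtype ≤ Cfsg.pCore p K :=
        Cfsg.Agent.Lib.helper16.map_pCore_le_of_normal M
      have h3 : Cfsg.pCore p K = ⊥ := hrad _ (Cfsg.Agent.Lib.helper15.pCore_normal p K)
        (pgroup_solvable hp (Cfsg.Agent.Lib.helper15.pCore_isPGroup p K))
      rw [h3, le_bot_iff, Subgroup.map_eq_bot_iff_of_injective _ M.subtype_injective] at h2
      rw [h2, le_bot_iff] at h1
      exact hSne h1
    have hcardT : Nat.card ↥T ≠ 1 := by
      rw [hTcard]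
      exact fun h => hSne (Subgroup.eq_bot_of_card_eq S h)
    have hqp := Nat.minFac_prime hcardT
    haveI : Fact (Nat.card ↥T).minFac.Prime := ⟨hqp⟩
    obtain ⟨y, hy⟩ := exists_prime_orderOf_dvd_card' (Nat.card ↥T).minFac (Nat.minFac_dvd _)
    obtain ⟨p, hp, hpq, hpS⟩ := exists_other_prime (Nat.card ↥T).minFac (hSnotp _ hqp)
    haveI : Fact p.Prime := ⟨hp⟩
    obtain ⟨x, hx⟩ := exists_prime_orderOf_dvd_card' p hpS
    have hc : Commute (x : ↥M) (y : ↥M) :=
      Subgroup.commute_of_normal_of_disjoint S T hSn hTn (disjoint_iff.mpr hdisj) x y x.2 y.2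
    refine eppo_commute hppM (x : ↥M) (y : ↥M) hc ?_ ?_ ?_
    · intro h
      have h1 : orderOf (x : ↥M) = 1 := by rw [h, orderOf_one]
      rw [Subgroup.orderOf_coe, hx] at h1
      exact hp.one_lt.ne' h1
    · intro h
      have h1 : orderOf (y : ↥M) = 1 := by rw [h, orderOf_one]
      rw [Subgroup.orderOf_coe, hy] at h1
      exact hqp.one_lt.ne' h1
    · rw [Subgroup.orderOf_coe, Subgroup.orderOf_coe, hx, hy]
      exact (Nat.coprime_primes hp hqp).mpr hpq
  refine ⟨M, hMn, hMsimple, ?_, huniq⟩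
  intro hcomm
  apply hMne
  apply hrad M hMn
  exact Group.isSolvable_of_comm (fun a b => hcomm.is_comm.comm a b)

/-- Let G be a finite non-solvable group in which every element has prime-power order, and let R be its largest solvable normal subgroup. Then R is a p-group for some prime p; G/R has a non-abelian simple normal subgroup contained in every nontrivial normal subgroup of G/R (its unique minimal normal subgroup); and the order of every solvable subgroup of G has at most two prime divisors. -/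
theorem result {G : Type*} [Group G] [Finite G] (hns : ¬ Group.IsSolvable G) (hpp : ∀ g : G, g ≠ 1 → IsPrimePow (orderOf g))
    (R : Subgroup G) [R.Normal] (hRs : Group.IsSolvable ↥R) (hRmax : ∀ N : Subgroup G, N.Normal → Group.IsSolvable ↥N → N ≤ R) :
    (∃ p : ℕ, p.Prime ∧ IsPGroup p ↥R) ∧
      (∃ M : Subgroup (G ⧸ R), M.Normal ∧ IsSimpleGroup ↥M ∧ ¬ IsMulCommutative ↥M ∧
        ∀ N : Subgroup (G ⧸ R), N.Normal → N ≠ ⊥ → M ≤ N) ∧
      ∀ H : Subgroup G, Group.IsSolvable ↥H → (Nat.card ↥H).primeFactors.card ≤ 2 := by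
  refine ⟨radical_pgroup hns hpp R hRs, ?_, ?_⟩
  · haveI : Nontrivial (G ⧸ R) := by
      by_contra hnt
      rw [not_nontrivial_iff_subsingleton] at hnt
      exact hns (solvable_of_quot R hRs inferInstance)
    apply socle_simple (eppo_quot hpp R)
    intro N hN hNs
    haveI := hN
    have h1 : Group.IsSolvable ↥(N.comap (QuotientGroup.mk' R)) := by
      have hRle : R ≤ N.comap (QuotientGroup.mk' R) := by
        intro x hx
        rw [Subgroup.mem_comap]
        have h : QuotientGroup.mk' R x = 1 := by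
          rw [QuotientGroup.mk'_apply, QuotientGroup.eq_one_iff]
          exact hx
        rw [h]
        exact one_mem _
      refine Group.isSolvable_of_ker_le_range (Subgroup.inclusion hRle)
        ((QuotientGroup.mk' R).subgroupComap N) ?_
      intro x hx
      rw [MonoidHom.mem_ker] at hx
      have hx' : (x : G) ∈ R := by
        have h : (QuotientGroup.mk' R) (x : G) = 1 := congrArg Subtype.val hx
        rw [QuotientGroup.mk'_apply, QuotientGroup.eq_one_iff] at h
        exact h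
      exact ⟨⟨x, hx'⟩, Subtype.ext rfl⟩
    have h2 := hRmax _ inferInstance h1
    rw [eq_bot_iff]
    intro x hx
    obtain ⟨g, rfl⟩ := QuotientGroup.mk_surjective x
    rw [Subgroup.mem_bot, QuotientGroup.eq_one_iff]
    exact h2 (Subgroup.mem_comap.mpr hx)
  · intro H hH
    haveI := hH
    exact Cfsg.Agent.S1475.result (fun g => by
      by_cases hg : g = 1
      · exact Or.inr hg
      · exact Or.inl (eppo_subgroup hpp H g hg))

end Cfsg.Agent.S3992
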