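import Cfsg.Statements.S4001
-- import your own Cfsg.Agent.* helpers here
import Mathlib
import Cfsg.Agent.Lib.helper1.FrobConj
import Cfsg.Agent.Lib.helper1.FrobStruct
import Cfsg.Agent.S0034
import Cfsg.Agent.S0042
import Cfsg.Agent.S0068
import Cfsg.Agent.S3703
import Cfsg.Agent.S4155

set_option autoImplicit false
open Cfsg

namespace Cfsg.Agent.S4001

open scoped Pointwise
open Cfsg.Agent.Lib.helper1

/-- package of standard facts on a Frobenius group with kernel subgroup `N` and complement `C` -/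
theorem frob_facts {Γ : Type*} [Group Γ] [Finite Γ] (N C : Subgroup Γ) [N.Normal]
    (hC : Cfsg.IsFrobeniusComplement C) (hker : Cfsg.frobeniusKernel C = (N : Set Γ)) :
    Subgroup.IsComplement' N C ∧ N ≠ ⊥ ∧
      (∀ h ∈ C, h ≠ 1 → N ⊓ Subgroup.centralizer {h} = ⊥) ∧
      (∀ w, w ∉ N → ∀ n ∈ N, w * n = n * w → n = 1) ∧
      (Nat.card C).Coprime (Nat.card N) ∧ Group.IsNilpotent N := by
  obtain ⟨N', hset, hN'n, hc, hN', hfpf⟩ := frob_pair C hC
  have hNN : N' = N := SetLike.coe_injective (hset.trans hker)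
  rw [hNN] at hset hc hN' hfpf
  refine ⟨hc, hN', hfpf, ?_, ?_, ?_⟩
  · intro w hw n hn hcomm
    exact frob_fpf_of_not_mem C N hset hfpf w hw n hn hcomm
  · obtain ⟨h1, h2⟩ := Cfsg.Agent.S0034.result C hC
    have hcardN : Nat.card N = C.index := by
      rw [← h1, ← hset]; rfl
    rw [hcardN]
    have h3 : C.index ≡ 1 [MOD Nat.card C] := h2
    have h4 := Nat.ModEq.gcd_eq h3
    rw [Nat.coprime_iff_gcd_eq_one, Nat.gcd_comm, h4]
    exact Nat.gcd_one_left _
  · obtain ⟨N₂, hset2, _, hnil⟩ := Cfsg.Agent.S0042.result C hC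
    have h2 : N₂ = N := SetLike.coe_injective (hset2.trans hset.symm)
    exact h2 ▸ hnil

theorem exists_order_of_map {G Γ : Type*} [Group G] [Finite G] [Group Γ] (ψ : G →* Γ) (x : G)
    (m : ℕ) (hm : orderOf (ψ x) = m) : ∃ g : G, orderOf g = m := by
  have h1 : orderOf (ψ x) ∣ orderOf x := orderOf_map_dvd ψ x
  rw [hm] at h1
  obtain ⟨t, ht⟩ := h1
  have hpos : 0 < orderOf x := orderOf_pos x
  have ht0 : t ≠ 0 := by
    rintro rfl; rw [Nat.mul_zero] at ht; omega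
  refine ⟨x ^ t, ?_⟩
  rw [orderOf_pow_of_dvd ht0 ⟨m, by rw [ht, Nat.mul_comm]⟩, ht]
  exact Nat.mul_div_cancel _ (Nat.pos_of_ne_zero ht0)

theorem order_pq_of_commute {G : Type*} [Group G] (x y : G) (p q : ℕ) (hp : p.Prime) (hq : q.Prime)
    (hpq : p ≠ q) (hx : orderOf x = p) (hy : orderOf y = q) (h : x * y = y * x) :
    orderOf (x * y) = p * q := by
  have hco : (orderOf x).Coprime (orderOf y) := by
    rw [hx, hy]; exact (Nat.coprime_primes hp hq).mpr hpq
  have h1 := Commute.orderOf_mul_eq_mul_orderOf_of_coprime (show Commute x y from h) hco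
  rw [h1, hx, hy]

theorem exists_pq_cyclic {Γ : Type*} [Group Γ] [Finite Γ] [IsCyclic Γ] (p q : ℕ) (hp : p.Prime)
    (hq : q.Prime) (hpq : p ≠ q) (hpd : p ∣ Nat.card Γ) (hqd : q ∣ Nat.card Γ) :
    ∃ y : Γ, orderOf y = p * q := by
  obtain ⟨g, hg⟩ := IsCyclic.exists_generator (α := Γ)
  have hord : orderOf g = Nat.card Γ := orderOf_eq_card_of_forall_mem_zpowers hg
  have hdvd : p * q ∣ Nat.card Γ :=
    Nat.Coprime.mul_dvd_of_dvd_of_dvd ((Nat.coprime_primes hp hq).mpr hpq) hpd hqd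
  obtain ⟨t, ht⟩ := hdvd
  have hpos : 0 < Nat.card Γ := Nat.card_pos
  have ht0 : t ≠ 0 := by
    rintro rfl; rw [Nat.mul_zero] at ht; omega
  refine ⟨g ^ t, ?_⟩
  rw [orderOf_pow_of_dvd ht0 (by rw [hord, ht]; exact Dvd.intro_left _ rfl), hord, ht]
  exact Nat.mul_div_cancel _ (Nat.pos_of_ne_zero ht0)

theorem exists_pq_nilp {M : Type*} [Group M] [Finite M] [Group.IsNilpotent M] (p q : ℕ)
    (hp : p.Prime) (hq : q.Prime) (hpq : p ≠ q) (hpd : p ∣ Nat.card M) (hqd : q ∣ Nat.card M) :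
    ∃ y : M, orderOf y = p * q := by
  haveI : Fact p.Prime := ⟨hp⟩
  haveI : Fact q.Prime := ⟨hq⟩
  obtain ⟨x, hx⟩ := exists_prime_orderOf_dvd_card' p hpd
  obtain ⟨y, hy⟩ := exists_prime_orderOf_dvd_card' q hqd
  have hco : (orderOf x).Coprime (orderOf y) := by
    rw [hx, hy]; exact (Nat.coprime_primes hp hq).mpr hpq
  exact ⟨x * y, order_pq_of_commute x y p q hp hq hpq hx hy
    (Cfsg.Agent.S4155.commute_of_coprime_nilp M x y hco)⟩

open scoped IsMulCommutative in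
theorem exists_pq_mixed {G : Type*} [Group G] [Finite G] (H : Subgroup G) [H.Normal]
    (hnilH : Group.IsNilpotent H)
    (Kb C₂ : Subgroup (G ⧸ H)) [Kb.Normal] (hC₂ : Cfsg.IsFrobeniusComplement C₂)
    (hker₂ : Cfsg.frobeniusKernel C₂ = (Kb : Set (G ⧸ H)))
    (hcop : (Nat.card Kb).Coprime (Nat.card H))
    (k₀ : G) (hk₀ : QuotientGroup.mk' H k₀ ∈ Kb) (hk₀fpf : ∀ z ∈ H, k₀ * z = z * k₀ → z = 1)
    (p q : ℕ) (hp : p.Prime) (hq : q.Prime) (hpq : p ≠ q) (hpH : p ∣ Nat.card H)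
    (hqC : q ∣ Nat.card C₂) :
    ∃ g : G, orderOf g = p * q := by
  classical
  have : Fact p.Prime := ⟨hp⟩
  have : Fact q.Prime := ⟨hq⟩
  obtain ⟨hc₂, hKb_ne, hfpf₂', hfpf₂, hcop₂, hnil₂⟩ := frob_facts Kb C₂ hC₂ hker₂
  obtain ⟨P⟩ : Nonempty (Sylow p H) := inferInstance
  have hPn : (P : Subgroup H).Normal :=
    Sylow.normal_of_normalizerCondition Group.normalizerCondition_of_isNilpotent P
  have hPc : (P : Subgroup H).Characteristic := Sylow.characteristic_of_normal P hPn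
  obtain ⟨P', hP'⟩ : ∃ P' : Subgroup G, P' = (P : Subgroup H).map H.subtype := ⟨_, rfl⟩
  have hP'n : P'.Normal := by rw [hP']; infer_instance
  obtain ⟨Z, hZ⟩ : ∃ Z : Subgroup G, Z = P' ⊓ Subgroup.centralizer (P' : Set G) := ⟨_, rfl⟩
  have hZn : Z.Normal := by rw [hZ]; infer_instance
  have hP'H : P' ≤ H := by
    rw [hP']; rintro _ ⟨x, -, rfl⟩; exact x.2
  have hZP : Z ≤ P' := by rw [hZ]; exact inf_le_left
  have hZH : Z ≤ H := hZP.trans hP'H
  have hZcomm : ∀ z ∈ Z, ∀ x ∈ P', x * z = z * x := by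
    intro z hz x hx
    rw [hZ] at hz
    exact Subgroup.mem_centralizer_iff.mp hz.2 x hx
  have hP'p : IsPGroup p P' := by rw [hP']; exact P.isPGroup'.map H.subtype
  have hZne : Z ≠ ⊥ := by
    have hPne : (P : Subgroup H) ≠ ⊥ := P.ne_bot_of_dvd_card hpH
    have hP'ne : P' ≠ ⊥ := by
      intro h0
      apply hPne
      rw [eq_bot_iff]
      intro x hx
      have h1 : (x : G) ∈ P' := by rw [hP']; exact Subgroup.mem_map_of_mem _ hx
      rw [h0, Subgroup.mem_bot] at h1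
      rw [Subgroup.mem_bot]; exact Subtype.ext h1
    have : Nontrivial P' := (Subgroup.nontrivial_iff_ne_bot P').mpr hP'ne
    have := hP'p.center_nontrivial
    obtain ⟨c, hc⟩ := exists_ne (1 : Subgroup.center P')
    intro h0
    apply hc
    have hmem : ((c : P') : G) ∈ Z := by
      rw [hZ]
      refine ⟨(c : P').2, ?_⟩
      show ((c : P') : G) ∈ Subgroup.centralizer (P' : Set G)
      rw [Subgroup.mem_centralizer_iff]
      intro x hx
      have h2 := Subgroup.mem_center_iff.mp c.2 ⟨x, hx⟩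
      exact congrArg Subtype.val h2
    rw [h0, Subgroup.mem_bot] at hmem
    exact Subtype.ext (Subtype.ext hmem)
  have hHZ : ∀ h ∈ H, ∀ z ∈ Z, h * z = z * h := by
    have htop : (Subgroup.centralizer (Z : Set G)).subgroupOf H = ⊤ := by
      apply eq_top_of_sylow_le
      intro r hr
      by_cases hrp : r = p
      · subst hrp
        refine ⟨P, ?_⟩
        intro x hx
        rw [Subgroup.mem_subgroupOf, Subgroup.mem_centralizer_iff]
        intro z hz
        have hxP' : (x : G) ∈ P' := by rw [hP']; exact Subgroup.mem_map_of_mem _ hx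
        exact (hZcomm z hz x hxP').symm
      · obtain ⟨Q⟩ : Nonempty (Sylow r H) := inferInstance
        refine ⟨Q, ?_⟩
        intro x hx
        rw [Subgroup.mem_subgroupOf, Subgroup.mem_centralizer_iff]
        intro z hz
        have hzH : z ∈ H := hZH hz
        obtain ⟨a, ha⟩ := IsPGroup.iff_orderOf.mp Q.isPGroup' ⟨x, hx⟩
        rw [Subgroup.orderOf_mk] at ha
        obtain ⟨b, hb⟩ := IsPGroup.iff_orderOf.mp hP'p ⟨z, hZP hz⟩
        rw [Subgroup.orderOf_mk] at hb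
        have hb' : orderOf (⟨z, hzH⟩ : H) = p ^ b := by rw [Subgroup.orderOf_mk]; exact hb
        have hco : (orderOf x).Coprime (orderOf (⟨z, hzH⟩ : H)) := by
          rw [ha, hb']
          exact Nat.Coprime.pow _ _ ((Nat.coprime_primes hr.out hp).mpr hrp)
        have h3 := Cfsg.Agent.S4155.commute_of_coprime_nilp H x ⟨z, hzH⟩ hco
        exact (congrArg Subtype.val h3).symm
    intro h hh z hz
    have h4 : (⟨h, hh⟩ : H) ∈ (Subgroup.centralizer (Z : Set G)).subgroupOf H := by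
      rw [htop]; trivial
    rw [Subgroup.mem_subgroupOf, Subgroup.mem_centralizer_iff] at h4
    exact (h4 z hz).symm
  have hZc : IsMulCommutative Z := ⟨⟨fun a b => Subtype.ext (hZcomm b b.2 a (hZP a.2))⟩⟩
  have hker : H ≤ (MulAut.conjNormal (H := Z)).ker := by
    intro h hh
    rw [MonoidHom.mem_ker]
    ext z
    rw [MulAut.conjNormal_apply]
    have h5 := hHZ h hh z z.2
    rw [h5]; simp
  obtain ⟨ρ, hρ⟩ : ∃ ρ : G ⧸ H →* MulAut Z,
      ρ = QuotientGroup.lift H (MulAut.conjNormal (H := Z)) hker := ⟨_, rfl⟩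
  have hρmk : ∀ (g : G) (z : Z), ((ρ (QuotientGroup.mk' H g) z : Z) : G) = g * z * g⁻¹ := by
    intro g z; rw [hρ]; rfl
  have : Fintype C₂ := Fintype.ofFinite C₂
  have hcopZ : (Nat.card Kb).Coprime (Nat.card Z) :=
    Nat.Coprime.coprime_dvd_right (Subgroup.card_dvd_of_le hZH) hcop
  by_cases hT : ∀ v : Z, ∏ y : C₂, ρ (y : G ⧸ H) v = 1
  · exfalso
    have h1 := Cfsg.Agent.S3703.frob_sum Kb C₂ hC₂ hker₂ hc₂ ρ hcopZ hT (QuotientGroup.mk' H k₀) hk₀
    obtain ⟨z, hz1⟩ := (Subgroup.ne_bot_iff_exists_ne_one).mp hZne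
    have h2 := h1 z
    have h3 := hρmk k₀ z
    rw [h2] at h3
    apply hz1
    apply Subtype.ext
    apply hk₀fpf (z : G) (hZH z.2)
    calc k₀ * (z : G) = k₀ * (z : G) * k₀⁻¹ * k₀ := by group
      _ = (z : G) * k₀ := by rw [← h3]
  · push Not at hT
    obtain ⟨v, hv⟩ := hT
    obtain ⟨w, hw⟩ : ∃ w : Z, w = ∏ y : C₂, ρ (y : G ⧸ H) v := ⟨_, rfl⟩
    have hw1 : w ≠ 1 := by rw [hw]; exact hv
    have hwfix : ∀ c : C₂, ρ (c : G ⧸ H) w = w := by
      intro c
      rw [hw, map_prod]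
      have h6 : ∀ y : C₂, ρ (c : G ⧸ H) (ρ (y : G ⧸ H) v) = ρ ((c * y : C₂) : G ⧸ H) v := by
        intro y; rw [Subgroup.coe_mul, map_mul]; rfl
      simp_rw [h6]
      exact Fintype.prod_bijective (fun y => c * y) (Group.mulLeft_bijective c) _ _ (fun _ => rfl)
    have hwG : ((w : Z) : G) ≠ 1 := fun h => hw1 (Subtype.ext h)
    obtain ⟨k, hk⟩ := IsPGroup.iff_orderOf.mp hP'p ⟨(w : G), hZP w.2⟩
    rw [Subgroup.orderOf_mk] at hk
    have hk0 : k ≠ 0 := by
      rintro rfl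
      rw [pow_zero, orderOf_eq_one_iff] at hk
      exact hwG hk
    obtain ⟨x, hx⟩ : ∃ x : G, x = (w : G) ^ (p ^ (k - 1)) := ⟨_, rfl⟩
    have hxord : orderOf x = p := by
      rw [hx, orderOf_pow_of_dvd (pow_ne_zero _ hp.ne_zero)
        (by rw [hk]; exact pow_dvd_pow p (Nat.sub_le k 1)), hk,
        Nat.pow_div (Nat.sub_le k 1) hp.pos]
      have h7 : k - (k - 1) = 1 := by omega
      rw [h7, pow_one]
    obtain ⟨c, hc⟩ := exists_prime_orderOf_dvd_card' q hqC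
    obtain ⟨g, hg⟩ := QuotientGroup.mk'_surjective H (c : G ⧸ H)
    have hgw : g * (w : G) = (w : G) * g := by
      have h1 := hwfix c
      have h2 := hρmk g w
      rw [hg, h1] at h2
      calc g * (w : G) = g * (w : G) * g⁻¹ * g := by group
        _ = (w : G) * g := by rw [← h2]
    have hgx : Commute g x := by
      rw [hx]; exact Commute.pow_right (show Commute g (w : G) from hgw) _
    have hgq : orderOf (QuotientGroup.mk' H g) = q := by
      rw [hg, Subgroup.orderOf_coe]; exact hc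
    have h1 : orderOf (QuotientGroup.mk' H g) ∣ orderOf g := orderOf_map_dvd _ g
    rw [hgq] at h1
    obtain ⟨t, ht⟩ := h1
    have hpos : 0 < orderOf g := orderOf_pos g
    have ht0 : t ≠ 0 := by
      rintro rfl; rw [Nat.mul_zero] at ht; omega
    have hg1 : orderOf (g ^ t) = q := by
      rw [orderOf_pow_of_dvd ht0 ⟨q, by rw [ht, Nat.mul_comm]⟩, ht]
      exact Nat.mul_div_cancel _ (Nat.pos_of_ne_zero ht0)
    exact ⟨x * g ^ t, order_pq_of_commute x (g ^ t) p q hp hq hpq hxord hg1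
      ((Commute.pow_left hgx t).eq).symm⟩

/-- Let G be a 2-Frobenius group: it has normal subgroups H < K with K a Frobenius group with kernel H and G/H a Frobenius group with kernel K/H. Then G is solvable; K/H has odd order coprime to the order of H and to the order of G/K (it is the image of an odd-order Hall subgroup); G/K is cyclic; and the prime graph of G has exactly two connected components, both complete: for distinct primes p, q dividing the order of G, G has an element of order pq exactly when p and q either both divide the order of K/H or both do not. -/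
theorem result {G : Type*} [Group G] [Finite G] (H K : Subgroup G) [H.Normal] [K.Normal] (hlt : H < K)
    (hK : ∃ C : Subgroup ↥K, Cfsg.IsFrobeniusComplement C ∧ Cfsg.frobeniusKernel C = (H.subgroupOf K : Set ↥K))
    (hGH : ∃ C : Subgroup (G ⧸ H), Cfsg.IsFrobeniusComplement C ∧ Cfsg.frobeniusKernel C = (K.map (QuotientGroup.mk' H) : Set (G ⧸ H))) :
    Group.IsSolvable G ∧ Odd (Nat.card (↥K ⧸ H.subgroupOf K)) ∧
      Nat.Coprime (Nat.card (↥K ⧸ H.subgroupOf K)) (Nat.card ↥H * Nat.card (G ⧸ K)) ∧ IsCyclic (G ⧸ K) ∧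
      ∀ p q : ℕ, p.Prime → q.Prime → p ≠ q → p ∣ Nat.card G → q ∣ Nat.card G →
        ((∃ g : G, orderOf g = p * q) ↔ (p ∣ Nat.card (↥K ⧸ H.subgroupOf K) ↔ q ∣ Nat.card (↥K ⧸ H.subgroupOf K))) := by
  classical
  obtain ⟨C₁, hC₁, hker₁⟩ := hK
  obtain ⟨C₂, hC₂, hker₂⟩ := hGH
  obtain ⟨Kb, hKb⟩ : ∃ Kb : Subgroup (G ⧸ H), Kb = K.map (QuotientGroup.mk' H) := ⟨_, rfl⟩
  rw [← hKb] at hker₂
  have hKbn : Kb.Normal := by
    rw [hKb]; exact Subgroup.Normal.map inferInstance _ (QuotientGroup.mk'_surjective H)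
  obtain ⟨hc₁, hHK_ne, hfpf₁', hfpf₁, hcop₁, hnil₁⟩ := frob_facts (H.subgroupOf K) C₁ hC₁ hker₁
  obtain ⟨hc₂, hKb_ne, hfpf₂', hfpf₂, hcop₂, hnil₂⟩ := frob_facts Kb C₂ hC₂ hker₂
  have hle : H ≤ K := hlt.le
  have hmemKb : ∀ x : G, QuotientGroup.mk' H x ∈ Kb ↔ x ∈ K := by
    intro x
    constructor
    · intro h
      rw [hKb] at h
      obtain ⟨k, hk, hkx⟩ := Subgroup.mem_map.mp h
      have h1 : k⁻¹ * x ∈ H := QuotientGroup.eq.mp hkx
      have h2 : x = k * (k⁻¹ * x) := by group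
      rw [h2]; exact K.mul_mem hk (hle h1)
    · intro h
      rw [hKb]; exact Subgroup.mem_map_of_mem _ h
  have hdisj₁ : ∀ x : K, x ∈ H.subgroupOf K → x ∈ C₁ → x = 1 := by
    intro x h1 h2
    have : x ∈ H.subgroupOf K ⊓ C₁ := ⟨h1, h2⟩
    rwa [disjoint_iff.mp hc₁.disjoint, Subgroup.mem_bot] at this
  have hdisj₂ : ∀ x : G ⧸ H, x ∈ Kb → x ∈ C₂ → x = 1 := by
    intro x h1 h2
    have : x ∈ Kb ⊓ C₂ := ⟨h1, h2⟩
    rwa [disjoint_iff.mp hc₂.disjoint, Subgroup.mem_bot] at this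
  -- the isomorphism C₁ ≃ Kb
  obtain ⟨f₁, hf₁⟩ : ∃ f₁ : C₁ →* G ⧸ H,
      f₁ = (QuotientGroup.mk' H).comp (K.subtype.comp C₁.subtype) := ⟨_, rfl⟩
  have hf₁a : ∀ c : C₁, f₁ c = QuotientGroup.mk' H ((c : K) : G) := by
    intro c; rw [hf₁]; rfl
  have hf₁mem : ∀ c : C₁, f₁ c ∈ Kb := by
    intro c; rw [hf₁a, hmemKb]; exact (c : K).2
  have hf₁inj : Function.Injective f₁ := by
    rw [injective_iff_map_eq_one]
    intro c hc
    rw [hf₁a] at hc
    have h1 : ((c : K) : G) ∈ H := (QuotientGroup.eq_one_iff _).mp hc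
    have h2 : (c : K) ∈ H.subgroupOf K := Subgroup.mem_subgroupOf.mpr h1
    exact Subtype.ext (hdisj₁ _ h2 c.2)
  have hf₁surj : ∀ y ∈ Kb, ∃ c : C₁, f₁ c = y := by
    intro y hy
    obtain ⟨x, rfl⟩ := QuotientGroup.mk'_surjective H y
    have hxK : x ∈ K := (hmemKb x).mp hy
    obtain ⟨a, ha⟩ := hc₁.2 ⟨x, hxK⟩
    refine ⟨⟨a.2.1, a.2.2⟩, ?_⟩
    rw [hf₁a]
    have h1 : x = ((a.1.1 : K) : G) * ((a.2.1 : K) : G) := by
      have := congrArg Subtype.val ha
      exact this.symm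
    have h2 : ((a.1.1 : K) : G) ∈ H := Subgroup.mem_subgroupOf.mp a.1.2
    have h3 : QuotientGroup.mk' H ((a.1.1 : K) : G) = 1 := (QuotientGroup.eq_one_iff _).mpr h2
    rw [h1, map_mul, h3, one_mul]
  obtain ⟨e₁, he₁⟩ : ∃ e₁ : C₁ ≃* Kb, ∀ c : C₁, ((e₁ c : Kb) : G ⧸ H) = f₁ c := by
    refine ⟨MulEquiv.ofBijective (f₁.codRestrict Kb hf₁mem) ⟨?_, ?_⟩, fun c => rfl⟩
    · intro c d hcd
      exact hf₁inj (congrArg Subtype.val hcd)
    · intro y
      obtain ⟨c, hc⟩ := hf₁surj y y.2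
      exact ⟨c, Subtype.ext hc⟩
  -- the isomorphism C₂ ≃ G ⧸ K
  obtain ⟨φ, hφ⟩ : ∃ φ : G ⧸ H →* G ⧸ K,
      φ = QuotientGroup.map H K (MonoidHom.id G) (fun x hx => hle hx) := ⟨_, rfl⟩
  have hφmk : ∀ x : G, φ (QuotientGroup.mk' H x) = QuotientGroup.mk' K x := by
    intro x; rw [hφ]; rfl
  have hφker : ∀ y : G ⧸ H, φ y = 1 ↔ y ∈ Kb := by
    intro y
    obtain ⟨x, rfl⟩ := QuotientGroup.mk'_surjective H y
    rw [hφmk, hmemKb]
    exact QuotientGroup.eq_one_iff x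
  obtain ⟨f₂, hf₂⟩ : ∃ f₂ : C₂ →* G ⧸ K, f₂ = φ.comp C₂.subtype := ⟨_, rfl⟩
  have hf₂a : ∀ c : C₂, f₂ c = φ (c : G ⧸ H) := by
    intro c; rw [hf₂]; rfl
  have hf₂inj : Function.Injective f₂ := by
    rw [injective_iff_map_eq_one]
    intro c hc
    rw [hf₂a, hφker] at hc
    exact Subtype.ext (hdisj₂ _ hc c.2)
  have hf₂surj : Function.Surjective f₂ := by
    intro y
    obtain ⟨x, rfl⟩ := QuotientGroup.mk'_surjective K y
    obtain ⟨a, ha⟩ := hc₂.2 (QuotientGroup.mk' H x)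
    refine ⟨⟨a.2.1, a.2.2⟩, ?_⟩
    rw [hf₂a, ← hφmk, ← ha, map_mul, (hφker _).mpr a.1.2, one_mul]
  obtain ⟨e₂, he₂⟩ : ∃ e₂ : C₂ ≃* G ⧸ K, ∀ c : C₂, e₂ c = f₂ c :=
    ⟨MulEquiv.ofBijective f₂ ⟨hf₂inj, hf₂surj⟩, fun c => rfl⟩
  -- cardinalities
  have hcardB : Nat.card (↥K ⧸ H.subgroupOf K) = Nat.card C₁ := by
    rw [← Subgroup.index_eq_card]; exact hc₁.symm.index_eq_card
  have hcardKb : Nat.card Kb = Nat.card C₁ := (Nat.card_congr e₁.toEquiv).symm
  have hcardHK : Nat.card (H.subgroupOf K) = Nat.card H :=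
    Nat.card_congr (Subgroup.subgroupOfEquivOfLe hle).toEquiv
  have hcardC : Nat.card (G ⧸ K) = Nat.card C₂ := (Nat.card_congr e₂.toEquiv).symm
  have hcardG : Nat.card G = Nat.card H * (Nat.card C₁ * Nat.card C₂) := by
    rw [← Subgroup.card_mul_index H, Subgroup.index_eq_card, ← hc₂.card_mul_card, hcardKb]
  rw [hcardB, hcardC]
  have hnilH : Group.IsNilpotent H := Group.nilpotent_of_mulEquiv (Subgroup.subgroupOfEquivOfLe hle)
  -- oddness
  have hodd : Odd (Nat.card C₁) := by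
    rw [← Nat.not_even_iff_odd]
    intro heven
    have h2 : 2 ∣ Nat.card C₁ := even_iff_two_dvd.mp heven
    obtain ⟨⟨s, hsC, hs2, hsu, -⟩, -⟩ :=
      Cfsg.Agent.S0068.result (H.subgroupOf K) C₁ hc₁ hHK_ne hfpf₁' h2
    obtain ⟨c₂, hc₂1⟩ := (Subgroup.ne_bot_iff_exists_ne_one).mp hC₂.1
    have hc₂K : (c₂ : G ⧸ H) ∉ Kb := by
      intro h
      exact hc₂1 (Subtype.ext (hdisj₂ _ h c₂.2))
    have hsb : f₁ ⟨s, hsC⟩ ∈ Kb := hf₁mem _
    have hcomm : (c₂ : G ⧸ H) * f₁ ⟨s, hsC⟩ = f₁ ⟨s, hsC⟩ * (c₂ : G ⧸ H) := by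
      have hconj : (c₂ : G ⧸ H) * f₁ ⟨s, hsC⟩ * (c₂ : G ⧸ H)⁻¹ ∈ Kb := hKbn.conj_mem _ hsb _
      obtain ⟨t, ht⟩ := hf₁surj _ hconj
      have hto : orderOf (t : K) = 2 := by
        have e1 : orderOf (f₁ t) = orderOf t := orderOf_injective f₁ hf₁inj t
        have e2 : orderOf (f₁ ⟨s, hsC⟩) = orderOf (⟨s, hsC⟩ : C₁) := orderOf_injective f₁ hf₁inj _
        have e3 : orderOf ((c₂ : G ⧸ H) * f₁ ⟨s, hsC⟩ * (c₂ : G ⧸ H)⁻¹) = orderOf (f₁ ⟨s, hsC⟩) :=
          MulEquiv.orderOf_eq (MulAut.conj (c₂ : G ⧸ H)) (f₁ ⟨s, hsC⟩)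
        rw [Subgroup.orderOf_coe, ← e1, ht, e3, e2, Subgroup.orderOf_mk, hs2]
      have hts : (t : K) = s := hsu _ t.2 hto
      have h3 : t = ⟨s, hsC⟩ := Subtype.ext hts
      rw [h3] at ht
      calc (c₂ : G ⧸ H) * f₁ ⟨s, hsC⟩
          = (c₂ : G ⧸ H) * f₁ ⟨s, hsC⟩ * (c₂ : G ⧸ H)⁻¹ * (c₂ : G ⧸ H) := by group
        _ = f₁ ⟨s, hsC⟩ * (c₂ : G ⧸ H) := by rw [← ht]
    have h1 := hfpf₂ _ hc₂K _ hsb hcomm
    have h4 : (⟨s, hsC⟩ : C₁) = 1 := hf₁inj (by rw [h1, map_one])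
    have hs1 : s = 1 := congrArg Subtype.val h4
    rw [hs1, orderOf_one] at hs2
    omega
  -- cyclicity
  have hZg₁ : IsZGroup C₁ := frob_complement_isZGroup (H.subgroupOf K) C₁ hc₁ hHK_ne hfpf₁' hodd
  have hZgKb : IsZGroup Kb := IsZGroup.of_surjective (f := e₁.toMonoidHom) e₁.surjective
  have hcycKb : IsCyclic Kb := inferInstance
  have hcycC₁ : IsCyclic C₁ := isCyclic_of_surjective e₁.symm.toMonoidHom e₁.symm.surjective
  have hcycC₂ : IsCyclic C₂ := by
    obtain ⟨b, hb⟩ := IsCyclic.exists_generator (α := Kb)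
    have hbord : orderOf b = Nat.card Kb := orderOf_eq_card_of_forall_mem_zpowers hb
    have hn1 : Nat.card Kb ≠ 1 := by
      intro h; exact hKb_ne (Subgroup.eq_bot_of_card_eq Kb h)
    obtain ⟨r, hr, hrd⟩ := Nat.exists_prime_and_dvd hn1
    obtain ⟨t, ht⟩ := hrd
    have hpos : 0 < Nat.card Kb := Nat.card_pos
    have ht0 : t ≠ 0 := by
      rintro rfl; rw [Nat.mul_zero] at ht; omega
    obtain ⟨z, hz⟩ : ∃ z : G ⧸ H, z = (b : G ⧸ H) ^ t := ⟨_, rfl⟩
    have hbord' : orderOf (b : G ⧸ H) = r * t := by rw [Subgroup.orderOf_coe, hbord, ht]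
    have hzord : orderOf z = r := by
      rw [hz, orderOf_pow_of_dvd ht0 (by rw [hbord']; exact Dvd.intro_left _ rfl), hbord']
      exact Nat.mul_div_cancel _ (Nat.pos_of_ne_zero ht0)
    have hzKb : z ∈ Kb := by rw [hz]; exact Kb.pow_mem b.2 _
    have hz1 : z ≠ 1 := by
      intro h; rw [h, orderOf_one] at hzord; exact hr.one_lt.ne hzord
    have hkey : ∀ y ∈ Kb, y ^ r = 1 → y ∈ Subgroup.zpowers z := by
      intro y hy hyr
      obtain ⟨i, hi⟩ := Subgroup.mem_zpowers_iff.mp (hb ⟨y, hy⟩)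
      have hi' : (b : G ⧸ H) ^ i = y := by
        have := congrArg Subtype.val hi
        simpa using this
      have h1 : (b : G ⧸ H) ^ (i * (r : ℤ)) = 1 := by
        rw [zpow_mul, hi', zpow_natCast, hyr]
      have h2 : ((orderOf (b : G ⧸ H) : ℕ) : ℤ) ∣ i * r := orderOf_dvd_iff_zpow_eq_one.mpr h1
      rw [hbord'] at h2
      push_cast at h2
      have h3 : (t : ℤ) ∣ i := by
        have hr0 : (r : ℤ) ≠ 0 := by exact_mod_cast hr.ne_zero
        have h4 : (t : ℤ) * r ∣ i * r := by rw [mul_comm (t : ℤ) r]; exact h2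
        exact (mul_dvd_mul_iff_right hr0).mp h4
      obtain ⟨j, hj⟩ := h3
      refine Subgroup.mem_zpowers_iff.mpr ⟨j, ?_⟩
      rw [hz, ← hi', hj, ← zpow_natCast, ← zpow_mul]
    have hZn : (Subgroup.zpowers z).Normal := by
      refine ⟨fun x hx g => ?_⟩
      obtain ⟨j, rfl⟩ := Subgroup.mem_zpowers_iff.mp hx
      rw [← conj_zpow]
      apply Subgroup.zpow_mem
      apply hkey _ (hKbn.conj_mem z hzKb g)
      rw [conj_pow, ← hzord, pow_orderOf_eq_one]; group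
    have hcardZ : Nat.card (Subgroup.zpowers z) = r := by rw [Nat.card_zpowers, hzord]
    have hfact : Fact (Nat.card (Subgroup.zpowers z)).Prime := ⟨by rw [hcardZ]; exact hr⟩
    obtain ⟨φZ, hφZ⟩ : ∃ φZ : C₂ →* MulAut (Subgroup.zpowers z),
        φZ = (MulAut.conjNormal (H := Subgroup.zpowers z)).comp C₂.subtype := ⟨_, rfl⟩
    have hφinj : Function.Injective φZ := by
      rw [injective_iff_map_eq_one]
      intro c hc
      by_contra hc1
      have hcK : (c : G ⧸ H) ∉ Kb := fun h => hc1 (Subtype.ext (hdisj₂ _ h c.2))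
      have h1 : φZ c ⟨z, Subgroup.mem_zpowers z⟩ = ⟨z, Subgroup.mem_zpowers z⟩ := by rw [hc]; rfl
      have h2 : (c : G ⧸ H) * z * (c : G ⧸ H)⁻¹ = z := by
        have h5 := congrArg Subtype.val h1
        rw [hφZ] at h5
        exact h5
      apply hz1
      apply hfpf₂ _ hcK z hzKb
      calc (c : G ⧸ H) * z = (c : G ⧸ H) * z * (c : G ⧸ H)⁻¹ * (c : G ⧸ H) := by group
        _ = z * (c : G ⧸ H) := by rw [h2]
    exact isCyclic_of_injective ((IsCyclic.mulAutMulEquiv (Subgroup.zpowers z)).toMonoidHom.comp φZ)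
      ((IsCyclic.mulAutMulEquiv (Subgroup.zpowers z)).injective.comp hφinj)
  have hcycGK : IsCyclic (G ⧸ K) := isCyclic_of_surjective e₂.toMonoidHom e₂.surjective
  -- solvability
  have hsolvGK : Group.IsSolvable (G ⧸ K) := by
    obtain ⟨g, hg⟩ := IsCyclic.exists_generator (α := G ⧸ K)
    apply Group.isSolvable_of_comm
    intro a b
    obtain ⟨i, rfl⟩ := Subgroup.mem_zpowers_iff.mp (hg a)
    obtain ⟨j, rfl⟩ := Subgroup.mem_zpowers_iff.mp (hg b)
    rw [← zpow_add, ← zpow_add, add_comm]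
  have hsolvGH : Group.IsSolvable (G ⧸ H) := by
    refine Group.isSolvable_of_ker_le_range Kb.subtype φ ?_
    intro y hy
    rw [MonoidHom.mem_ker, hφker] at hy
    exact ⟨⟨y, hy⟩, rfl⟩
  have hsolvG : Group.IsSolvable G := by
    refine Group.isSolvable_of_ker_le_range H.subtype (QuotientGroup.mk' H) ?_
    intro y hy
    rw [QuotientGroup.ker_mk'] at hy
    exact ⟨⟨y, hy⟩, rfl⟩
  have hmixed : ∀ p q : ℕ, p.Prime → q.Prime → p ≠ q → p ∣ Nat.card H → q ∣ Nat.card C₂ →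
      ∃ g : G, orderOf g = p * q := by
    intro p q hp hq hpq hpH hqC
    obtain ⟨c₁, hc₁1⟩ := (Subgroup.ne_bot_iff_exists_ne_one).mp hC₁.1
    refine exists_pq_mixed H hnilH Kb C₂ hC₂ hker₂ ?_ ((c₁ : K) : G) ((hmemKb _).mpr (c₁ : K).2) ?_
      p q hp hq hpq hpH hqC
    · rw [hcardKb, ← hcardHK]; exact hcop₁
    · intro z hz hcomm
      have hw : (c₁ : K) ∉ H.subgroupOf K := fun h => hc₁1 (Subtype.ext (hdisj₁ _ h c₁.2))
      have h1 := hfpf₁ _ hw ⟨z, hle hz⟩ (Subgroup.mem_subgroupOf.mpr hz) (Subtype.ext hcomm)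
      exact congrArg Subtype.val h1
  have hnomix : ∀ p q : ℕ, p.Prime → q.Prime → p ∣ Nat.card C₁ → ¬ q ∣ Nat.card C₁ →
      ∀ g : G, orderOf g = p * q → False := by
    intro p q hp hq hpB hqB g hg
    obtain ⟨x, hx⟩ : ∃ x : G, x = g ^ q := ⟨_, rfl⟩
    obtain ⟨y, hy⟩ : ∃ y : G, y = g ^ p := ⟨_, rfl⟩
    have hxo : orderOf x = p := by
      rw [hx, orderOf_pow_of_dvd hq.ne_zero (by rw [hg]; exact Dvd.intro_left _ rfl), hg]
      exact Nat.mul_div_cancel _ hq.pos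
    have hyo : orderOf y = q := by
      rw [hy, orderOf_pow_of_dvd hp.ne_zero (by rw [hg]; exact Dvd.intro _ rfl), hg]
      exact Nat.mul_div_cancel_left _ hp.pos
    have hxy : x * y = y * x := by rw [hx, hy, ← pow_add, ← pow_add, add_comm]
    have hpH : ¬ p ∣ Nat.card H := by
      intro h
      have h1 := Nat.dvd_gcd hpB (hcardHK ▸ h)
      rw [Nat.Coprime.gcd_eq_one hcop₁] at h1
      exact hp.one_lt.ne' (Nat.dvd_one.mp h1)
    have hpC : ¬ p ∣ Nat.card C₂ := by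
      intro h
      have h1 := Nat.dvd_gcd h (hcardKb ▸ hpB)
      rw [Nat.Coprime.gcd_eq_one hcop₂] at h1
      exact hp.one_lt.ne' (Nat.dvd_one.mp h1)
    have hxK : x ∈ K := by
      have h1 : orderOf (QuotientGroup.mk' K x) ∣ p := hxo ▸ orderOf_map_dvd _ x
      have h2 : orderOf (QuotientGroup.mk' K x) ∣ Nat.card C₂ := hcardC ▸ orderOf_dvd_natCard _
      rcases (Nat.dvd_prime hp).mp h1 with h3 | h3
      · exact (QuotientGroup.eq_one_iff x).mp (orderOf_eq_one_iff.mp h3)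
      · rw [h3] at h2; exact absurd h2 hpC
    have hxH : x ∉ H := by
      intro h
      apply hpH
      have h1 : orderOf (⟨x, h⟩ : H) ∣ Nat.card H := orderOf_dvd_natCard _
      rwa [Subgroup.orderOf_mk, hxo] at h1
    have hxb : QuotientGroup.mk' H x ∈ Kb := (hmemKb x).mpr hxK
    have hxb1 : QuotientGroup.mk' H x ≠ 1 := fun h => hxH ((QuotientGroup.eq_one_iff x).mp h)
    have hyK : y ∈ K := by
      rw [← hmemKb]
      by_contra hyb
      apply hxb1
      apply hfpf₂ _ hyb _ hxb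
      rw [← map_mul, ← map_mul, hxy]
    have hyH : y ∈ H := by
      have h1 : orderOf (QuotientGroup.mk' (H.subgroupOf K) ⟨y, hyK⟩) ∣ q := by
        have h0 := orderOf_map_dvd (QuotientGroup.mk' (H.subgroupOf K)) (⟨y, hyK⟩ : K)
        rwa [Subgroup.orderOf_mk, hyo] at h0
      have h2 : orderOf (QuotientGroup.mk' (H.subgroupOf K) ⟨y, hyK⟩) ∣ Nat.card C₁ :=
        hcardB ▸ orderOf_dvd_natCard _
      rcases (Nat.dvd_prime hq).mp h1 with h3 | h3
      · have h4 := (QuotientGroup.eq_one_iff (⟨y, hyK⟩ : K)).mp (orderOf_eq_one_iff.mp h3)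
        exact Subgroup.mem_subgroupOf.mp h4
      · rw [h3] at h2; exact absurd h2 hqB
    have hw : (⟨x, hxK⟩ : K) ∉ H.subgroupOf K := fun h => hxH (Subgroup.mem_subgroupOf.mp h)
    have h1 := hfpf₁ _ hw ⟨y, hyK⟩ (Subgroup.mem_subgroupOf.mpr hyH) (Subtype.ext hxy)
    have h2 : y = 1 := congrArg Subtype.val h1
    rw [h2, orderOf_one] at hyo
    exact hq.one_lt.ne hyo
  refine ⟨hsolvG, hodd, ?_, hcycGK, ?_⟩
  · apply Nat.Coprime.mul_right
    · rw [← hcardHK]; exact hcop₁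
    · rw [← hcardKb]; exact hcop₂.symm
  · intro p q hp hq hpq hpG hqG
    constructor
    · rintro ⟨g, hg⟩
      constructor
      · intro hpB
        by_contra hqB
        exact hnomix p q hp hq hpB hqB g hg
      · intro hqB
        by_contra hpB
        exact hnomix q p hq hp hqB hpB g (by rw [hg, Nat.mul_comm])
    · intro hiff
      by_cases hpB : p ∣ Nat.card C₁
      · have hqB := hiff.mp hpB
        obtain ⟨y, hy⟩ := exists_pq_cyclic (Γ := C₁) p q hp hq hpq hpB hqB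
        exact ⟨((y : K) : G), by rw [Subgroup.orderOf_coe, Subgroup.orderOf_coe]; exact hy⟩
      · have hqB : ¬ q ∣ Nat.card C₁ := fun h => hpB (hiff.mpr h)
        have hsplit : ∀ r : ℕ, r.Prime → r ∣ Nat.card G → ¬ r ∣ Nat.card C₁ →
            r ∣ Nat.card H ∨ r ∣ Nat.card C₂ := by
          intro r hr hrG hrB
          rw [hcardG] at hrG
          rcases (Nat.Prime.dvd_mul hr).mp hrG with h | h
          · exact Or.inl h
          · rcases (Nat.Prime.dvd_mul hr).mp h with h | h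
            · exact absurd h hrB
            · exact Or.inr h
        rcases hsplit p hp hpG hpB with hpH | hpC <;> rcases hsplit q hq hqG hqB with hqH | hqC
        · obtain ⟨y, hy⟩ := exists_pq_nilp (M := H) p q hp hq hpq hpH hqH
          exact ⟨(y : G), by rw [Subgroup.orderOf_coe]; exact hy⟩
        · exact hmixed p q hp hq hpq hpH hqC
        · obtain ⟨g, hg⟩ := hmixed q p hq hp (Ne.symm hpq) hqH hpC
          exact ⟨g, by rw [hg, Nat.mul_comm]⟩
        · obtain ⟨y, hy⟩ := exists_pq_cyclic (Γ := C₂) p q hp hq hpq hpC hqC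
          obtain ⟨x, hx⟩ := QuotientGroup.mk'_surjective H (y : G ⧸ H)
          exact exists_order_of_map (QuotientGroup.mk' H) x (p * q)
            (by rw [hx, Subgroup.orderOf_coe]; exact hy)

end Cfsg.Agent.S4001
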