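import Cfsg.Statements.S4006
-- import your own Cfsg.Agent.* helpers here
import Cfsg.Agent.S0144
import Cfsg.Agent.S3857
import Cfsg.Agent.S0035
import Cfsg.Agent.S0034
import Cfsg.Agent.S0068
import Cfsg.Agent.S4001
import Cfsg.Agent.Lib.helper1.Quat
import Cfsg.Agent.Lib.helper1.FrobStruct
import Cfsg.Agent.Lib.helper14.S3Sec
import Cfsg.Agent.Lib.helper21.PiE4

set_option autoImplicit false
open Cfsg

namespace Cfsg.Agent.S4006

open Cfsg.Agent.Lib.helper21 in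
theorem two_three_pow (n : ℕ) (hn : 0 < n) (h : ∀ p : ℕ, p.Prime → p ∣ n → p = 2 ∨ p = 3) :
    ∃ a b : ℕ, n = 2 ^ a * 3 ^ b := by
  induction n using Nat.strong_induction_on with
  | _ n ih =>
    by_cases h1 : n = 1
    · exact ⟨0, 0, by simp [h1]⟩
    · obtain ⟨p, hp, hpn⟩ := Nat.exists_prime_and_dvd h1
      obtain ⟨m, rfl⟩ := hpn
      have hm : 0 < m := by
        rcases Nat.eq_zero_or_pos m with h0 | h0
        · rw [h0] at hn; simp at hn
        · exact h0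
      have hlt : m < p * m := by nlinarith [hp.two_le]
      obtain ⟨a, b, hab⟩ := ih m hlt hm (fun q hq hqm => h q hq (Dvd.dvd.mul_left hqm p))
      rcases h p hp (dvd_mul_right p m) with rfl | rfl
      · exact ⟨a + 1, b, by rw [hab]; ring⟩
      · exact ⟨a, b + 1, by rw [hab]; ring⟩

theorem out3 {G : Type*} [Group G]
    (hord : ∀ g : G, orderOf g = 1 ∨ orderOf g = 2 ∨ orderOf g = 3 ∨ orderOf g = 4)
    (N : Subgroup G) (g : G) (hg : g ∉ N) (h3 : g ^ 3 ∈ N) : g ^ 3 = 1 := by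
  rcases hord g with h1 | h1 | h1 | h1
  · rw [orderOf_eq_one_iff] at h1; rw [h1]; simp
  · exfalso; apply hg
    have h2 : g ^ 2 = 1 := by rw [← h1]; exact pow_orderOf_eq_one g
    have : g ^ 3 = g := by rw [pow_succ, h2, one_mul]
    rwa [this] at h3
  · rw [← h1]; exact pow_orderOf_eq_one g
  · exfalso; apply hg
    have h2 : g ^ 4 = 1 := by rw [← h1]; exact pow_orderOf_eq_one g
    have : g = (g ^ 3)⁻¹ := by
      rw [eq_inv_iff_mul_eq_one, ← pow_succ']; exact h2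
    rw [this]; exact N.inv_mem h3

theorem out2 {G : Type*} [Group G]
    (hord : ∀ g : G, orderOf g = 1 ∨ orderOf g = 2 ∨ orderOf g = 3 ∨ orderOf g = 4)
    (K : Subgroup G) (g : G) (hg : g ∉ K) (h2 : g ^ 2 ∈ K) : g ^ 4 = 1 := by
  rcases hord g with h1 | h1 | h1 | h1
  · rw [orderOf_eq_one_iff] at h1; rw [h1]; simp
  · have : g ^ 2 = 1 := by rw [← h1]; exact pow_orderOf_eq_one g
    calc g ^ 4 = (g ^ 2) ^ 2 := by rw [← pow_mul]
      _ = 1 := by rw [this, one_pow]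
  · exfalso; apply hg
    have h3 : g ^ 3 = 1 := by rw [← h1]; exact pow_orderOf_eq_one g
    have : g = (g ^ 2)⁻¹ := by
      rw [eq_inv_iff_mul_eq_one, ← pow_succ']; exact h3
    rw [this]; exact K.inv_mem h2
  · rw [← h1]; exact pow_orderOf_eq_one g

theorem no3_pow4 {G : Type*} [Group G] [Finite G]
    (hord : ∀ g : G, orderOf g = 1 ∨ orderOf g = 2 ∨ orderOf g = 3 ∨ orderOf g = 4)
    (N : Subgroup G) (hcop : ¬ 3 ∣ Nat.card N) (u : G) (hu : u ∈ N) : u ^ 4 = 1 := by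
  have hd : orderOf u ∣ Nat.card N := Subgroup.orderOf_dvd_natCard N hu
  rcases hord u with h1 | h1 | h1 | h1
  · rw [orderOf_eq_one_iff] at h1; rw [h1]; simp
  · have : u ^ 2 = 1 := by rw [← h1]; exact pow_orderOf_eq_one u
    calc u ^ 4 = (u ^ 2) ^ 2 := by rw [← pow_mul]
      _ = 1 := by rw [this, one_pow]
  · exfalso; rw [h1] at hd; exact hcop hd
  · rw [← h1]; exact pow_orderOf_eq_one u

theorem odd_compl_card {Γ : Type*} [Group Γ] [Finite Γ]
    (hord : ∀ g : Γ, orderOf g = 1 ∨ orderOf g = 2 ∨ orderOf g = 3 ∨ orderOf g = 4)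
    (N C : Subgroup Γ) [N.Normal] (hc : Subgroup.IsComplement' N C) (hN1 : N ≠ ⊥)
    (hfpf : ∀ h ∈ C, h ≠ 1 → N ⊓ Subgroup.centralizer {h} = ⊥) (hCne : C ≠ ⊥)
    (hodd : Odd (Nat.card C)) : Nat.card C = 3 := by
  have hZ : IsZGroup C := Cfsg.Agent.Lib.helper1.frob_complement_isZGroup N C hc hN1 hfpf hodd
  have hC3 : ∀ x : C, x ^ 3 = 1 := by
    intro x
    have hd : orderOf (x : Γ) ∣ Nat.card C := Subgroup.orderOf_dvd_natCard C x.2
    have ho : Odd (orderOf (x : Γ)) := Odd.of_dvd_nat hodd hd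
    apply Subtype.ext
    rw [Subgroup.coe_pow, Subgroup.coe_one]
    rcases hord (x : Γ) with h1 | h1 | h1 | h1
    · rw [orderOf_eq_one_iff] at h1; rw [h1]; simp
    · rw [h1] at ho; exact absurd ho (by decide)
    · rw [← h1]; exact pow_orderOf_eq_one _
    · rw [h1] at ho; exact absurd ho (by decide)
  haveI : Fact (Nat.Prime 3) := ⟨Nat.prime_three⟩
  have hCp : IsPGroup 3 C := fun x => ⟨1, by rw [pow_one]; exact hC3 x⟩
  haveI := hZ
  have hcyc : IsCyclic C := by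
    have h1 : IsCyclic (⊤ : Subgroup C) := (hCp.to_subgroup ⊤).isCyclic_of_isZGroup
    exact (Subgroup.topEquiv.isCyclic).mp h1
  obtain ⟨x, hx⟩ := hcyc.exists_generator
  have h1 : orderOf x = Nat.card C := orderOf_eq_card_of_forall_mem_zpowers hx
  have h2 : orderOf x ∣ 3 := orderOf_dvd_of_pow_eq_one (hC3 x)
  rcases (Nat.dvd_prime Nat.prime_three).mp h2 with h3 | h3
  · exfalso
    apply hCne
    apply Subgroup.eq_bot_of_card_eq
    rw [← h1, h3]
  · rw [← h1, h3]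

open Cfsg.Agent.Lib.helper21 in
theorem caseFa {G : Type*} [Group G] [Finite G]
    (hord : ∀ g : G, orderOf g = 1 ∨ orderOf g = 2 ∨ orderOf g = 3 ∨ orderOf g = 4)
    (g4 : G) (hg4 : orderOf g4 = 4)
    (N C : Subgroup G) [hNn : N.Normal] (hc : Subgroup.IsComplement' N C) (hN1 : N ≠ ⊥)
    (hfpf : ∀ h ∈ C, h ≠ 1 → N ⊓ Subgroup.centralizer {h} = ⊥)
    (hcop : (Nat.card C).Coprime (Nat.card N)) (hCne : C ≠ ⊥)
    (hodd : Odd (Nat.card C)) :
    IsPGroup 2 ↥N ∧ Monoid.exponent ↥N = 4 ∧ Group.nilpotencyClass ↥N ≤ 2 ∧ N.index = 3 := by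
  have hcard : Nat.card C = 3 := odd_compl_card hord N C hc hN1 hfpf hCne hodd
  have hindex : N.index = 3 := by rw [hc.symm.index_eq_card, hcard]
  have h3 : ∀ g : G, g ∉ N → g ^ 3 = 1 := by
    intro g hg
    apply out3 hord N g hg
    have := Subgroup.pow_index_mem N g
    rwa [hindex] at this
  have h3N : ¬ 3 ∣ Nat.card N := by
    rw [hcard] at hcop
    exact (Nat.Prime.coprime_iff_not_dvd Nat.prime_three).mp hcop
  have hN4 : ∀ u ∈ N, u ^ 4 = 1 := fun u hu => no3_pow4 hord N h3N u hu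
  have hg4N : g4 ∈ N := by
    by_contra hcon
    have h1 := h3 g4 hcon
    have h2 := orderOf_dvd_of_pow_eq_one h1
    rw [hg4] at h2
    omega
  have hp2 : IsPGroup 2 ↥N := by
    intro u
    refine ⟨2, ?_⟩
    apply Subtype.ext
    have := hN4 u u.2
    simpa using this
  have hexp : Monoid.exponent ↥N = 4 := by
    apply Nat.dvd_antisymm
    · apply Monoid.exponent_dvd_of_forall_pow_eq_one
      intro u
      apply Subtype.ext
      have := hN4 u u.2
      simpa using this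
    · have := Monoid.order_dvd_exponent (⟨g4, hg4N⟩ : N)
      rwa [Subgroup.orderOf_mk, hg4] at this
  obtain ⟨c, hcN⟩ : ∃ c : G, c ∉ N := by
    by_contra hcon
    push Not at hcon
    have : N = ⊤ := eq_top_iff.mpr (fun x _ => hcon x)
    rw [this, Subgroup.index_top] at hindex
    omega
  have hno3 : ∀ u ∈ N, u ^ 3 = 1 → u = 1 := by
    intro u hu hu3
    have e : u ^ 4 = u ^ 3 * u := pow_succ u 3
    rw [hN4 u hu, hu3, one_mul] at e
    exact e.symm
  have hcl := class_two_aux N c hcN h3 hno3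
  refine ⟨hp2, hexp, ?_, hindex⟩
  haveI : Fact (Nat.Prime 2) := ⟨Nat.prime_two⟩
  haveI : Group.IsNilpotent N := hp2.isNilpotent
  rw [← Subgroup.upperCentralSeries_eq_top_iff_nilpotencyClass_le]
  rw [eq_top_iff]
  intro x _
  rw [show (2 : ℕ) = 1 + 1 from rfl, Subgroup.mem_upperCentralSeries_succ_iff]
  intro y
  rw [Subgroup.upperCentralSeries_one, Subgroup.mem_center_iff]
  intro w
  apply Subtype.ext
  exact hcl y y.2 w w.2 x x.2

open Cfsg.Agent.Lib.helper21 in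
theorem caseFb {G : Type*} [Group G] [Finite G]
    (hord : ∀ g : G, orderOf g = 1 ∨ orderOf g = 2 ∨ orderOf g = 3 ∨ orderOf g = 4)
    (g4 : G) (hg4 : orderOf g4 = 4)
    (N C : Subgroup G) [hNn : N.Normal] (hc : Subgroup.IsComplement' N C) (hN1 : N ≠ ⊥)
    (hfpf : ∀ h ∈ C, h ≠ 1 → N ⊓ Subgroup.centralizer {h} = ⊥)
    (hcop : (Nat.card C).Coprime (Nat.card N))
    (heven : 2 ∣ Nat.card C) :
    Cfsg.IsElementaryAbelian 3 N ∧
      ((IsCyclic (G ⧸ N) ∧ N.index = 4) ∨ Nonempty (G ⧸ N ≃* QuaternionGroup 2)) := by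
  obtain ⟨⟨s, hsC, hs2, huniq, -⟩, hNcomm⟩ := Cfsg.Agent.S0068.result N C hc hN1 hfpf heven
  have hNodd : ¬ 2 ∣ Nat.card N := fun h2 =>
    Nat.not_coprime_of_dvd_of_dvd (by norm_num : 1 < 2) heven h2 hcop
  have hN3 : ∀ u ∈ N, u ^ 3 = 1 := by
    intro u hu
    have hd : orderOf u ∣ Nat.card N := Subgroup.orderOf_dvd_natCard N hu
    rcases hord u with h1 | h1 | h1 | h1
    · rw [orderOf_eq_one_iff] at h1; rw [h1]; simp
    · exfalso; rw [h1] at hd; exact hNodd hd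
    · rw [← h1]; exact pow_orderOf_eq_one u
    · exfalso; rw [h1] at hd; exact hNodd (dvd_trans (by norm_num) hd)
  refine ⟨⟨hNcomm, hN3⟩, ?_⟩
  have h3N : 3 ∣ Nat.card N := by
    obtain ⟨⟨u, huN⟩, hu1⟩ := (Subgroup.ne_bot_iff_exists_ne_one).mp hN1
    have hu1' : u ≠ 1 := fun h => hu1 (Subtype.ext h)
    have : orderOf u = 3 := orderOf_eq_prime (hN3 u huN) hu1'
    rw [← this]
    exact Subgroup.orderOf_dvd_natCard N huN
  have h3C : ¬ 3 ∣ Nat.card C := fun h3 =>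
    Nat.not_coprime_of_dvd_of_dvd (by norm_num : 1 < 3) h3 h3N hcop
  have hC4 : ∀ x : C, x ^ 4 = 1 := by
    intro x
    apply Subtype.ext
    have := no3_pow4 hord C h3C x.1 x.2
    simpa using this
  obtain ⟨e, -⟩ : ∃ e : G ⧸ N ≃* C, True := ⟨hc.symm.QuotientMulEquiv, trivial⟩
  obtain ⟨u, hu⟩ : ∃ u : C, u = e (QuotientGroup.mk' N g4) := ⟨_, rfl⟩
  have hu2 : u ^ 2 ≠ 1 := by
    intro h2
    rw [hu, ← map_pow, ← map_pow] at h2
    have h3 : QuotientGroup.mk' N (g4 ^ 2) = 1 := (map_eq_one_iff e e.injective).mp h2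
    have h4 : g4 ^ 2 ∈ N := (QuotientGroup.eq_one_iff _).mp h3
    have h5 := hN3 _ h4
    rw [← pow_mul] at h5
    have h6 := orderOf_dvd_of_pow_eq_one h5
    rw [hg4] at h6
    omega
  have hsC2 : orderOf (⟨s, hsC⟩ : C) = 2 := by rw [Subgroup.orderOf_mk]; exact hs2
  have hu1 : u ≠ 1 := by
    intro h; apply hu2; rw [h, one_pow]
  have hus : u ≠ ⟨s, hsC⟩ := by
    intro h; apply hu2; rw [h, ← hsC2]; exact pow_orderOf_eq_one _
  have huniq' : ∀ t : C, orderOf t = 2 → t = ⟨s, hsC⟩ := by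
    intro t ht
    apply Subtype.ext
    exact huniq t.1 t.2 (by rw [Subgroup.orderOf_coe]; exact ht)
  have hindex : N.index = Nat.card C := hc.symm.index_eq_card
  rcases unique_invol_exp4 (⟨s, hsC⟩ : C) hsC2 huniq' hC4 u hu1 hus with ⟨hcyc, h4⟩ | ⟨⟨f⟩⟩
  · left
    refine ⟨?_, by rw [hindex, h4]⟩
    haveI := hcyc
    exact isCyclic_of_surjective e.symm e.symm.surjective
  · right
    exact ⟨e.trans f⟩

open Cfsg.Agent.Lib.helper21 in
theorem case2F {G : Type*} [Group G] [Finite G]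
    (hord : ∀ g : G, orderOf g = 1 ∨ orderOf g = 2 ∨ orderOf g = 3 ∨ orderOf g = 4)
    (H K : Subgroup G) [hHn : H.Normal] [hKn : K.Normal] (hlt : H < K)
    (hK : ∃ C : Subgroup ↥K, Cfsg.IsFrobeniusComplement C ∧
      Cfsg.frobeniusKernel C = (H.subgroupOf K : Set ↥K))
    (hGH : ∃ C : Subgroup (G ⧸ H), Cfsg.IsFrobeniusComplement C ∧
      Cfsg.frobeniusKernel C = (K.map (QuotientGroup.mk' H) : Set (G ⧸ H))) :
    Cfsg.IsElementaryAbelian 2 H ∧ Nonempty (G ⧸ H ≃* Equiv.Perm (Fin 3)) := by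
  obtain ⟨-, hoddKH, hcopKH, -, -⟩ := Cfsg.Agent.S4001.result H K hlt hK hGH
  obtain ⟨C₁, hC₁, hker₁⟩ := hK
  obtain ⟨C₂, hC₂, hker₂⟩ := hGH
  have hle : H ≤ K := hlt.le
  obtain ⟨Kb, hKb⟩ : ∃ Kb : Subgroup (G ⧸ H), Kb = K.map (QuotientGroup.mk' H) := ⟨_, rfl⟩
  rw [← hKb] at hker₂
  have hKbn : Kb.Normal := by
    rw [hKb]; exact Subgroup.Normal.map inferInstance _ (QuotientGroup.mk'_surjective H)
  obtain ⟨hc₁, hHK_ne, hfpf₁', hfpf₁, hcop₁, hnil₁⟩ :=
    Cfsg.Agent.S4001.frob_facts (H.subgroupOf K) C₁ hC₁ hker₁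
  obtain ⟨hc₂, hKb_ne, hfpf₂', hfpf₂, hcop₂, hnil₂⟩ :=
    Cfsg.Agent.S4001.frob_facts Kb C₂ hC₂ hker₂
  -- orders in K
  have hordK : ∀ g : K, orderOf g = 1 ∨ orderOf g = 2 ∨ orderOf g = 3 ∨ orderOf g = 4 := by
    intro g
    rw [← Subgroup.orderOf_coe]
    exact hord g
  have hidx₁ : (H.subgroupOf K).index = Nat.card C₁ := hc₁.symm.index_eq_card
  have hodd₁ : Odd (Nat.card C₁) := by
    rw [← hidx₁, Subgroup.index_eq_card]; exact hoddKH
  have hcard₁ : Nat.card C₁ = 3 :=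
    odd_compl_card hordK (H.subgroupOf K) C₁ hc₁ hHK_ne hfpf₁' hC₁.1 hodd₁
  have hrel : (H.subgroupOf K).index = 3 := by rw [hidx₁, hcard₁]
  have hidx : H.index = 3 * K.index := by
    rw [← Subgroup.relIndex_mul_index hle]
    show (H.subgroupOf K).index * K.index = 3 * K.index
    rw [hrel]
  have hcardQ : Nat.card (G ⧸ H) = 3 * K.index := by
    rw [← Subgroup.index_eq_card]; exact hidx
  have hKbidx : Kb.index = K.index := by
    rw [hKb]
    exact Subgroup.index_map_eq K (QuotientGroup.mk'_surjective H)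
      (by rw [QuotientGroup.ker_mk']; exact hle)
  have hKpos : 0 < K.index := Nat.pos_of_ne_zero Subgroup.index_ne_zero_of_finite
  have hKbcard : Nat.card Kb = 3 := by
    have h1 := Subgroup.card_mul_index Kb
    rw [hKbidx, hcardQ] at h1
    exact Nat.eq_of_mul_eq_mul_right hKpos h1
  have hC₂idx : C₂.index = 3 := by rw [hc₂.index_eq_card, hKbcard]
  obtain ⟨-, hmod⟩ := Cfsg.Agent.S0034.result C₂ hC₂
  rw [hC₂idx] at hmod
  have hC₂card : Nat.card C₂ = 2 := by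
    have hd : Nat.card C₂ ∣ 3 - 1 := (Nat.modEq_iff_dvd' (by norm_num)).mp hmod.symm
    have h1 : Nat.card C₂ ≠ 1 := fun h => hC₂.1 (Subgroup.eq_bot_of_card_eq _ h)
    have := (Nat.dvd_prime Nat.prime_two).mp hd
    tauto
  have hKidx : K.index = 2 := by
    have h1 := Subgroup.card_mul_index C₂
    rw [hC₂idx, hC₂card, hcardQ] at h1
    omega
  have hA : ∀ g ∈ K, g ∉ H → g ^ 3 = 1 := by
    intro g hgK hgH
    apply out3 hord H g hgH
    have := Subgroup.pow_index_mem (H.subgroupOf K) (⟨g, hgK⟩ : K)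
    rw [hrel, Subgroup.mem_subgroupOf] at this
    simpa using this
  have hB : ∀ g : G, g ∉ K → g ^ 4 = 1 := by
    intro g hg
    apply out2 hord K g hg
    have := Subgroup.pow_index_mem K g
    rwa [hKidx] at this
  have h3H : ¬ 3 ∣ Nat.card H := by
    have h1 : Nat.card (↥K ⧸ H.subgroupOf K) = 3 := by
      rw [← Subgroup.index_eq_card]; exact hrel
    rw [h1] at hcopKH
    intro h3
    exact Nat.not_coprime_of_dvd_of_dvd (by norm_num : 1 < 3) (dvd_refl 3)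
      (Dvd.dvd.mul_right h3 _) hcopKH
  have hC : ∀ h ∈ H, h ^ 4 = 1 := fun h hh => no3_pow4 hord H h3H h hh
  obtain ⟨c, hcK, hcH⟩ : ∃ c, c ∈ K ∧ c ∉ H := by
    by_contra hcon
    push Not at hcon
    exact hlt.not_ge (fun x hx => hcon x hx)
  have hc3 : c ^ 3 = 1 := hA c hcK hcH
  have hc3' : c * c * c = 1 := by
    have := hc3
    rwa [pow_succ, pow_two] at this
  have hcent : ∀ h ∈ H, c * h = h * c → h = 1 := by
    intro h hh hcomm
    have := hfpf₁ (⟨c, hcK⟩ : K) (by rw [Subgroup.mem_subgroupOf]; exact hcH) ⟨h, hle hh⟩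
      (by rw [Subgroup.mem_subgroupOf]; exact hh) (Subtype.ext hcomm)
    exact congrArg Subtype.val this
  obtain ⟨⟨s, hsC, hs2, -, hinv⟩, -⟩ :=
    Cfsg.Agent.S0068.result Kb C₂ hc₂ hKb_ne hfpf₂' (by rw [hC₂card])
  obtain ⟨t0, ht0⟩ := QuotientGroup.mk'_surjective H s
  have hh0 : c * (t0 * c * t0⁻¹) ∈ H := by
    have h1 := hinv (QuotientGroup.mk' H c) (by rw [hKb]; exact Subgroup.mem_map_of_mem _ hcK)
    rw [← ht0] at h1
    have h2 : QuotientGroup.mk' H (c * (t0 * c * t0⁻¹)) = 1 := by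
      rw [map_mul, map_mul, map_mul, map_inv, h1, mul_inv_cancel]
    exact (QuotientGroup.eq_one_iff _).mp h2
  have ht0K : t0 ∉ K := by
    intro h
    have h1 : s ∈ Kb := by rw [← ht0, hKb]; exact Subgroup.mem_map_of_mem _ h
    have h2 : s ∈ Kb ⊓ C₂ := ⟨h1, hsC⟩
    rw [disjoint_iff.mp hc₂.disjoint, Subgroup.mem_bot] at h2
    rw [h2, orderOf_one] at hs2
    omega
  obtain ⟨h1, hh1, hφ⟩ : ∃ h1 ∈ H, c * h1 * c⁻¹ * h1⁻¹ = c * (t0 * c * t0⁻¹) := by
    obtain ⟨φ, hφdef⟩ : ∃ φ : H → H, ∀ h : H, (φ h : G) = c * h.1 * c⁻¹ * h.1⁻¹ :=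
      ⟨fun h => ⟨c * h.1 * c⁻¹ * h.1⁻¹, H.mul_mem (hHn.conj_mem h.1 h.2 c) (H.inv_mem h.2)⟩,
        fun h => rfl⟩
    have hinj : Function.Injective φ := by
      intro a b hab
      have e : c * a.1 * c⁻¹ * a.1⁻¹ = c * b.1 * c⁻¹ * b.1⁻¹ := by
        rw [← hφdef, ← hφdef, hab]
      have e1 : a.1 * c⁻¹ * a.1⁻¹ = b.1 * c⁻¹ * b.1⁻¹ := by
        calc a.1 * c⁻¹ * a.1⁻¹ = c⁻¹ * (c * a.1 * c⁻¹ * a.1⁻¹) := by group
          _ = c⁻¹ * (c * b.1 * c⁻¹ * b.1⁻¹) := by rw [e]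
          _ = b.1 * c⁻¹ * b.1⁻¹ := by group
      have h2 : c * (b.1⁻¹ * a.1) = (b.1⁻¹ * a.1) * c := by
        calc c * (b.1⁻¹ * a.1) = c * b.1⁻¹ * (a.1 * c⁻¹ * a.1⁻¹) * a.1 * c := by group
          _ = c * b.1⁻¹ * (b.1 * c⁻¹ * b.1⁻¹) * a.1 * c := by rw [e1]
          _ = (b.1⁻¹ * a.1) * c := by group
      have h3 := hcent _ (H.mul_mem (H.inv_mem b.2) a.2) h2
      apply Subtype.ext
      have : a.1 = b.1 * (b.1⁻¹ * a.1) := by group
      rw [this, h3, mul_one]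
    have hsurj := Finite.injective_iff_surjective.mp hinj
    obtain ⟨h1, hh⟩ := hsurj ⟨c * (t0 * c * t0⁻¹), hh0⟩
    refine ⟨h1.1, h1.2, ?_⟩
    rw [← hφdef, hh]
  obtain ⟨t, ht⟩ : ∃ t, t = h1⁻¹ * t0 := ⟨_, rfl⟩
  have htc : t * c * t⁻¹ = c⁻¹ := by
    have e1 : t0 * c * t0⁻¹ = h1 * c⁻¹ * h1⁻¹ := by
      calc t0 * c * t0⁻¹ = c⁻¹ * (c * (t0 * c * t0⁻¹)) := by group
        _ = c⁻¹ * (c * h1 * c⁻¹ * h1⁻¹) := by rw [hφ]
        _ = h1 * c⁻¹ * h1⁻¹ := by group
    calc t * c * t⁻¹ = h1⁻¹ * (t0 * c * t0⁻¹) * h1 := by rw [ht]; group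
      _ = h1⁻¹ * (h1 * c⁻¹ * h1⁻¹) * h1 := by rw [e1]
      _ = c⁻¹ := by group
  have htK : t ∉ K := by
    intro h
    apply ht0K
    have : t0 = h1 * t := by rw [ht]; group
    rw [this]; exact K.mul_mem (hle hh1) h
  have htt : t * t = 1 := by
    have h4 : t ^ 4 = 1 := hB t htK
    have h2K : t * t ∈ K := by
      have := Subgroup.pow_index_mem K t
      rwa [hKidx, pow_two] at this
    have h2H : t * t ∈ H := by
      by_contra hcon
      have h6 := hA _ h2K hcon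
      apply hcon
      have h6' : t ^ 6 = 1 := by
        rw [← h6, ← pow_two, ← pow_mul]
      have e : t ^ 6 = t ^ 4 * (t * t) := by
        rw [pow_succ, pow_succ, mul_assoc]
      rw [h6', h4, one_mul] at e
      rw [← e]; exact H.one_mem
    apply hcent _ h2H
    have e1 : t * c = c⁻¹ * t := by
      calc t * c = (t * c * t⁻¹) * t := by group
        _ = c⁻¹ * t := by rw [htc]
    have e2 : t * c⁻¹ = c * t := by
      calc t * c⁻¹ = (t * c * t⁻¹)⁻¹ * t := by group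
        _ = c * t := by rw [htc, inv_inv]
    calc c * (t * t) = (c * t) * t := by group
      _ = (t * c⁻¹) * t := by rw [e2]
      _ = t * (c⁻¹ * t) := by group
      _ = t * (t * c) := by rw [e1]
      _ = (t * t) * c := by group
  have hcl : ∀ x ∈ H, ∀ y ∈ H, ∀ z ∈ H,
      y * (z * x * z⁻¹ * x⁻¹) = (z * x * z⁻¹ * x⁻¹) * y := by
    have key := class_two_aux (H.subgroupOf K) (⟨c, hcK⟩ : K)
      (by rw [Subgroup.mem_subgroupOf]; exact hcH)
      (by
        intro g hg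
        rw [Subgroup.mem_subgroupOf] at hg
        apply Subtype.ext
        rw [Subgroup.coe_pow]
        exact hA g.1 g.2 hg)
      (by
        intro u hu h3
        rw [Subgroup.mem_subgroupOf] at hu
        apply Subtype.ext
        have h3' : (u : G) ^ 3 = 1 := by
          have := congrArg Subtype.val h3
          simpa using this
        have h4 := hC _ hu
        have e : (u : G) ^ 4 = (u : G) ^ 3 * u := pow_succ _ 3
        rw [h4, h3', one_mul] at e
        exact e.symm)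
    intro x hx y hy z hz
    have := key ⟨x, hle hx⟩ (by rw [Subgroup.mem_subgroupOf]; exact hx) ⟨y, hle hy⟩
      (by rw [Subgroup.mem_subgroupOf]; exact hy) ⟨z, hle hz⟩
      (by rw [Subgroup.mem_subgroupOf]; exact hz)
    exact congrArg Subtype.val this
  have hex2 : ∀ h ∈ H, h * h = 1 := elem_ab H c t hc3' htt htc hC
    (by
      intro h hh
      have hch : c * h ∈ K := K.mul_mem hcK (hle hh)
      have hchH : c * h ∉ H := fun hx => hcH (by simpa using H.mul_mem hx (H.inv_mem hh))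
      have := hA _ hch hchH
      rwa [pow_succ, pow_two] at this)
    (by
      intro h hh
      apply hB
      intro hx
      exact htK (by simpa using K.mul_mem hx (K.inv_mem (hle hh))))
    hcl
  have hcomm : ∀ a ∈ H, ∀ b ∈ H, a * b = b * a := by
    intro a ha b hb
    have h1 := hex2 _ (H.mul_mem ha hb)
    have h2 := hex2 a ha
    have h3 := hex2 b hb
    have ha' : a⁻¹ = a := inv_eq_of_mul_eq_one_left h2
    have hb' : b⁻¹ = b := inv_eq_of_mul_eq_one_left h3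
    have e : b * a = a⁻¹ * ((a * b) * (a * b)) * b⁻¹ := by group
    rw [h1, mul_one, ha', hb'] at e
    exact e.symm
  refine ⟨⟨⟨⟨fun a b => Subtype.ext (hcomm a.1 a.2 b.1 b.2)⟩⟩,
    fun a ha => by rw [pow_two]; exact hex2 a ha⟩, ?_⟩
  obtain ⟨x, hx⟩ : ∃ x : G ⧸ H, x = QuotientGroup.mk' H c := ⟨_, rfl⟩
  obtain ⟨a, ha⟩ : ∃ a : G ⧸ H, a = QuotientGroup.mk' H t := ⟨_, rfl⟩
  have hx3 : orderOf x = 3 := by
    apply orderOf_eq_prime
    · rw [hx, ← map_pow, hc3, map_one]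
    · rw [hx]; intro h; exact hcH ((QuotientGroup.eq_one_iff c).mp h)
  have ha2 : orderOf a = 2 := by
    apply orderOf_eq_prime
    · rw [ha, ← map_pow, pow_two, htt, map_one]
    · rw [ha]; intro h; exact htK (hle ((QuotientGroup.eq_one_iff t).mp h))
  have hax : a * x * a⁻¹ = x⁻¹ := by
    rw [ha, hx, ← map_inv, ← map_mul, ← map_mul, htc, map_inv]
  obtain ⟨e⟩ := Cfsg.Agent.Lib.helper14.s3_of_dihedral x a hx3 ha2 hax
  have hcard6 : Nat.card (G ⧸ H) = 6 := by rw [hcardQ, hKidx]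
  have hperm : Nat.card (Equiv.Perm (Fin 3)) = 6 := by
    rw [Nat.card_eq_fintype_card, Fintype.card_perm, Fintype.card_fin]; rfl
  have htop : Subgroup.zpowers x ⊔ Subgroup.zpowers a = ⊤ := by
    apply Subgroup.eq_top_of_card_eq
    rw [Nat.card_congr e.toEquiv, hcard6, hperm]
  exact ⟨(Subgroup.topEquiv.symm.trans (MulEquiv.subgroupCongr htop.symm)).trans e⟩

/-- A finite group whose set of element orders is exactly {1, 2, 3, 4} has a normal subgroup N such that either N is a 2-group of exponent 4 and nilpotency class at most 2 with G/N of order 3, or N is an elementary abelian 2-group with G/N isomorphic to the symmetric group of degree 3, or N is an elementary abelian 3-group with G/N cyclic of order 4 or quaternion of order 8. -/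
theorem result {G : Type*} [Group G] [Finite G] (h : Set.range (orderOf : G → ℕ) = {k : ℕ | 1 ≤ k ∧ k ≤ 4}) :
    ∃ (N : Subgroup G) (_ : N.Normal),
      (IsPGroup 2 ↥N ∧ Monoid.exponent ↥N = 4 ∧ Group.nilpotencyClass ↥N ≤ 2 ∧ N.index = 3) ∨
      (Cfsg.IsElementaryAbelian 2 N ∧ Nonempty (G ⧸ N ≃* Equiv.Perm (Fin 3))) ∨
      (Cfsg.IsElementaryAbelian 3 N ∧ ((IsCyclic (G ⧸ N) ∧ N.index = 4) ∨ Nonempty (G ⧸ N ≃* QuaternionGroup 2))) := by
  have hord : ∀ g : G, orderOf g = 1 ∨ orderOf g = 2 ∨ orderOf g = 3 ∨ orderOf g = 4 := by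
    intro g
    have hmem : orderOf g ∈ {k : ℕ | 1 ≤ k ∧ k ≤ 4} := h ▸ Set.mem_range_self g
    obtain ⟨h1, h2⟩ := hmem
    omega
  obtain ⟨g2, hg2⟩ : ∃ g : G, orderOf g = 2 := by
    have hmem : (2 : ℕ) ∈ Set.range (orderOf : G → ℕ) := by
      rw [h]; exact ⟨by norm_num, by norm_num⟩
    exact hmem
  obtain ⟨g3, hg3⟩ : ∃ g : G, orderOf g = 3 := by
    have hmem : (3 : ℕ) ∈ Set.range (orderOf : G → ℕ) := by
      rw [h]; exact ⟨by norm_num, by norm_num⟩
    exact hmem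
  obtain ⟨g4, hg4⟩ : ∃ g : G, orderOf g = 4 := by
    have hmem : (4 : ℕ) ∈ Set.range (orderOf : G → ℕ) := by
      rw [h]; exact ⟨by norm_num, by norm_num⟩
    exact hmem
  have hprime : ∀ p : ℕ, p.Prime → p ∣ Nat.card G → p = 2 ∨ p = 3 := by
    intro p hp hpd
    haveI := Fact.mk hp
    obtain ⟨g, hg⟩ := exists_prime_orderOf_dvd_card' p hpd
    rcases hord g with h1 | h1 | h1 | h1
    · rw [hg] at h1; exact absurd h1 hp.one_lt.ne'
    · left; rw [← hg]; exact h1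
    · right; rw [← hg]; exact h1
    · rw [hg] at h1; rw [h1] at hp; norm_num at hp
  obtain ⟨a, b, hab⟩ := two_three_pow (Nat.card G) Nat.card_pos hprime
  have hsolv : Group.IsSolvable G :=
    Cfsg.Agent.S0144.result 2 3 a b Nat.prime_two Nat.prime_three hab
  have h2d : 2 ∣ Nat.card G := hg2 ▸ orderOf_dvd_natCard g2
  have h3d : 3 ∣ Nat.card G := hg3 ▸ orderOf_dvd_natCard g3
  have hdisc : ∃ A : Set ℕ, (∃ a ∈ A, a.Prime ∧ a ∣ Nat.card G) ∧
      (∃ b ∉ A, b.Prime ∧ b ∣ Nat.card G) ∧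
      ∀ a ∈ A, ∀ b ∉ A, a.Prime → b.Prime → a ∣ Nat.card G → b ∣ Nat.card G →
        ¬ ∃ g : G, orderOf g = a * b := by
    refine ⟨{2}, ⟨2, rfl, Nat.prime_two, h2d⟩, ⟨3, by simp, Nat.prime_three, h3d⟩, ?_⟩
    rintro a ha b hb hap hbp - - ⟨g, hg⟩
    rw [Set.mem_singleton_iff] at ha hb
    have h2b := hbp.two_le
    rcases hord g with h1 | h1 | h1 | h1 <;> rw [hg, ha] at h1 <;> omega
  rcases Cfsg.Agent.S3857.result hsolv hdisc with ⟨C, hC⟩ | ⟨H, K, hHn, hKn, hlt, hK, hGH⟩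
  · obtain ⟨N, hset, hNn, -⟩ := Cfsg.Agent.S0035.result C hC
    haveI := hNn
    obtain ⟨hc, hN1, hfpf, -, hcop, -⟩ := Cfsg.Agent.S4001.frob_facts N C hC hset.symm
    refine ⟨N, hNn, ?_⟩
    rcases Nat.even_or_odd (Nat.card C) with he | ho
    · right; right
      exact caseFb hord g4 hg4 N C hc hN1 hfpf hcop (even_iff_two_dvd.mp he)
    · left
      exact caseFa hord g4 hg4 N C hc hN1 hfpf hcop hC.1 ho
  · haveI := hHn
    haveI := hKn
    exact ⟨H, hHn, Or.inr (Or.inl (case2F hord H K hlt hK hGH))⟩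

end Cfsg.Agent.S4006
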