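import Cfsg.Statements.S4113
import Mathlib

set_option autoImplicit false
open Cfsg
open scoped Pointwise

namespace Cfsg.Agent.S4113

theorem decomp {G : Type*} [Group G] (M H : Subgroup G) [M.Normal] (hHM : H ⊔ M = ⊤) (g : G) :
    ∃ m ∈ M, ∃ h ∈ H, g = m * h := by
  have h1 : g ∈ ((M ⊔ H : Subgroup G) : Set G) := by
    rw [sup_comm, hHM]; trivial
  rw [Subgroup.normal_mul] at h1
  obtain ⟨m, hm, h, hh, rfl⟩ := Set.mem_mul.mp h1
  exact ⟨m, hm, h, hh, rfl⟩

/-- Let G be a finite group, M ≤ N non-trivial proper normal subgroups, and H a subgroup with HM = G and H ∩ M = 1. Then every element of G outside N acts fixed-point-freely on M (C_G(x) ≤ N for every x ∈ M, x ≠ 1) if and only if H ∩ gHg⁻¹ ≤ H ∩ N for every g outside H, with H proper and non-trivial and H ∩ N proper in H. -/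
theorem result {G : Type*} [Group G] [Finite G] (N M : Subgroup G) [N.Normal] [M.Normal] (hMN : M ≤ N) (hM1 : M ≠ ⊥) (hN2 : N ≠ ⊤)
    (H : Subgroup G) (hHM : H ⊔ M = ⊤) (hHM' : H ⊓ M = ⊥) :
    (∀ x ∈ M, x ≠ 1 → Subgroup.centralizer ({x} : Set G) ≤ N) ↔
      (H ≠ ⊥ ∧ H ≠ ⊤ ∧ H ⊓ N < H ∧ ∀ g : G, g ∉ H → H ⊓ H.map (MulAut.conj g).toMonoidHom ≤ N) := by
  have hbot : ∀ z : G, z ∈ H → z ∈ M → z = 1 := by
    intro z hzH hzM
    have : z ∈ H ⊓ M := ⟨hzH, hzM⟩
    rw [hHM'] at this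
    exact Subgroup.mem_bot.mp this
  constructor
  · intro hC
    refine ⟨?_, ?_, ?_, ?_⟩
    · rintro rfl
      rw [bot_sup_eq] at hHM
      rw [hHM] at hMN
      exact hN2 (top_le_iff.mp hMN)
    · rintro rfl
      rw [top_inf_eq] at hHM'
      exact hM1 hHM'
    · refine lt_of_le_of_ne inf_le_left ?_
      intro h
      have hHN : H ≤ N := inf_eq_left.mp h
      have : H ⊔ M ≤ N := sup_le hHN hMN
      rw [hHM] at this
      exact hN2 (top_le_iff.mp this)
    · intro g hg y hy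
      obtain ⟨hyH, h', hh', hy'⟩ := hy
      obtain ⟨m, hm, h, hh, rfl⟩ := decomp M H hHM g
      have hm1 : m ≠ 1 := by
        rintro rfl
        rw [one_mul] at hg
        exact hg hh
      simp only [MulEquiv.coe_toMonoidHom, MulAut.conj_apply] at hy'
      set h'' := h * h' * h⁻¹ with hh''
      have hh''H : h'' ∈ H := H.mul_mem (H.mul_mem hh hh') (H.inv_mem hh)
      have hy2 : y = m * h'' * m⁻¹ := by rw [← hy', hh'']; group
      have h1 : y * h''⁻¹ ∈ H := H.mul_mem hyH (H.inv_mem hh''H)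
      have h2 : y * h''⁻¹ ∈ M := by
        have : y * h''⁻¹ = m * (h'' * m⁻¹ * h''⁻¹) := by rw [hy2]; group
        rw [this]
        exact M.mul_mem hm (‹M.Normal›.conj_mem _ (M.inv_mem hm) h'')
      have h3 : y * h''⁻¹ = 1 := hbot _ h1 h2
      have h4 : y = h'' := by
        calc y = y * h''⁻¹ * h'' := by group
          _ = h'' := by rw [h3, one_mul]
      have h5 : h'' ∈ Subgroup.centralizer ({m} : Set G) := by
        rw [Subgroup.mem_centralizer_iff]
        intro z hz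
        rw [Set.mem_singleton_iff] at hz
        subst hz
        have : h'' = z * h'' * z⁻¹ := by rw [← hy2, h4]
        calc z * h'' = z * h'' * z⁻¹ * z := by group
          _ = h'' * z := by rw [← this]
      rw [h4]
      exact hC m hm hm1 h5
  · rintro ⟨-, -, -, hTI⟩ x hxM hx1 c hc
    by_contra hcN
    obtain ⟨m, hm, h, hh, rfl⟩ := decomp M H hHM c
    have hhN : h ∉ N := by
      intro hhN
      exact hcN (N.mul_mem (hMN hm) hhN)
    have claimA : ∀ y ∈ M, h * y = y * h → y = 1 := by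
      intro y hy hcomm
      by_contra hy1
      have hyH : y ∉ H := fun hyH => hy1 (hbot y hyH hy)
      have : h ∈ H ⊓ H.map (MulAut.conj y).toMonoidHom := by
        refine ⟨hh, h, hh, ?_⟩
        simp only [MulEquiv.coe_toMonoidHom, MulAut.conj_apply]
        rw [← hcomm]; group
      exact hhN (hTI y hyH this)
    let f : M → M := fun m' => ⟨(m' : G) * h * (m' : G)⁻¹ * h⁻¹, by
      have : (m' : G) * h * (m' : G)⁻¹ * h⁻¹ = (m' : G) * (h * (m' : G)⁻¹ * h⁻¹) := by group
      rw [this]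
      exact M.mul_mem m'.2 (‹M.Normal›.conj_mem _ (M.inv_mem m'.2) h)⟩
    have hfinj : Function.Injective f := by
      intro m₁ m₂ h12
      have h12' : (m₁ : G) * h * (m₁ : G)⁻¹ * h⁻¹ = (m₂ : G) * h * (m₂ : G)⁻¹ * h⁻¹ := congrArg Subtype.val h12
      have h3 : h * ((m₂ : G)⁻¹ * (m₁ : G)) = ((m₂ : G)⁻¹ * (m₁ : G)) * h := by
        have e1 : (m₁ : G) * h * (m₁ : G)⁻¹ = (m₂ : G) * h * (m₂ : G)⁻¹ := by
          have := congrArg (fun t => t * h) h12'
          simpa using this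
        calc h * ((m₂ : G)⁻¹ * (m₁ : G)) = (m₂ : G)⁻¹ * ((m₂ : G) * h * (m₂ : G)⁻¹) * (m₁ : G) := by group
          _ = (m₂ : G)⁻¹ * ((m₁ : G) * h * (m₁ : G)⁻¹) * (m₁ : G) := by rw [e1]
          _ = ((m₂ : G)⁻¹ * (m₁ : G)) * h := by group
      have h4 := claimA _ (M.mul_mem (M.inv_mem m₂.2) m₁.2) h3
      apply Subtype.ext
      calc (m₁ : G) = (m₂ : G) * ((m₂ : G)⁻¹ * (m₁ : G)) := by group
        _ = (m₂ : G) := by rw [h4, mul_one]
    have hfsurj : Function.Surjective f := Finite.injective_iff_surjective.mp hfinj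
    obtain ⟨m', hm'⟩ := hfsurj ⟨m, hm⟩
    have hm'' : (m' : G) * h * (m' : G)⁻¹ * h⁻¹ = m := congrArg Subtype.val hm'
    have hc' : x * (m * h) = (m * h) * x := by
      rw [Subgroup.mem_centralizer_iff] at hc
      exact hc x rfl
    have hmh : m * h = (m' : G) * h * (m' : G)⁻¹ := by rw [← hm'']; group
    rw [hmh] at hc'
    have h5 : h * ((m' : G)⁻¹ * x * (m' : G)) = ((m' : G)⁻¹ * x * (m' : G)) * h := by
      calc h * ((m' : G)⁻¹ * x * (m' : G)) = (m' : G)⁻¹ * ((m' : G) * h * (m' : G)⁻¹ * x) * (m' : G) := by group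
        _ = (m' : G)⁻¹ * (x * ((m' : G) * h * (m' : G)⁻¹)) * (m' : G) := by rw [hc']
        _ = ((m' : G)⁻¹ * x * (m' : G)) * h := by group
    have h6 : (m' : G)⁻¹ * x * (m' : G) ∈ M := by
      have := ‹M.Normal›.conj_mem x hxM (m' : G)⁻¹
      simpa using this
    have h7 := claimA _ h6 h5
    apply hx1
    calc x = (m' : G) * ((m' : G)⁻¹ * x * (m' : G)) * (m' : G)⁻¹ := by group
      _ = 1 := by rw [h7]; group

end Cfsg.Agent.S4113
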