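import Cfsg.Statements.S4126
import Cfsg.Agent.S1946
import Cfsg.Agent.Lib.helper3.HallSystem2
import Mathlib

set_option autoImplicit false
open Cfsg

namespace Cfsg.Agent.S4126

theorem result {G : Type*} [Group G] [Finite G] (p : ℕ) [Fact p.Prime]
    (h : ∀ x : G, (orderOf x = p ∨ (p = 2 ∧ orderOf x = 4)) → ∃ a : ℕ, (Subgroup.centralizer ({x} : Set G)).index = p ^ a) :
    Cfsg.HasNormalPComplement p G := by
  have hp : p.Prime := Fact.out
  obtain ⟨P⟩ : Nonempty (Sylow p G) := inferInstance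
  refine (Cfsg.Agent.S1946.result P).mpr ?_
  intro a ha hsmall g _
  by_cases ha1 : a = 1
  · exact ⟨1, Subgroup.one_mem _, by rw [ha1]; group⟩
  have hord : orderOf a = p ∨ (p = 2 ∧ orderOf a = 4) := by
    rcases hsmall with h1 | ⟨h2, h4⟩
    · left; exact orderOf_eq_prime h1 ha1
    · have hd : orderOf a ∣ 2 ^ 2 := orderOf_dvd_of_pow_eq_one (by norm_num; exact h4)
      obtain ⟨j, hj, hj'⟩ := (Nat.dvd_prime_pow Nat.prime_two).mp hd
      interval_cases j
      · exact absurd (orderOf_eq_one_iff.mp (by simpa using hj')) ha1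
      · left; rw [h2]; simpa using hj'
      · right; exact ⟨h2, by simpa using hj'⟩
  obtain ⟨k, hk⟩ := h a hord
  have hcop : ((Subgroup.centralizer ({a} : Set G)).index).Coprime (P : Subgroup G).index := by
    rw [hk]
    exact Nat.Coprime.pow_left _ ((Nat.Prime.coprime_iff_not_dvd hp).mpr P.not_dvd_index)
  obtain ⟨x, hx, c, hc, rfl⟩ := Cfsg.Agent.Lib.helper3.exists_mul_of_coprime_index _ _ hcop g
  refine ⟨x, hx, ?_⟩
  rw [Subgroup.mem_centralizer_iff] at hc
  have := hc a rfl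
  calc x * c * a * (x * c)⁻¹ = x * (c * a) * c⁻¹ * x⁻¹ := by group
    _ = x * (a * c) * c⁻¹ * x⁻¹ := by rw [this]
    _ = x * a * x⁻¹ := by group

end Cfsg.Agent.S4126
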