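import Cfsg.Statements.S4138
import Mathlib
import Cfsg.Agent.Lib.helper20.ClassGraph
import Cfsg.Agent.Lib.helper16.ClassSetup

set_option autoImplicit false
open Cfsg

namespace Cfsg.Agent.S4138

open Cfsg.Agent.Lib.helper20 Cfsg.Agent.Lib.helper20.ClassGraph Cfsg.Agent.Lib.helper16.ClassSetup

theorem qpart {G : Type*} [Group G] [Finite G] (q : ℕ) (hq : q.Prime) (g : G) :
    ∃ g₁ g₂ : G, g₁ ∈ Subgroup.zpowers g ∧ g₂ ∈ Subgroup.zpowers g ∧ g = g₁ * g₂ ∧
      (∃ e : ℕ, g₁ ^ (q ^ e) = 1) ∧ (orderOf g₂).Coprime q := by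
  have ho : orderOf g ≠ 0 := (orderOf_pos g).ne'
  obtain ⟨e, r, hr, hor⟩ := Nat.exists_eq_pow_mul_and_not_dvd ho q hq.ne_one
  have hqr : Nat.Coprime q r := (Nat.Prime.coprime_iff_not_dvd hq).mpr hr
  have hc : Nat.Coprime (q ^ e) r := Nat.Coprime.pow_left e hqr
  have hb : ((q ^ e : ℕ) : ℤ) * Nat.gcdA (q ^ e) r + (r : ℤ) * Nat.gcdB (q ^ e) r = 1 := by
    have h := Nat.gcd_eq_gcd_ab (q ^ e) r
    rw [Nat.Coprime.gcd_eq_one hc] at h
    rw [← h]
    simp
  have hpow : ∀ k : ℤ, g ^ (((q ^ e * r : ℕ) : ℤ) * k) = 1 := by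
    intro k
    rw [zpow_mul, zpow_natCast, ← hor, pow_orderOf_eq_one, one_zpow]
  refine ⟨g ^ ((r : ℤ) * Nat.gcdB (q ^ e) r), g ^ (((q ^ e : ℕ) : ℤ) * Nat.gcdA (q ^ e) r),
    Subgroup.zpow_mem_zpowers g _, Subgroup.zpow_mem_zpowers g _, ?_, ⟨e, ?_⟩, ?_⟩
  · rw [← zpow_add, add_comm, hb, zpow_one]
  · rw [← zpow_natCast, ← zpow_mul]
    have e1 : (r : ℤ) * Nat.gcdB (q ^ e) r * ((q ^ e : ℕ) : ℤ) =
        ((q ^ e * r : ℕ) : ℤ) * Nat.gcdB (q ^ e) r := by
      push_cast
      ring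
    rw [e1]
    exact hpow _
  · have h1 : (g ^ (((q ^ e : ℕ) : ℤ) * Nat.gcdA (q ^ e) r)) ^ r = 1 := by
      rw [← zpow_natCast, ← zpow_mul]
      have e1 : ((q ^ e : ℕ) : ℤ) * Nat.gcdA (q ^ e) r * (r : ℤ) =
          ((q ^ e * r : ℕ) : ℤ) * Nat.gcdA (q ^ e) r := by
        push_cast
        ring
      rw [e1]
      exact hpow _
    exact Nat.Coprime.coprime_dvd_left (orderOf_dvd_of_pow_eq_one h1) hqr.symm

theorem cc {G : Type*} [Group G] [Finite G] (a b g : G) (hab : Commute a b)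
    (hc : (orderOf a).Coprime (orderOf b)) (hg : (a * b) * g = g * (a * b)) :
    a * g = g * a ∧ b * g = g * b := by
  have h1 : (a * b) ^ orderOf b = a ^ orderOf b := by
    rw [hab.mul_pow, pow_orderOf_eq_one, mul_one]
  obtain ⟨k, hk⟩ := exists_pow_eq_self_of_coprime hc.symm
  have hg' : Commute (a * b) g := hg
  have ha : Commute a g := by
    have h2 : Commute (((a * b) ^ orderOf b) ^ k) g := (hg'.pow_left _).pow_left _
    rw [h1, hk] at h2
    exact h2
  refine ⟨ha, ?_⟩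
  have h3 : Commute (a⁻¹ * (a * b)) g := (ha.inv_left).mul_left hg'
  rw [inv_mul_cancel_left] at h3
  exact h3

theorem cs_dvd_of_le {G : Type*} [Group G] [Finite G] {a b : G}
    (h : ∀ g : G, a * g = g * a → b * g = g * b) : cs b ∣ cs a :=
  Subgroup.index_dvd_of_le (fun g hg => (S4134.mcs b g).mpr (h g ((S4134.mcs a g).mp hg)))

theorem cs_of_mul {G : Type*} [Group G] [Finite G] (m : ℕ) (htop : ∀ z : G, cs z ≤ m) (a h : G)
    (ha : Nat.Coprime (cs a) m) (hm : cs (a * h) = m) : cs h = m := by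
  have hc : Nat.Coprime (cs a⁻¹) (cs (a * h)) := by
    rw [cs_inv, hm]
    exact ha
  have h1 := cs_le_mul_right a⁻¹ (a * h) hc
  rw [inv_mul_cancel_left, hm] at h1
  exact le_antisymm (htop h) h1

structure Ctx (G : Type*) [Group G] [Finite G] (m n : ℕ) (x : G) (A V : Subgroup G) : Prop where
  hmn : n < m
  hn : 1 < n
  hcop : m.Coprime n
  htop : ∀ z : G, cs z ≤ m
  hsecond : ∀ z : G, cs z < m → cs z ≤ n
  hx : cs x = n
  An : A.Normal
  Vn : V.Normal
  VA : V ≤ A
  ZA : Subgroup.center G ≤ A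
  Aab : ∀ a ∈ A, ∀ b ∈ A, a * b = b * a
  WA : ∀ a : G, Nat.Coprime (cs a) m → a ∈ A
  Vcard : Nat.card V ∣ m
  AZV : ∀ a ∈ A, ∃ z ∈ Subgroup.center G, ∃ k ∈ V, a = z * k
  Vcl : ∀ b : G, cs b = m → ∀ k ∈ V, k * b ∈ clset b
  WV : ∀ a : G, Nat.Coprime (cs a) m → ∀ g : G, a⁻¹ * (g * a * g⁻¹) ∈ V

section
variable {G : Type*} [Group G] [Finite G] {m n : ℕ} {x : G} {A V : Subgroup G}

theorem L1 (C : Ctx G m n x A V) (g : G) (hg : g ∉ Subgroup.center G)
    (hc : Nat.Coprime (cs g) n) : cs g = m := by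
  by_contra hne
  have hlt : cs g < m := lt_of_le_of_ne (C.htop g) hne
  have hle : cs g ≤ n := C.hsecond g hlt
  have hcx : Nat.Coprime (cs g) (cs x) := by
    rw [C.hx]
    exact hc
  have h1 : n ≤ cs (g * x) := by
    have h := cs_le_mul_right g x hcx
    rw [C.hx] at h
    exact h
  have h2 : cs (g * x) ∣ cs g * n := by
    have h := cs_mul_dvd g x hcx
    rw [C.hx] at h
    exact h
  have h3 : cs (g * x) ≠ m := by
    intro h
    rw [h] at h2
    have h4 : m ∣ cs g := (Nat.Coprime.dvd_mul_right C.hcop).mp h2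
    have h5 := Nat.le_of_dvd (cs_pos g) h4
    omega
  have h4 : cs (g * x) = n := le_antisymm (C.hsecond _ (lt_of_le_of_ne (C.htop _) h3)) h1
  have hsub : (fun y => g * y) '' clset x ⊆ clset (g * x) := by
    rintro _ ⟨y, ⟨t, rfl⟩, rfl⟩
    exact mul_clset_subset g x hcx t
  have hcard : (clset (g * x)).ncard ≤ ((fun y => g * y) '' clset x).ncard := by
    rw [Set.ncard_image_of_injective _ (mul_right_injective g), clset_ncard, clset_ncard, h4, C.hx]
  have heq := Set.eq_of_subset_of_ncard_le hsub hcard (Set.toFinite _)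
  have hstab : ∀ y ∈ clset x, ∀ h : G, (g⁻¹ * (h * g * h⁻¹)) * y ∈ clset x := by
    intro y hy h
    obtain ⟨t, rfl⟩ := hy
    have hmem : (h * g * h⁻¹) * (t * x * t⁻¹) ∈ clset (g * x) :=
      conj_prod_of_coprime g x hcx h t
    rw [← heq] at hmem
    obtain ⟨y', hy', hy2⟩ := hmem
    have hy3 : g * y' = (h * g * h⁻¹) * (t * x * t⁻¹) := hy2
    have e : g⁻¹ * (h * g * h⁻¹) * (t * x * t⁻¹) = y' := by
      rw [mul_assoc, ← hy3, inv_mul_cancel_left]
    rw [e]
    exact hy'
  obtain ⟨T, hT⟩ : ∃ T : Subgroup G,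
      T = Subgroup.closure {d : G | ∃ h : G, d = g⁻¹ * (h * g * h⁻¹)} := ⟨_, rfl⟩
  have hTstab : ∀ t ∈ T, ∀ y ∈ clset x, t * y ∈ clset x := by
    intro t ht
    rw [hT] at ht
    refine closure_induction_fin _ (fun t => ∀ y ∈ clset x, t * y ∈ clset x) ?_ ?_ ?_ t ht
    · intro y hy
      rw [one_mul]
      exact hy
    · intro x₁ x₂ h1 h2 y hy
      rw [mul_assoc]
      exact h1 _ (h2 y hy)
    · rintro d ⟨h, rfl⟩ y hy
      exact hstab y hy h
  have hTcard : Nat.card T ∣ n := by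
    have h := card_dvd_of_mul_stable T (clset x) hTstab
    rw [clset_ncard, C.hx] at h
    exact h
  have hxW : Nat.Coprime (cs x) m := by
    rw [C.hx]
    exact C.hcop.symm
  have hTV : T ≤ V := by
    intro t ht
    obtain ⟨s, hs⟩ := hTstab t ht x (clset_self x)
    have e : t = x * (x⁻¹ * (s * x * s⁻¹)) * x⁻¹ := by
      rw [hs]
      group
    rw [e]
    exact C.Vn.conj_mem _ (C.WV x hxW s) x
  have hT1 : Nat.card T = 1 :=
    Nat.eq_one_of_dvd_coprimes C.hcop ((Subgroup.card_dvd_of_le hTV).trans C.Vcard) hTcard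
  have hTbot : T = ⊥ := Subgroup.card_eq_one.mp hT1
  apply hg
  rw [Subgroup.mem_center_iff]
  intro h
  have hd : g⁻¹ * (h * g * h⁻¹) ∈ T := by
    rw [hT]
    exact Subgroup.subset_closure ⟨h, rfl⟩
  rw [hTbot, Subgroup.mem_bot] at hd
  calc h * g = g * (g⁻¹ * (h * g * h⁻¹)) * h := by group
    _ = g * 1 * h := by rw [hd]
    _ = g * h := by group

theorem xW (C : Ctx G m n x A V) : Nat.Coprime (cs x) m := by
  rw [C.hx]
  exact C.hcop.symm

theorem xA (C : Ctx G m n x A V) : x ∈ A := C.WA x (xW C)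

theorem xnotZ (C : Ctx G m n x A V) : x ∉ Subgroup.center G := by
  intro h
  have h1 := (cs_eq_one_iff x).mpr h
  rw [C.hx] at h1
  have := C.hn
  omega

theorem Apow (C : Ctx G m n x A V) (a : G) (ha : a ∈ A) :
    a ^ Nat.card V ∈ Subgroup.center G := by
  obtain ⟨z, hz, k, hk, rfl⟩ := C.AZV a ha
  have hzk : Commute z k := (Subgroup.mem_center_iff.mp hz k).symm
  rw [hzk.mul_pow]
  have hk1 : k ^ Nat.card V = 1 := by
    have h := pow_card_eq_one' (G := V) (x := ⟨k, hk⟩)
    exact congrArg Subtype.val h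
  rw [hk1, mul_one]
  exact Subgroup.pow_mem _ hz _

theorem K1 (C : Ctx G m n x A V) (v : G) (hv : x * v = v * x)
    (ho : Nat.Coprime (orderOf v) m) : v ∈ Subgroup.center G := by
  have hoκ : Nat.Coprime (Nat.card V) (orderOf v) :=
    (Nat.Coprime.coprime_dvd_right C.Vcard ho).symm
  obtain ⟨j, hj⟩ := exists_pow_eq_self_of_coprime hoκ
  have hxκ := Apow C x (xA C)
  have hcv : ∀ g : G, (v * x) * g = g * (v * x) → v * g = g * v := by
    intro g hg
    have hvx : Commute v x := hv.symm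
    have hg' : Commute (v * x) g := hg
    have h1 : Commute ((v * x) ^ Nat.card V) g := hg'.pow_left _
    rw [hvx.mul_pow] at h1
    have h2 : Commute (x ^ Nat.card V) g := (Subgroup.mem_center_iff.mp hxκ g).symm
    have h3 : Commute (v ^ Nat.card V) g := by
      have h4 : Commute (v ^ Nat.card V * x ^ Nat.card V * (x ^ Nat.card V)⁻¹) g :=
        h1.mul_left h2.inv_left
      rw [mul_inv_cancel_right] at h4
      exact h4
    have h5 : Commute ((v ^ Nat.card V) ^ j) g := h3.pow_left j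
    rw [hj] at h5
    exact h5
  have hcx : ∀ g : G, (v * x) * g = g * (v * x) → x * g = g * x := by
    intro g hg
    have h1 : Commute v g := hcv g hg
    have hg' : Commute (v * x) g := hg
    have h2 : Commute (v⁻¹ * (v * x)) g := h1.inv_left.mul_left hg'
    rw [inv_mul_cancel_left] at h2
    exact h2
  have hd1 : n ∣ cs (v * x) := by
    rw [← C.hx]
    exact cs_dvd_of_le hcx
  have hd2 : cs v ∣ cs (v * x) := cs_dvd_of_le hcv
  have hne : cs (v * x) ≠ m := by
    intro h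
    rw [h] at hd1
    have h1 : n = 1 := Nat.eq_one_of_dvd_coprimes C.hcop hd1 dvd_rfl
    have := C.hn
    omega
  have hle : cs (v * x) ≤ n := C.hsecond _ (lt_of_le_of_ne (C.htop _) hne)
  have heq : cs (v * x) = n := le_antisymm hle (Nat.le_of_dvd (cs_pos _) hd1)
  rw [heq] at hd2
  have hvW : Nat.Coprime (cs v) m := Nat.Coprime.coprime_dvd_left hd2 C.hcop.symm
  have hvκ := Apow C v (C.WA v hvW)
  rw [← hj]
  exact Subgroup.pow_mem _ hvκ _

theorem exq (C : Ctx G m n x A V) (b : G) (hb : cs b = m) (q : ℕ) (hq : q.Prime) (hqn : q ∣ n) :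
    ∃ v : G, v ∉ Subgroup.center G ∧ (∃ e : ℕ, v ^ (q ^ e) = 1) ∧ b * v = v * b := by
  haveI : Fact q.Prime := ⟨hq⟩
  obtain ⟨Q⟩ : Nonempty (Sylow q G) := inferInstance
  have hqm : ¬ q ∣ (Subgroup.centralizer ({b} : Set G)).index := by
    intro h
    have h' : q ∣ cs b := h
    rw [hb] at h'
    have h1 : q = 1 := Nat.eq_one_of_dvd_coprimes C.hcop h' hqn
    exact hq.one_lt.ne' h1
  obtain ⟨g, hg⟩ := exists_conj_commute_sylow Q b hqm
  have hQZ : ¬ (Q : Subgroup G) ≤ Subgroup.center G := by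
    intro hle
    have h1 : (Subgroup.center G).index ∣ (Q : Subgroup G).index := Subgroup.index_dvd_of_le hle
    have h2 : n ∣ (Subgroup.center G).index := by
      rw [← C.hx]
      exact Subgroup.index_dvd_of_le (Subgroup.center_le_centralizer _)
    exact Q.not_dvd_index (hqn.trans (h2.trans h1))
  obtain ⟨s, hs, hsZ⟩ := SetLike.not_le_iff_exists.mp hQZ
  refine ⟨g⁻¹ * s * g, ?_, ?_, ?_⟩
  · intro h
    apply hsZ
    have h1 := (inferInstance : (Subgroup.center G).Normal).conj_mem _ h g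
    have e : g * (g⁻¹ * s * g) * g⁻¹ = s := by group
    rw [e] at h1
    exact h1
  · obtain ⟨e, he⟩ := Q.isPGroup' ⟨s, hs⟩
    refine ⟨e, ?_⟩
    have he' : s ^ (q ^ e) = 1 := congrArg Subtype.val he
    have e1 : g⁻¹ * s * g = g⁻¹ * s * g⁻¹⁻¹ := by rw [inv_inv]
    rw [e1, conj_pow, he']
    group
  · have h := hg s hs
    calc b * (g⁻¹ * s * g) = g⁻¹ * ((g * b * g⁻¹) * s) * g := by group
      _ = g⁻¹ * (s * (g * b * g⁻¹)) * g := by rw [h]
      _ = (g⁻¹ * s * g) * b := by group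

theorem Qlem (C : Ctx G m n x A V) (b : G) (hb : cs b = m) (q : ℕ) (hq : q.Prime) (hqn : q ∣ n) :
    ∃ b' : G, (∃ e : ℕ, b' ^ (q ^ e) = 1) ∧
      Subgroup.centralizer ({b'} : Set G) = Subgroup.centralizer ({b} : Set G) := by
  obtain ⟨b₁, b₂, hb₁, hb₂, hbb, ⟨e, he⟩, hco⟩ := qpart q hq b
  have hc1 : ∀ g : G, b * g = g * b → b₁ * g = g * b₁ := by
    intro g hg
    obtain ⟨i, rfl⟩ := Subgroup.mem_zpowers_iff.mp hb₁
    have hg' : Commute b g := hg
    exact hg'.zpow_left i
  have hc2 : ∀ g : G, b * g = g * b → b₂ * g = g * b₂ := by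
    intro g hg
    obtain ⟨i, rfl⟩ := Subgroup.mem_zpowers_iff.mp hb₂
    have hg' : Commute b g := hg
    exact hg'.zpow_left i
  have key : ∀ c : G, (∀ g : G, b * g = g * b → c * g = g * c) → c ∉ Subgroup.center G →
      Subgroup.centralizer ({c} : Set G) = Subgroup.centralizer ({b} : Set G) := by
    intro c hc hcZ
    have hd : cs c ∣ m := by
      rw [← hb]
      exact cs_dvd_of_le hc
    have hcm : cs c = m := L1 C c hcZ (Nat.Coprime.coprime_dvd_left hd C.hcop)
    have hle : Subgroup.centralizer ({b} : Set G) ≤ Subgroup.centralizer ({c} : Set G) :=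
      fun g hg => (S4134.mcs c g).mpr (hc g ((S4134.mcs b g).mp hg))
    exact (S4134.eq_of_le_of_idx hle (hb.trans hcm.symm)).symm
  by_cases h1 : b₁ ∈ Subgroup.center G
  · obtain ⟨v, hvZ, ⟨e', he'⟩, hvb⟩ := exq C b hb q hq hqn
    have hvb₂ : Commute v b₂ := (hc2 v hvb).symm
    have hov : orderOf v ∣ q ^ e' := orderOf_dvd_of_pow_eq_one he'
    have hcop2 : Nat.Coprime (orderOf v) (orderOf b₂) :=
      Nat.Coprime.coprime_dvd_left hov (Nat.Coprime.pow_left e' hco.symm)
    have hsub : ∀ g : G, (v * b₂) * g = g * (v * b₂) → b * g = g * b := by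
      intro g hg
      obtain ⟨_, h2⟩ := cc v b₂ g hvb₂ hcop2 hg
      have h3 : Commute b₁ g := (Subgroup.mem_center_iff.mp h1 g).symm
      have h2' : Commute b₂ g := h2
      rw [hbb]
      exact h3.mul_left h2'
    have hd : m ∣ cs (v * b₂) := by
      rw [← hb]
      exact cs_dvd_of_le hsub
    have hcm : cs (v * b₂) = m := le_antisymm (C.htop _) (Nat.le_of_dvd (cs_pos _) hd)
    have hle : Subgroup.centralizer ({v * b₂} : Set G) ≤ Subgroup.centralizer ({b} : Set G) :=
      fun g hg => (S4134.mcs b g).mpr (hsub g ((S4134.mcs _ g).mp hg))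
    have heq := S4134.eq_of_le_of_idx hle (hcm.trans hb.symm)
    have hbv : ∀ g : G, b * g = g * b → v * g = g * v := by
      intro g hg
      have hg' : g ∈ Subgroup.centralizer ({v * b₂} : Set G) := by
        rw [heq]
        exact (S4134.mcs b g).mpr hg
      exact (cc v b₂ g hvb₂ hcop2 ((S4134.mcs _ g).mp hg')).1
    exact ⟨v, ⟨e', he'⟩, key v hbv hvZ⟩
  · exact ⟨b₁, ⟨e, he⟩, key b₁ hc1 h1⟩

theorem exPrime (C : Ctx G m n x A V) : ∃ q : ℕ, q.Prime ∧ q ∣ n := by
  have h := C.hn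
  exact Nat.exists_prime_and_dvd (by omega)

theorem VH (C : Ctx G m n x A V) (b : G) (hb : cs b = m) (u : G) (hu : u ∈ V)
    (hub : b * u = u * b) : u = 1 := by
  obtain ⟨q, hq, hqn⟩ := exPrime C
  obtain ⟨b', ⟨e, he⟩, hcen⟩ := Qlem C b hb q hq hqn
  have hub' : Commute b' u := by
    have h1 : u ∈ Subgroup.centralizer ({b} : Set G) := (S4134.mcs b u).mpr hub
    rw [← hcen] at h1
    exact (S4134.mcs b' u).mp h1
  have hb'm : cs b' = m := by
    show (Subgroup.centralizer ({b'} : Set G)).index = m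
    rw [hcen]
    exact hb
  obtain ⟨g, hg⟩ := C.Vcl b' hb'm u hu
  have h1 : (u * b') ^ (q ^ e) = 1 := by
    rw [← hg, conj_pow, he]
    group
  rw [hub'.symm.mul_pow, he, mul_one] at h1
  have h2 : u ^ Nat.card V = 1 := by
    have h := pow_card_eq_one' (G := V) (x := ⟨u, hu⟩)
    exact congrArg Subtype.val h
  have h4 : Nat.Coprime (q ^ e) (Nat.card V) := by
    apply Nat.Coprime.pow_left
    exact Nat.Coprime.coprime_dvd_left hqn (Nat.Coprime.coprime_dvd_right C.Vcard C.hcop.symm)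
  have h5 : orderOf u = 1 :=
    Nat.eq_one_of_dvd_coprimes h4 (orderOf_dvd_of_pow_eq_one h1) (orderOf_dvd_of_pow_eq_one h2)
  exact orderOf_eq_one_iff.mp h5

theorem AH (C : Ctx G m n x A V) (b : G) (hb : cs b = m) (a : G) (ha : a ∈ A)
    (hab : b * a = a * b) : a ∈ Subgroup.center G := by
  obtain ⟨z, hz, k, hk, rfl⟩ := C.AZV a ha
  have hzb : Commute b z := Subgroup.mem_center_iff.mp hz b
  have hab' : Commute b (z * k) := hab
  have hkb : b * k = k * b := by
    have h1 : Commute b (z⁻¹ * (z * k)) := (hzb.inv_right).mul_right hab'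
    rw [inv_mul_cancel_left] at h1
    exact h1
  have h2 := VH C b hb k hk hkb
  rw [h2, mul_one]
  exact hz

theorem P3 (C : Ctx G m n x A V) (k : G) (hk : x * k = k * x) : cs k ≠ m := by
  intro h
  exact xnotZ C (AH C k h x (xA C) hk.symm)

theorem M1 (C : Ctx G m n x A V) (b : G) (hb : cs b = m) (k : G) (hkx : x * k = k * x)
    (hkb : b * k = k * b) : k ∈ Subgroup.center G := by
  obtain ⟨q, hq, hqn⟩ := exPrime C
  obtain ⟨b', ⟨e, he⟩, hcen⟩ := Qlem C b hb q hq hqn
  have hb'm : cs b' = m := by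
    show (Subgroup.centralizer ({b'} : Set G)).index = m
    rw [hcen]
    exact hb
  have hkb' : Commute b' k := by
    have h1 : k ∈ Subgroup.centralizer ({b} : Set G) := (S4134.mcs b k).mpr hkb
    rw [← hcen] at h1
    exact (S4134.mcs b' k).mp h1
  obtain ⟨k₁, k₂, hk₁, hk₂, hkk, ⟨e₁, he₁⟩, hco⟩ := qpart q hq k
  have hkx' : Commute x k := hkx
  have hxk₁ : x * k₁ = k₁ * x := by
    obtain ⟨i, rfl⟩ := Subgroup.mem_zpowers_iff.mp hk₁
    exact hkx'.zpow_right i
  have hxk₂ : x * k₂ = k₂ * x := by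
    obtain ⟨i, rfl⟩ := Subgroup.mem_zpowers_iff.mp hk₂
    exact hkx'.zpow_right i
  have hb'k₂ : Commute b' k₂ := by
    obtain ⟨i, rfl⟩ := Subgroup.mem_zpowers_iff.mp hk₂
    exact hkb'.zpow_right i
  have hk₁Z : k₁ ∈ Subgroup.center G := by
    apply K1 C k₁ hxk₁
    have hqm : Nat.Coprime q m := Nat.Coprime.coprime_dvd_left hqn C.hcop.symm
    exact Nat.Coprime.coprime_dvd_left (orderOf_dvd_of_pow_eq_one he₁)
      (Nat.Coprime.pow_left e₁ hqm)
  have hcop2 : Nat.Coprime (orderOf b') (orderOf k₂) :=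
    Nat.Coprime.coprime_dvd_left (orderOf_dvd_of_pow_eq_one he) (Nat.Coprime.pow_left e hco.symm)
  have hsub : ∀ g : G, (b' * k₂) * g = g * (b' * k₂) → b' * g = g * b' :=
    fun g hg => (cc b' k₂ g hb'k₂ hcop2 hg).1
  have hd : m ∣ cs (b' * k₂) := by
    rw [← hb'm]
    exact cs_dvd_of_le hsub
  have hcm : cs (b' * k₂) = m := le_antisymm (C.htop _) (Nat.le_of_dvd (cs_pos _) hd)
  have hle : Subgroup.centralizer ({b' * k₂} : Set G) ≤ Subgroup.centralizer ({b'} : Set G) :=
    fun g hg => (S4134.mcs b' g).mpr (hsub g ((S4134.mcs _ g).mp hg))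
  have heq := S4134.eq_of_le_of_idx hle (hcm.trans hb'm.symm)
  have hb'k : ∀ g : G, b' * g = g * b' → k₂ * g = g * k₂ := by
    intro g hg
    have hg' : g ∈ Subgroup.centralizer ({b' * k₂} : Set G) := by
      rw [heq]
      exact (S4134.mcs b' g).mpr hg
    exact (cc b' k₂ g hb'k₂ hcop2 ((S4134.mcs _ g).mp hg')).2
  have hdk : cs k₂ ∣ m := by
    rw [← hb'm]
    exact cs_dvd_of_le hb'k
  have hk₂Z : k₂ ∈ Subgroup.center G := by
    by_contra hnZ
    exact P3 C k₂ hxk₂ (L1 C k₂ hnZ (Nat.Coprime.coprime_dvd_left hdk C.hcop))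
  rw [hkk]
  exact Subgroup.mul_mem _ hk₁Z hk₂Z


theorem idxZ (C : Ctx G m n x A V) (y : G) (hy : cs y = m) :
    (Subgroup.center G).index = n * m := by
  have h1 : Subgroup.centralizer ({x} : Set G) ⊓ Subgroup.centralizer ({y} : Set G) =
      Subgroup.center G := by
    apply le_antisymm
    · intro k hk
      rw [Subgroup.mem_inf, S4134.mcs, S4134.mcs] at hk
      exact M1 C y hy k hk.1 hk.2
    · exact le_inf (Subgroup.center_le_centralizer _) (Subgroup.center_le_centralizer _)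
  have hc : Nat.Coprime (cs x) (cs y) := by
    rw [C.hx, hy]
    exact C.hcop.symm
  rw [← h1, index_inf_of_coprime _ _ hc]
  show cs x * cs y = n * m
  rw [C.hx, hy]

theorem ge_of_inf (C : Ctx G m n x A V) (b : G) (hb : cs b = m) (g : G)
    (hinf : Subgroup.centralizer ({g} : Set G) ⊓ Subgroup.centralizer ({b} : Set G) ≤
      Subgroup.center G) : n ≤ cs g := by
  have hidx := idxZ C b hb
  have h1 : (Subgroup.center G).index ∣
      (Subgroup.centralizer ({g} : Set G) ⊓ Subgroup.centralizer ({b} : Set G)).index :=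
    Subgroup.index_dvd_of_le hinf
  have h2 : (Subgroup.centralizer ({g} : Set G) ⊓ Subgroup.centralizer ({b} : Set G)).index ≤
      cs g * cs b := Subgroup.index_inf_le
  have h3 : n * m ≤ cs g * m := by
    have h := Nat.le_of_dvd (Nat.pos_of_ne_zero Subgroup.index_ne_zero_of_finite) h1
    rw [hidx] at h
    rw [hb] at h2
    exact h.trans h2
  have hm := C.hmn
  exact Nat.le_of_mul_le_mul_right h3 (by omega)

theorem C1 (C : Ctx G m n x A V) (b : G) (hb : cs b = m) (h : G) (hhb : b * h = h * b)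
    (hZ : h ∉ Subgroup.center G) : cs h = m := by
  by_contra hne
  have hc1 : cs (x * h) ≠ m := fun hh => hne (cs_of_mul m C.htop x h (xW C) hh)
  have hc2 : cs (x * h) ≤ n := C.hsecond _ (lt_of_le_of_ne (C.htop _) hc1)
  have hinf : Subgroup.centralizer ({x * h} : Set G) ⊓ Subgroup.centralizer ({b} : Set G) ≤
      Subgroup.center G := by
    intro r hr
    rw [Subgroup.mem_inf, S4134.mcs, S4134.mcs] at hr
    obtain ⟨hr1, hr2⟩ := hr
    have hu : x⁻¹ * (r * x * r⁻¹) ∈ V := C.WV x (xW C) r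
    have hu2 : x⁻¹ * (r * x * r⁻¹) = h * r * h⁻¹ * r⁻¹ := by
      have e : r * x * r⁻¹ = x * h * r * h⁻¹ * r⁻¹ := by
        calc r * x * r⁻¹ = (r * (x * h)) * h⁻¹ * r⁻¹ := by group
          _ = (x * h * r) * h⁻¹ * r⁻¹ := by rw [← hr1]
          _ = x * h * r * h⁻¹ * r⁻¹ := by group
      rw [e]
      group
    have hub : b * (x⁻¹ * (r * x * r⁻¹)) = (x⁻¹ * (r * x * r⁻¹)) * b := by
      rw [hu2]
      have c1 : Commute b h := hhb
      have c2 : Commute b r := hr2
      exact ((c1.mul_right c2).mul_right c1.inv_right).mul_right c2.inv_right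
    have hu1 := VH C b hb _ hu hub
    have hrx : x * r = r * x := by
      symm
      calc r * x = x * (x⁻¹ * (r * x * r⁻¹)) * r := by group
        _ = x * 1 * r := by rw [hu1]
        _ = x * r := by group
    exact M1 C b hb r hrx hr2
  have h4 : n ≤ cs (x * h) := ge_of_inf C b hb (x * h) hinf
  have h5 : cs (x * h) = n := le_antisymm hc2 h4
  have hxhA : x * h ∈ A := C.WA _ (by rw [h5]; exact C.hcop.symm)
  have hhA : h ∈ A := by
    have h6 := A.mul_mem (A.inv_mem (xA C)) hxhA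
    rw [inv_mul_cancel_left] at h6
    exact h6
  exact hZ (AH C b hb h hhA hhb)

theorem Tn (C : Ctx G m n x A V) (b : G) (hb : cs b = m) (g : G)
    (hgZ : g ∉ Subgroup.center G) (hne : cs g ≠ m) : cs g = n := by
  have hle : cs g ≤ n := C.hsecond g (lt_of_le_of_ne (C.htop g) hne)
  have hinf : Subgroup.centralizer ({g} : Set G) ⊓ Subgroup.centralizer ({b} : Set G) ≤
      Subgroup.center G := by
    intro r hr
    rw [Subgroup.mem_inf, S4134.mcs, S4134.mcs] at hr
    by_contra hrZ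
    have hrm : cs r = m := C1 C b hb r hr.2 hrZ
    exact hne (C1 C r hrm g hr.1.symm hgZ)
  exact le_antisymm hle (ge_of_inf C b hb g hinf)

theorem KA (C : Ctx G m n x A V) (b : G) (hb : cs b = m) (k : G) :
    x * k = k * x ↔ k ∈ A := by
  constructor
  · intro hk
    by_cases hkZ : k ∈ Subgroup.center G
    · exact C.ZA hkZ
    · have h := Tn C b hb k hkZ (P3 C k hk)
      exact C.WA k (by rw [h]; exact C.hcop.symm)
  · intro hk
    exact C.Aab x (xA C) k hk

theorem GVH (C : Ctx G m n x A V) (y : G) (hy : cs y = m) (g : G) :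
    ∃ v ∈ V, ∃ t : G, y * t = t * y ∧ g = v * t := by
  have hcop' : Nat.Coprime (Subgroup.centralizer ({x} : Set G)).index
      (Subgroup.centralizer ({y} : Set G)).index := by
    show Nat.Coprime (cs x) (cs y)
    rw [C.hx, hy]
    exact C.hcop.symm
  obtain ⟨c, hc, hc2⟩ := exists_mem_of_coprime_index (Subgroup.centralizer ({x} : Set G))
    (Subgroup.centralizer ({y} : Set G)) hcop' g
  rw [S4134.mcs] at hc hc2
  have hcA : c ∈ A := (KA C y hy c).mp hc
  obtain ⟨z, hz, v, hv, rfl⟩ := C.AZV c hcA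
  refine ⟨v, hv, z * ((z * v)⁻¹ * g), ?_, ?_⟩
  · have h1 : Commute y z := Subgroup.mem_center_iff.mp hz y
    have h2 : Commute y ((z * v)⁻¹ * g) := hc2
    exact h1.mul_right h2
  · have h2 : v * z = z * v := Subgroup.mem_center_iff.mp hz v
    calc g = (z * v) * ((z * v)⁻¹ * g) := by group
      _ = (v * z) * ((z * v)⁻¹ * g) := by rw [h2]
      _ = v * (z * ((z * v)⁻¹ * g)) := by group

theorem CH (C : Ctx G m n x A V) (y : G) (hy : cs y = m) (h : G) (hh : y * h = h * y)
    (hZ : h ∉ Subgroup.center G) (g : G) (hg : h * g = g * h) : y * g = g * y := by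
  have hhm : cs h = m := C1 C y hy h hh hZ
  obtain ⟨v, hv, t, ht, rfl⟩ := GVH C y hy g
  have e1 : v * (t * h * t⁻¹) * v⁻¹ = h := by
    calc v * (t * h * t⁻¹) * v⁻¹ = ((v * t) * h) * t⁻¹ * v⁻¹ := by group
      _ = (h * (v * t)) * t⁻¹ * v⁻¹ := by rw [hg]
      _ = h := by group
  have e2 : h * (t * h * t⁻¹)⁻¹ ∈ V := by
    have e : h * (t * h * t⁻¹)⁻¹ = v * ((t * h * t⁻¹) * v⁻¹ * (t * h * t⁻¹)⁻¹) := by
      nth_rewrite 1 [← e1]
      group
    rw [e]
    exact V.mul_mem hv (C.Vn.conj_mem _ (V.inv_mem hv) _)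
  have e3 : y * (h * (t * h * t⁻¹)⁻¹) = (h * (t * h * t⁻¹)⁻¹) * y := by
    have c1 : Commute y h := hh
    have c2 : Commute y t := ht
    exact c1.mul_right (((c2.mul_right c1).mul_right c2.inv_right).inv_right)
  have e4 := VH C y hy _ e2 e3
  have e5 : t * h * t⁻¹ = h := (mul_inv_eq_one.mp e4).symm
  rw [e5] at e1
  have e6 : h * v = v * h := by
    calc h * v = (v * h * v⁻¹) * v := by rw [e1]
      _ = v * h := by group
  have e7 := VH C h hhm v hv e6
  rw [e7, one_mul]
  exact ht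

theorem Hab (C : Ctx G m n x A V) (y : G) (hy : cs y = m) (h t : G) (hh : y * h = h * y)
    (ht : y * t = t * y) : h * t = t * h := by
  by_cases hZ : h ∈ Subgroup.center G
  · exact (Subgroup.mem_center_iff.mp hZ t).symm
  · have hhm : cs h = m := C1 C y hy h hh hZ
    have hle : Subgroup.centralizer ({h} : Set G) ≤ Subgroup.centralizer ({y} : Set G) :=
      fun g hg => (S4134.mcs y g).mpr (CH C y hy h hh hZ g ((S4134.mcs h g).mp hg))
    have heq := S4134.eq_of_le_of_idx hle (hhm.trans hy.symm)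
    have h1 : t ∈ Subgroup.centralizer ({h} : Set G) := by
      rw [heq]
      exact (S4134.mcs y t).mpr ht
    exact (S4134.mcs h t).mp h1

theorem TI (C : Ctx G m n x A V) (y : G) (hy : cs y = m) (w g : G) (hw : y * w = w * y)
    (hwZ : w ∉ Subgroup.center G) (hwg : (g * y * g⁻¹) * w = w * (g * y * g⁻¹)) :
    y * g = g * y := by
  have h1 : y * (g * y * g⁻¹) = (g * y * g⁻¹) * y := CH C y hy w hw hwZ _ hwg.symm
  obtain ⟨v, hv, t, ht, rfl⟩ := GVH C y hy g
  have e1 : v * t * y * (v * t)⁻¹ = v * y * v⁻¹ := by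
    calc v * t * y * (v * t)⁻¹ = v * (t * y) * t⁻¹ * v⁻¹ := by group
      _ = v * (y * t) * t⁻¹ * v⁻¹ := by rw [ht]
      _ = v * y * v⁻¹ := by group
  rw [e1] at h1
  have e2 : v * (y * v⁻¹ * y⁻¹) ∈ V := V.mul_mem hv (C.Vn.conj_mem _ (V.inv_mem hv) _)
  have e3 : y * (v * (y * v⁻¹ * y⁻¹)) = (v * (y * v⁻¹ * y⁻¹)) * y := by
    have c1 : Commute y (v * y * v⁻¹) := h1
    have c2 : Commute y (v * y * v⁻¹ * y⁻¹) := c1.mul_right (Commute.refl y).inv_right
    have e : v * (y * v⁻¹ * y⁻¹) = v * y * v⁻¹ * y⁻¹ := by group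
    rw [e]
    exact c2
  have e4 := VH C y hy _ e2 e3
  have e5 : y * v = v * y := by
    calc y * v = (v * (y * v⁻¹ * y⁻¹))⁻¹ * (v * y) := by group
      _ = v * y := by rw [e4]; group
  have e6 := VH C y hy v hv e5
  rw [e6, one_mul]
  exact ht

theorem KerOut (C : Ctx G m n x A V) (y : G) (hy : cs y = m) (w : G) (hw : w ∉ A) :
    ∃ g t : G, y * t = t * y ∧ g * t * g⁻¹ = w := by
  obtain ⟨v, hv, t, ht, rfl⟩ := GVH C y hy w
  have htZ : t ∉ Subgroup.center G := by
    intro h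
    exact hw (A.mul_mem (C.VA hv) (C.ZA h))
  have htm : cs t = m := C1 C y hy t ht htZ
  obtain ⟨g, hg⟩ := C.Vcl t htm v hv
  exact ⟨g, t, ht, hg⟩

end

open scoped Pointwise in
theorem mem_conj_smul {Γ : Type*} [Group Γ] (S : Subgroup Γ) (g w : Γ) :
    w ∈ MulAut.conj g • S ↔ g⁻¹ * w * g ∈ S := by
  rw [Subgroup.mem_pointwise_smul_iff_inv_smul_mem]
  rw [MulAut.smul_def, MulAut.conj_inv_apply]

theorem main {G : Type*} [Group G] [Finite G] (m n : ℕ) (hmn : n < m) (hn : 1 < n)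
    (hcop : m.Coprime n) (htop : ∀ z : G, cs z ≤ m) (hsecond : ∀ z : G, cs z < m → cs z ≤ n)
    (x y : G) (hx : cs x = n) (hy : cs y = m) :
    IsMulCommutative (Subgroup.centralizer ({x} : Set G)) ∧ IsMulCommutative (Subgroup.centralizer ({y} : Set G)) ∧
    Cfsg.IsFrobeniusComplement ((Subgroup.centralizer ({y} : Set G)).map (QuotientGroup.mk' (Subgroup.center G))) ∧
    Cfsg.frobeniusKernel ((Subgroup.centralizer ({y} : Set G)).map (QuotientGroup.mk' (Subgroup.center G))) =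
      ((Subgroup.centralizer ({x} : Set G)).map (QuotientGroup.mk' (Subgroup.center G)) : Set (G ⧸ Subgroup.center G)) := by
  obtain ⟨A, V, hAn, hVn, hVA, hZA, hAab, hWA, hVcard, hAZV, hVcl, hWV⟩ := setupA m htop y hy
  have C : Ctx G m n x A V :=
    ⟨hmn, hn, hcop, htop, hsecond, hx, hAn, hVn, hVA, hZA, hAab, hWA, hVcard, hAZV, hVcl, hWV⟩
  have hKA : ∀ k : G, k ∈ Subgroup.centralizer ({x} : Set G) ↔ k ∈ A := by
    intro k
    rw [S4134.mcs]
    exact KA C y hy k
  have hKeq : Subgroup.centralizer ({x} : Set G) = A := SetLike.ext hKA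
  have hyZ : y ∉ Subgroup.center G := by
    intro h
    have h1 := (cs_eq_one_iff y).mpr h
    rw [hy] at h1
    omega
  have hHmem : ∀ g : G, (QuotientGroup.mk' (Subgroup.center G)) g ∈
      (Subgroup.centralizer ({y} : Set G)).map (QuotientGroup.mk' (Subgroup.center G)) ↔
      g ∈ Subgroup.centralizer ({y} : Set G) := by
    intro g
    rw [Subgroup.mem_map]
    constructor
    · rintro ⟨h, hh, hhg⟩
      have h1 : h⁻¹ * g ∈ Subgroup.center G := QuotientGroup.eq.mp hhg
      have e1 : g = h * (h⁻¹ * g) := by group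
      rw [e1]
      exact Subgroup.mul_mem _ hh (Subgroup.center_le_centralizer _ h1)
    · intro hg
      exact ⟨g, hg, rfl⟩
  have hKmem : ∀ g : G, (QuotientGroup.mk' (Subgroup.center G)) g ∈
      (Subgroup.centralizer ({x} : Set G)).map (QuotientGroup.mk' (Subgroup.center G)) ↔
      g ∈ Subgroup.centralizer ({x} : Set G) := by
    intro g
    rw [Subgroup.mem_map]
    constructor
    · rintro ⟨h, hh, hhg⟩
      have h1 : h⁻¹ * g ∈ Subgroup.center G := QuotientGroup.eq.mp hhg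
      have e1 : g = h * (h⁻¹ * g) := by group
      rw [e1]
      exact Subgroup.mul_mem _ hh (Subgroup.center_le_centralizer _ h1)
    · intro hg
      exact ⟨g, hg, rfl⟩
  have hone : ∀ g : G, (QuotientGroup.mk' (Subgroup.center G)) g = 1 ↔ g ∈ Subgroup.center G :=
    fun g => QuotientGroup.eq_one_iff g
  refine ⟨?_, ?_, ⟨?_, ?_, ?_⟩, ?_⟩
  · rw [hKeq]
    exact ⟨⟨fun a b => Subtype.ext (hAab a a.2 b b.2)⟩⟩
  · exact ⟨⟨fun a b => Subtype.ext
      (Hab C y hy a b ((S4134.mcs y a).mp a.2) ((S4134.mcs y b).mp b.2))⟩⟩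
  · intro hbot
    have h1 : (QuotientGroup.mk' (Subgroup.center G)) y ∈
        (Subgroup.centralizer ({y} : Set G)).map (QuotientGroup.mk' (Subgroup.center G)) :=
      (hHmem y).mpr ((S4134.mcs y y).mpr rfl)
    rw [hbot, Subgroup.mem_bot, hone] at h1
    exact hyZ h1
  · intro htop'
    have h1 : (QuotientGroup.mk' (Subgroup.center G)) x ∈
        (Subgroup.centralizer ({y} : Set G)).map (QuotientGroup.mk' (Subgroup.center G)) := by
      rw [htop']
      exact Subgroup.mem_top _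
    have h2 := (S4134.mcs y x).mp ((hHmem x).mp h1)
    exact xnotZ C (AH C y hy x (xA C) h2)
  · intro gbar hgbar
    obtain ⟨g, rfl⟩ := QuotientGroup.mk'_surjective (Subgroup.center G) gbar
    rw [eq_bot_iff]
    intro wbar hwbar
    obtain ⟨w, rfl⟩ := QuotientGroup.mk'_surjective (Subgroup.center G) wbar
    rw [Subgroup.mem_inf, hHmem, mem_conj_smul, ← map_inv, ← map_mul, ← map_mul, hHmem,
      S4134.mcs, S4134.mcs] at hwbar
    obtain ⟨hw1, hw2⟩ := hwbar
    rw [Subgroup.mem_bot, hone]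
    by_contra hwZ
    have hwg : (g * y * g⁻¹) * w = w * (g * y * g⁻¹) := by
      calc (g * y * g⁻¹) * w = g * (y * (g⁻¹ * w * g)) * g⁻¹ := by group
        _ = g * ((g⁻¹ * w * g) * y) * g⁻¹ := by rw [hw2]
        _ = w * (g * y * g⁻¹) := by group
    have h3 := TI C y hy w g hw1 hwZ hwg
    exact hgbar ((hHmem g).mpr ((S4134.mcs y g).mpr h3))
  · ext wbar
    obtain ⟨w, rfl⟩ := QuotientGroup.mk'_surjective (Subgroup.center G) wbar
    rw [SetLike.mem_coe, hKmem, hKA]
    constructor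
    · intro hker
      by_contra hwA
      obtain ⟨g, t, ht, hgt⟩ := KerOut C y hy w hwA
      rcases hker with h1 | h2
      · exact hwA (hZA ((hone w).mp h1))
      · apply h2 ((QuotientGroup.mk' (Subgroup.center G)) g)
        rw [mem_conj_smul, ← map_inv, ← map_mul, ← map_mul, hHmem, S4134.mcs, ← hgt]
        have e : g⁻¹ * (g * t * g⁻¹) * g = t := by group
        rw [e]
        exact ht
    · intro hwA
      by_cases hwZ : w ∈ Subgroup.center G
      · left
        exact (hone w).mpr hwZ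
      · right
        intro gbar hmem
        obtain ⟨g, rfl⟩ := QuotientGroup.mk'_surjective (Subgroup.center G) gbar
        rw [mem_conj_smul, ← map_inv, ← map_mul, ← map_mul, hHmem, S4134.mcs] at hmem
        have h1 : g⁻¹ * w * g ∈ A := by
          have h2 := hAn.conj_mem w hwA g⁻¹
          rw [inv_inv] at h2
          exact h2
        have h3 := AH C y hy _ h1 hmem
        apply hwZ
        have h4 := (inferInstance : (Subgroup.center G).Normal).conj_mem _ h3 g
        have e : g * (g⁻¹ * w * g) * g⁻¹ = w := by group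
        rw [e] at h4
        exact h4

/-- Let G be a finite group whose two largest conjugacy class sizes m > n > 1 are coprime, and let x, y ∈ G have classes of sizes n and m respectively. Then C_G(x) and C_G(y) are abelian, and G/Z(G) is a Frobenius group with kernel C_G(x)/Z(G) and complement C_G(y)/Z(G). -/
theorem result {G : Type*} [Group G] [Finite G] (m n : ℕ) (hmn : n < m) (hn : 1 < n)
    (hcop : m.Coprime n) (htop : ∀ z : G, (Subgroup.centralizer ({z} : Set G)).index ≤ m) (hsecond : ∀ z : G, (Subgroup.centralizer ({z} : Set G)).index < m → (Subgroup.centralizer ({z} : Set G)).index ≤ n)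
    (x y : G) (hx : (Subgroup.centralizer ({x} : Set G)).index = n) (hy : (Subgroup.centralizer ({y} : Set G)).index = m) :
    IsMulCommutative (Subgroup.centralizer ({x} : Set G)) ∧ IsMulCommutative (Subgroup.centralizer ({y} : Set G)) ∧
    Cfsg.IsFrobeniusComplement ((Subgroup.centralizer ({y} : Set G)).map (QuotientGroup.mk' (Subgroup.center G))) ∧
    Cfsg.frobeniusKernel ((Subgroup.centralizer ({y} : Set G)).map (QuotientGroup.mk' (Subgroup.center G))) =
      ((Subgroup.centralizer ({x} : Set G)).map (QuotientGroup.mk' (Subgroup.center G)) : Set (G ⧸ Subgroup.center G)) := by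
  exact main m n hmn hn hcop htop hsecond x y hx hy

end Cfsg.Agent.S4138
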