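import Cfsg.Statements.S4139
import Mathlib
import Cfsg.Agent.Lib.helper29.CHM

set_option autoImplicit false
open Cfsg

namespace Cfsg.Agent.S4139

open Cfsg.Agent.Lib.helper29.CHM


/-- Let G and H be finite groups such that for every natural number k, G and H have the same number of conjugacy classes of size k. If H is nilpotent then G is nilpotent. -/
theorem result {G H : Type*} [Group G] [Finite G] [Group H] [Finite H]
    (hH : Group.IsNilpotent H)
    (h : ∀ k : ℕ, Nat.card {C : ConjClasses G // Nat.card C.carrier = k} = Nat.card {C : ConjClasses H // Nat.card C.carrier = k}) :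
    Group.IsNilpotent G := by
  have hGH : Nat.card G = Nat.card H := card_eq_of_classes h
  have hZ : Nat.card (Subgroup.center G) = Nat.card (Subgroup.center H) := card_center_eq h
  have key : ∀ (p : ℕ) (_hp : Fact p.Prime) (P : Sylow p G), (↑P : Subgroup G).Normal := by
    intro p _ P
    apply sylow_normal_of_card
    intro P'
    obtain ⟨Q⟩ : Nonempty (Sylow p H) := inferInstance
    rw [card_SS_eq (p := p) h, card_SS_nilpotent hH Q, card_center_inf_sylow Q,
      card_center_inf_sylow P', hZ]
    congr 1
    have h1 := Subgroup.card_mul_index (Q : Subgroup H)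
    have h2 := Subgroup.card_mul_index (P' : Subgroup G)
    rw [Q.card_eq_multiplicity] at h1
    rw [P'.card_eq_multiplicity, hGH] at h2
    exact Nat.eq_of_mul_eq_mul_left (pow_pos (Fact.out : p.Prime).pos _) (h1.trans h2.symm)
  exact ((Group.isNilpotent_of_finite_tfae (G := G)).out 0 3).mpr key

end Cfsg.Agent.S4139
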