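import Cfsg.Statements.S4145
-- import your own Cfsg.Agent.* helpers here

set_option autoImplicit false
open Cfsg

namespace Cfsg.Agent.S4145

open scoped Pointwise

theorem mem_smul_sylow {G : Type*} [Group G] {p : ℕ} (g x : G) (P : Sylow p G) :
    x ∈ (g • P : Sylow p G) ↔ g⁻¹ * x * g ∈ P := by
  change x ∈ ((g • P : Sylow p G) : Subgroup G) ↔ g⁻¹ * x * g ∈ (P : Subgroup G)
  rw [Sylow.coe_subgroup_smul, Subgroup.mem_pointwise_smul_iff_inv_smul_mem]
  have e : (MulAut.conj g)⁻¹ • x = g⁻¹ * x * g := by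
    simp [MulAut.smul_def]
  rw [e]

theorem coprime_bezout_mem {G : Type*} [Group G] (S : Subgroup G) (y : G) (a b : ℕ)
    (hab : Nat.Coprime a b) (ha : y ^ a ∈ S) (hb : y ^ b ∈ S) : y ∈ S := by
  have h := (Nat.isCoprime_iff_coprime (m := a) (n := b)).mpr hab
  obtain ⟨u, v, huv⟩ := h
  have : y = (y ^ a) ^ u * (y ^ b) ^ v := by
    rw [← zpow_natCast y a, ← zpow_natCast y b, ← zpow_mul, ← zpow_mul, ← zpow_add]
    have : (a:ℤ) * u + (b:ℤ) * v = 1 := by linarith
    rw [this, zpow_one]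
  rw [this]
  exact S.mul_mem (S.zpow_mem ha u) (S.zpow_mem hb v)

theorem cyc_aut_trivial {G : Type*} [Group G] [Finite G] {p : ℕ} [hp : Fact p.Prime]
    (P : Sylow p G) (g : G) (hg : g ∈ (P : Subgroup G))
    (hgen : ∀ y ∈ (P : Subgroup G), y ∈ Subgroup.zpowers g)
    (n : G) (hn : n ∈ Subgroup.normalizer ((P : Subgroup G) : Set G)) (m : ℤ)
    (hm : n * g * n⁻¹ = g ^ m) (hpm : (p : ℤ) ∣ m - 1) : n * g = g * n := by
  have hb : ∀ j : ℕ, n ^ j * g * (n ^ j)⁻¹ = g ^ (m ^ j) := by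
    intro j
    induction j with
    | zero => simp
    | succ j ih =>
      have : n ^ (j + 1) * g * (n ^ (j + 1))⁻¹ = n * (n ^ j * g * (n ^ j)⁻¹) * n⁻¹ := by
        rw [pow_succ']; group
      rw [this, ih, ← conj_zpow, hm, ← zpow_mul, pow_succ']
  obtain ⟨e, he⟩ := P.isPGroup' ⟨g, hg⟩
  have he' : g ^ p ^ e = 1 := by simpa using congrArg Subtype.val he
  have hdvd : ((p : ℤ) ^ (e + 1)) ∣ m ^ p ^ e - 1 ^ p ^ e := dvd_sub_pow_of_dvd_sub hpm e
  have hc : n ^ p ^ e * g = g * n ^ p ^ e := by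
    have h1 := hb (p ^ e)
    have h2 : g ^ (m ^ p ^ e) = g := by
      obtain ⟨c, hc⟩ := hdvd
      have : m ^ p ^ e = 1 + ((p ^ e : ℕ) : ℤ) * (p * c) := by
        rw [one_pow, pow_succ] at hc
        push_cast
        linarith
      rw [this, zpow_add, zpow_one, zpow_mul, zpow_natCast, he', one_zpow, mul_one]
    rw [h2] at h1
    calc n ^ p ^ e * g = (n ^ p ^ e * g * (n ^ p ^ e)⁻¹) * n ^ p ^ e := by group
      _ = g * n ^ p ^ e := by rw [h1]
  have ho_pos : 0 < orderOf n := orderOf_pos n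
  have htcop : Nat.Coprime (ordCompl[p] (orderOf n)) p :=
    (Nat.coprime_ordCompl hp.out ho_pos.ne').symm
  have hnt_pgroup : IsPGroup p (Subgroup.zpowers (n ^ (ordCompl[p] (orderOf n)))) := by
    rintro ⟨x, hx⟩
    obtain ⟨z, rfl⟩ := Subgroup.mem_zpowers_iff.mp hx
    refine ⟨(orderOf n).factorization p, Subtype.ext ?_⟩
    show ((n ^ (ordCompl[p] (orderOf n))) ^ z) ^ p ^ (orderOf n).factorization p = 1
    rw [← zpow_natCast, ← zpow_mul, mul_comm, zpow_mul, zpow_natCast, ← pow_mul, mul_comm,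
      Nat.ordProj_mul_ordCompl_eq_self, pow_orderOf_eq_one, one_zpow]
  have hntP : n ^ (ordCompl[p] (orderOf n)) ∈ (P : Subgroup G) := by
    have h1 := hnt_pgroup.inf_normalizer_sylow P
    have h2 : n ^ (ordCompl[p] (orderOf n)) ∈
        Subgroup.zpowers (n ^ (ordCompl[p] (orderOf n))) ⊓ Subgroup.normalizer (P : Set G) :=
      ⟨Subgroup.mem_zpowers _, Subgroup.pow_mem _ hn _⟩
    rw [h1] at h2
    exact h2.2
  have hd : n ^ (ordCompl[p] (orderOf n)) * g = g * n ^ (ordCompl[p] (orderOf n)) := by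
    obtain ⟨z, hz⟩ := Subgroup.mem_zpowers_iff.mp (hgen _ hntP)
    rw [← hz]
    exact ((Commute.refl g).zpow_left z).eq
  have hcent : n ∈ Subgroup.centralizer ({g} : Set G) := by
    apply coprime_bezout_mem _ n (ordCompl[p] (orderOf n)) (p ^ e) (htcop.pow_right e)
    · rw [Subgroup.mem_centralizer_iff]
      intro h hh
      rw [Set.mem_singleton_iff.mp hh]; exact hd.symm
    · rw [Subgroup.mem_centralizer_iff]
      intro h hh
      rw [Set.mem_singleton_iff.mp hh]; exact hc.symm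
  exact (Subgroup.mem_centralizer_iff.mp hcent g rfl).symm

theorem pprime_elt_mem {G : Type*} [Group G] {p : ℕ} (K L : Subgroup G)
    (_hKL : K ≤ L) (hnorm : ∀ x ∈ K, ∀ l ∈ L, l * x * l⁻¹ ∈ K) (e : ℕ)
    (hidx : K.relIndex L = p ^ e)
    (y : G) (hy : y ∈ L) (o : ℕ) (ho : Nat.Coprime o p) (hyo : y ^ o = 1) : y ∈ K := by
  have hN : (K.subgroupOf L).Normal := ⟨fun x hx l => by
    rw [Subgroup.mem_subgroupOf] at hx ⊢
    exact hnorm _ hx _ l.2⟩
  have h1 : (⟨y, hy⟩ : L) ^ (K.subgroupOf L).index ∈ K.subgroupOf L :=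
    Subgroup.pow_index_mem _ _
  rw [Subgroup.mem_subgroupOf] at h1
  have h2 : y ^ p ^ e ∈ K := by
    rw [← hidx]; exact h1
  exact coprime_bezout_mem K y o (p ^ e) (ho.pow_right e) (by rw [hyo]; exact K.one_mem) h2

theorem normal_of_pprime {G : Type*} [Group G] [Finite G] {p : ℕ}
    (K L : Subgroup G) [hL : L.Normal]
    (hKL : K ≤ L) (hnorm : ∀ x ∈ K, ∀ l ∈ L, l * x * l⁻¹ ∈ K) (e : ℕ)
    (hidx : K.relIndex L = p ^ e)
    (hK : (Nat.card K).Coprime p) : K.Normal := by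
  refine ⟨fun x hx g => ?_⟩
  apply pprime_elt_mem K L hKL hnorm e hidx _ (hL.conj_mem x (hKL hx) g) (Nat.card K) hK
  rw [conj_pow]
  have : x ^ Nat.card K = 1 := by
    have h := congrArg Subtype.val (pow_card_eq_one' (G := K) (x := ⟨x, hx⟩))
    simpa only [Subgroup.coe_pow, Subgroup.coe_one] using h
  rw [this]; simp

theorem burnside_sub {G : Type*} [Group G] [Finite G] {p : ℕ} [hp : Fact p.Prime]
    (P : Sylow p G)
    (L : Subgroup G) (hPL : (P : Subgroup G) ≤ L) (g : G) (_hg : g ∈ (P : Subgroup G))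
    (hgen : ∀ y ∈ (P : Subgroup G), y ∈ Subgroup.zpowers g)
    (hn : ∀ n ∈ L, n ∈ Subgroup.normalizer ((P : Subgroup G) : Set G) → n * g = g * n) :
    ∃ K : Subgroup G, K ≤ L ∧ (∀ x ∈ K, ∀ l ∈ L, l * x * l⁻¹ ∈ K) ∧ (Nat.card K).Coprime p ∧
      K.relIndex L = Nat.card (P : Subgroup G) ∧ ∀ a ∈ L, ∀ b ∈ L, a * b * a⁻¹ * b⁻¹ ∈ K := by
  classical
  obtain ⟨P1, hP1def⟩ : ∃ P1 : Sylow p L, P1 = P.subtype hPL := ⟨_, rfl⟩
  have hP1 : ∀ y : L, y ∈ (P1 : Subgroup L) ↔ (y : G) ∈ (P : Subgroup G) := by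
    intro y
    rw [hP1def, Sylow.coe_subtype, Subgroup.mem_subgroupOf]
  have hcent : Subgroup.normalizer (P1 : Set L) ≤ Subgroup.centralizer (P1 : Set L) := by
    intro n hnN
    have hnG : (n : G) ∈ Subgroup.normalizer ((P : Subgroup G) : Set G) := by
      rw [Subgroup.mem_normalizer_iff]
      intro y
      constructor
      · intro hy
        have := (Subgroup.mem_normalizer_iff.mp hnN ⟨y, hPL hy⟩).mp ((hP1 _).mpr hy)
        exact (hP1 _).mp this
      · intro hy
        have hyL : y ∈ L := by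
          have := L.mul_mem (L.mul_mem (L.inv_mem n.2) (hPL hy)) n.2
          simpa [mul_assoc] using this
        have := (Subgroup.mem_normalizer_iff.mp hnN ⟨y, hyL⟩).mpr ((hP1 _).mpr hy)
        exact (hP1 _).mp this
    have hcomm := hn n n.2 hnG
    rw [Subgroup.mem_centralizer_iff]
    intro y hy
    have hyP : (y : G) ∈ (P : Subgroup G) := (hP1 y).mp hy
    obtain ⟨z, hz⟩ := Subgroup.mem_zpowers_iff.mp (hgen _ hyP)
    apply Subtype.ext
    show (y : G) * n = n * y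
    rw [← hz]
    exact ((Commute.zpow_left (show Commute g (n:G) from hcomm.symm) z)).eq
  have hcompl := MonoidHom.ker_transferSylow_isComplement' P1 hcent
  have hcommP : ∀ u v : P1, u * v = v * u := fun u v =>
    Subtype.ext (hcent (Subgroup.le_normalizer v.2) u u.2)
  obtain ⟨f, hf⟩ : ∃ f : L →* P1, f = MonoidHom.transferSylow P1 hcent := ⟨_, rfl⟩
  rw [← hf] at hcompl
  have hK1n : f.ker.Normal := MonoidHom.normal_ker _
  refine ⟨f.ker.map L.subtype, ?_, ?_, ?_, ?_, ?_⟩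
  · exact Subgroup.map_subtype_le _
  · rintro x ⟨x', hx', rfl⟩ l hl
    exact ⟨⟨l, hl⟩ * x' * ⟨l, hl⟩⁻¹, hK1n.conj_mem x' hx' _, rfl⟩
  · rw [Subgroup.card_map_of_injective L.subtype_injective]
    have h := MonoidHom.not_dvd_card_ker_transferSylow P1 hcent
    rw [← hf] at h
    exact ((Nat.Prime.coprime_iff_not_dvd hp.out).mpr h).symm
  · have h1 : (f.ker.map L.subtype).relIndex L = f.ker.index := by
      have : (f.ker.map L.subtype).subgroupOf L = f.ker :=
        Subgroup.comap_map_eq_self_of_injective L.subtype_injective _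
      rw [Subgroup.relIndex, this]
    rw [h1, hcompl.symm.index_eq_card, hP1def]
    exact Nat.card_congr (Subgroup.subgroupOfEquivOfLe hPL).toEquiv
  · intro a ha b hb
    refine ⟨⟨a, ha⟩ * ⟨b, hb⟩ * ⟨a, ha⟩⁻¹ * ⟨b, hb⟩⁻¹, ?_, rfl⟩
    rw [SetLike.mem_coe, MonoidHom.mem_ker]
    simp only [map_mul, map_inv]
    rw [hcommP (f ⟨a, ha⟩) (f ⟨b, hb⟩)]
    group

theorem hasNormalPComplement_of {H : Type*} [Group H] [Finite H] {p : ℕ} [hp : Fact p.Prime]
    (N : Subgroup H) [N.Normal] (hN : (Nat.card N).Coprime p) (b : ℕ) (hidx : N.index = p ^ b) :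
    Cfsg.HasNormalPComplement p H := by
  obtain ⟨Q⟩ := (inferInstance : Nonempty (Sylow p H))
  refine ⟨Q, N, inferInstance, ?_⟩
  have hcard : Nat.card H = Nat.card N * p ^ b := by rw [← hidx, Subgroup.card_mul_index]
  have hQ : Nat.card Q = p ^ b := by
    rw [Sylow.card_eq_multiplicity, hcard,
      Nat.factorization_mul (Nat.card_pos.ne') (pow_ne_zero _ hp.out.ne_zero)]
    have h0 : (Nat.card N).factorization p = 0 :=
      Nat.factorization_eq_zero_of_not_dvd ((Nat.Prime.coprime_iff_not_dvd hp.out).mp hN.symm)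
    simp [h0, hp.out.factorization_pow]
  apply Subgroup.isComplement'_of_coprime
  · rw [hQ, hcard]
  · rw [hQ]; exact hN.pow_right b

/-- the subgroup of `x` with `x h x⁻¹ h⁻¹ ∈ K` for all `h ∈ H` -/
def centMod {G : Type*} [Group G] (H K : Subgroup G) [hK : K.Normal] : Subgroup G where
  carrier := {x : G | ∀ h ∈ H, x * h * x⁻¹ * h⁻¹ ∈ K}
  one_mem' := by
    intro h _
    simp
  mul_mem' := by
    intro a b ha hb h hh
    have : a * b * h * (a * b)⁻¹ * h⁻¹ = a * (b * h * b⁻¹ * h⁻¹) * a⁻¹ * (a * h * a⁻¹ * h⁻¹) := by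
      group
    rw [this]
    exact K.mul_mem (hK.conj_mem _ (hb h hh) a) (ha h hh)
  inv_mem' := by
    intro a ha h hh
    have : a⁻¹ * h * a⁻¹⁻¹ * h⁻¹ = a⁻¹ * (a * h * a⁻¹ * h⁻¹)⁻¹ * a⁻¹⁻¹ := by group
    rw [this]
    exact hK.conj_mem _ (K.inv_mem (ha h hh)) a⁻¹

theorem centMod_normal {G : Type*} [Group G] (H K : Subgroup G) [hH : H.Normal] [hK : K.Normal] :
    (centMod H K).Normal := by
  refine ⟨fun x hx w h hh => ?_⟩
  have h1 := hx (w⁻¹ * h * w) (by simpa using hH.conj_mem h hh w⁻¹)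
  have : w * x * w⁻¹ * h * (w * x * w⁻¹)⁻¹ * h⁻¹
      = w * (x * (w⁻¹ * h * w) * x⁻¹ * (w⁻¹ * h * w)⁻¹) * w⁻¹ := by group
  rw [this]
  exact hK.conj_mem _ h1 w

/-- Let G be a finite group with a cyclic Sylow p-subgroup and H a normal subgroup such that p divides both the order of H and the index of H. Then H has a normal p-complement and G is p-solvable. -/
theorem result {G : Type*} [Group G] [Finite G] (p : ℕ) [Fact p.Prime]
    (P : Sylow p G) (hP : IsCyclic (P : Subgroup G)) (H : Subgroup G) [H.Normal] (h1 : p ∣ Nat.card H) (h2 : p ∣ H.index) :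
    Cfsg.HasNormalPComplement p H ∧ Cfsg.IsPSolvable p G := by
  classical
  have hp := (Fact.out : p.Prime)
  obtain ⟨g0, hg0⟩ := hP.exists_generator
  obtain ⟨g, hgdef⟩ : ∃ g : G, g = (g0 : G) := ⟨_, rfl⟩
  have hg : g ∈ (P : Subgroup G) := by rw [hgdef]; exact g0.2
  have hgen : ∀ y ∈ (P : Subgroup G), y ∈ Subgroup.zpowers g := by
    intro y hy
    obtain ⟨z, hz⟩ := Subgroup.mem_zpowers_iff.mp (hg0 ⟨y, hy⟩)
    refine Subgroup.mem_zpowers_iff.mpr ⟨z, ?_⟩
    have h := congrArg Subtype.val hz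
    rw [hgdef]
    simpa only [Subgroup.coe_zpow] using h
  obtain ⟨e, he⟩ := P.isPGroup' ⟨g, hg⟩
  have he' : g ^ p ^ e = 1 := by
    have h := congrArg Subtype.val he
    simpa only [Subgroup.coe_pow, Subgroup.coe_one] using h
  have hPH : ¬ (P : Subgroup G) ≤ H := by
    intro hle
    exact P.not_dvd_index (dvd_trans h2 (Subgroup.index_dvd_of_le hle))
  have hgH : g ∉ H := by
    intro hgH
    apply hPH
    intro y hy
    obtain ⟨z, rfl⟩ := Subgroup.mem_zpowers_iff.mp (hgen y hy)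
    exact H.zpow_mem hgH z
  obtain ⟨kP, hkP⟩ : ∃ k : ℕ, Nat.card (P : Subgroup G) = p ^ k := ⟨_, P.card_eq_multiplicity⟩
  -- Part 1
  obtain ⟨L, hLdef⟩ : ∃ L : Subgroup G, L = (P : Subgroup G) ⊔ H := ⟨_, rfl⟩
  have hPL : (P : Subgroup G) ≤ L := by rw [hLdef]; exact le_sup_left
  have hHL : H ≤ L := by rw [hLdef]; exact le_sup_right
  have hcommH : ∀ n ∈ L, n * g * n⁻¹ * g⁻¹ ∈ H := by
    intro n hnL
    have hmem : n ∈ ((P : Subgroup G) : Set G) * (H : Set G) := by
      rw [← Subgroup.mul_normal, ← hLdef]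
      exact hnL
    obtain ⟨y0, hy0, h0, hh0, rfl⟩ := hmem
    have hy0g : y0 * g = g * y0 := by
      obtain ⟨z, rfl⟩ := Subgroup.mem_zpowers_iff.mp (hgen y0 hy0)
      exact ((Commute.refl g).zpow_left z).eq
    have e1 : y0 * h0 * g * (y0 * h0)⁻¹ * g⁻¹
        = y0 * (h0 * (g * h0⁻¹ * g⁻¹)) * y0⁻¹ * (y0 * g * y0⁻¹ * g⁻¹) := by group
    have e2 : y0 * g * y0⁻¹ * g⁻¹ = 1 := by rw [hy0g]; group
    rw [e1, e2, mul_one]
    have hh0' : h0 ∈ H := hh0
    exact ‹H.Normal›.conj_mem _ (H.mul_mem hh0' (‹H.Normal›.conj_mem _ (H.inv_mem hh0') g)) y0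
  have hnL : ∀ n ∈ L, n ∈ Subgroup.normalizer ((P : Subgroup G) : Set G) → n * g = g * n := by
    intro n hnL hnN
    have hconj : n * g * n⁻¹ ∈ (P : Subgroup G) := (Subgroup.mem_normalizer_iff.mp hnN g).mp hg
    obtain ⟨m, hm⟩ := Subgroup.mem_zpowers_iff.mp (hgen _ hconj)
    apply cyc_aut_trivial P g hg hgen n hnN m hm.symm
    by_contra hnd
    have h3 : g ^ (m - 1) ∈ H := by
      have := hcommH n hnL
      rw [← hm] at this
      rw [zpow_sub_one]; exact this
    have hcop : IsCoprime (m - 1) ((p : ℤ) ^ e) :=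
      (((Nat.prime_iff_prime_int.mp hp).irreducible.coprime_iff_not_dvd.mpr hnd).symm).pow_right
    obtain ⟨u, v, huv⟩ := hcop
    apply hgH
    have : g = (g ^ (m - 1)) ^ u * (g ^ ((p : ℤ) ^ e)) ^ v := by
      rw [← zpow_mul, ← zpow_mul, ← zpow_add]
      have : (m - 1) * u + (p : ℤ) ^ e * v = 1 := by linarith
      rw [this, zpow_one]
    rw [this]
    have h4 : g ^ ((p : ℤ) ^ e) = 1 := by
      rw [← Nat.cast_pow, zpow_natCast, he']
    rw [h4, one_zpow, mul_one]
    exact H.zpow_mem h3 u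
  obtain ⟨K, hKL, hKnorm, hKcop, hKidx, hKcomm⟩ := burnside_sub P L hPL g hg hgen hnL
  have hpowK : ∀ y ∈ K, y ^ Nat.card K = 1 := by
    intro y hy
    have h := congrArg Subtype.val (pow_card_eq_one' (G := K) (x := ⟨y, hy⟩))
    simpa only [Subgroup.coe_pow, Subgroup.coe_one] using h
  obtain ⟨j, hj⟩ : ∃ j : ℕ, H.relIndex L = p ^ j := by
    have h1 : H.relIndex L = H.relIndex (P : Subgroup G) := by
      rw [hLdef]
      show H.relIndex ((P : Subgroup G) ⊔ H) = H.relIndex (P : Subgroup G)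
      exact Subgroup.relIndex_sup_right (H := (P : Subgroup G)) (K := H)
    have h2 : H.relIndex (P : Subgroup G) ∣ p ^ kP := by
      rw [← hkP]; exact Subgroup.relIndex_dvd_card _ _
    obtain ⟨j, _, hj⟩ := (Nat.dvd_prime_pow hp).mp h2
    exact ⟨j, by rw [h1, hj]⟩
  have hKH : K ≤ H := by
    intro y hy
    exact pprime_elt_mem H L hHL (fun x hx l _ => ‹H.Normal›.conj_mem x hx l) j hj y (hKL hy)
      (Nat.card K) hKcop (hpowK y hy)
  obtain ⟨b, hb⟩ : ∃ b : ℕ, K.relIndex H = p ^ b := by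
    have h1 : K.relIndex H * H.relIndex L = K.relIndex L := Subgroup.relIndex_mul_relIndex K H L hKH hHL
    have h2 : K.relIndex H ∣ p ^ kP := by
      rw [← hkP, ← hKidx, ← h1]; exact dvd_mul_right _ _
    obtain ⟨b, _, hb⟩ := (Nat.dvd_prime_pow hp).mp h2
    exact ⟨b, hb⟩
  have hKHnorm : ∀ x ∈ K, ∀ l ∈ H, l * x * l⁻¹ ∈ K := fun x hx l hl => hKnorm x hx l (hHL hl)
  refine ⟨?_, ?_⟩
  · have hN : (K.subgroupOf H).Normal := ⟨fun x hx l => by
      rw [Subgroup.mem_subgroupOf] at hx ⊢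
      exact hKHnorm _ hx _ l.2⟩
    have hNcard : Nat.card (K.subgroupOf H) = Nat.card K :=
      Nat.card_congr (Subgroup.subgroupOfEquivOfLe hKH).toEquiv
    exact hasNormalPComplement_of (K.subgroupOf H) (by rw [hNcard]; exact hKcop) b hb
  · -- Part 2
    have hKn : K.Normal := normal_of_pprime K H hKH hKHnorm b hb hKcop
    obtain ⟨C, hCdef⟩ : ∃ C : Subgroup G, C = centMod H K := ⟨_, rfl⟩
    have hCn : C.Normal := by rw [hCdef]; exact centMod_normal H K
    have hCmem : ∀ x ∈ C, ∀ h ∈ H, x * h * x⁻¹ * h⁻¹ ∈ K := by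
      intro x hx; rw [hCdef] at hx; exact hx
    have hPC : (P : Subgroup G) ≤ C := by
      intro y hy
      rw [hCdef]
      intro h hh
      exact hKcomm y (hPL hy) h (hHL hh)
    -- a nontrivial element of P ⊓ H
    obtain ⟨q, hqP, hqH, hq1⟩ : ∃ q : G, q ∈ (P : Subgroup G) ∧ q ∈ H ∧ q ≠ 1 := by
      obtain ⟨h0, hh0⟩ := exists_prime_orderOf_dvd_card' (G := H) p h1
      have hord : orderOf (h0 : G) = p := by rw [Subgroup.orderOf_coe]; exact hh0
      have hpg : IsPGroup p (Subgroup.zpowers (h0 : G)) := by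
        apply IsPGroup.of_card (n := 1)
        rw [Nat.card_zpowers, hord, pow_one]
      obtain ⟨Q, hQ⟩ := hpg.exists_le_sylow
      obtain ⟨w, hw⟩ := MulAction.exists_smul_eq G Q P
      have hmemQ : (h0 : G) ∈ Q := hQ (Subgroup.mem_zpowers _)
      have hmemP : w * (h0 : G) * w⁻¹ ∈ (P : Subgroup G) := by
        have : w * (h0 : G) * w⁻¹ ∈ (w • Q : Sylow p G) := by
          rw [mem_smul_sylow]
          have : w⁻¹ * (w * (h0 : G) * w⁻¹) * w = (h0 : G) := by group
          rw [this]; exact hmemQ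
        rw [hw] at this
        exact this
      refine ⟨w * (h0 : G) * w⁻¹, hmemP, ‹H.Normal›.conj_mem _ h0.2 w, ?_⟩
      intro h
      have h' : (h0 : G) = 1 := by
        have : (h0 : G) = w⁻¹ * (w * (h0 : G) * w⁻¹) * w := by group
        rw [this, h]; group
      rw [h', orderOf_one] at hord
      exact hp.one_lt.ne hord
    have hnC : ∀ n ∈ C, n ∈ Subgroup.normalizer ((P : Subgroup G) : Set G) → n * g = g * n := by
      intro n hnC hnN
      have hconj : n * g * n⁻¹ ∈ (P : Subgroup G) := (Subgroup.mem_normalizer_iff.mp hnN g).mp hg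
      obtain ⟨m, hm⟩ := Subgroup.mem_zpowers_iff.mp (hgen _ hconj)
      apply cyc_aut_trivial P g hg hgen n hnN m hm.symm
      -- n centralizes q
      have hqconj : n * q * n⁻¹ ∈ (P : Subgroup G) := (Subgroup.mem_normalizer_iff.mp hnN q).mp hqP
      have hw1 : n * q * n⁻¹ * q⁻¹ ∈ K := hCmem n hnC q hqH
      have hw2 : n * q * n⁻¹ * q⁻¹ ∈ (P : Subgroup G) :=
        Subgroup.mul_mem _ hqconj (Subgroup.inv_mem _ hqP)
      have hw : n * q * n⁻¹ * q⁻¹ = 1 := by
        obtain ⟨e2, he2⟩ := P.isPGroup' ⟨_, hw2⟩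
        have he2' : (n * q * n⁻¹ * q⁻¹) ^ p ^ e2 = 1 := by
          have h := congrArg Subtype.val he2
          simpa only [Subgroup.coe_pow, Subgroup.coe_one] using h
        have := coprime_bezout_mem ⊥ (n * q * n⁻¹ * q⁻¹) (Nat.card K) (p ^ e2)
          (hKcop.pow_right e2) (by rw [hpowK _ hw1]; exact Subgroup.one_mem _)
          (by rw [he2']; exact Subgroup.one_mem _)
        exact Subgroup.mem_bot.mp this
      have hnq : n * q * n⁻¹ = q := by
        have : n * q * n⁻¹ = (n * q * n⁻¹ * q⁻¹) * q := by group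
        rw [this, hw, one_mul]
      obtain ⟨i, hi⟩ := Subgroup.mem_zpowers_iff.mp (hgen q hqP)
      have hqm : q ^ m = q := by
        rw [← hi, ← zpow_mul, mul_comm, zpow_mul, hm, conj_zpow, hi]
        exact hnq
      have hqm1 : q ^ (m - 1) = 1 := by
        rw [zpow_sub_one, hqm, mul_inv_cancel]
      have hdvd1 : (orderOf q : ℤ) ∣ m - 1 := orderOf_dvd_iff_zpow_eq_one.mpr hqm1
      obtain ⟨e3, he3⟩ := P.isPGroup' ⟨q, hqP⟩
      have he3' : q ^ p ^ e3 = 1 := by
        have h := congrArg Subtype.val he3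
        simpa only [Subgroup.coe_pow, Subgroup.coe_one] using h
      obtain ⟨j3, _, hj3⟩ := (Nat.dvd_prime_pow hp).mp (orderOf_dvd_of_pow_eq_one he3')
      have hj30 : j3 ≠ 0 := by
        intro h0
        rw [h0, pow_zero, orderOf_eq_one_iff] at hj3
        exact hq1 hj3
      have hpd : (p : ℤ) ∣ (orderOf q : ℤ) := by
        rw [hj3]; exact_mod_cast dvd_pow_self p hj30
      exact dvd_trans hpd hdvd1
    obtain ⟨M, hMC, hMnorm, hMcop, hMidx, _⟩ := burnside_sub P C hPC g hg hgen hnC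
    have hMn : M.Normal := normal_of_pprime M C hMC hMnorm kP (by rw [hMidx, hkP]) hMcop
    refine ⟨3, ![⊥, M, C, ⊤], rfl, rfl, ?_, ?_, ?_⟩
    · apply Fin.monotone_iff_le_succ.mpr
      intro i
      fin_cases i
      · exact bot_le
      · exact hMC
      · exact le_top
    · intro i
      fin_cases i
      · exact Subgroup.normal_bot
      · exact hMn
      · exact hCn
      · exact Subgroup.normal_top
    · intro i
      fin_cases i
      · right
        show ((⊥ : Subgroup G).relIndex M).Coprime p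
        rw [Subgroup.relIndex_bot_left]; exact hMcop
      · left
        exact ⟨kP, by show M.relIndex C = p ^ kP; rw [hMidx, hkP]⟩
      · right
        show (C.relIndex ⊤).Coprime p
        rw [Subgroup.relIndex_top_right]
        have h1 : C.index ∣ (P : Subgroup G).index := Subgroup.index_dvd_of_le hPC
        have h2 : ¬ p ∣ C.index := fun h => P.not_dvd_index (dvd_trans h h1)
        exact ((Nat.Prime.coprime_iff_not_dvd hp).mpr h2).symm

end Cfsg.Agent.S4145
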