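import Cfsg.Statements.S4194
-- import your own Cfsg.Agent.* helpers here
import Cfsg.Agent.S4355

set_option autoImplicit false
open Cfsg

namespace Cfsg.Agent.S4194



/-- A finite group G has commutative Sylow 2-subgroups if and only if every 2-element of G (element of order a power of 2) is 2-central, that is, its centralizer contains a Sylow 2-subgroup of G. -/
theorem result {G : Type*} [Group G] [Finite G] (P : Sylow 2 G) :
    IsMulCommutative (P : Subgroup G) ↔ ∀ x : G, (∃ k : ℕ, orderOf x = 2 ^ k) → (∃ Q : Sylow 2 G, (Q : Subgroup G) ≤ Subgroup.centralizer ({x} : Set G)) := by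
  constructor
  · intro hP x hx
    obtain ⟨Q, hQ⟩ := (Cfsg.Agent.S4355.isPGroup_zpowers hx).exists_le_sylow
    refine ⟨Q, ?_⟩
    obtain ⟨g, hg⟩ := MulAction.exists_smul_eq G P Q
    have hxQ : x ∈ (Q : Subgroup G) := hQ (Subgroup.mem_zpowers x)
    intro y hy
    rw [Cfsg.Agent.S4355.mem_cent_singleton]
    rw [← hg, Cfsg.Agent.S4355.mem_smul_sylow] at hxQ hy
    have h1 := hP.is_comm.comm (⟨g⁻¹ * x * g, hxQ⟩ : ↥(P : Subgroup G)) ⟨g⁻¹ * y * g, hy⟩
    have h2 : g⁻¹ * x * g * (g⁻¹ * y * g) = g⁻¹ * y * g * (g⁻¹ * x * g) :=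
      congrArg Subtype.val h1
    have h3 : g⁻¹ * x * g⁻¹⁻¹ * (g⁻¹ * y * g⁻¹⁻¹) = g⁻¹ * y * g⁻¹⁻¹ * (g⁻¹ * x * g⁻¹⁻¹) := by
      rw [inv_inv]; exact h2
    exact Cfsg.Agent.S4355.comm_of_conj_comm g⁻¹ h3
  · intro h
    have hm := Cfsg.Agent.S4355.main (Nat.card G) G rfl h P
    exact ⟨⟨fun a b => Subtype.ext (hm a a.2 b b.2)⟩⟩

end Cfsg.Agent.S4194
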