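import Cfsg.Statements.S4304
-- import your own Cfsg.Agent.* helpers here
import Mathlib
import Cfsg.Agent.S4303
import Cfsg.Agent.S4341

set_option autoImplicit false
open Cfsg

namespace Cfsg.Agent.S4304

open scoped Pointwise

section S4304aux

variable {G : Type*} [Group G] [Finite G]

theorem dvd15 (n : ℕ) (hd : n ∣ 15) (hm : n % 7 = 1) : n = 1 ∨ n = 15 := by
  have : n ≤ 15 := Nat.le_of_dvd (by norm_num) hd
  interval_cases n <;> first | omega | (norm_num at hd) | (norm_num at hm)

/-- faithful -/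
theorem faithful [IsSimpleGroup G] {p : ℕ} [Fact p.Prime] (h15 : 1 < Nat.card (Sylow p G)) (g : G)
    (hg : ∀ Q : Sylow p G, g • Q = Q) : g = 1 := by
  have hK : (MulAction.toPermHom G (Sylow p G)).ker = ⊥ ∨
      (MulAction.toPermHom G (Sylow p G)).ker = ⊤ :=
    Subgroup.Normal.eq_bot_or_eq_top inferInstance
  have hmem : ∀ x : G, x ∈ (MulAction.toPermHom G (Sylow p G)).ker ↔ ∀ Q : Sylow p G, x • Q = Q := by
    intro x
    rw [MonoidHom.mem_ker]
    constructor
    · intro h Q
      have := congrArg (fun σ : Equiv.Perm (Sylow p G) => σ Q) h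
      simpa using this
    · intro h
      exact Equiv.ext (fun Q => h Q)
  rcases hK with hK | hK
  · have : g ∈ (MulAction.toPermHom G (Sylow p G)).ker := (hmem g).mpr hg
    rw [hK] at this
    exact Subgroup.mem_bot.mp this
  · exfalso
    have hsub : Subsingleton (Sylow p G) := by
      constructor
      intro P Q
      obtain ⟨x, hx⟩ := MulAction.exists_smul_eq G P Q
      have : x ∈ (MulAction.toPermHom G (Sylow p G)).ker := by rw [hK]; trivial
      rw [← hx, (hmem x).mp this P]
    have := Finite.card_le_one_iff_subsingleton.mpr hsub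
    omega

theorem smul_eq_iff {p : ℕ} (y : G) (Q : Sylow p G) :
    y • Q = Q ↔ y ∈ Subgroup.normalizer ((Q : Subgroup G) : Set G) :=
  Sylow.smul_eq_iff_mem_normalizer

/-- a `p`-element fixing a Sylow `p`-subgroup lies in it -/
theorem mem_of_smul_eq {p : ℕ} [Fact p.Prime] (y : G) (hy : IsPGroup p (Subgroup.zpowers y))
    (Q : Sylow p G) (h : y • Q = Q) : y ∈ (Q : Subgroup G) := by
  have h1 : y ∈ Subgroup.normalizer ((Q : Subgroup G) : Set G) := (smul_eq_iff y Q).mp h
  have h2 : Subgroup.zpowers y ⊓ Subgroup.normalizer ((Q : Subgroup G) : Set G)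
      = Subgroup.zpowers y ⊓ (Q : Subgroup G) := hy.inf_normalizer_sylow Q
  have h3 : y ∈ Subgroup.zpowers y ⊓ Subgroup.normalizer ((Q : Subgroup G) : Set G) :=
    Subgroup.mem_inf.mpr ⟨Subgroup.mem_zpowers y, h1⟩
  rw [h2] at h3
  exact (Subgroup.mem_inf.mp h3).2

theorem burnside_simple [IsSimpleGroup G] {p : ℕ} [Fact p.Prime] (U : Sylow p G)
    (h1 : (U : Subgroup G) ≠ ⊥) (h2 : (U : Subgroup G) ≠ ⊤) :
    ¬ (Subgroup.normalizer ((U : Subgroup G) : Set G) ≤ Subgroup.centralizer ((U : Subgroup G) : Set G)) := by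
  intro h
  have hc := MonoidHom.ker_transferSylow_isComplement' U h
  have hcard := hc.card_mul_card
  rcases Subgroup.Normal.eq_bot_or_eq_top (inferInstance : (MonoidHom.transferSylow U h).ker.Normal) with hK | hK
  · rw [hK, Subgroup.card_bot, one_mul] at hcard
    exact h2 (Subgroup.eq_top_of_card_eq _ hcard)
  · rw [hK, Subgroup.card_top] at hcard
    have h3 : Nat.card (U : Subgroup G) = 1 := by
      have hpos : 0 < Nat.card G := Nat.card_pos
      have : Nat.card G * Nat.card (U : Subgroup G) = Nat.card G * 1 := by rw [hcard, mul_one]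
      exact Nat.eq_of_mul_eq_mul_left hpos this
    exact h1 (Subgroup.card_eq_one.mp h3)

theorem index_normalizer {p : ℕ} [Fact p.Prime] (P : Sylow p G) :
    (Subgroup.normalizer ((P : Subgroup G) : Set G)).index = Nat.card (Sylow p G) :=
  (Sylow.card_eq_index_normalizer P).symm

/-- normalizer of a Sylow 7 is maximal when there are 15 of them -/
theorem isCoatom_normalizer [Fact (Nat.Prime 7)] (h15 : Nat.card (Sylow 7 G) = 15) (P : Sylow 7 G) :
    IsCoatom (Subgroup.normalizer ((P : Subgroup G) : Set G)) := by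
  have hidx : (Subgroup.normalizer ((P : Subgroup G) : Set G)).index = 15 := by
    rw [index_normalizer, h15]
  constructor
  · intro h
    rw [h, Subgroup.index_top] at hidx
    omega
  · intro H hH
    have hPH : (P : Subgroup G) ≤ H := le_trans Subgroup.le_normalizer hH.le
    have h1 := Cfsg.Agent.S4341.card_sylow_of_le P H hPH
    have h2 : Nat.card (Sylow 7 H) ≡ 1 [MOD 7] := card_sylow_modEq_one 7 H
    have h3 := Subgroup.relIndex_mul_index hH.le
    rw [hidx, ← h1] at h3
    have h4 : Nat.card (Sylow 7 H) ∣ 15 := Dvd.intro _ h3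
    rcases dvd15 _ h4 h2 with h6 | h6
    · exfalso
      rw [h6] at h1
      have := Subgroup.relIndex_eq_one.mp h1.symm
      exact absurd (le_antisymm hH.le this) hH.ne
    · rw [h6] at h3
      have : H.index = 1 := by omega
      exact Subgroup.index_eq_one.mp this

theorem inf_eq_bot_of_card_prime {p : ℕ} [Fact p.Prime] (P Q : Sylow p G)
    (hc : Nat.card (P : Subgroup G) = p) (hne : Q ≠ P) :
    (P : Subgroup G) ⊓ (Q : Subgroup G) = ⊥ := by
  by_contra h
  have h1 : Nat.card ((P : Subgroup G) ⊓ Q : Subgroup G) ∣ p := by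
    have := Subgroup.card_dvd_of_le (inf_le_left : (P : Subgroup G) ⊓ Q ≤ P)
    rw [hc] at this; exact this
  have h2 : Nat.card ((P : Subgroup G) ⊓ Q : Subgroup G) ≠ 1 := fun h' => h (Subgroup.card_eq_one.mp h')
  have h3 : Nat.card ((P : Subgroup G) ⊓ Q : Subgroup G) = p :=
    ((Nat.dvd_prime Fact.out).mp h1).resolve_left h2
  have h4 : (P : Subgroup G) ⊓ Q = P := Subgroup.eq_of_le_of_card_ge inf_le_left (by rw [h3, hc])
  have h5 : (P : Subgroup G) ≤ Q := inf_eq_left.mp h4
  exact hne (Sylow.ext (P.3 Q.2 h5))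

theorem pow_smul_eq {X : Type*} [MulAction G X] (c : G) (x : X) (h : c • x = x) (k : ℕ) :
    c ^ k • x = x := by
  have h1 : c ∈ MulAction.stabilizer G x := MulAction.mem_stabilizer_iff.mpr h
  exact MulAction.mem_stabilizer_iff.mp (Subgroup.pow_mem _ h1 k)

theorem fix_unique [IsSimpleGroup G] [Fact (Nat.Prime 7)] (h15 : Nat.card (Sylow 7 G) = 15)
    (P : Sylow 7 G) (hc : Nat.card (P : Subgroup G) = 7) (c : G)
    (hcC : c ∈ Subgroup.centralizer ((P : Subgroup G) : Set G))
    (hc1 : c ≠ 1) (Q : Sylow 7 G) (hQ : c • Q = Q) : Q = P := by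
  by_contra hne
  have hord : orderOf c ≠ 1 := fun h => hc1 (orderOf_eq_one_iff.mp h)
  obtain ⟨r, hr⟩ : ∃ r, r = (orderOf c).minFac := ⟨_, rfl⟩
  have hrp : r.Prime := hr ▸ Nat.minFac_prime hord
  have hrd : r ∣ orderOf c := hr ▸ Nat.minFac_dvd _
  obtain ⟨c', hc'⟩ : ∃ c', c' = c ^ (orderOf c / r) := ⟨_, rfl⟩
  have hord' : orderOf c' = r := hc' ▸ orderOf_pow_orderOf_div (orderOf_pos c).ne' hrd
  have hc'C : c' ∈ Subgroup.centralizer ((P : Subgroup G) : Set G) := hc' ▸ Subgroup.pow_mem _ hcC _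
  have hc'Q : c' • Q = Q := hc' ▸ pow_smul_eq c Q hQ _
  have hc'N : c' ∈ Subgroup.normalizer ((P : Subgroup G) : Set G) :=
    Subgroup.centralizer_le_normalizer _ hc'C
  have hc'P : c' • P = P := (smul_eq_iff c' P).mpr hc'N
  have hc'1 : c' ≠ 1 := by
    intro h
    rw [h, orderOf_one] at hord'
    exact hrp.one_lt.ne hord'
  have : Fact r.Prime := ⟨hrp⟩
  have hzp : IsPGroup r (Subgroup.zpowers c') := by
    apply IsPGroup.of_card (n := 1)
    rw [Nat.card_zpowers, hord', pow_one]
  obtain ⟨s, hs⟩ : ∃ s : Set (Sylow 7 G), s = MulAction.fixedPoints (Subgroup.zpowers c') (Sylow 7 G) :=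
    ⟨_, rfl⟩
  have hmem : ∀ Q' : Sylow 7 G, Q' ∈ s ↔ c' • Q' = Q' := by
    intro Q'
    rw [hs, MulAction.mem_fixedPoints]
    constructor
    · intro h
      exact h ⟨c', Subgroup.mem_zpowers c'⟩
    · intro h z
      have h1 : c' ∈ MulAction.stabilizer G Q' := MulAction.mem_stabilizer_iff.mpr h
      have h2 : (z : G) ∈ MulAction.stabilizer G Q' := (Subgroup.zpowers_le.mpr h1) z.2
      exact MulAction.mem_stabilizer_iff.mp h2
  have hcount1 : Nat.card (Sylow 7 G) ≡ s.ncard [MOD r] := by
    have := hzp.card_modEq_card_fixedPoints (Sylow 7 G)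
    rw [← hs, Nat.card_coe_set_eq] at this
    exact this
  -- P-invariance
  let T : SubMulAction (↥(P : Subgroup G)) (Sylow 7 G) :=
    { carrier := s
      smul_mem' := by
        intro y Q' hQ'
        have hQ'' : c' • Q' = Q' := (hmem Q').mp hQ'
        apply (hmem _).mpr
        have hcomm : (y : G) * c' = c' * y := (Subgroup.mem_centralizer_iff.mp hc'C) y y.2
        show c' • ((y : G) • Q') = (y : G) • Q'
        rw [smul_smul, ← hcomm, ← smul_smul, hQ''] }
  have hcount2 : Nat.card T ≡ Nat.card (MulAction.fixedPoints (↥(P : Subgroup G)) T) [MOD 7] :=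
    P.2.card_modEq_card_fixedPoints T
  have hT : Nat.card T = s.ncard := Nat.card_coe_set_eq s
  have hfix : Nat.card (MulAction.fixedPoints (↥(P : Subgroup G)) T) = 1 := by
    rw [Nat.card_eq_one_iff_exists]
    refine ⟨⟨⟨P, (hmem P).mpr hc'P⟩, ?_⟩, ?_⟩
    · intro y
      apply Subtype.ext
      show (y : G) • P = P
      exact (smul_eq_iff _ P).mpr (Subgroup.le_normalizer y.2)
    · rintro ⟨⟨Q', hQ'⟩, hfx⟩
      apply Subtype.ext
      apply Subtype.ext
      show Q' = P
      have h1 : Q' ∈ MulAction.fixedPoints (↥(P : Subgroup G)) (Sylow 7 G) := by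
        intro y
        have := congrArg (fun t : T => (t : Sylow 7 G)) (hfx y)
        exact this
      have h2 : (P : Subgroup G) ≤ Q' := (P.2.sylow_mem_fixedPoints_iff).mp h1
      exact Sylow.ext (P.3 Q'.2 h2)
  rw [hT, hfix] at hcount2
  have hPs : P ∈ s := (hmem P).mpr hc'P
  have hQs : Q ∈ s := (hmem Q).mpr hc'Q
  have h2le : 2 ≤ s.ncard := by
    have h1 : ({P, Q} : Set (Sylow 7 G)) ⊆ s := by
      intro x hx
      rcases hx with rfl | rfl
      · exact hPs
      · exact hQs
    have h2 := Set.ncard_le_ncard h1 (Set.toFinite s)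
    rw [Set.ncard_pair (Ne.symm hne)] at h2
    exact h2
  have hlt : s.ncard < 15 := by
    have hne' : s ≠ Set.univ := by
      intro h
      apply hc'1
      apply faithful (p := 7) (by omega)
      intro Q'
      exact (hmem Q').mp (h ▸ Set.mem_univ Q')
    have h1 : s ⊂ Set.univ := Set.ssubset_univ_iff.mpr hne'
    have h2 := Set.ncard_lt_ncard h1 (Set.toFinite _)
    rw [Set.ncard_univ, h15] at h2
    exact h2
  have h8 : s.ncard = 8 := by
    unfold Nat.ModEq at hcount2
    omega
  rw [h8, h15] at hcount1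
  have hr7 : r ∣ 7 := by
    have := (Nat.modEq_iff_dvd' (by norm_num : 8 ≤ 15)).mp hcount1.symm
    simpa using this
  have hr7' : r = 7 := (Nat.prime_dvd_prime_iff_eq hrp (by norm_num)).mp hr7
  rw [hr7'] at hzp
  have hcP : c' ∈ (P : Subgroup G) := mem_of_smul_eq c' hzp P hc'P
  have hcQ : c' ∈ (Q : Subgroup G) := mem_of_smul_eq c' hzp Q hc'Q
  have hbot := inf_eq_bot_of_card_prime P Q hc hne
  have : c' ∈ (P : Subgroup G) ⊓ Q := Subgroup.mem_inf.mpr ⟨hcP, hcQ⟩
  rw [hbot] at this
  exact hc'1 (Subgroup.mem_bot.mp this)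

theorem le_centralizer_of_card_prime {p : ℕ} [Fact p.Prime] (P : Subgroup G)
    (hc : Nat.card P = p) : P ≤ Subgroup.centralizer (P : Set G) := by
  have : IsCyclic P := isCyclic_of_prime_card (p := p) hc
  intro y hy
  rw [Subgroup.mem_centralizer_iff]
  intro z hz
  have := (IsCyclic.commGroup (α := P)).mul_comm ⟨z, hz⟩ ⟨y, hy⟩
  exact congrArg Subtype.val this

theorem card_centralizer_dvd [IsSimpleGroup G] [Fact (Nat.Prime 7)] (h15 : Nat.card (Sylow 7 G) = 15)
    (P : Sylow 7 G) (hc : Nat.card (P : Subgroup G) = 7) :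
    Nat.card (Subgroup.centralizer ((P : Subgroup G) : Set G)) ∣ 14 := by
  have hPC := le_centralizer_of_card_prime (P : Subgroup G) hc
  have h7 : 7 ∣ Nat.card (Subgroup.centralizer ((P : Subgroup G) : Set G)) := by
    have := Subgroup.card_dvd_of_le hPC
    rw [hc] at this; exact this
  obtain ⟨Q, hQ⟩ : ∃ Q : Sylow 7 G, Q ≠ P := by
    by_contra h; push Not at h
    have : Subsingleton (Sylow 7 G) := ⟨fun a b => (h a).trans (h b).symm⟩
    have := Finite.card_le_one_iff_subsingleton.mpr this; omega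
  have hinj : Function.Injective
      (fun c : Subgroup.centralizer ((P : Subgroup G) : Set G) => (c : G) • Q) := by
    intro a b hab
    have hab' : (a : G) • Q = (b : G) • Q := hab
    have h1 : ((a : G)⁻¹ * b) • Q = Q := by rw [mul_smul, ← hab', inv_smul_smul]
    by_contra hne
    have h2 : (a : G)⁻¹ * b ≠ 1 := by
      intro h
      apply hne
      apply Subtype.ext
      exact inv_mul_eq_one.mp h
    exact hQ (fix_unique h15 P hc _ (Subgroup.mul_mem _ (Subgroup.inv_mem _ a.2) b.2) h2 Q h1)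
  have hle : Nat.card (Subgroup.centralizer ((P : Subgroup G) : Set G)) ≤ 14 := by
    have h1 : Set.range (fun c : Subgroup.centralizer ((P : Subgroup G) : Set G) => (c : G) • Q)
        ⊆ ({P} : Set (Sylow 7 G))ᶜ := by
      rintro _ ⟨c, rfl⟩
      intro h
      have h' : (c : G) • Q = P := h
      have hcP : (c : G) • P = P :=
        (smul_eq_iff _ P).mpr (Subgroup.centralizer_le_normalizer _ c.2)
      apply hQ
      have : (c : G) • Q = (c : G) • P := by rw [h', hcP]
      exact smul_left_cancel _ this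
    have h2 := Set.ncard_le_ncard h1 (Set.toFinite _)
    rw [Set.ncard_compl, Set.ncard_singleton, h15, ← Set.image_univ,
      Set.ncard_image_of_injective _ hinj, Set.ncard_univ] at h2
    exact h2
  obtain ⟨k, hk⟩ := h7
  rw [hk] at hle ⊢
  have hk0 : k ≠ 0 := by
    rintro rfl
    have : 0 < Nat.card (Subgroup.centralizer ((P : Subgroup G) : Set G)) := Nat.card_pos
    omega
  have : k = 1 ∨ k = 2 := by omega
  rcases this with rfl | rfl <;> norm_num

theorem relIndex_dvd {p : ℕ} [Fact p.Prime] (P : Sylow p G) (hc : Nat.card (P : Subgroup G) = p) :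
    (Subgroup.centralizer ((P : Subgroup G) : Set G)).relIndex
      (Subgroup.normalizer ((P : Subgroup G) : Set G)) ∣ p - 1 := by
  have key := Subgroup.card_dvd_of_injective _
    (QuotientGroup.kerLift_injective (P : Subgroup G).normalizerMonoidHom)
  rw [Subgroup.normalizerMonoidHom_ker, ← Subgroup.index, ← Subgroup.relIndex] at key
  have : IsCyclic (P : Subgroup G) := isCyclic_of_prime_card (p := p) hc
  rw [IsCyclic.card_mulAut, hc, Nat.totient_prime Fact.out] at key
  exact key

theorem five_elems (U : Subgroup G) (hU : Nat.card U = 4) (t v w : G) (ht : t ∈ U) (hv : v ∈ U)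
    (hw : w ∈ U) (ht1 : t ≠ 1) (hv1 : v ≠ 1) (hvt : v ≠ t) (htt : t * t = 1) :
    w = 1 ∨ w = t ∨ w = v ∨ w = t * v := by
  classical
  by_contra hcon
  push Not at hcon
  obtain ⟨h1, h2, h3, h4⟩ := hcon
  have hsub : (({w, 1, t, v, t * v} : Finset G) : Set G) ⊆ (U : Set G) := by
    intro x hx
    simp only [Finset.coe_insert, Finset.coe_singleton, Set.mem_insert_iff, Set.mem_singleton_iff] at hx
    rcases hx with rfl | rfl | rfl | rfl | rfl
    · exact hw
    · exact U.one_mem
    · exact ht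
    · exact hv
    · exact U.mul_mem ht hv
  have htv1 : t * v ≠ 1 := by
    intro h
    apply hvt
    calc v = (t * t) * v := by rw [htt, one_mul]
      _ = t * (t * v) := by group
      _ = t := by rw [h, mul_one]
  have htvt : t * v ≠ t := by
    intro h
    exact hv1 (by simpa using h)
  have htvv : t * v ≠ v := by
    intro h
    exact ht1 (by simpa using h)
  have hcard : ({w, 1, t, v, t * v} : Finset G).card = 5 := by
    rw [Finset.card_insert_of_notMem, Finset.card_insert_of_notMem, Finset.card_insert_of_notMem,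
      Finset.card_insert_of_notMem, Finset.card_singleton]
    · simp only [Finset.mem_singleton]; exact fun h => htvv h.symm
    · simp only [Finset.mem_insert, Finset.mem_singleton]
      push Not
      exact ⟨Ne.symm hvt, fun h => htvt h.symm⟩
    · simp only [Finset.mem_insert, Finset.mem_singleton]
      push Not
      exact ⟨Ne.symm ht1, Ne.symm hv1, fun h => htv1 h.symm⟩
    · simp only [Finset.mem_insert, Finset.mem_singleton]
      push Not
      exact ⟨h1, h2, h3, h4⟩
  have h5 := Set.ncard_le_ncard hsub (Set.toFinite _)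
  rw [Set.ncard_coe_finset, hcard] at h5
  have h6 : (U : Set G).ncard = 4 := by
    rw [← hU]; exact (Nat.card_coe_set_eq (U : Set G)).symm
  omega

theorem comm_of_exp_two (U : Subgroup G) (h : ∀ v ∈ U, v * v = 1) (a b : G) (ha : a ∈ U)
    (hb : b ∈ U) : a * b = b * a := by
  have hab := h (a * b) (U.mul_mem ha hb)
  have h1 : (a * b)⁻¹ = a * b := inv_eq_of_mul_eq_one_right hab
  have h2 : a⁻¹ = a := inv_eq_of_mul_eq_one_right (h a ha)
  have h3 : b⁻¹ = b := inv_eq_of_mul_eq_one_right (h b hb)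
  calc a * b = (a * b)⁻¹ := h1.symm
    _ = b⁻¹ * a⁻¹ := mul_inv_rev a b
    _ = b * a := by rw [h2, h3]

theorem case7 [IsSimpleGroup G] [Fact (Nat.Prime 7)] (h15 : Nat.card (Sylow 7 G) = 15)
    (hc7 : ∀ P : Sylow 7 G, Nat.card (P : Subgroup G) = 7) : False := by
  have hp2 : Fact (Nat.Prime 2) := ⟨Nat.prime_two⟩
  have hp5 : Fact (Nat.Prime 5) := ⟨by norm_num⟩
  obtain ⟨P₀⟩ : Nonempty (Sylow 7 G) := inferInstance
  have hC0 := card_centralizer_dvd h15 P₀ (hc7 P₀)
  have he0 := relIndex_dvd P₀ (hc7 P₀)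
  have hN0 := Cfsg.Agent.S4341.card_eq_of_le
    (Subgroup.centralizer_le_normalizer ((P₀ : Subgroup G) : Set G))
  have hG0 := Subgroup.index_mul_card (Subgroup.normalizer ((P₀ : Subgroup G) : Set G))
  rw [index_normalizer, h15] at hG0
  have hG1260 : Nat.card G ∣ 1260 := by
    rw [← hG0, hN0]
    exact (Nat.mul_dvd_mul (dvd_refl 15) (Nat.mul_dvd_mul he0 hC0)).trans (by norm_num)
  have h7G : 7 ∣ Nat.card G := by
    have := Subgroup.card_subgroup_dvd_card (P₀ : Subgroup G)
    rw [hc7 P₀] at this; exact this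
  have h15G : 15 ∣ Nat.card G := Dvd.intro _ hG0
  have h105 : 105 ∣ Nat.card G :=
    Nat.Coprime.mul_dvd_of_dvd_of_dvd (by norm_num : Nat.Coprime 15 7) h15G h7G
  have hGpos : 0 < Nat.card G := Nat.card_pos
  have hG105 : 105 ≤ Nat.card G := Nat.le_of_dvd hGpos h105
  -- Sylow 5
  obtain ⟨S⟩ : Nonempty (Sylow 5 G) := inferInstance
  have hS5 : Nat.card (S : Subgroup G) = 5 := by
    have h1 := S.card_eq_multiplicity
    have h2 : 1 ≤ (Nat.card G).factorization 5 :=
      (Nat.Prime.dvd_iff_one_le_factorization (by norm_num) hGpos.ne').mp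
        ((by norm_num : 5 ∣ 105).trans h105)
    have h3 : (Nat.card G).factorization 5 ≤ 1 := by
      by_contra h; push Not at h
      have h4 : 5 ^ 2 ∣ Nat.card G := (pow_dvd_pow 5 h).trans (Nat.ordProj_dvd _ _)
      have := h4.trans hG1260
      norm_num at this
    have : (Nat.card G).factorization 5 = 1 := le_antisymm h3 h2
    rw [h1, this, pow_one]
  have hSb : (S : Subgroup G) ≠ ⊥ := by
    intro h; rw [h, Subgroup.card_bot] at hS5; omega
  have hSt : (S : Subgroup G) ≠ ⊤ := by
    intro h; rw [h, Subgroup.card_top] at hS5; omega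
  have hS := burnside_simple S hSb hSt
  have h2G : 2 ∣ Nat.card G := by
    by_contra h2
    apply hS
    apply Subgroup.relIndex_eq_one.mp
    have h1 := relIndex_dvd S hS5
    have h3 : (Subgroup.centralizer ((S : Subgroup G) : Set G)).relIndex
        (Subgroup.normalizer ((S : Subgroup G) : Set G)) ∣ Nat.card G :=
      (Subgroup.relIndex_dvd_card _ _).trans (Subgroup.card_subgroup_dvd_card _)
    have h4 : Nat.Coprime (5 - 1) (Nat.card G) := by
      have : Nat.Coprime 2 (Nat.card G) := (Nat.Prime.coprime_iff_not_dvd Nat.prime_two).mpr h2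
      exact Nat.Coprime.pow_left 2 this
    exact Nat.eq_one_of_dvd_coprimes h4 h1 h3
  -- Sylow 2
  obtain ⟨U⟩ : Nonempty (Sylow 2 G) := inferInstance
  have hUcard : Nat.card (U : Subgroup G) = 2 ∨ Nat.card (U : Subgroup G) = 4 := by
    have h1 := U.card_eq_multiplicity
    have h2 : 1 ≤ (Nat.card G).factorization 2 :=
      (Nat.Prime.dvd_iff_one_le_factorization Nat.prime_two hGpos.ne').mp h2G
    have h3 : (Nat.card G).factorization 2 ≤ 2 := by
      by_contra h; push Not at h
      have h4 : 2 ^ 3 ∣ Nat.card G := (pow_dvd_pow 2 h).trans (Nat.ordProj_dvd _ _)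
      have := h4.trans hG1260
      norm_num at this
    rcases (by omega : (Nat.card G).factorization 2 = 1 ∨ (Nat.card G).factorization 2 = 2)
      with h | h
    · left; rw [h1, h, pow_one]
    · right; rw [h1, h]; norm_num
  have hUb : (U : Subgroup G) ≠ ⊥ := by
    intro h; rw [h, Subgroup.card_bot] at hUcard; omega
  have hUt : (U : Subgroup G) ≠ ⊤ := by
    intro h; rw [h, Subgroup.card_top] at hUcard; omega
  have hUB := burnside_simple U hUb hUt
  have hmin : (Nat.card G).minFac = 2 := (Nat.minFac_eq_two_iff _).mpr h2G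
  have hncyc : ¬ IsCyclic (U : Subgroup G) :=
    fun h => hUB (IsCyclic.normalizer_le_centralizer hmin h)
  have hU4 : Nat.card (U : Subgroup G) = 4 := by
    rcases hUcard with h | h
    · exact absurd (isCyclic_of_prime_card (p := 2) h) hncyc
    · exact h
  have hexp : ∀ v ∈ (U : Subgroup G), v * v = 1 := by
    intro v hv
    have h1 : orderOf (⟨v, hv⟩ : (U : Subgroup G)) ∣ 4 := by
      rw [← hU4]; exact orderOf_dvd_natCard _
    have h2 : orderOf (⟨v, hv⟩ : (U : Subgroup G)) ≠ 4 := by
      intro h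
      exact hncyc (isCyclic_of_orderOf_eq_card _ (h.trans hU4.symm))
    have h3 : orderOf (⟨v, hv⟩ : (U : Subgroup G)) ∣ 2 := by
      have h1' : orderOf (⟨v, hv⟩ : (U : Subgroup G)) ∣ 2 ^ 2 := by
        rw [show (2 : ℕ) ^ 2 = 4 from rfl]; exact h1
      obtain ⟨m, hm, hm'⟩ := (Nat.dvd_prime_pow Nat.prime_two).mp h1'
      rw [hm'] at h2 ⊢
      have : m ≠ 2 := by rintro rfl; exact h2 rfl
      have : m ≤ 1 := by omega
      exact pow_dvd_pow 2 this
    have h4 : (⟨v, hv⟩ : (U : Subgroup G)) ^ 2 = 1 := orderOf_dvd_iff_pow_eq_one.mp h3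
    have h5 := congrArg Subtype.val h4
    simpa [pow_two] using h5
  have hcomm := comm_of_exp_two (U : Subgroup G) hexp
  -- fixed point
  obtain ⟨P, hUP⟩ : ∃ P : Sylow 7 G,
      (U : Subgroup G) ≤ Subgroup.normalizer ((P : Subgroup G) : Set G) := by
    have h1 := U.2.card_modEq_card_fixedPoints (Sylow 7 G)
    rw [h15] at h1
    have h2 : Nat.card (MulAction.fixedPoints (U : Subgroup G) (Sylow 7 G)) ≠ 0 := by
      intro h; rw [h] at h1; unfold Nat.ModEq at h1; omega
    have h3 : Nonempty (MulAction.fixedPoints (U : Subgroup G) (Sylow 7 G)) := by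
      by_contra hem
      rw [not_nonempty_iff] at hem
      exact h2 Nat.card_of_isEmpty
    obtain ⟨⟨P, hP⟩⟩ := h3
    exact ⟨P, ((U : Subgroup G).sylow_mem_fixedPoints_iff).mp hP⟩
  have hc := hc7 P
  obtain ⟨C, hCdef⟩ : ∃ C, C = Subgroup.centralizer ((P : Subgroup G) : Set G) := ⟨_, rfl⟩
  have hC14 : Nat.card C ∣ 14 := hCdef ▸ card_centralizer_dvd h15 P hc
  have hUC2 : Nat.card ((U : Subgroup G) ⊓ C : Subgroup G) ∣ 2 := by
    have h1 : Nat.card ((U : Subgroup G) ⊓ C : Subgroup G) ∣ 4 := by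
      rw [← hU4]; exact Subgroup.card_dvd_of_le inf_le_left
    have h2 : Nat.card ((U : Subgroup G) ⊓ C : Subgroup G) ∣ 14 :=
      (Subgroup.card_dvd_of_le inf_le_right).trans hC14
    have := Nat.dvd_gcd h1 h2
    norm_num at this; exact this
  obtain ⟨t, htU, htC, ht1⟩ : ∃ t, t ∈ (U : Subgroup G) ∧ t ∈ C ∧ t ≠ 1 := by
    by_contra hcon
    push Not at hcon
    have hinj : Function.Injective
        ((P : Subgroup G).normalizerMonoidHom.comp (Subgroup.inclusion hUP)) := by
      rw [injective_iff_map_eq_one]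
      intro a ha
      have h1 : Subgroup.inclusion hUP a ∈ (P : Subgroup G).normalizerMonoidHom.ker := ha
      rw [Subgroup.normalizerMonoidHom_ker, Subgroup.mem_subgroupOf] at h1
      have h2 : (a : G) ∈ C := hCdef ▸ h1
      exact Subtype.ext (hcon a a.2 h2)
    have key := Subgroup.card_dvd_of_injective _ hinj
    have : IsCyclic (P : Subgroup G) := isCyclic_of_prime_card (p := 7) hc
    rw [IsCyclic.card_mulAut, hc, hU4, Nat.totient_prime (by norm_num)] at key
    norm_num at key
  have htt : t * t = 1 := hexp t htU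
  -- exists g ∈ N(U) moving t
  obtain ⟨g, hgN, hgt⟩ : ∃ g, g ∈ Subgroup.normalizer ((U : Subgroup G) : Set G) ∧
      g * t * g⁻¹ ≠ t := by
    by_contra hcon
    push Not at hcon
    obtain ⟨g, hgN, hgC⟩ := SetLike.not_le_iff_exists.mp hUB
    rw [Subgroup.mem_centralizer_iff] at hgC
    push Not at hgC
    obtain ⟨v, hvU, hvg⟩ := hgC
    have hvU' : v ∈ (U : Subgroup G) := hvU
    have hgt : g * t = t * g := by
      have := hcon g hgN
      calc g * t = (g * t * g⁻¹) * g := by group
        _ = t * g := by rw [this]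
    have hv1 : v ≠ 1 := by
      rintro rfl; exact hvg (by simp)
    have hvt : v ≠ t := by
      rintro rfl; exact hvg hgt.symm
    obtain ⟨w, hw⟩ : ∃ w, w = g * v * g⁻¹ := ⟨_, rfl⟩
    have hwU : w ∈ (U : Subgroup G) := hw ▸ (Subgroup.mem_normalizer_iff.mp hgN v).mp hvU'
    have hwv : w ≠ v := by
      intro h
      apply hvg
      calc v * g = w * g := by rw [h]
        _ = g * v := by rw [hw]; group
    have hw1 : w ≠ 1 := by
      intro h
      apply hv1
      have : g * v * g⁻¹ = 1 := hw ▸ h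
      calc v = g⁻¹ * (g * v * g⁻¹) * g := by group
        _ = 1 := by rw [this]; group
    have hwt : w ≠ t := by
      intro h
      apply hvt
      have : g * v * g⁻¹ = t := hw ▸ h
      calc v = g⁻¹ * (g * v * g⁻¹) * g := by group
        _ = g⁻¹ * (t * g) := by rw [this]; group
        _ = t := by rw [← hgt]; group
    have hwtv : w = t * v := by
      rcases five_elems (U : Subgroup G) hU4 t v w htU hvU' hwU ht1 hv1 hvt htt with h | h | h | h
      · exact absurd h hw1
      · exact absurd h hwt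
      · exact absurd h hwv
      · exact h
    have hgv : g * v * g⁻¹ = t * v := hw ▸ hwtv
    -- powers
    have hpow : ∀ j : ℕ, g ^ j * v * (g ^ j)⁻¹ = t ^ j * v := by
      intro j
      induction j with
      | zero => simp
      | succ j ih =>
        have hcj : g * t ^ j = t ^ j * g := (Commute.pow_right (show Commute g t from hgt) j)
        calc g ^ (j + 1) * v * (g ^ (j + 1))⁻¹ = g * (g ^ j * v * (g ^ j)⁻¹) * g⁻¹ := by
              rw [pow_succ']; group
          _ = g * (t ^ j * v) * g⁻¹ := by rw [ih]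
          _ = (g * t ^ j) * v * g⁻¹ := by group
          _ = t ^ j * (g * v * g⁻¹) := by rw [hcj]; group
          _ = t ^ (j + 1) * v := by rw [hgv, pow_succ]; group
    obtain ⟨k, m, hm, hkm⟩ := Nat.exists_eq_two_pow_mul_odd (orderOf_pos g).ne'
    have hh2 : (g ^ m) ^ (2 ^ k) = 1 := by
      rw [← pow_mul, mul_comm, ← hkm, pow_orderOf_eq_one]
    have hzp : IsPGroup 2 (Subgroup.zpowers (g ^ m)) := by
      have h1 : orderOf (g ^ m) ∣ 2 ^ k := orderOf_dvd_of_pow_eq_one hh2
      obtain ⟨j, _, hj⟩ := (Nat.dvd_prime_pow Nat.prime_two).mp h1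
      apply IsPGroup.of_card (n := j)
      rw [Nat.card_zpowers, hj]
    have hhN : g ^ m ∈ Subgroup.normalizer ((U : Subgroup G) : Set G) := Subgroup.pow_mem _ hgN m
    have hhU : g ^ m ∈ (U : Subgroup G) :=
      mem_of_smul_eq (g ^ m) hzp U ((smul_eq_iff _ U).mpr hhN)
    have h1 := hpow m
    have htm : t ^ m = t := by
      obtain ⟨q, rfl⟩ := hm
      rw [pow_succ, pow_mul, pow_two, htt, one_pow, one_mul]
    rw [htm] at h1
    have h2 : g ^ m * v * (g ^ m)⁻¹ = v := by
      rw [hcomm (g ^ m) v hhU hvU']; group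
    rw [h2] at h1
    exact ht1 (by simpa using h1.symm)
  obtain ⟨u, hu⟩ : ∃ u, u = g * t * g⁻¹ := ⟨_, rfl⟩
  have huU : u ∈ (U : Subgroup G) := hu ▸ (Subgroup.mem_normalizer_iff.mp hgN t).mp htU
  have hu1 : u ≠ 1 := by
    intro h
    apply ht1
    have : g * t * g⁻¹ = 1 := hu ▸ h
    calc t = g⁻¹ * (g * t * g⁻¹) * g := by group
      _ = 1 := by rw [this]; group
  have hut : u ≠ t := hu ▸ hgt
  have huC : u ∉ C := by
    intro huC
    have hsub : ({1, t, u} : Set G) ⊆ (((U : Subgroup G) ⊓ C : Subgroup G) : Set G) := by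
      intro x hx
      rcases hx with rfl | rfl | rfl
      · exact Subgroup.one_mem _
      · exact Subgroup.mem_inf.mpr ⟨htU, htC⟩
      · exact Subgroup.mem_inf.mpr ⟨huU, huC⟩
    have h1 := Set.ncard_le_ncard hsub (Set.toFinite _)
    have h2 : ({1, t, u} : Set G).ncard = 3 :=
      Set.ncard_eq_three.mpr ⟨1, t, u, Ne.symm ht1, Ne.symm hu1, Ne.symm hut, rfl⟩
    have h3 : ((((U : Subgroup G) ⊓ C : Subgroup G) : Set G)).ncard
        = Nat.card ((U : Subgroup G) ⊓ C : Subgroup G) := (Nat.card_coe_set_eq _).symm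
    have h4 : Nat.card ((U : Subgroup G) ⊓ C : Subgroup G) ≤ 2 := Nat.le_of_dvd (by norm_num) hUC2
    omega
  have huP : u • P = P := (smul_eq_iff u P).mpr (hUP huU)
  have h1 : t • (g⁻¹ • P) = g⁻¹ • P := by
    have e : t * g⁻¹ = g⁻¹ * u := by rw [hu]; group
    rw [smul_smul, e, ← smul_smul, huP]
  have h2 : g⁻¹ • P = P := fix_unique h15 P hc t (hCdef ▸ htC) ht1 (g⁻¹ • P) h1
  have h3 : g⁻¹ ∈ Subgroup.normalizer ((P : Subgroup G) : Set G) := (smul_eq_iff _ P).mp h2
  apply huC
  rw [hCdef, Subgroup.mem_centralizer_iff]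
  intro y hy
  have hy' : g⁻¹ * y * g⁻¹⁻¹ ∈ (P : Subgroup G) := (Subgroup.mem_normalizer_iff.mp h3 y).mp hy
  have htc : (g⁻¹ * y * g⁻¹⁻¹) * t = t * (g⁻¹ * y * g⁻¹⁻¹) :=
    (Subgroup.mem_centralizer_iff.mp (hCdef ▸ htC)) _ hy'
  calc y * u = g * ((g⁻¹ * y * g⁻¹⁻¹) * t) * g⁻¹ := by rw [hu]; group
    _ = g * (t * (g⁻¹ * y * g⁻¹⁻¹)) * g⁻¹ := by rw [htc]
    _ = u * y := by rw [hu]; group

theorem zpow_smul_eq {X : Type*} [MulAction G X] (c : G) (x : X) (h : c • x = x) (k : ℤ) :
    c ^ k • x = x := by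
  have h1 : c ∈ MulAction.stabilizer G x := MulAction.mem_stabilizer_iff.mpr h
  exact MulAction.mem_stabilizer_iff.mp (Subgroup.zpow_mem _ h1 k)

theorem exists_ne_sylow {p : ℕ} (h : 1 < Nat.card (Sylow p G)) (P : Sylow p G) :
    ∃ Q : Sylow p G, Q ≠ P := by
  by_contra hcon; push Not at hcon
  have : Subsingleton (Sylow p G) := ⟨fun a b => (hcon a).trans (hcon b).symm⟩
  have := Finite.card_le_one_iff_subsingleton.mpr this; omega

theorem case49 [IsSimpleGroup G] [Fact (Nat.Prime 7)] (h15 : Nat.card (Sylow 7 G) = 15)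
    (P : Sylow 7 G) (hc : Nat.card (P : Subgroup G) = 49) : False := by
  obtain ⟨Q, hQ⟩ := exists_ne_sylow (by omega : 1 < Nat.card (Sylow 7 G)) P
  have hD : Nat.card ((P : Subgroup G) ⊓ Q : Subgroup G) = 7 := by
    have h1 : Nat.card ((P : Subgroup G) ⊓ Q : Subgroup G) ∣ 7 ^ 2 := by
      rw [show (7 : ℕ) ^ 2 = 49 from rfl, ← hc]; exact Subgroup.card_dvd_of_le inf_le_left
    obtain ⟨j, hj, hj'⟩ := (Nat.dvd_prime_pow (by norm_num)).mp h1
    have hj0 : j ≠ 0 := by
      rintro rfl
      rw [pow_zero] at hj'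
      have hbot : (P : Subgroup G) ⊓ Q = ⊥ := Subgroup.card_eq_one.mp hj'
      have hinj : Function.Injective (fun y : (P : Subgroup G) => (y : G) • Q) := by
        intro a b hab
        have hab' : (a : G) • Q = (b : G) • Q := hab
        have h2 : ((a : G)⁻¹ * b) • Q = Q := by rw [mul_smul, ← hab', inv_smul_smul]
        have h3 : (a : G)⁻¹ * b ∈ (P : Subgroup G) := Subgroup.mul_mem _ (Subgroup.inv_mem _ a.2) b.2
        have h4 : (a : G)⁻¹ * b ∈ (Q : Subgroup G) :=
          mem_of_smul_eq _ (P.2.to_le (Subgroup.zpowers_le.mpr h3)) Q h2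
        have h5 : (a : G)⁻¹ * b ∈ (P : Subgroup G) ⊓ Q := Subgroup.mem_inf.mpr ⟨h3, h4⟩
        rw [hbot] at h5
        apply Subtype.ext
        exact inv_mul_eq_one.mp (Subgroup.mem_bot.mp h5)
      have := Nat.card_le_card_of_injective _ hinj
      rw [hc, h15] at this
      omega
    have hj2 : j ≠ 2 := by
      rintro rfl
      have h4 : (P : Subgroup G) ⊓ Q = P :=
        Subgroup.eq_of_le_of_card_ge inf_le_left (by rw [hj', hc]; norm_num)
      have h5 : (P : Subgroup G) ≤ Q := inf_eq_left.mp h4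
      exact hQ (Sylow.ext (P.3 Q.2 h5))
    have : j = 1 := by omega
    rw [hj', this, pow_one]
  obtain ⟨x, hxD, hx1⟩ : ∃ x ∈ ((P : Subgroup G) ⊓ Q : Subgroup G), x ≠ 1 := by
    by_contra hcon
    push Not at hcon
    have : (P : Subgroup G) ⊓ Q = ⊥ := (Subgroup.eq_bot_iff_forall _).mpr hcon
    rw [this, Subgroup.card_bot] at hD
    omega
  have hxP : x ∈ (P : Subgroup G) := (Subgroup.mem_inf.mp hxD).1
  have hxQ : x ∈ (Q : Subgroup G) := (Subgroup.mem_inf.mp hxD).2
  have hzp : IsPGroup 7 (Subgroup.zpowers x) := P.2.to_le (Subgroup.zpowers_le.mpr hxP)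
  have hprime_elt : ∀ y ∈ ((P : Subgroup G) ⊓ Q : Subgroup G), y ≠ 1 → orderOf y = 7 := by
    intro y hy hy1
    have h1 : orderOf y ∣ 7 := by
      have := orderOf_dvd_natCard (⟨y, hy⟩ : ((P : Subgroup G) ⊓ Q : Subgroup G))
      rw [hD] at this
      rwa [Subgroup.orderOf_mk] at this
    rcases (Nat.dvd_prime (by norm_num)).mp h1 with h | h
    · exact absurd (orderOf_eq_one_iff.mp h) hy1
    · exact h
  have hx7 : orderOf x = 7 := hprime_elt x hxD hx1
  have hxPfix : x • P = P := (smul_eq_iff x P).mpr (Subgroup.le_normalizer hxP)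
  have hxQfix : x • Q = Q := (smul_eq_iff x Q).mpr (Subgroup.le_normalizer hxQ)
  obtain ⟨s, hs⟩ : ∃ s : Set (Sylow 7 G), s = MulAction.fixedPoints (Subgroup.zpowers x) (Sylow 7 G) :=
    ⟨_, rfl⟩
  have hmem : ∀ Q' : Sylow 7 G, Q' ∈ s ↔ x • Q' = Q' := by
    intro Q'
    rw [hs, MulAction.mem_fixedPoints]
    constructor
    · intro h
      exact h ⟨x, Subgroup.mem_zpowers x⟩
    · intro h z
      have h1 : x ∈ MulAction.stabilizer G Q' := MulAction.mem_stabilizer_iff.mpr h
      have h2 : (z : G) ∈ MulAction.stabilizer G Q' := (Subgroup.zpowers_le.mpr h1) z.2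
      exact MulAction.mem_stabilizer_iff.mp h2
  have hcount1 : Nat.card (Sylow 7 G) ≡ s.ncard [MOD 7] := by
    have := hzp.card_modEq_card_fixedPoints (Sylow 7 G)
    rw [← hs, Nat.card_coe_set_eq] at this
    exact this
  have hPs : P ∈ s := (hmem P).mpr hxPfix
  have hQs : Q ∈ s := (hmem Q).mpr hxQfix
  have h2le : 2 ≤ s.ncard := by
    have h1 : ({P, Q} : Set (Sylow 7 G)) ⊆ s := by
      intro a ha
      rcases ha with rfl | rfl
      · exact hPs
      · exact hQs
    have h2 := Set.ncard_le_ncard h1 (Set.toFinite s)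
    rw [Set.ncard_pair (Ne.symm hQ)] at h2
    exact h2
  have hlt : s.ncard < 15 := by
    have hne' : s ≠ Set.univ := by
      intro h
      apply hx1
      apply faithful (p := 7) (by omega)
      intro Q'
      exact (hmem Q').mp (h ▸ Set.mem_univ Q')
    have h1 : s ⊂ Set.univ := Set.ssubset_univ_iff.mpr hne'
    have h2 := Set.ncard_lt_ncard h1 (Set.toFinite _)
    rw [Set.ncard_univ, h15] at h2
    exact h2
  have h8 : s.ncard = 8 := by
    rw [h15] at hcount1
    unfold Nat.ModEq at hcount1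
    omega
  have hc7 : (sᶜ).ncard = 7 := by
    rw [Set.ncard_compl, h15, h8]
  -- primitivity
  have hnt : Nontrivial (Sylow 7 G) := Finite.one_lt_card_iff_nontrivial.mp (by omega)
  have hprim : MulAction.IsPreprimitive G (Sylow 7 G) := by
    apply (MulAction.isCoatom_stabilizer_iff_preprimitive G P).mp
    have : MulAction.stabilizer G P = Subgroup.normalizer ((P : Subgroup G) : Set G) :=
      Sylow.stabilizer_eq_normalizer P
    rw [this]
    exact isCoatom_normalizer h15 P
  -- transitivity of ⟨x⟩ on the complement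
  have hcompl : ∀ β, β ∉ s → ∀ β', β' ∉ s → ∃ i : ℕ, x ^ i • β = β' := by
    intro β hβ β' hβ'
    have hxβ : x • β ≠ β := fun h => hβ ((hmem β).mpr h)
    have hinj : Function.Injective (fun i : Fin 7 => x ^ (i : ℕ) • β) := by
      have key : ∀ i j : Fin 7, (i : ℕ) < (j : ℕ) → x ^ (i : ℕ) • β ≠ x ^ (j : ℕ) • β := by
        intro i j hij h
        have h1 : x ^ ((j : ℕ) - (i : ℕ)) • β = β := by
          have e : x ^ (j : ℕ) = x ^ (i : ℕ) * x ^ ((j : ℕ) - (i : ℕ)) := by
            rw [← pow_add]; congr 1; omega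
          rw [e, mul_smul] at h
          exact (smul_left_cancel _ h).symm
        have hcop : Nat.Coprime ((j : ℕ) - (i : ℕ)) (orderOf x) := by
          rw [hx7]
          apply Nat.Coprime.symm
          rw [Nat.Prime.coprime_iff_not_dvd (by norm_num)]
          intro hd
          have := Nat.le_of_dvd (by omega) hd
          have := j.2
          omega
        obtain ⟨m, hm⟩ := exists_pow_eq_self_of_coprime hcop
        apply hxβ
        rw [← hm]
        exact pow_smul_eq _ β h1 m
      intro i j h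
      by_contra hne
      rcases Nat.lt_or_gt_of_ne (fun h' => hne (Fin.ext h')) with hlt | hlt
      · exact key i j hlt h
      · exact key j i hlt h.symm
    have hsub : Set.range (fun i : Fin 7 => x ^ (i : ℕ) • β) ⊆ sᶜ := by
      rintro _ ⟨i, rfl⟩
      intro h
      have h1 : x • (x ^ (i : ℕ) • β) = x ^ (i : ℕ) • β := (hmem _).mp h
      rw [smul_smul, ← pow_succ', pow_succ, mul_smul] at h1
      exact hxβ (smul_left_cancel _ h1)
    have hcard : (Set.range (fun i : Fin 7 => x ^ (i : ℕ) • β)).ncard = 7 := by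
      rw [← Set.image_univ, Set.ncard_image_of_injective _ hinj, Set.ncard_univ]
      simp
    have heq : Set.range (fun i : Fin 7 => x ^ (i : ℕ) • β) = sᶜ :=
      Set.eq_of_subset_of_ncard_le hsub (by rw [hcard, hc7]) (Set.toFinite _)
    have : β' ∈ Set.range (fun i : Fin 7 => x ^ (i : ℕ) • β) := by rw [heq]; exact hβ'
    obtain ⟨i, hi⟩ := this
    exact ⟨i, hi⟩
  have hx_fix : x ∈ fixingSubgroup G s := by
    rw [mem_fixingSubgroup_iff]
    intro y hy
    exact (hmem y).mp hy
  have hJ : MulAction.IsMultiplyPreprimitive G (Sylow 7 G) (7 + 2) := by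
    apply hprim.isMultiplyPreprimitive (s := s) (n := 7)
    · exact h8
    · rw [h15]; norm_num
    · have htrans : MulAction.IsPretransitive (fixingSubgroup G s)
          (SubMulAction.ofFixingSubgroup G s) := by
        constructor
        rintro ⟨β, hβ⟩ ⟨β', hβ'⟩
        rw [SubMulAction.mem_ofFixingSubgroup_iff] at hβ hβ'
        obtain ⟨i, hi⟩ := hcompl β hβ β' hβ'
        refine ⟨⟨x, hx_fix⟩ ^ i, ?_⟩
        apply Subtype.ext
        exact hi
      apply MulAction.IsPreprimitive.of_prime_card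
      have : Nat.card (SubMulAction.ofFixingSubgroup G s) = (sᶜ).ncard := Nat.card_coe_set_eq sᶜ
      rw [this, hc7]
      norm_num
  have h9 : MulAction.IsMultiplyPretransitive G (Sylow 7 G) (7 + 2) := inferInstance
  have h3 : MulAction.IsMultiplyPretransitive G (Sylow 7 G) 3 :=
    MulAction.isMultiplyPretransitive_of_le (n := 7 + 2) (by norm_num) (by rw [h15]; norm_num)
  obtain ⟨α', hα's, hα'P, hα'Q⟩ : ∃ α' ∈ s, α' ≠ P ∧ α' ≠ Q := by
    by_contra hcon
    push Not at hcon
    have hsub : s ⊆ {P, Q} := by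
      intro a ha
      by_cases h : a = P
      · left; exact h
      · right; exact hcon a ha h
    have := Set.ncard_le_ncard hsub (Set.toFinite _)
    rw [h8, Set.ncard_pair (Ne.symm hQ)] at this
    omega
  obtain ⟨β, hβ⟩ : ∃ β, β ∉ s := by
    by_contra hcon
    push Not at hcon
    have : s = Set.univ := Set.eq_univ_of_forall hcon
    rw [this, Set.ncard_univ, h15] at h8
    omega
  have hβP : β ≠ P := fun h => hβ (h ▸ hPs)
  have hβQ : β ≠ Q := fun h => hβ (h ▸ hQs)
  let e₁ : Fin 3 ↪ Sylow 7 G := ⟨![P, Q, α'], by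
    intro i j h
    fin_cases i <;> fin_cases j <;> simp_all⟩
  let e₂ : Fin 3 ↪ Sylow 7 G := ⟨![P, Q, β], by
    intro i j h
    fin_cases i <;> fin_cases j <;> simp_all⟩
  obtain ⟨g, hg⟩ := h3.exists_smul_eq e₁ e₂
  have hgP : g • P = P := by
    have := congrArg (fun e : Fin 3 ↪ Sylow 7 G => e 0) hg
    exact this
  have hgQ : g • Q = Q := by
    have := congrArg (fun e : Fin 3 ↪ Sylow 7 G => e 1) hg
    exact this
  have hgα : g • α' = β := by
    have := congrArg (fun e : Fin 3 ↪ Sylow 7 G => e 2) hg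
    exact this
  have hgNP : g ∈ Subgroup.normalizer ((P : Subgroup G) : Set G) := (smul_eq_iff g P).mp hgP
  have hgNQ : g ∈ Subgroup.normalizer ((Q : Subgroup G) : Set G) := (smul_eq_iff g Q).mp hgQ
  obtain ⟨y, hy⟩ : ∃ y, y = g * x * g⁻¹ := ⟨_, rfl⟩
  have hyP : y ∈ (P : Subgroup G) := hy ▸ (Subgroup.mem_normalizer_iff.mp hgNP x).mp hxP
  have hyQ : y ∈ (Q : Subgroup G) := hy ▸ (Subgroup.mem_normalizer_iff.mp hgNQ x).mp hxQ
  have hyD : y ∈ ((P : Subgroup G) ⊓ Q : Subgroup G) := Subgroup.mem_inf.mpr ⟨hyP, hyQ⟩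
  have hy1 : y ≠ 1 := by
    intro h
    apply hx1
    have : g * x * g⁻¹ = 1 := hy ▸ h
    calc x = g⁻¹ * (g * x * g⁻¹) * g := by group
      _ = 1 := by rw [this]; group
  have hyβ : y • β = β := by
    have e : y * g = g * x := by rw [hy]; group
    rw [← hgα, smul_smul, e, ← smul_smul, (hmem α').mp hα's]
  have hy7 : orderOf y = 7 := hprime_elt y hyD hy1
  have hzy : Subgroup.zpowers y = ((P : Subgroup G) ⊓ Q : Subgroup G) := by
    apply Subgroup.eq_of_le_of_card_ge (Subgroup.zpowers_le.mpr hyD)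
    rw [Nat.card_zpowers, hy7, hD]
  have hxy : x ∈ Subgroup.zpowers y := hzy ▸ hxD
  obtain ⟨k, hk⟩ := Subgroup.mem_zpowers_iff.mp hxy
  apply hβ
  rw [hmem, ← hk]
  exact zpow_smul_eq y β hyβ k

theorem simple_ne [IsSimpleGroup G] : Nat.card (Sylow 7 G) ≠ 15 := by
  intro h15
  have : Fact (Nat.Prime 7) := ⟨by norm_num⟩
  obtain ⟨P⟩ : Nonempty (Sylow 7 G) := inferInstance
  have hk := P.card_eq_multiplicity
  obtain ⟨k, hkdef⟩ : ∃ k, k = (Nat.card G).factorization 7 := ⟨_, rfl⟩
  rw [← hkdef] at hk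
  have hk1 : k ≠ 0 := by
    rintro rfl
    have hsub : Subsingleton (Sylow 7 G) := by
      constructor
      intro A B
      apply Sylow.ext
      have hA := A.card_eq_multiplicity
      have hB := B.card_eq_multiplicity
      rw [← hkdef, pow_zero] at hA hB
      rw [Subgroup.card_eq_one.mp hA, Subgroup.card_eq_one.mp hB]
    have := Finite.card_le_one_iff_subsingleton.mpr hsub
    omega
  have hk2 : k ≤ 2 := by
    by_contra h
    push Not at h
    have hinj : Function.Injective
        ((MulAction.toPermHom G (Sylow 7 G)).comp (P : Subgroup G).subtype) := by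
      rw [injective_iff_map_eq_one]
      intro a ha
      apply Subtype.ext
      apply faithful (p := 7) (by omega)
      intro Q
      have := congrArg (fun σ : Equiv.Perm (Sylow 7 G) => σ Q) ha
      simpa using this
    have key := Subgroup.card_dvd_of_injective _ hinj
    rw [Nat.card_perm, h15, hk] at key
    have h3 : 7 ^ 3 ∣ Nat.factorial 15 := (pow_dvd_pow 7 h).trans key
    norm_num [Nat.factorial] at h3
  rcases (by omega : k = 1 ∨ k = 2) with h | h
  · apply case7 h15
    intro P'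
    rw [P'.card_eq_multiplicity, ← hkdef, h, pow_one]
  · exact case49 h15 P (by rw [hk, h]; norm_num)

theorem result' {G : Type*} [Group G] [Finite G] : Nat.card (Sylow 7 G) ≠ 15 := by
  intro h15
  have : Fact (Nat.Prime 7) := ⟨by norm_num⟩
  obtain ⟨l, hl, hl'⟩ := Cfsg.Agent.S4303.result (G := G) 7
  have hall : ∀ m ∈ l, m = 1 := by
    intro m hm
    have hd : m ∣ 15 := by rw [← h15, ← hl]; exact List.dvd_prod hm
    have hmod : m % 7 = 1 := by
      rcases hl' m hm with ⟨_, h⟩ | ⟨S, _, _, hS, h⟩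
      · exact h
      · rw [h]; exact card_sylow_modEq_one 7 S
    rcases dvd15 m hd hmod with h | h
    · exact h
    · exfalso
      rcases hl' m hm with ⟨hpp, _⟩ | ⟨S, _, _, hS, h'⟩
      · rw [h] at hpp
        rw [isPrimePow_nat_iff] at hpp
        obtain ⟨p, k, hp, hk, hpk⟩ := hpp
        have h3 : (3 : ℕ) ∣ p ^ k := by rw [hpk]; norm_num
        have h5 : (5 : ℕ) ∣ p ^ k := by rw [hpk]; norm_num
        have e3 := (Nat.prime_dvd_prime_iff_eq (by norm_num) hp).mp
          (Nat.Prime.dvd_of_dvd_pow (by norm_num) h3)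
        have e5 := (Nat.prime_dvd_prime_iff_eq (by norm_num) hp).mp
          (Nat.Prime.dvd_of_dvd_pow (by norm_num) h5)
        omega
      · exact simple_ne (G := S) (h' ▸ h)
  have : l.prod = 1 := List.prod_eq_one hall
  omega

end S4304aux

/-- No finite group has exactly 15 Sylow 7-subgroups. -/
theorem result {G : Type*} [Group G] [Finite G] : Nat.card (Sylow 7 G) ≠ 15 := by
  exact result'

end Cfsg.Agent.S4304
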