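import Cfsg.Statements.S4236
-- import your own Cfsg.Agent.* helpers here
import Mathlib
import Cfsg.Agent.S4303
import Cfsg.Agent.S4304
import Cfsg.Agent.S4341

set_option autoImplicit false
open Cfsg

namespace Cfsg.Agent.S4236

section S4236aux

open Cfsg.Agent.S4304 (faithful smul_eq_iff mem_of_smul_eq burnside_simple index_normalizer inf_eq_bot_of_card_prime pow_smul_eq zpow_smul_eq exists_ne_sylow le_centralizer_of_card_prime relIndex_dvd)

variable {G : Type*} [Group G] [Finite G]

theorem dvd15 (n : ℕ) (hd : n ∣ 35) (hm : n % 17 = 1) : n = 1 ∨ n = 35 := by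
  have : n ≤ 35 := Nat.le_of_dvd (by norm_num) hd
  interval_cases n <;> first | omega | (norm_num at hd) | (norm_num at hm)


/-- normalizer of a Sylow 17 is maximal when there are 35 of them -/
theorem isCoatom_normalizer [Fact (Nat.Prime 17)] (h15 : Nat.card (Sylow 17 G) = 35) (P : Sylow 17 G) :
    IsCoatom (Subgroup.normalizer ((P : Subgroup G) : Set G)) := by
  have hidx : (Subgroup.normalizer ((P : Subgroup G) : Set G)).index = 35 := by
    rw [index_normalizer, h15]
  constructor
  · intro h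
    rw [h, Subgroup.index_top] at hidx
    omega
  · intro H hH
    have hPH : (P : Subgroup G) ≤ H := le_trans Subgroup.le_normalizer hH.le
    have h1 := Cfsg.Agent.S4341.card_sylow_of_le P H hPH
    have h2 : Nat.card (Sylow 17 H) ≡ 1 [MOD 17] := card_sylow_modEq_one 17 H
    have h3 := Subgroup.relIndex_mul_index hH.le
    rw [hidx, ← h1] at h3
    have h4 : Nat.card (Sylow 17 H) ∣ 35 := Dvd.intro _ h3
    rcases dvd15 _ h4 h2 with h6 | h6
    · exfalso
      rw [h6] at h1
      have := Subgroup.relIndex_eq_one.mp h1.symm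
      exact absurd (le_antisymm hH.le this) hH.ne
    · rw [h6] at h3
      have : H.index = 1 := by omega
      exact Subgroup.index_eq_one.mp this


theorem fix_unique [IsSimpleGroup G] [Fact (Nat.Prime 17)] (h15 : Nat.card (Sylow 17 G) = 35)
    (P : Sylow 17 G) (hc : Nat.card (P : Subgroup G) = 17) (c : G)
    (hcC : c ∈ Subgroup.centralizer ((P : Subgroup G) : Set G))
    (hc1 : c ≠ 1) (Q : Sylow 17 G) (hQ : c • Q = Q) : Q = P := by
  by_contra hne
  have hord : orderOf c ≠ 1 := fun h => hc1 (orderOf_eq_one_iff.mp h)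
  obtain ⟨r, hr⟩ : ∃ r, r = (orderOf c).minFac := ⟨_, rfl⟩
  have hrp : r.Prime := hr ▸ Nat.minFac_prime hord
  have hrd : r ∣ orderOf c := hr ▸ Nat.minFac_dvd _
  obtain ⟨c', hc'⟩ : ∃ c', c' = c ^ (orderOf c / r) := ⟨_, rfl⟩
  have hord' : orderOf c' = r := hc' ▸ orderOf_pow_orderOf_div (orderOf_pos c).ne' hrd
  have hc'C : c' ∈ Subgroup.centralizer ((P : Subgroup G) : Set G) := hc' ▸ Subgroup.pow_mem _ hcC _
  have hc'Q : c' • Q = Q := hc' ▸ pow_smul_eq c Q hQ _
  have hc'N : c' ∈ Subgroup.normalizer ((P : Subgroup G) : Set G) :=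
    Subgroup.centralizer_le_normalizer _ hc'C
  have hc'P : c' • P = P := (smul_eq_iff c' P).mpr hc'N
  have hc'1 : c' ≠ 1 := by
    intro h
    rw [h, orderOf_one] at hord'
    exact hrp.one_lt.ne hord'
  have : Fact r.Prime := ⟨hrp⟩
  have hzp : IsPGroup r (Subgroup.zpowers c') := by
    apply IsPGroup.of_card (n := 1)
    rw [Nat.card_zpowers, hord', pow_one]
  obtain ⟨s, hs⟩ : ∃ s : Set (Sylow 17 G), s = MulAction.fixedPoints (Subgroup.zpowers c') (Sylow 17 G) :=
    ⟨_, rfl⟩
  have hmem : ∀ Q' : Sylow 17 G, Q' ∈ s ↔ c' • Q' = Q' := by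
    intro Q'
    rw [hs, MulAction.mem_fixedPoints]
    constructor
    · intro h
      exact h ⟨c', Subgroup.mem_zpowers c'⟩
    · intro h z
      have h1 : c' ∈ MulAction.stabilizer G Q' := MulAction.mem_stabilizer_iff.mpr h
      have h2 : (z : G) ∈ MulAction.stabilizer G Q' := (Subgroup.zpowers_le.mpr h1) z.2
      exact MulAction.mem_stabilizer_iff.mp h2
  have hcount1 : Nat.card (Sylow 17 G) ≡ s.ncard [MOD r] := by
    have := hzp.card_modEq_card_fixedPoints (Sylow 17 G)
    rw [← hs, Nat.card_coe_set_eq] at this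
    exact this
  -- P-invariance
  let T : SubMulAction (↥(P : Subgroup G)) (Sylow 17 G) :=
    { carrier := s
      smul_mem' := by
        intro y Q' hQ'
        have hQ'' : c' • Q' = Q' := (hmem Q').mp hQ'
        apply (hmem _).mpr
        have hcomm : (y : G) * c' = c' * y := (Subgroup.mem_centralizer_iff.mp hc'C) y y.2
        show c' • ((y : G) • Q') = (y : G) • Q'
        rw [smul_smul, ← hcomm, ← smul_smul, hQ''] }
  have hcount2 : Nat.card T ≡ Nat.card (MulAction.fixedPoints (↥(P : Subgroup G)) T) [MOD 17] :=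
    P.2.card_modEq_card_fixedPoints T
  have hT : Nat.card T = s.ncard := Nat.card_coe_set_eq s
  have hfix : Nat.card (MulAction.fixedPoints (↥(P : Subgroup G)) T) = 1 := by
    rw [Nat.card_eq_one_iff_exists]
    refine ⟨⟨⟨P, (hmem P).mpr hc'P⟩, ?_⟩, ?_⟩
    · intro y
      apply Subtype.ext
      show (y : G) • P = P
      exact (smul_eq_iff _ P).mpr (Subgroup.le_normalizer y.2)
    · rintro ⟨⟨Q', hQ'⟩, hfx⟩
      apply Subtype.ext
      apply Subtype.ext
      show Q' = P
      have h1 : Q' ∈ MulAction.fixedPoints (↥(P : Subgroup G)) (Sylow 17 G) := by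
        intro y
        have := congrArg (fun t : T => (t : Sylow 17 G)) (hfx y)
        exact this
      have h2 : (P : Subgroup G) ≤ Q' := (P.2.sylow_mem_fixedPoints_iff).mp h1
      exact Sylow.ext (P.3 Q'.2 h2)
  rw [hT, hfix] at hcount2
  have hPs : P ∈ s := (hmem P).mpr hc'P
  have hQs : Q ∈ s := (hmem Q).mpr hc'Q
  have h2le : 2 ≤ s.ncard := by
    have h1 : ({P, Q} : Set (Sylow 17 G)) ⊆ s := by
      intro x hx
      rcases hx with rfl | rfl
      · exact hPs
      · exact hQs
    have h2 := Set.ncard_le_ncard h1 (Set.toFinite s)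
    rw [Set.ncard_pair (Ne.symm hne)] at h2
    exact h2
  have hlt : s.ncard < 35 := by
    have hne' : s ≠ Set.univ := by
      intro h
      apply hc'1
      apply faithful (p := 17) (by omega)
      intro Q'
      exact (hmem Q').mp (h ▸ Set.mem_univ Q')
    have h1 : s ⊂ Set.univ := Set.ssubset_univ_iff.mpr hne'
    have h2 := Set.ncard_lt_ncard h1 (Set.toFinite _)
    rw [Set.ncard_univ, h15] at h2
    exact h2
  have h8 : s.ncard = 18 := by
    unfold Nat.ModEq at hcount2
    omega
  rw [h8, h15] at hcount1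
  have hr7 : r ∣ 17 := by
    have := (Nat.modEq_iff_dvd' (by norm_num : 18 ≤ 35)).mp hcount1.symm
    simpa using this
  have hr7' : r = 17 := (Nat.prime_dvd_prime_iff_eq hrp (by norm_num)).mp hr7
  rw [hr7'] at hzp
  have hcP : c' ∈ (P : Subgroup G) := mem_of_smul_eq c' hzp P hc'P
  have hcQ : c' ∈ (Q : Subgroup G) := mem_of_smul_eq c' hzp Q hc'Q
  have hbot := inf_eq_bot_of_card_prime P Q hc hne
  have : c' ∈ (P : Subgroup G) ⊓ Q := Subgroup.mem_inf.mpr ⟨hcP, hcQ⟩
  rw [hbot] at this
  exact hc'1 (Subgroup.mem_bot.mp this)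


theorem card_centralizer_dvd [IsSimpleGroup G] [Fact (Nat.Prime 17)] (h15 : Nat.card (Sylow 17 G) = 35)
    (P : Sylow 17 G) (hc : Nat.card (P : Subgroup G) = 17) :
    Nat.card (Subgroup.centralizer ((P : Subgroup G) : Set G)) ∣ 34 := by
  have hPC := le_centralizer_of_card_prime (P : Subgroup G) hc
  have h7 : 17 ∣ Nat.card (Subgroup.centralizer ((P : Subgroup G) : Set G)) := by
    have := Subgroup.card_dvd_of_le hPC
    rw [hc] at this; exact this
  obtain ⟨Q, hQ⟩ : ∃ Q : Sylow 17 G, Q ≠ P := by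
    by_contra h; push Not at h
    have : Subsingleton (Sylow 17 G) := ⟨fun a b => (h a).trans (h b).symm⟩
    have := Finite.card_le_one_iff_subsingleton.mpr this; omega
  have hinj : Function.Injective
      (fun c : Subgroup.centralizer ((P : Subgroup G) : Set G) => (c : G) • Q) := by
    intro a b hab
    have hab' : (a : G) • Q = (b : G) • Q := hab
    have h1 : ((a : G)⁻¹ * b) • Q = Q := by rw [mul_smul, ← hab', inv_smul_smul]
    by_contra hne
    have h2 : (a : G)⁻¹ * b ≠ 1 := by
      intro h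
      apply hne
      apply Subtype.ext
      exact inv_mul_eq_one.mp h
    exact hQ (fix_unique h15 P hc _ (Subgroup.mul_mem _ (Subgroup.inv_mem _ a.2) b.2) h2 Q h1)
  have hle : Nat.card (Subgroup.centralizer ((P : Subgroup G) : Set G)) ≤ 34 := by
    have h1 : Set.range (fun c : Subgroup.centralizer ((P : Subgroup G) : Set G) => (c : G) • Q)
        ⊆ ({P} : Set (Sylow 17 G))ᶜ := by
      rintro _ ⟨c, rfl⟩
      intro h
      have h' : (c : G) • Q = P := h
      have hcP : (c : G) • P = P :=
        (smul_eq_iff _ P).mpr (Subgroup.centralizer_le_normalizer _ c.2)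
      apply hQ
      have : (c : G) • Q = (c : G) • P := by rw [h', hcP]
      exact smul_left_cancel _ this
    have h2 := Set.ncard_le_ncard h1 (Set.toFinite _)
    rw [Set.ncard_compl, Set.ncard_singleton, h15, ← Set.image_univ,
      Set.ncard_image_of_injective _ hinj, Set.ncard_univ] at h2
    exact h2
  obtain ⟨k, hk⟩ := h7
  rw [hk] at hle ⊢
  have hk0 : k ≠ 0 := by
    rintro rfl
    have : 0 < Nat.card (Subgroup.centralizer ((P : Subgroup G) : Set G)) := Nat.card_pos
    omega
  have : k = 1 ∨ k = 2 := by omega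
  rcases this with rfl | rfl <;> norm_num



theorem sign_invol [IsSimpleGroup G] [Fact (Nat.Prime 17)] (h15 : Nat.card (Sylow 17 G) = 35)
    (P : Sylow 17 G) (z : G) (hz : orderOf z = 2)
    (hfix : ∀ Q : Sylow 17 G, z • Q = Q ↔ Q = P) : False := by
  classical
  have : Fintype (Sylow 17 G) := Fintype.ofFinite _
  set σ : Equiv.Perm (Sylow 17 G) := MulAction.toPermHom G (Sylow 17 G) z with hσ
  have hσQ : ∀ Q, σ Q = z • Q := fun Q => rfl
  have hσ2 : σ ^ 2 = 1 := by
    rw [hσ, ← map_pow, ← hz, pow_orderOf_eq_one, map_one]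
  have hσ1 : σ ≠ 1 := by
    intro h
    obtain ⟨Q, hQ⟩ := exists_ne_sylow (by omega : 1 < Nat.card (Sylow 17 G)) P
    apply hQ
    rw [← hfix, ← hσQ, h]; rfl
  have hord : orderOf σ = 2 := orderOf_eq_prime hσ2 hσ1
  obtain ⟨n, hn⟩ := Equiv.Perm.cycleType_prime_order (σ := σ) (by rw [hord]; exact Nat.prime_two)
  rw [hord] at hn
  have hcard : Multiset.card σ.cycleType = n + 1 := by rw [hn, Multiset.card_replicate]
  have hsign := Equiv.Perm.sign_of_cycleType_eq_replicate (σ := σ) (n := 2) (by norm_num)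
    (by rw [hcard]; exact hn)
  have hfp : Fintype.card (Function.fixedPoints σ) = 1 := by
    rw [Fintype.card_eq_one_iff]
    refine ⟨⟨P, (hfix P).mpr rfl⟩, ?_⟩
    rintro ⟨Q, hQ⟩
    apply Subtype.ext
    exact (hfix Q).mp hQ
  have hF : Fintype.card (Sylow 17 G) = 35 := by rw [← Nat.card_eq_fintype_card]; exact h15
  rw [hfp, hF, if_neg (by decide)] at hsign
  have hsign' : Equiv.Perm.sign σ = -1 := by rw [hsign]; decide
  let ψ : G →* ℤˣ := Equiv.Perm.sign.comp (MulAction.toPermHom G (Sylow 17 G))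
  rcases Subgroup.Normal.eq_bot_or_eq_top (inferInstance : ψ.ker.Normal) with hK | hK
  · have hinj : Function.Injective ψ := (MonoidHom.ker_eq_bot_iff ψ).mp hK
    have h1 := Nat.card_le_card_of_injective ψ hinj
    have h2 : Nat.card ℤˣ = 2 := by rw [Nat.card_eq_fintype_card]; rfl
    have h3 : 35 ≤ Nat.card G := by
      have := Subgroup.index_mul_card (Subgroup.normalizer ((P : Subgroup G) : Set G))
      rw [index_normalizer, h15] at this
      have hpos : 0 < Nat.card (Subgroup.normalizer ((P : Subgroup G) : Set G)) := Nat.card_pos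
      nlinarith
    omega
  · have hzk : z ∈ ψ.ker := by rw [hK]; trivial
    rw [MonoidHom.mem_ker] at hzk
    have h1 : Equiv.Perm.sign σ = 1 := hzk
    rw [hsign'] at h1
    exact absurd h1 (by decide)

theorem case17 [IsSimpleGroup G] [Fact (Nat.Prime 17)] (h15 : Nat.card (Sylow 17 G) = 35)
    (hc17 : ∀ P : Sylow 17 G, Nat.card (P : Subgroup G) = 17) : False := by
  have hp2 : Fact (Nat.Prime 2) := ⟨Nat.prime_two⟩
  obtain ⟨U⟩ : Nonempty (Sylow 2 G) := inferInstance
  obtain ⟨P, hUP⟩ : ∃ P : Sylow 17 G,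
      (U : Subgroup G) ≤ Subgroup.normalizer ((P : Subgroup G) : Set G) := by
    have h1 := U.2.card_modEq_card_fixedPoints (Sylow 17 G)
    rw [h15] at h1
    have h2 : Nat.card (MulAction.fixedPoints (U : Subgroup G) (Sylow 17 G)) ≠ 0 := by
      intro h; rw [h] at h1; unfold Nat.ModEq at h1; omega
    have h3 : Nonempty (MulAction.fixedPoints (U : Subgroup G) (Sylow 17 G)) := by
      by_contra hem
      rw [not_nonempty_iff] at hem
      exact h2 Nat.card_of_isEmpty
    obtain ⟨⟨P, hP⟩⟩ := h3
    exact ⟨P, ((U : Subgroup G).sylow_mem_fixedPoints_iff).mp hP⟩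
  have hC := card_centralizer_dvd h15 P (hc17 P)
  have he := relIndex_dvd P (hc17 P)
  have hPb : (P : Subgroup G) ≠ ⊥ := by
    intro h
    have := hc17 P
    rw [h, Subgroup.card_bot] at this; omega
  have hPt : (P : Subgroup G) ≠ ⊤ := by
    intro h
    have h1 := index_normalizer P
    rw [h15] at h1
    have h2 : Subgroup.normalizer ((P : Subgroup G) : Set G) = ⊤ :=
      top_le_iff.mp (h ▸ Subgroup.le_normalizer)
    rw [h2, Subgroup.index_top] at h1
    omega
  have hPB := burnside_simple P hPb hPt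
  have hnoinv : ∀ z ∈ Subgroup.centralizer ((P : Subgroup G) : Set G), orderOf z ≠ 2 := by
    intro z hz hz2
    apply sign_invol h15 P z hz2
    intro Q
    constructor
    · intro h
      exact fix_unique h15 P (hc17 P) z hz (by rintro rfl; rw [orderOf_one] at hz2; omega) Q h
    · rintro rfl
      exact (smul_eq_iff z Q).mpr (Subgroup.centralizer_le_normalizer _ hz)
  have hUC : ∀ u ∈ (U : Subgroup G),
      u ∈ Subgroup.centralizer ((P : Subgroup G) : Set G) → u = 1 := by
    intro u hu huC
    have h1 : orderOf u ∣ 34 := by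
      have := orderOf_dvd_natCard (⟨u, huC⟩ : Subgroup.centralizer ((P : Subgroup G) : Set G))
      rw [Subgroup.orderOf_mk] at this
      exact this.trans hC
    obtain ⟨k, hk⟩ := U.2 ⟨u, hu⟩
    have hk' : u ^ 2 ^ k = 1 := by
      have := congrArg Subtype.val hk
      simpa using this
    have h2 : orderOf u ∣ 2 ^ k := orderOf_dvd_of_pow_eq_one hk'
    obtain ⟨j, -, hj⟩ := (Nat.dvd_prime_pow Nat.prime_two).mp h2
    have hj1 : j ≤ 1 := by
      by_contra hj2
      push Not at hj2
      have : 2 ^ 2 ∣ 34 := (pow_dvd_pow 2 hj2).trans (hj ▸ h1)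
      norm_num at this
    interval_cases j
    · rw [pow_zero] at hj; exact orderOf_eq_one_iff.mp hj
    · rw [pow_one] at hj; exact absurd hj (hnoinv u huC)
  have hUcyc : IsCyclic (U : Subgroup G) := by
    have hPc : IsCyclic (P : Subgroup G) := isCyclic_of_prime_card (p := 17) (hc17 P)
    have hA : IsCyclic (MulAut (P : Subgroup G)) := by
      have e := IsCyclic.mulAutMulEquiv (P : Subgroup G)
      rw [hc17 P] at e
      exact isCyclic_of_injective e.toMonoidHom e.injective
    apply isCyclic_of_injective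
      ((P : Subgroup G).normalizerMonoidHom.comp (Subgroup.inclusion hUP))
    rw [injective_iff_map_eq_one]
    intro u hu
    have h1 : Subgroup.inclusion hUP u ∈ (P : Subgroup G).normalizerMonoidHom.ker := hu
    rw [Subgroup.normalizerMonoidHom_ker, Subgroup.mem_subgroupOf] at h1
    apply Subtype.ext
    exact hUC u u.2 h1
  by_cases h2G : 2 ∣ Nat.card G
  · have hUb : (U : Subgroup G) ≠ ⊥ := by
      intro h
      have h1 := U.card_eq_multiplicity
      rw [h, Subgroup.card_bot] at h1
      have h2 : 1 ≤ (Nat.card G).factorization 2 :=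
        (Nat.Prime.dvd_iff_one_le_factorization Nat.prime_two Nat.card_pos.ne').mp h2G
      have : 2 ^ 1 ≤ 2 ^ (Nat.card G).factorization 2 := Nat.pow_le_pow_right (by norm_num) h2
      omega
    have hUt : (U : Subgroup G) ≠ ⊤ := by
      intro h
      have h1 := U.card_eq_multiplicity
      have h2 : Nat.card (P : Subgroup G) ∣ Nat.card (U : Subgroup G) :=
        Subgroup.card_dvd_of_le (by rw [h]; exact le_top)
      rw [hc17 P, h1] at h2
      have := Nat.Prime.dvd_of_dvd_pow (by norm_num : Nat.Prime 17) h2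
      norm_num at this
    have hmin : (Nat.card G).minFac = 2 := (Nat.minFac_eq_two_iff _).mpr h2G
    exact burnside_simple U hUb hUt (IsCyclic.normalizer_le_centralizer hmin hUcyc)
  · apply hPB
    apply Subgroup.relIndex_eq_one.mp
    have h3 : (Subgroup.centralizer ((P : Subgroup G) : Set G)).relIndex
        (Subgroup.normalizer ((P : Subgroup G) : Set G)) ∣ Nat.card G :=
      (Subgroup.relIndex_dvd_card _ _).trans (Subgroup.card_subgroup_dvd_card _)
    have h4 : Nat.Coprime (17 - 1) (Nat.card G) := by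
      have : Nat.Coprime 2 (Nat.card G) := (Nat.Prime.coprime_iff_not_dvd Nat.prime_two).mpr h2G
      exact Nat.Coprime.pow_left 4 this
    exact Nat.eq_one_of_dvd_coprimes h4 he h3

theorem case49 [IsSimpleGroup G] [Fact (Nat.Prime 17)] (h15 : Nat.card (Sylow 17 G) = 35)
    (P : Sylow 17 G) (hc : Nat.card (P : Subgroup G) = 289) : False := by
  obtain ⟨Q, hQ⟩ := exists_ne_sylow (by omega : 1 < Nat.card (Sylow 17 G)) P
  have hD : Nat.card ((P : Subgroup G) ⊓ Q : Subgroup G) = 17 := by
    have h1 : Nat.card ((P : Subgroup G) ⊓ Q : Subgroup G) ∣ 17 ^ 2 := by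
      rw [show (17 : ℕ) ^ 2 = 289 from rfl, ← hc]; exact Subgroup.card_dvd_of_le inf_le_left
    obtain ⟨j, hj, hj'⟩ := (Nat.dvd_prime_pow (by norm_num)).mp h1
    have hj0 : j ≠ 0 := by
      rintro rfl
      rw [pow_zero] at hj'
      have hbot : (P : Subgroup G) ⊓ Q = ⊥ := Subgroup.card_eq_one.mp hj'
      have hinj : Function.Injective (fun y : (P : Subgroup G) => (y : G) • Q) := by
        intro a b hab
        have hab' : (a : G) • Q = (b : G) • Q := hab
        have h2 : ((a : G)⁻¹ * b) • Q = Q := by rw [mul_smul, ← hab', inv_smul_smul]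
        have h3 : (a : G)⁻¹ * b ∈ (P : Subgroup G) := Subgroup.mul_mem _ (Subgroup.inv_mem _ a.2) b.2
        have h4 : (a : G)⁻¹ * b ∈ (Q : Subgroup G) :=
          mem_of_smul_eq _ (P.2.to_le (Subgroup.zpowers_le.mpr h3)) Q h2
        have h5 : (a : G)⁻¹ * b ∈ (P : Subgroup G) ⊓ Q := Subgroup.mem_inf.mpr ⟨h3, h4⟩
        rw [hbot] at h5
        apply Subtype.ext
        exact inv_mul_eq_one.mp (Subgroup.mem_bot.mp h5)
      have := Nat.card_le_card_of_injective _ hinj
      rw [hc, h15] at this
      omega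
    have hj2 : j ≠ 2 := by
      rintro rfl
      have h4 : (P : Subgroup G) ⊓ Q = P :=
        Subgroup.eq_of_le_of_card_ge inf_le_left (by rw [hj', hc]; norm_num)
      have h5 : (P : Subgroup G) ≤ Q := inf_eq_left.mp h4
      exact hQ (Sylow.ext (P.3 Q.2 h5))
    have : j = 1 := by omega
    rw [hj', this, pow_one]
  obtain ⟨x, hxD, hx1⟩ : ∃ x ∈ ((P : Subgroup G) ⊓ Q : Subgroup G), x ≠ 1 := by
    by_contra hcon
    push Not at hcon
    have : (P : Subgroup G) ⊓ Q = ⊥ := (Subgroup.eq_bot_iff_forall _).mpr hcon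
    rw [this, Subgroup.card_bot] at hD
    omega
  have hxP : x ∈ (P : Subgroup G) := (Subgroup.mem_inf.mp hxD).1
  have hxQ : x ∈ (Q : Subgroup G) := (Subgroup.mem_inf.mp hxD).2
  have hzp : IsPGroup 17 (Subgroup.zpowers x) := P.2.to_le (Subgroup.zpowers_le.mpr hxP)
  have hprime_elt : ∀ y ∈ ((P : Subgroup G) ⊓ Q : Subgroup G), y ≠ 1 → orderOf y = 17 := by
    intro y hy hy1
    have h1 : orderOf y ∣ 17 := by
      have := orderOf_dvd_natCard (⟨y, hy⟩ : ((P : Subgroup G) ⊓ Q : Subgroup G))
      rw [hD] at this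
      rwa [Subgroup.orderOf_mk] at this
    rcases (Nat.dvd_prime (by norm_num)).mp h1 with h | h
    · exact absurd (orderOf_eq_one_iff.mp h) hy1
    · exact h
  have hx7 : orderOf x = 17 := hprime_elt x hxD hx1
  have hxPfix : x • P = P := (smul_eq_iff x P).mpr (Subgroup.le_normalizer hxP)
  have hxQfix : x • Q = Q := (smul_eq_iff x Q).mpr (Subgroup.le_normalizer hxQ)
  obtain ⟨s, hs⟩ : ∃ s : Set (Sylow 17 G), s = MulAction.fixedPoints (Subgroup.zpowers x) (Sylow 17 G) :=
    ⟨_, rfl⟩
  have hmem : ∀ Q' : Sylow 17 G, Q' ∈ s ↔ x • Q' = Q' := by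
    intro Q'
    rw [hs, MulAction.mem_fixedPoints]
    constructor
    · intro h
      exact h ⟨x, Subgroup.mem_zpowers x⟩
    · intro h z
      have h1 : x ∈ MulAction.stabilizer G Q' := MulAction.mem_stabilizer_iff.mpr h
      have h2 : (z : G) ∈ MulAction.stabilizer G Q' := (Subgroup.zpowers_le.mpr h1) z.2
      exact MulAction.mem_stabilizer_iff.mp h2
  have hcount1 : Nat.card (Sylow 17 G) ≡ s.ncard [MOD 17] := by
    have := hzp.card_modEq_card_fixedPoints (Sylow 17 G)
    rw [← hs, Nat.card_coe_set_eq] at this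
    exact this
  have hPs : P ∈ s := (hmem P).mpr hxPfix
  have hQs : Q ∈ s := (hmem Q).mpr hxQfix
  have h2le : 2 ≤ s.ncard := by
    have h1 : ({P, Q} : Set (Sylow 17 G)) ⊆ s := by
      intro a ha
      rcases ha with rfl | rfl
      · exact hPs
      · exact hQs
    have h2 := Set.ncard_le_ncard h1 (Set.toFinite s)
    rw [Set.ncard_pair (Ne.symm hQ)] at h2
    exact h2
  have hlt : s.ncard < 35 := by
    have hne' : s ≠ Set.univ := by
      intro h
      apply hx1
      apply faithful (p := 17) (by omega)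
      intro Q'
      exact (hmem Q').mp (h ▸ Set.mem_univ Q')
    have h1 : s ⊂ Set.univ := Set.ssubset_univ_iff.mpr hne'
    have h2 := Set.ncard_lt_ncard h1 (Set.toFinite _)
    rw [Set.ncard_univ, h15] at h2
    exact h2
  have h8 : s.ncard = 18 := by
    rw [h15] at hcount1
    unfold Nat.ModEq at hcount1
    omega
  have hc7 : (sᶜ).ncard = 17 := by
    rw [Set.ncard_compl, h15, h8]
  -- primitivity
  have hnt : Nontrivial (Sylow 17 G) := Finite.one_lt_card_iff_nontrivial.mp (by omega)
  have hprim : MulAction.IsPreprimitive G (Sylow 17 G) := by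
    apply (MulAction.isCoatom_stabilizer_iff_preprimitive G P).mp
    have : MulAction.stabilizer G P = Subgroup.normalizer ((P : Subgroup G) : Set G) :=
      Sylow.stabilizer_eq_normalizer P
    rw [this]
    exact isCoatom_normalizer h15 P
  -- transitivity of ⟨x⟩ on the complement
  have hcompl : ∀ β, β ∉ s → ∀ β', β' ∉ s → ∃ i : ℕ, x ^ i • β = β' := by
    intro β hβ β' hβ'
    have hxβ : x • β ≠ β := fun h => hβ ((hmem β).mpr h)
    have hinj : Function.Injective (fun i : Fin 17 => x ^ (i : ℕ) • β) := by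
      have key : ∀ i j : Fin 17, (i : ℕ) < (j : ℕ) → x ^ (i : ℕ) • β ≠ x ^ (j : ℕ) • β := by
        intro i j hij h
        have h1 : x ^ ((j : ℕ) - (i : ℕ)) • β = β := by
          have e : x ^ (j : ℕ) = x ^ (i : ℕ) * x ^ ((j : ℕ) - (i : ℕ)) := by
            rw [← pow_add]; congr 1; omega
          rw [e, mul_smul] at h
          exact (smul_left_cancel _ h).symm
        have hcop : Nat.Coprime ((j : ℕ) - (i : ℕ)) (orderOf x) := by
          rw [hx7]
          apply Nat.Coprime.symm
          rw [Nat.Prime.coprime_iff_not_dvd (by norm_num)]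
          intro hd
          have := Nat.le_of_dvd (by omega) hd
          have := j.2
          omega
        obtain ⟨m, hm⟩ := exists_pow_eq_self_of_coprime hcop
        apply hxβ
        rw [← hm]
        exact pow_smul_eq _ β h1 m
      intro i j h
      by_contra hne
      rcases Nat.lt_or_gt_of_ne (fun h' => hne (Fin.ext h')) with hlt | hlt
      · exact key i j hlt h
      · exact key j i hlt h.symm
    have hsub : Set.range (fun i : Fin 17 => x ^ (i : ℕ) • β) ⊆ sᶜ := by
      rintro _ ⟨i, rfl⟩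
      intro h
      have h1 : x • (x ^ (i : ℕ) • β) = x ^ (i : ℕ) • β := (hmem _).mp h
      rw [smul_smul, ← pow_succ', pow_succ, mul_smul] at h1
      exact hxβ (smul_left_cancel _ h1)
    have hcard : (Set.range (fun i : Fin 17 => x ^ (i : ℕ) • β)).ncard = 17 := by
      rw [← Set.image_univ, Set.ncard_image_of_injective _ hinj, Set.ncard_univ]
      simp
    have heq : Set.range (fun i : Fin 17 => x ^ (i : ℕ) • β) = sᶜ :=
      Set.eq_of_subset_of_ncard_le hsub (by rw [hcard, hc7]) (Set.toFinite _)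
    have : β' ∈ Set.range (fun i : Fin 17 => x ^ (i : ℕ) • β) := by rw [heq]; exact hβ'
    obtain ⟨i, hi⟩ := this
    exact ⟨i, hi⟩
  have hx_fix : x ∈ fixingSubgroup G s := by
    rw [mem_fixingSubgroup_iff]
    intro y hy
    exact (hmem y).mp hy
  have hJ : MulAction.IsMultiplyPreprimitive G (Sylow 17 G) (17 + 2) := by
    apply hprim.isMultiplyPreprimitive (s := s) (n := 17)
    · exact h8
    · rw [h15]; norm_num
    · have htrans : MulAction.IsPretransitive (fixingSubgroup G s)
          (SubMulAction.ofFixingSubgroup G s) := by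
        constructor
        rintro ⟨β, hβ⟩ ⟨β', hβ'⟩
        rw [SubMulAction.mem_ofFixingSubgroup_iff] at hβ hβ'
        obtain ⟨i, hi⟩ := hcompl β hβ β' hβ'
        refine ⟨⟨x, hx_fix⟩ ^ i, ?_⟩
        apply Subtype.ext
        exact hi
      apply MulAction.IsPreprimitive.of_prime_card
      have : Nat.card (SubMulAction.ofFixingSubgroup G s) = (sᶜ).ncard := Nat.card_coe_set_eq sᶜ
      rw [this, hc7]
      norm_num
  have h9 : MulAction.IsMultiplyPretransitive G (Sylow 17 G) (17 + 2) := inferInstance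
  have h3 : MulAction.IsMultiplyPretransitive G (Sylow 17 G) 3 :=
    MulAction.isMultiplyPretransitive_of_le (n := 17 + 2) (by norm_num) (by rw [h15]; norm_num)
  obtain ⟨α', hα's, hα'P, hα'Q⟩ : ∃ α' ∈ s, α' ≠ P ∧ α' ≠ Q := by
    by_contra hcon
    push Not at hcon
    have hsub : s ⊆ {P, Q} := by
      intro a ha
      by_cases h : a = P
      · left; exact h
      · right; exact hcon a ha h
    have := Set.ncard_le_ncard hsub (Set.toFinite _)
    rw [h8, Set.ncard_pair (Ne.symm hQ)] at this
    omega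
  obtain ⟨β, hβ⟩ : ∃ β, β ∉ s := by
    by_contra hcon
    push Not at hcon
    have : s = Set.univ := Set.eq_univ_of_forall hcon
    rw [this, Set.ncard_univ, h15] at h8
    omega
  have hβP : β ≠ P := fun h => hβ (h ▸ hPs)
  have hβQ : β ≠ Q := fun h => hβ (h ▸ hQs)
  let e₁ : Fin 3 ↪ Sylow 17 G := ⟨![P, Q, α'], by
    intro i j h
    fin_cases i <;> fin_cases j <;> simp_all⟩
  let e₂ : Fin 3 ↪ Sylow 17 G := ⟨![P, Q, β], by
    intro i j h
    fin_cases i <;> fin_cases j <;> simp_all⟩
  obtain ⟨g, hg⟩ := h3.exists_smul_eq e₁ e₂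
  have hgP : g • P = P := by
    have := congrArg (fun e : Fin 3 ↪ Sylow 17 G => e 0) hg
    exact this
  have hgQ : g • Q = Q := by
    have := congrArg (fun e : Fin 3 ↪ Sylow 17 G => e 1) hg
    exact this
  have hgα : g • α' = β := by
    have := congrArg (fun e : Fin 3 ↪ Sylow 17 G => e 2) hg
    exact this
  have hgNP : g ∈ Subgroup.normalizer ((P : Subgroup G) : Set G) := (smul_eq_iff g P).mp hgP
  have hgNQ : g ∈ Subgroup.normalizer ((Q : Subgroup G) : Set G) := (smul_eq_iff g Q).mp hgQ
  obtain ⟨y, hy⟩ : ∃ y, y = g * x * g⁻¹ := ⟨_, rfl⟩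
  have hyP : y ∈ (P : Subgroup G) := hy ▸ (Subgroup.mem_normalizer_iff.mp hgNP x).mp hxP
  have hyQ : y ∈ (Q : Subgroup G) := hy ▸ (Subgroup.mem_normalizer_iff.mp hgNQ x).mp hxQ
  have hyD : y ∈ ((P : Subgroup G) ⊓ Q : Subgroup G) := Subgroup.mem_inf.mpr ⟨hyP, hyQ⟩
  have hy1 : y ≠ 1 := by
    intro h
    apply hx1
    have : g * x * g⁻¹ = 1 := hy ▸ h
    calc x = g⁻¹ * (g * x * g⁻¹) * g := by group
      _ = 1 := by rw [this]; group
  have hyβ : y • β = β := by
    have e : y * g = g * x := by rw [hy]; group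
    rw [← hgα, smul_smul, e, ← smul_smul, (hmem α').mp hα's]
  have hy7 : orderOf y = 17 := hprime_elt y hyD hy1
  have hzy : Subgroup.zpowers y = ((P : Subgroup G) ⊓ Q : Subgroup G) := by
    apply Subgroup.eq_of_le_of_card_ge (Subgroup.zpowers_le.mpr hyD)
    rw [Nat.card_zpowers, hy7, hD]
  have hxy : x ∈ Subgroup.zpowers y := hzy ▸ hxD
  obtain ⟨k, hk⟩ := Subgroup.mem_zpowers_iff.mp hxy
  apply hβ
  rw [hmem, ← hk]
  exact zpow_smul_eq y β hyβ k


theorem simple_ne [IsSimpleGroup G] : Nat.card (Sylow 17 G) ≠ 35 := by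
  intro h15
  have : Fact (Nat.Prime 17) := ⟨by norm_num⟩
  obtain ⟨P⟩ : Nonempty (Sylow 17 G) := inferInstance
  have hk := P.card_eq_multiplicity
  obtain ⟨k, hkdef⟩ : ∃ k, k = (Nat.card G).factorization 17 := ⟨_, rfl⟩
  rw [← hkdef] at hk
  have hk1 : k ≠ 0 := by
    rintro rfl
    have hsub : Subsingleton (Sylow 17 G) := by
      constructor
      intro A B
      apply Sylow.ext
      have hA := A.card_eq_multiplicity
      have hB := B.card_eq_multiplicity
      rw [← hkdef, pow_zero] at hA hB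
      rw [Subgroup.card_eq_one.mp hA, Subgroup.card_eq_one.mp hB]
    have := Finite.card_le_one_iff_subsingleton.mpr hsub
    omega
  have hk2 : k ≤ 2 := by
    by_contra h
    push Not at h
    have hinj : Function.Injective
        ((MulAction.toPermHom G (Sylow 17 G)).comp (P : Subgroup G).subtype) := by
      rw [injective_iff_map_eq_one]
      intro a ha
      apply Subtype.ext
      apply faithful (p := 17) (by omega)
      intro Q
      have := congrArg (fun σ : Equiv.Perm (Sylow 17 G) => σ Q) ha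
      simpa using this
    have key := Subgroup.card_dvd_of_injective _ hinj
    rw [Nat.card_perm, h15, hk] at key
    have h3 : 17 ^ 3 ∣ Nat.factorial 35 := (pow_dvd_pow 17 h).trans key
    norm_num [Nat.factorial] at h3
  rcases (by omega : k = 1 ∨ k = 2) with h | h
  · apply case17 h15
    intro P'
    rw [P'.card_eq_multiplicity, ← hkdef, h, pow_one]
  · exact case49 h15 P (by rw [hk, h]; norm_num)


theorem result' {G : Type*} [Group G] [Finite G] : Nat.card (Sylow 17 G) ≠ 35 := by
  intro h15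
  have : Fact (Nat.Prime 17) := ⟨by norm_num⟩
  obtain ⟨l, hl, hl'⟩ := Cfsg.Agent.S4303.result (G := G) 17
  have hall : ∀ m ∈ l, m = 1 := by
    intro m hm
    have hd : m ∣ 35 := by rw [← h15, ← hl]; exact List.dvd_prod hm
    have hmod : m % 17 = 1 := by
      rcases hl' m hm with ⟨_, h⟩ | ⟨S, _, _, hS, h⟩
      · exact h
      · rw [h]; exact card_sylow_modEq_one 17 S
    rcases dvd15 m hd hmod with h | h
    · exact h
    · exfalso
      rcases hl' m hm with ⟨hpp, _⟩ | ⟨S, _, _, hS, h'⟩
      · rw [h] at hpp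
        rw [isPrimePow_nat_iff] at hpp
        obtain ⟨p, k, hp, hk, hpk⟩ := hpp
        have h5 : (5 : ℕ) ∣ p ^ k := by rw [hpk]; norm_num
        have h7 : (7 : ℕ) ∣ p ^ k := by rw [hpk]; norm_num
        have e5 := (Nat.prime_dvd_prime_iff_eq (by norm_num) hp).mp
          (Nat.Prime.dvd_of_dvd_pow (by norm_num) h5)
        have e7 := (Nat.prime_dvd_prime_iff_eq (by norm_num) hp).mp
          (Nat.Prime.dvd_of_dvd_pow (by norm_num) h7)
        omega
      · exact simple_ne (G := S) (h' ▸ h)
  have : l.prod = 1 := List.prod_eq_one hall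
  omega


end S4236aux

/-- No finite group has exactly 35 Sylow 17-subgroups. -/
theorem result {G : Type*} [Group G] [Finite G] : Nat.card (Sylow 17 G) ≠ 35 := by
  exact result'

end Cfsg.Agent.S4236
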