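import Cfsg.Statements.S4348
-- import your own Cfsg.Agent.* helpers here

set_option autoImplicit false
open Cfsg

namespace Cfsg.Agent.S4348

open scoped Pointwise

theorem normal_pgroup_le_sylow {G : Type*} [Group G] [Finite G] {p : ℕ} [Fact p.Prime]
    (N : Subgroup G) [N.Normal] (hN : IsPGroup p N) (P : Sylow p G) :
    N ≤ (P : Subgroup G) := by
  obtain ⟨P₂, hP₂⟩ := hN.exists_le_sylow
  obtain ⟨g, hg⟩ := MulAction.exists_smul_eq G P₂ P
  intro n hn
  have h1 : g⁻¹ * n * g⁻¹⁻¹ ∈ N := ‹N.Normal›.conj_mem n hn g⁻¹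
  have h2 : g⁻¹ * n * g⁻¹⁻¹ ∈ (P₂ : Subgroup G) := hP₂ h1
  have h3 : g * (g⁻¹ * n * g⁻¹⁻¹) * g⁻¹ ∈ ((g • P₂ : Sylow p G) : Subgroup G) := by
    rw [Sylow.coe_subgroup_smul]
    exact Subgroup.smul_mem_pointwise_smul _ (MulAut.conj g) _ h2
  rw [hg] at h3
  simpa [mul_assoc] using h3

theorem pCore_le_sylow {G : Type*} [Group G] [Finite G] {p : ℕ} [Fact p.Prime] (P : Sylow p G) :
    Cfsg.pCore p G ≤ (P : Subgroup G) := by
  apply sSup_le
  rintro N ⟨hNn, hNp⟩
  exact normal_pgroup_le_sylow N hNp P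

/-- Let G be a finite group, p a prime and P a Sylow p-subgroup of G, and let O_p(G) be the largest normal p-subgroup of G. If P/O_p(G) is cyclic, then some element of p-power order of G lies in exactly one Sylow p-subgroup. -/
theorem result {G : Type*} [Group G] [Finite G]
    (p : ℕ) [Fact p.Prime] (P : Sylow p G)
    [hn : ((Cfsg.pCore p G).subgroupOf (P : Subgroup G)).Normal]
    (hc : IsCyclic ((P : Subgroup G) ⧸ (Cfsg.pCore p G).subgroupOf (P : Subgroup G))) :
    ∃ x : G, (∃ k : ℕ, orderOf x = p ^ k) ∧ ∃! Q : Sylow p G, x ∈ Q := by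
  have hp : p.Prime := Fact.out
  obtain ⟨g, hg⟩ := hc.exists_generator
  obtain ⟨x', rfl⟩ := QuotientGroup.mk_surjective g
  refine ⟨(x' : G), ?_, P, x'.2, ?_⟩
  · obtain ⟨k, hk⟩ := P.isPGroup' x'
    have hk' : (x' : G) ^ p ^ k = 1 := by
      have := congrArg Subtype.val hk
      simpa using this
    obtain ⟨j, -, hj⟩ := (Nat.dvd_prime_pow hp).mp (orderOf_dvd_of_pow_eq_one hk')
    exact ⟨j, hj⟩
  · intro Q hQ
    have hle : (P : Subgroup G) ≤ (Q : Subgroup G) := by
      intro y hy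
      have h1 := hg (QuotientGroup.mk ⟨y, hy⟩)
      rw [Subgroup.mem_zpowers_iff] at h1
      obtain ⟨n, hn⟩ := h1
      rw [← QuotientGroup.mk_zpow, QuotientGroup.eq] at hn
      rw [Subgroup.mem_subgroupOf] at hn
      have h2 : ((x' : G) ^ n)⁻¹ * y ∈ (Q : Subgroup G) := by
        have := pCore_le_sylow Q hn
        simpa using this
      have h3 : (x' : G) ^ n ∈ (Q : Subgroup G) := Subgroup.zpow_mem _ hQ n
      have h4 := Subgroup.mul_mem _ h3 h2
      simpa using h4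
    exact (Sylow.ext (P.3 Q.isPGroup' hle)).symm ▸ rfl

end Cfsg.Agent.S4348
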