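import Cfsg.Statements.S4349
-- import your own Cfsg.Agent.* helpers here
import Cfsg.Agent.Lib.helper21.Syl2F

set_option autoImplicit false
open Cfsg

namespace Cfsg.Agent.S4349

open Equiv Cfsg.Agent.Lib.helper21.Syl2 in
theorem uniq_contra {n : ℕ} (x : Perm (Fin n))
    (huniq : ∀ P P' : Sylow 2 (Perm (Fin n)), x ∈ P → x ∈ P' → P = P')
    (Q₁ Q₂ : Subgroup (Perm (Fin n))) (h1 : IsPGroup 2 Q₁) (h2 : IsPGroup 2 Q₂)
    (hx1 : x ∈ Q₁) (hx2 : x ∈ Q₂) (w : Perm (Fin n)) (hw : w ∈ Q₁ ⊔ Q₂) (hw3 : orderOf w = 3) :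
    False := by
  obtain ⟨P₁, hP₁⟩ := h1.exists_le_sylow
  obtain ⟨P₂, hP₂⟩ := h2.exists_le_sylow
  have hPP : P₁ = P₂ := huniq P₁ P₂ (hP₁ hx1) (hP₂ hx2)
  rw [← hPP] at hP₂
  have hwP : w ∈ (P₁ : Subgroup (Perm (Fin n))) := (sup_le hP₁ hP₂) hw
  obtain ⟨k, hk⟩ := pg_elt P₁.isPGroup' hwP
  have h3 : 3 ∣ 2 ^ k := by
    rw [← hw3]; exact orderOf_dvd_of_pow_eq_one hk
  have h4 : 3 ∣ 2 := Nat.Prime.dvd_of_dvd_pow Nat.prime_three h3
  omega

/-- Let n ≥ 2 and let x be an element of 2-power order of the symmetric group of degree n. Then x lies in exactly one Sylow 2-subgroup if and only if x has at most two fixed points and the nontrivial cycles of x have pairwise different lengths. -/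
theorem result (n : ℕ) (hn : 2 ≤ n)
    (x : Equiv.Perm (Fin n)) (hx : ∃ k : ℕ, orderOf x = 2 ^ k) :
    (∃! P : Sylow 2 (Equiv.Perm (Fin n)), x ∈ P) ↔ (n ≤ x.support.card + 2 ∧ x.cycleType.Nodup) := by
  open Cfsg.Agent.Lib.helper21.Syl2 in
  obtain ⟨k, hk⟩ := hx
  have hx2 : ∃ k : ℕ, x ^ 2 ^ k = 1 := ⟨k, by rw [← hk]; exact pow_orderOf_eq_one x⟩
  have hpow : ∀ m ∈ x.cycleType, ∃ j : ℕ, m = 2 ^ j := by
    intro m hm
    have h1 := Equiv.Perm.dvd_of_mem_cycleType hm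
    rw [hk] at h1
    obtain ⟨j, -, hj⟩ := (Nat.dvd_prime_pow Nat.prime_two).1 h1
    exact ⟨j, hj⟩
  constructor
  · rintro ⟨P, hxP, hP⟩
    have huniq : ∀ P₁ P₂ : Sylow 2 (Equiv.Perm (Fin n)), x ∈ P₁ → x ∈ P₂ → P₁ = P₂ :=
      fun P₁ P₂ h1 h2 => (hP P₁ h1).trans (hP P₂ h2).symm
    constructor
    · by_contra hcon
      have hcard : 2 < (Finset.univ \ x.support).card := by
        have h1 := Finset.card_sdiff_add_card_eq_card (Finset.subset_univ x.support)
        rw [Finset.card_univ, Fintype.card_fin] at h1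
        omega
      obtain ⟨a, ha, b, hb, c, hc, hab, hac, hbc⟩ := Finset.two_lt_card.1 hcard
      have hxa : x a = a := Equiv.Perm.notMem_support.1 (Finset.mem_sdiff.1 ha).2
      have hxb : x b = b := Equiv.Perm.notMem_support.1 (Finset.mem_sdiff.1 hb).2
      have hxc : x c = c := Equiv.Perm.notMem_support.1 (Finset.mem_sdiff.1 hc).2
      have hsw : ∀ p q : Fin n, ∃ j : ℕ, (Equiv.swap p q) ^ 2 ^ j = 1 :=
        fun p q => ⟨1, by rw [pow_one, pow_two, Equiv.swap_mul_self]⟩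
      exact uniq_contra x huniq _ _
        (pgroup_comm (swap_comm_fixed hxa hxb) hx2 (hsw a b))
        (pgroup_comm (swap_comm_fixed hxa hxc) hx2 (hsw a c))
        (Subgroup.mem_sup_left (Subgroup.mem_zpowers x))
        (Subgroup.mem_sup_left (Subgroup.mem_zpowers x))
        (Equiv.swap a b * Equiv.swap a c)
        (mul_mem (Subgroup.mem_sup_left (Subgroup.mem_sup_right (Subgroup.mem_zpowers _)))
          (Subgroup.mem_sup_right (Subgroup.mem_sup_right (Subgroup.mem_zpowers _))))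
        (Equiv.Perm.isThreeCycle_swap_mul_swap_same hab hac hbc).orderOf
    · by_contra hnd
      rw [Equiv.Perm.cycleType_def,
        Multiset.nodup_map_iff_inj_on x.cycleFactorsFinset.nodup] at hnd
      have hex : ∃ f₁ ∈ x.cycleFactorsFinset, ∃ f₂ ∈ x.cycleFactorsFinset,
          f₁.support.card = f₂.support.card ∧ f₁ ≠ f₂ := by
        by_contra hno
        apply hnd
        intro f₁ hf₁ f₂ hf₂ hc
        by_contra hne
        exact hno ⟨f₁, hf₁, f₂, hf₂, hc, hne⟩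
      obtain ⟨f₁, hf₁, f₂, hf₂, hc, hne⟩ := hex
      have hfc₁ : f₁.IsCycle := (Equiv.Perm.mem_cycleFactorsFinset_iff.1 hf₁).1
      have hfc₂ : f₂.IsCycle := (Equiv.Perm.mem_cycleFactorsFinset_iff.1 hf₂).1
      obtain ⟨u, hu⟩ := hfc₁.nonempty_support
      obtain ⟨v, hv⟩ := hfc₂.nonempty_support
      have hdis : Equiv.Perm.Disjoint f₁ f₂ :=
        Equiv.Perm.cycleFactorsFinset_pairwise_disjoint x (Finset.mem_coe.2 hf₁)
          (Finset.mem_coe.2 hf₂) hne
      have hfu : f₁ u ≠ u := Equiv.Perm.mem_support.1 hu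
      have hfv : f₂ v ≠ v := Equiv.Perm.mem_support.1 hv
      have hf₁v : f₁ v = v := by
        rcases hdis v with h | h
        · exact h
        · exact absurd h hfv
      have hvu : v ≠ u := by
        rintro rfl
        exact hfu hf₁v
      have hvfu : v ≠ f₁ u := by
        intro h
        have h1 : f₁ (f₁ u) = f₁ u := by rw [← h]; exact hf₁v
        exact hfu (f₁.injective h1)
      -- f₁ commutes with x and is a 2-element
      have d := Equiv.Perm.disjoint_mul_inv_of_mem_cycleFactorsFinset hf₁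
      have hcomm : f₁ * x = x * f₁ := by
        have e1 : f₁ * x = f₁ * (x * f₁⁻¹) * f₁ := by group
        have e2 : x * f₁ = (x * f₁⁻¹) * f₁ * f₁ := by group
        rw [e1, e2, d.commute.eq]
      have hf₁2 : ∃ j : ℕ, f₁ ^ 2 ^ j = 1 := by
        refine ⟨k, ?_⟩
        apply orderOf_dvd_iff_pow_eq_one.1
        rw [hfc₁.orderOf, ← hk]
        apply Equiv.Perm.dvd_of_mem_cycleType
        rw [Equiv.Perm.cycleType_def]
        exact Multiset.mem_map.2 ⟨f₁, hf₁, rfl⟩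
      obtain ⟨Q₂, hQ₂, hxQ₂, hswQ₂⟩ := swap_pgroup x hx2 f₁ f₂ hf₁ hf₂ hne hc u v hu hv
      have hw : Equiv.swap u v * (f₁ * Equiv.swap u v * f₁⁻¹)
          = Equiv.swap v u * Equiv.swap v (f₁ u) := by
        rw [← Equiv.swap_apply_apply, hf₁v, Equiv.swap_comm u v, Equiv.swap_comm (f₁ u) v]
      have hf₁Q : f₁ ∈ (Subgroup.zpowers x ⊔ Subgroup.zpowers f₁ ⊔ Q₂ :
          Subgroup (Equiv.Perm (Fin n))) :=
        Subgroup.mem_sup_left (Subgroup.mem_sup_right (Subgroup.mem_zpowers _))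
      have hsQ : Equiv.swap u v ∈ (Subgroup.zpowers x ⊔ Subgroup.zpowers f₁ ⊔ Q₂ :
          Subgroup (Equiv.Perm (Fin n))) := Subgroup.mem_sup_right hswQ₂
      exact uniq_contra x huniq _ _ (pgroup_comm hcomm hx2 hf₁2) hQ₂
        (Subgroup.mem_sup_left (Subgroup.mem_zpowers x)) hxQ₂
        (Equiv.swap u v * (f₁ * Equiv.swap u v * f₁⁻¹))
        (mul_mem hsQ (mul_mem (mul_mem hf₁Q hsQ) (inv_mem hf₁Q)))
        (by rw [hw]; exact (Equiv.Perm.isThreeCycle_swap_mul_swap_same hvu hvfu hfu.symm).orderOf)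
  · rintro ⟨hcard, hnd⟩
    have hxs : x ∈ symO (Finset.univ : Finset (Fin n)) := fun a ha => absurd (Finset.mem_univ a) ha
    have hH : Hyp (Finset.univ : Finset (Fin n)) x :=
      ⟨hxs, hnd, hpow, by rw [Finset.card_univ, Fintype.card_fin]; exact hcard⟩
    have hG := good_main _ _ x le_rfl hH
    obtain ⟨P, hP⟩ := (zp_pgroup hx2).exists_le_sylow
    have hT : ∀ P' : Sylow 2 (Equiv.Perm (Fin n)), x ∈ P' →
        TT (Finset.univ : Finset (Fin n)) x = (P' : Subgroup (Equiv.Perm (Fin n))) := by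
      intro P' hxP'
      apply P'.is_maximal' hG.1
      exact le_TT (fun g _ a ha => absurd (Finset.mem_univ a) ha) P'.isPGroup' hxP'
    refine ⟨P, hP (Subgroup.mem_zpowers x), ?_⟩
    intro P' hxP'
    apply Sylow.ext
    rw [← hT P' hxP', ← hT P (hP (Subgroup.mem_zpowers x))]

end Cfsg.Agent.S4349
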