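import Cfsg.Statements.S4403
import Mathlib
import Cfsg.Agent.Lib.helper7.SEmb
import Cfsg.Agent.Lib.helper1.Fitting
import Cfsg.Agent.Lib.helper9.PPrimeCore
import Cfsg.Agent.S4145

set_option autoImplicit false
open Cfsg

namespace Cfsg.Agent.S4403

open Subgroup
open scoped Pointwise

/-- In a cyclic subgroup, an element killed by `p` lies in the subgroup generated by any
element of order `p`. -/
theorem mem_zpowers_of_cyclic {G : Type*} [Group G] [Finite G] {p : ℕ} (hp : p.Prime)
    (P : Subgroup G) (hP : IsCyclic ↥P) (z x : G) (hz : z ∈ P) (hx : x ∈ P)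
    (hzo : orderOf z = p) (hxo : x ^ p = 1) : x ∈ zpowers z := by
  classical
  obtain ⟨g0, hg0⟩ := hP.exists_generator
  have hcomm : ∀ a ∈ P, ∀ b ∈ P, a * b = b * a := by
    intro a ha b hb
    obtain ⟨i, hi⟩ := Subgroup.mem_zpowers_iff.mp (hg0 ⟨a, ha⟩)
    obtain ⟨j, hj⟩ := Subgroup.mem_zpowers_iff.mp (hg0 ⟨b, hb⟩)
    have h1 : (g0 : G) ^ i = a := by
      have := congrArg Subtype.val hi
      simpa only [Subgroup.coe_zpow] using this
    have h2 : (g0 : G) ^ j = b := by
      have := congrArg Subtype.val hj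
      simpa only [Subgroup.coe_zpow] using this
    rw [← h1, ← h2, ← zpow_add, ← zpow_add, add_comm]
  let Ω : Subgroup G :=
    { carrier := {y | y ∈ P ∧ y ^ p = 1}
      one_mem' := ⟨P.one_mem, one_pow p⟩
      mul_mem' := by
        rintro a b ⟨ha, ha'⟩ ⟨hb, hb'⟩
        refine ⟨P.mul_mem ha hb, ?_⟩
        rw [(show Commute a b from hcomm a ha b hb).mul_pow, ha', hb', one_mul]
      inv_mem' := by
        rintro a ⟨ha, ha'⟩
        exact ⟨P.inv_mem ha, by rw [inv_pow, ha', inv_one]⟩ }
  have hΩP : Ω ≤ P := fun y hy => hy.1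
  haveI : IsCyclic ↥P := hP
  haveI hΩc : IsCyclic ↥Ω := Subgroup.isCyclic_of_le hΩP
  obtain ⟨w, hw⟩ := hΩc.exists_generator
  have hcard : Nat.card ↥Ω = orderOf w := (orderOf_eq_card_of_forall_mem_zpowers hw).symm
  have hwp : w ^ p = 1 := Subtype.ext (by
    have := w.2.2
    simpa only [Subgroup.coe_pow, Subgroup.coe_one] using this)
  have hdvd : orderOf w ∣ p := orderOf_dvd_of_pow_eq_one hwp
  have hle : Nat.card ↥Ω ≤ p := by rw [hcard]; exact Nat.le_of_dvd hp.pos hdvd
  have hzΩ : zpowers z ≤ Ω := by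
    rw [Subgroup.zpowers_le]
    exact ⟨hz, by rw [← hzo]; exact pow_orderOf_eq_one z⟩
  have heq : zpowers z = Ω := by
    apply Subgroup.eq_of_le_of_card_ge hzΩ
    rw [Nat.card_zpowers, hzo]; exact hle
  rw [heq]; exact ⟨hx, hxo⟩

theorem zpowers_eq_of_mem {G : Type*} [Group G] [Finite G] {p : ℕ} (z x : G)
    (hzo : orderOf z = p) (hxo : orderOf x = p) (hx : x ∈ zpowers z) : zpowers x = zpowers z := by
  apply Subgroup.eq_of_le_of_card_ge (by rw [Subgroup.zpowers_le]; exact hx)
  rw [Nat.card_zpowers, Nat.card_zpowers, hzo, hxo]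

theorem orderOf_conj' {G : Type*} [Group G] (k z : G) : orderOf (k * z * k⁻¹) = orderOf z := by
  have : orderOf (MulAut.conj k z) = orderOf z := MulEquiv.orderOf_eq _ _
  rw [MulAut.conj_apply] at this
  exact this

/-- With a cyclic Sylow `p`-subgroup containing `z` of order `p`: an element of order `p`
normalizing `⟨z⟩` lies in `⟨z⟩`. -/
theorem mem_zpowers_of_normalizer {G : Type*} [Group G] [Finite G] {p : ℕ} [hp : Fact p.Prime]
    (P : Sylow p G) (hP : IsCyclic ↥(P : Subgroup G)) (z x : G) (hz : z ∈ (P : Subgroup G))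
    (hzo : orderOf z = p) (hxo : orderOf x = p) (hx : x ∈ normalizer (zpowers z : Set G)) :
    x ∈ zpowers z := by
  have h1 : IsPGroup p (zpowers z) :=
    IsPGroup.of_card (n := 1) (by rw [Nat.card_zpowers, pow_one, hzo])
  have h2 : IsPGroup p (zpowers x) :=
    IsPGroup.of_card (n := 1) (by rw [Nat.card_zpowers, pow_one, hxo])
  have h3 : IsPGroup p (zpowers x ⊔ zpowers z : Subgroup G) :=
    IsPGroup.to_sup_of_normal_right' h2 h1 (by rw [Subgroup.zpowers_le]; exact hx)
  obtain ⟨Q, hQ⟩ := h3.exists_le_sylow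
  obtain ⟨g, hg⟩ := MulAction.exists_smul_eq G Q P
  have hconj : ∀ y ∈ (Q : Subgroup G), g * y * g⁻¹ ∈ (P : Subgroup G) := by
    intro y hy
    have h2 : MulAut.conj g • y ∈ MulAut.conj g • (Q : Subgroup G) :=
      Subgroup.smul_mem_pointwise_smul _ _ _ hy
    rw [← Sylow.coe_subgroup_smul, hg] at h2
    simpa [MulAut.smul_def] using h2
  have hzQ : z ∈ (Q : Subgroup G) := hQ ((le_sup_right : zpowers z ≤ zpowers x ⊔ zpowers z) (mem_zpowers z))
  have hxQ : x ∈ (Q : Subgroup G) := hQ ((le_sup_left : zpowers x ≤ zpowers x ⊔ zpowers z) (mem_zpowers x))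
  have hz' := hconj z hzQ
  have hx' := hconj x hxQ
  have hzo' : orderOf (g * z * g⁻¹) = p := by rw [orderOf_conj', hzo]
  have hxp : (g * x * g⁻¹) ^ p = 1 := by
    rw [conj_pow, ← hxo, pow_orderOf_eq_one]; simp
  have hmem := mem_zpowers_of_cyclic hp.out (P : Subgroup G) hP _ _ hz' hx' hzo' hxp
  obtain ⟨i, hi⟩ := Subgroup.mem_zpowers_iff.mp hmem
  refine Subgroup.mem_zpowers_iff.mpr ⟨i, ?_⟩
  rw [conj_zpow] at hi
  have : g * z ^ i * g⁻¹ = g * x * g⁻¹ := hi
  have h4 := congrArg (fun t => g⁻¹ * t * g) this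
  simpa [mul_assoc] using h4

theorem comm_mem_normalizer {G : Type*} [Group G] (y z : G) (h : y * z = z * y) :
    y ∈ normalizer (zpowers z : Set G) := by
  apply Subgroup.centralizer_le_normalizer
  rw [Subgroup.mem_centralizer_iff]
  intro h' hh
  obtain ⟨i, rfl⟩ := Subgroup.mem_zpowers_iff.mp hh
  exact ((Commute.zpow_left (show Commute z y from h.symm) i)).eq

theorem not_npc_of_simple {L : Type*} [Group L] [Finite L] {p : ℕ} [hp : Fact p.Prime]
    [IsSimpleGroup L] (hna : ¬ IsMulCommutative L) (hpL : p ∣ Nat.card L) :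
    ¬ Cfsg.HasNormalPComplement p L := by
  rintro ⟨Q, N, hNn, hcompl⟩
  have hcard := hcompl.card_mul_card
  rcases hNn.eq_bot_or_eq_top with hN | hN
  · rw [hN, Subgroup.card_bot, one_mul] at hcard
    obtain ⟨n, hn⟩ := IsPGroup.iff_card.mp Q.isPGroup'
    have hpg : IsPGroup p L := IsPGroup.of_card (n := n) (by rw [← hcard, hn])
    haveI : Group.IsNilpotent L := hpg.isNilpotent
    have hsol : Group.IsSolvable L := inferInstance
    apply hna
    exact ⟨⟨fun a b => IsSimpleGroup.comm_iff_isSolvable.mpr hsol a b⟩⟩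
  · rw [hN, Subgroup.card_top] at hcard
    have h1 : Nat.card (Q : Subgroup L) = 1 := by
      have hpos : 0 < Nat.card L := Nat.card_pos
      have : Nat.card L * Nat.card (Q : Subgroup L) = Nat.card L * 1 := by rw [hcard, mul_one]
      exact Nat.eq_of_mul_eq_mul_left hpos this
    have h2 := Q.dvd_card_of_dvd_card hpL
    rw [h1] at h2
    exact hp.out.one_lt.ne' (Nat.dvd_one.mp h2)

/-- Let K be a finite group, p a prime dividing its order with O_{p'}(K) = 1 (no nontrivial normal subgroup of order prime to p), and P a cyclic Sylow p-subgroup of K. Then either P is normal and self-centralizing in K with K/P cyclic of order dividing p − 1 (so K is the semidirect product of P by a group of automorphisms of P of order dividing p − 1), or the generalized Fitting subgroup F*(K) is a non-abelian simple group and p does not divide the index of F*(K) in K. -/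
theorem result {K : Type*} [Group K] [Finite K] (p : ℕ) [Fact p.Prime] (hp : p ∣ Nat.card K) (hO : Cfsg.pPrimeCore p K = ⊥)
    (P : Sylow p K) (hP : IsCyclic ↥(P : Subgroup K)) :
    ((P : Subgroup K).Normal ∧ Subgroup.centralizer ((P : Subgroup K) : Set K) = (P : Subgroup K) ∧
      (∀ (_ : (P : Subgroup K).Normal), IsCyclic (K ⧸ (P : Subgroup K))) ∧ (P : Subgroup K).index ∣ p - 1) ∨
    (IsSimpleGroup ↥(Cfsg.generalizedFittingSubgroup K) ∧ ¬ IsMulCommutative ↥(Cfsg.generalizedFittingSubgroup K) ∧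
      ¬ p ∣ (Cfsg.generalizedFittingSubgroup K).index) := by
  classical
  have hpr := (Fact.out : p.Prime)
  obtain ⟨g0, hg0⟩ := hP.exists_generator
  obtain ⟨g, hgdef⟩ : ∃ g : K, g = (g0 : K) := ⟨_, rfl⟩
  have hg : g ∈ (P : Subgroup K) := by rw [hgdef]; exact g0.2
  have hgen : ∀ y ∈ (P : Subgroup K), y ∈ Subgroup.zpowers g := by
    intro y hy
    obtain ⟨i, hi⟩ := Subgroup.mem_zpowers_iff.mp (hg0 ⟨y, hy⟩)
    refine Subgroup.mem_zpowers_iff.mpr ⟨i, ?_⟩
    have h := congrArg Subtype.val hi
    rw [hgdef]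
    simpa only [Subgroup.coe_zpow] using h
  have hPdvd : p ∣ Nat.card (P : Subgroup K) := P.dvd_card_of_dvd_card hp
  obtain ⟨z0, hz0⟩ := exists_prime_orderOf_dvd_card' (G := ↥(P : Subgroup K)) p hPdvd
  obtain ⟨z, hzdef⟩ : ∃ z : K, z = (z0 : K) := ⟨_, rfl⟩
  have hz : z ∈ (P : Subgroup K) := by rw [hzdef]; exact z0.2
  have hzo : orderOf z = p := by rw [hzdef, Subgroup.orderOf_coe]; exact hz0
  have hzpg : IsPGroup p (zpowers z) :=
    IsPGroup.of_card (n := 1) (by rw [Nat.card_zpowers, pow_one, hzo])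
  by_cases hQ : Cfsg.pCore p K = ⊥
  · right
    have hne : Nontrivial K := by
      by_contra h
      rw [not_nontrivial_iff_subsingleton] at h
      have h1 : Nat.card K = 1 := Nat.card_eq_one_iff_unique.mpr ⟨h, ⟨1⟩⟩
      rw [h1] at hp
      exact hpr.one_lt.ne' (Nat.dvd_one.mp hp)
    have hnormZ : ∀ x : K, orderOf x = p → x ∈ normalizer (zpowers z : Set K) → x ∈ zpowers z :=
      fun x hxo hx => mem_zpowers_of_normalizer P hP z x hz hzo hxo hx
    have hPH : (P : Subgroup K) ≤ normalizer (zpowers z : Set K) := by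
      intro y hy
      apply comm_mem_normalizer
      obtain ⟨i, hi⟩ := Subgroup.mem_zpowers_iff.mp (hgen y hy)
      obtain ⟨j, hj⟩ := Subgroup.mem_zpowers_iff.mp (hgen z hz)
      rw [← hi, ← hj, ← zpow_add, ← zpow_add, add_comm]
    have hC : ∀ x ∈ normalizer (zpowers z : Set K), orderOf x = p →
        centralizer ({x} : Set K) ≤ normalizer (zpowers z : Set K) := by
      intro x hxH hxo c hc
      have hxz : x ∈ zpowers z := hnormZ x hxo hxH
      have heq : zpowers x = zpowers z := zpowers_eq_of_mem z x hzo hxo hxz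
      have hzx : z ∈ zpowers x := by rw [heq]; exact mem_zpowers z
      obtain ⟨i, hi⟩ := Subgroup.mem_zpowers_iff.mp hzx
      apply comm_mem_normalizer
      have hcx : x * c = c * x := (Subgroup.mem_centralizer_iff.mp hc) x rfl
      rw [← hi]
      exact ((Commute.zpow_left (show Commute x c from hcx) i)).eq.symm
    have hNn : ∀ N : Subgroup K, N.Normal → N ≤ normalizer (zpowers z : Set K) →
        p ∣ Nat.card N → False := by
      intro N hN hNH hpN
      obtain ⟨x0, hx0⟩ := exists_prime_orderOf_dvd_card' (G := ↥N) p hpN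
      have hxo : orderOf (x0 : K) = p := by rw [Subgroup.orderOf_coe]; exact hx0
      have hxz : (x0 : K) ∈ zpowers z := hnormZ _ hxo (hNH x0.2)
      have heq : zpowers (x0 : K) = zpowers z := zpowers_eq_of_mem z _ hzo hxo hxz
      have hzN : z ∈ N := by
        have : zpowers (x0 : K) ≤ N := by rw [Subgroup.zpowers_le]; exact x0.2
        exact this (by rw [heq]; exact mem_zpowers z)
      have hZn : (zpowers z).Normal := by
        refine ⟨fun y hy k => ?_⟩
        obtain ⟨i, rfl⟩ := Subgroup.mem_zpowers_iff.mp hy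
        have h1 : k * z * k⁻¹ ∈ zpowers z := by
          apply hnormZ
          · rw [orderOf_conj', hzo]
          · exact hNH (hN.conj_mem z hzN k)
        rw [← conj_zpow]
        exact Subgroup.zpow_mem _ h1 i
      have hle : zpowers z ≤ Cfsg.pCore p K := Cfsg.Agent.Lib.helper1.le_pCore hZn hzpg
      rw [hQ] at hle
      have : z = 1 := Subgroup.mem_bot.mp (hle (mem_zpowers z))
      rw [this, orderOf_one] at hzo
      exact hpr.one_lt.ne hzo
    have hmain := Cfsg.Agent.Lib.helper7.fstar_simple_of_embedded (p := p)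
      (normalizer (zpowers z : Set K)) P hPH hO hC hNn hne
    refine ⟨hmain.1, hmain.2, ?_⟩
    intro hdiv
    haveI := hmain.1
    have hpF : p ∣ Nat.card ↥(Cfsg.generalizedFittingSubgroup K) := by
      by_contra hnd
      have hcop : (Nat.card ↥(Cfsg.generalizedFittingSubgroup K)).Coprime p :=
        ((Nat.Prime.coprime_iff_not_dvd hpr).mpr hnd).symm
      have hle := Cfsg.Agent.Lib.helper9.le_pPrimeCore
        (Cfsg.Agent.Lib.helper7.genFitting_normal K) hcop
      rw [hO] at hle
      obtain ⟨a, b, hab⟩ := (inferInstance : Nontrivial ↥(Cfsg.generalizedFittingSubgroup K))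
      apply hab
      have ha := hle a.2
      have hb := hle b.2
      rw [Subgroup.mem_bot] at ha hb
      exact Subtype.ext (ha.trans hb.symm)
    have h145 := (Cfsg.Agent.S4145.result p P hP (Cfsg.generalizedFittingSubgroup K) hpF hdiv).1
    exact not_npc_of_simple hmain.2 hpF h145
  · left
    have hQn : (Cfsg.pCore p K).Normal := Cfsg.Agent.Lib.helper1.pCore_normal p K
    have hQp : IsPGroup p (Cfsg.pCore p K) := Cfsg.Agent.Lib.helper1.pCore_isPGroup p K
    have hQP : Cfsg.pCore p K ≤ (P : Subgroup K) := hQp.le_sylow_of_normal P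
    have hpQ : p ∣ Nat.card (Cfsg.pCore p K) := by
      obtain ⟨n, hn⟩ := IsPGroup.iff_card.mp hQp
      rcases n with _ | n
      · exfalso; apply hQ; rw [pow_zero] at hn; exact Subgroup.eq_bot_of_card_eq _ hn
      · rw [hn, pow_succ]; exact dvd_mul_left p _
    obtain ⟨x0, hx0⟩ := exists_prime_orderOf_dvd_card' (G := ↥(Cfsg.pCore p K)) p hpQ
    have hxo : orderOf (x0 : K) = p := by rw [Subgroup.orderOf_coe]; exact hx0
    have hxz : (x0 : K) ∈ zpowers z :=
      mem_zpowers_of_cyclic hpr (P : Subgroup K) hP z x0 hz (hQP x0.2) hzo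
        (by have := pow_orderOf_eq_one (x0 : K); rwa [hxo] at this)
    have heq := zpowers_eq_of_mem z _ hzo hxo hxz
    have hzQ : z ∈ Cfsg.pCore p K := by
      have : zpowers (x0 : K) ≤ Cfsg.pCore p K := by rw [Subgroup.zpowers_le]; exact x0.2
      exact this (by rw [heq]; exact mem_zpowers z)
    have hconj : ∀ k : K, k * z * k⁻¹ ∈ zpowers z := by
      intro k
      apply mem_zpowers_of_cyclic hpr (P : Subgroup K) hP z _ hz (hQP (hQn.conj_mem z hzQ k)) hzo
      rw [conj_pow, ← hzo, pow_orderOf_eq_one]; simp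
    obtain ⟨C, hCdef⟩ : ∃ C : Subgroup K, C = centralizer ({z} : Set K) := ⟨_, rfl⟩
    have hCmem : ∀ c : K, c ∈ C ↔ c * z = z * c := by
      intro c; rw [hCdef, Subgroup.mem_centralizer_iff]
      constructor
      · intro h; exact (h z rfl).symm
      · intro h y hy; rw [Set.mem_singleton_iff.mp hy]; exact h.symm
    haveI hCn : C.Normal := by
      refine ⟨fun c hc k => ?_⟩
      rw [hCmem] at hc ⊢
      obtain ⟨i, hi⟩ := Subgroup.mem_zpowers_iff.mp (hconj k⁻¹)
      have h1 : c * (k⁻¹ * z * k) = (k⁻¹ * z * k) * c := by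
        have : k⁻¹ * z * k = z ^ i := by rw [hi]; simp
        rw [this]
        exact ((Commute.zpow_right (show Commute c z from hc) i)).eq
      calc k * c * k⁻¹ * z = k * (c * (k⁻¹ * z * k)) * k⁻¹ := by group
        _ = k * ((k⁻¹ * z * k) * c) * k⁻¹ := by rw [h1]
        _ = z * (k * c * k⁻¹) := by group
    have hPcomm : ∀ a ∈ (P : Subgroup K), ∀ b ∈ (P : Subgroup K), a * b = b * a := by
      intro a ha b hb
      obtain ⟨i, hi⟩ := Subgroup.mem_zpowers_iff.mp (hgen a ha)
      obtain ⟨j, hj⟩ := Subgroup.mem_zpowers_iff.mp (hgen b hb)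
      rw [← hi, ← hj, ← zpow_add, ← zpow_add, add_comm]
    have hPC : (P : Subgroup K) ≤ C := by
      intro y hy
      rw [hCmem]
      exact hPcomm y hy z hz
    have hn : ∀ n ∈ C, n ∈ normalizer ((P : Subgroup K) : Set K) → n * g = g * n := by
      intro n hnC hnN
      have h1 : n * g * n⁻¹ ∈ (P : Subgroup K) := (Subgroup.mem_normalizer_iff.mp hnN g).mp hg
      obtain ⟨m, hm⟩ := Subgroup.mem_zpowers_iff.mp (hgen _ h1)
      obtain ⟨j, hj⟩ := Subgroup.mem_zpowers_iff.mp (hgen z hz)
      apply Cfsg.Agent.S4145.cyc_aut_trivial P g hg hgen n hnN m hm.symm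
      have hnz : n * z * n⁻¹ = z := by
        have := (hCmem n).mp hnC
        rw [this]; group
      have h2 : z ^ m = z := by
        calc z ^ m = (g ^ j) ^ m := by rw [hj]
          _ = (g ^ m) ^ j := by rw [← zpow_mul, ← zpow_mul, mul_comm]
          _ = (n * g * n⁻¹) ^ j := by rw [hm]
          _ = n * g ^ j * n⁻¹ := conj_zpow
          _ = z := by rw [hj, hnz]
      have h3 : z ^ (m - 1) = 1 := by rw [zpow_sub, zpow_one, h2, mul_inv_cancel]
      have := orderOf_dvd_iff_zpow_eq_one.mpr h3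
      rwa [hzo] at this
    obtain ⟨T, hTC, hTnorm, hTcop, hTidx, -⟩ :=
      Cfsg.Agent.S4145.burnside_sub P C hPC g hg hgen hn
    obtain ⟨kP, hkP⟩ : ∃ k : ℕ, Nat.card (P : Subgroup K) = p ^ k := ⟨_, P.card_eq_multiplicity⟩
    haveI hTn : T.Normal :=
      Cfsg.Agent.S4145.normal_of_pprime T C hTC hTnorm kP (by rw [hTidx, hkP]) hTcop
    have hTbot : T = ⊥ := by
      have hle := Cfsg.Agent.Lib.helper9.le_pPrimeCore hTn hTcop
      rw [hO] at hle
      exact eq_bot_iff.mpr hle
    have hCP : (P : Subgroup K) = C := by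
      apply Subgroup.eq_of_le_of_card_ge hPC
      rw [hTbot, Subgroup.relIndex_bot_left] at hTidx
      rw [hTidx]
    have hPn : (P : Subgroup K).Normal := by rw [hCP]; exact hCn
    haveI hZn : (zpowers z).Normal := ⟨fun y hy k => by
      obtain ⟨i, rfl⟩ := Subgroup.mem_zpowers_iff.mp hy
      rw [← conj_zpow]; exact Subgroup.zpow_mem _ (hconj k) i⟩
    obtain ⟨φ, hφ⟩ : ∃ φ : K →* MulAut ↥(zpowers z), φ = MulAut.conjNormal := ⟨_, rfl⟩
    have hker : φ.ker = (P : Subgroup K) := by
      ext k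
      rw [MonoidHom.mem_ker, hCP, hCmem, hφ]
      constructor
      · intro h
        have h1 := congrArg (fun f : MulAut ↥(zpowers z) =>
          ((f ⟨z, mem_zpowers z⟩ : ↥(zpowers z)) : K)) h
        simp only [MulAut.conjNormal_apply, MulAut.one_apply] at h1
        calc k * z = (k * z * k⁻¹) * k := by group
          _ = z * k := by rw [h1]
      · intro h
        apply MulEquiv.ext
        rintro ⟨y, hy⟩
        obtain ⟨i, rfl⟩ := Subgroup.mem_zpowers_iff.mp hy
        apply Subtype.ext
        rw [MulAut.conjNormal_apply, MulAut.one_apply]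
        show k * z ^ i * k⁻¹ = z ^ i
        rw [← conj_zpow]
        have : k * z * k⁻¹ = z := by rw [h]; group
        rw [this]
    haveI hcycA : IsCyclic (MulAut ↥(zpowers z)) := by
      haveI : Fact (Nat.card ↥(zpowers z)).Prime := ⟨by rw [Nat.card_zpowers, hzo]; exact hpr⟩
      exact isCyclic_of_injective (IsCyclic.mulAutMulEquiv ↥(zpowers z)).toMonoidHom
        (IsCyclic.mulAutMulEquiv ↥(zpowers z)).injective
    have hcardA : Nat.card (MulAut ↥(zpowers z)) = p - 1 := by
      rw [IsCyclic.card_mulAut, Nat.card_zpowers, hzo, Nat.totient_prime hpr]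
    have hψ : ∀ hN' : (P : Subgroup K).Normal, ∃ ψ : K ⧸ (P : Subgroup K) →* MulAut ↥(zpowers z),
        Function.Injective ψ := by
      intro hN'
      refine ⟨(QuotientGroup.kerLift φ).comp
        (QuotientGroup.quotientMulEquivOfEq hker.symm).toMonoidHom, ?_⟩
      exact (QuotientGroup.kerLift_injective φ).comp
        (QuotientGroup.quotientMulEquivOfEq hker.symm).injective
    refine ⟨hPn, ?_, ?_, ?_⟩
    · apply le_antisymm
      · intro c hc
        rw [hCP, hCmem]
        exact ((Subgroup.mem_centralizer_iff.mp hc) z hz).symm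
      · intro y hy
        rw [Subgroup.mem_centralizer_iff]
        intro h hh
        exact hPcomm h hh y hy
    · intro hN'
      obtain ⟨ψ, hψi⟩ := hψ hN'
      exact isCyclic_of_injective ψ hψi
    · obtain ⟨ψ, hψi⟩ := hψ hPn
      have h1 := Subgroup.card_dvd_of_injective ψ hψi
      rw [hcardA] at h1
      rw [Subgroup.index_eq_card]
      exact h1

end Cfsg.Agent.S4403
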