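import Cfsg.Statements.S4517
import Cfsg.Agent.Lib.helper22.Gow

set_option autoImplicit false
open Cfsg

namespace Cfsg.Agent.S4517

open Cfsg.Agent.Lib.helper24 Cfsg.Agent.Lib.helper23 Cfsg.Agent.Lib.helper22 Cfsg.Agent.Lib.helper5
open scoped ComplexConjugate

theorem result {G : Type*} [Group G] [Finite G] (M : Ideal Cfsg.AlgInt) (hM : Cfsg.IsPModular 2 M) (k : ℕ) (hk : Nat.Coprime k (Nat.card G)) (hk₂ : ∀ g : G, Odd (orderOf g) → g ^ k = g⁻¹) (B : Set (Cfsg.IrrCharacter G)) (hB : Cfsg.IsPBlock M B) (hdef : Cfsg.blockDefect 2 B = (Nat.card G).factorization 2) (hstab : ∀ χ ∈ B, ∃ ψ ∈ B, ∀ g : G, (ψ : G → ℂ) g = (χ : G → ℂ) (g ^ k)) : B = Cfsg.principalBlock M G := by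
  have := Fintype.ofFinite G
  apply gow_principal M hM B hB hdef
  intro ψ hψ
  obtain ⟨ψ', hψ', h⟩ := hstab ψ hψ
  refine ⟨ψ', hψ', ?_, ?_⟩
  · rw [h 1, one_pow]
  · intro g hg
    have ho : Odd (orderOf g) := Nat.not_even_iff_odd.mp (fun he => hg (even_iff_two_dvd.mp he))
    rw [h g, hk₂ g ho, irr_inv]

end Cfsg.Agent.S4517
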