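import Cfsg.Statements.S4521
import Cfsg.Agent.Lib.helper5.BlockThird
import Cfsg.Agent.Lib.helper24.CharProd

set_option autoImplicit false
open Cfsg

namespace Cfsg.Agent.S4521

open Cfsg.Agent.Lib.helper5 Cfsg.Agent.Lib.helper24

theorem principal_iff_sum {G : Type*} [Group G] [Fintype G] {p : ℕ} [Fact p.Prime]
    {M : Ideal Cfsg.AlgInt} (hM : Cfsg.IsPModular p M) (ψ : Cfsg.IrrCharacter G) :
    ψ ∈ Cfsg.principalBlock M G ↔ ∑ g : G, regInd p G g * ψ.1 g ≠ 0 := by
  classical
  have : Fintype (Cfsg.IrrCharacter G) := Fintype.ofFinite _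
  have hMp := Cfsg.Agent.Lib.helper23.isPModular_isPrime hM
  have h1 := irr_one_ne_zero ψ
  constructor
  · intro h h0
    apply (Cfsg.Agent.Lib.helper5.mem_principalBlock_iff hM ψ).mp h
    unfold coord
    rw [h0, zero_div]
    exact Cfsg.Agent.Lib.helper23.memLocalIdeal_zero hMp.ne_top
  · intro h
    by_contra hn
    have h3 := coord_regInd_eq_zero hM ψ hn
    unfold coord at h3
    rw [div_eq_zero_iff] at h3
    rcases h3 with h2 | h2
    · exact h h2
    · exact h1 h2

theorem pow_regular {G : Type*} [Group G] [Finite G] (p : ℕ) [Fact p.Prime] (u : G) (k : ℕ) :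
    ¬ p ∣ orderOf (u ^ (p ^ (Nat.card G).factorization p * k)) := by
  have hp : p.Prime := Fact.out
  have hcard : Nat.card G ≠ 0 := Nat.card_pos.ne'
  have e1 := Nat.ordProj_mul_ordCompl_eq_self (Nat.card G) p
  have hnd := Nat.not_dvd_ordCompl hp hcard
  intro hdvd
  apply hnd
  apply dvd_trans hdvd
  apply orderOf_dvd_of_pow_eq_one
  rw [← pow_mul, mul_right_comm, e1, mul_comm, pow_mul, pow_card_eq_one']

theorem result {G : Type*} [Group G] [Fintype G] (p : ℕ) [Fact p.Prime] (M : Ideal Cfsg.AlgInt) (hM : Cfsg.IsPModular p M) (U₁ U₂ : Subgroup G) [Fintype U₁] [Fintype U₂] (hcomm : ∀ u ∈ U₁, ∀ v ∈ U₂, u * v = v * u) (hgen : U₁ ⊔ U₂ = ⊤) (hZ : IsPGroup p ↥(U₁ ⊓ U₂)) (χ : Cfsg.IrrCharacter G) (ψ₁ : Cfsg.IrrCharacter U₁) (ψ₂ : Cfsg.IrrCharacter U₂) (h₁ : Cfsg.classInner (fun u : U₁ => (χ : G → ℂ) u) (ψ₁ : U₁ → ℂ) ≠ 0) (h₂ : Cfsg.classInner (fun u : U₂ => (χ : G → ℂ) u) (ψ₂ : U₂ → ℂ) ≠ 0) : χ ∈ Cfsg.principalBlock M G ↔ (ψ₁ ∈ Cfsg.principalBlock M U₁ ∧ ψ₂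 ∈ Cfsg.principalBlock M U₂) := by
  classical
  have hp : p.Prime := hM.1
  let μ : U₁ × U₂ →* G :=
    { toFun := fun x => (x.1 : G) * (x.2 : G)
      map_one' := by simp
      map_mul' := by
        intro x y
        have h := hcomm y.1 y.1.2 x.2 x.2.2
        show ((x.1 * y.1 : U₁) : G) * ((x.2 * y.2 : U₂) : G) = _
        push_cast
        calc (x.1 : G) * (y.1 : G) * ((x.2 : G) * (y.2 : G))
            = (x.1 : G) * ((y.1 : G) * (x.2 : G)) * (y.2 : G) := by group
          _ = (x.1 : G) * ((x.2 : G) * (y.1 : G)) * (y.2 : G) := by rw [h]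
          _ = (x.1 : G) * (x.2 : G) * ((y.1 : G) * (y.2 : G)) := by group }
  have hμapp : ∀ x : U₁ × U₂, μ x = (x.1 : G) * (x.2 : G) := fun _ => rfl
  have hμ : Function.Surjective μ := by
    rw [← MonoidHom.range_eq_top, eq_top_iff, ← hgen]
    apply sup_le
    · intro a ha
      exact ⟨(⟨a, ha⟩, 1), by simp [hμapp]⟩
    · intro c hc
      exact ⟨(1, ⟨c, hc⟩), by simp [hμapp]⟩
  have h1 := isIrrCharacter_comp_surjective μ hμ χ.2
  obtain ⟨φ₁, φ₂, hφ₁, hφ₂, hfac⟩ := (isIrrCharacter_prod_iff _).mp h1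
  have hval : ∀ (u : U₁) (v : U₂), χ.1 ((u : G) * (v : G)) = φ₁ u * φ₂ v :=
    fun u v => congrFun hfac (u, v)
  have e1 : φ₁ = ψ₁.1 := by
    by_contra hne
    apply h₁
    have h2 : (fun u : U₁ => χ.1 u) = φ₂ 1 • φ₁ := by
      funext u
      have h3 := hval u 1
      simp only [OneMemClass.coe_one, mul_one] at h3
      rw [h3, Pi.smul_apply, smul_eq_mul, mul_comm]
    rw [h2, classInner_smul_left]
    have h4 := irr_orthonormal (⟨φ₁, hφ₁⟩ : Cfsg.IrrCharacter U₁) ψ₁
    rw [if_neg (fun h => hne (congrArg Subtype.val h))] at h4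
    rw [h4, mul_zero]
  have e2 : φ₂ = ψ₂.1 := by
    by_contra hne
    apply h₂
    have h2 : (fun u : U₂ => χ.1 u) = φ₁ 1 • φ₂ := by
      funext u
      have h3 := hval 1 u
      simp only [OneMemClass.coe_one, one_mul] at h3
      rw [h3, Pi.smul_apply, smul_eq_mul]
    rw [h2, classInner_smul_left]
    have h4 := irr_orthonormal (⟨φ₂, hφ₂⟩ : Cfsg.IrrCharacter U₂) ψ₂
    rw [if_neg (fun h => hne (congrArg Subtype.val h))] at h4
    rw [h4, mul_zero]
  subst e1
  subst e2
  have hsum : ∑ g : G, regInd p G g * χ.1 g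
      = (∑ u : U₁, regInd p U₁ u * ψ₁.1 u) * (∑ v : U₂, regInd p U₂ v * ψ₂.1 v) := by
    rw [Finset.sum_mul_sum, ← Finset.sum_product']
    have hL : ∑ g : G, regInd p G g * χ.1 g
        = ∑ g ∈ Finset.univ.filter (fun g : G => ¬ p ∣ orderOf g), χ.1 g := by
      rw [Finset.sum_filter]
      apply Finset.sum_congr rfl
      intro g _
      by_cases hg : p ∣ orderOf g
      · rw [regInd_of_sing hg, if_neg (not_not.mpr hg), zero_mul]
      · rw [regInd_of_reg hg, if_pos hg, one_mul]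
    have hR : ∑ x ∈ (Finset.univ : Finset U₁) ×ˢ (Finset.univ : Finset U₂),
          regInd p U₁ x.1 * ψ₁.1 x.1 * (regInd p U₂ x.2 * ψ₂.1 x.2)
        = ∑ x ∈ Finset.univ.filter
            (fun x : U₁ × U₂ => ¬ p ∣ orderOf x.1 ∧ ¬ p ∣ orderOf x.2), χ.1 (μ x) := by
      rw [Finset.sum_filter, Finset.univ_product_univ]
      apply Finset.sum_congr rfl
      intro x _
      by_cases hx1 : p ∣ orderOf x.1
      · rw [regInd_of_sing hx1, if_neg (fun h => h.1 hx1), zero_mul, zero_mul]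
      · by_cases hx2 : p ∣ orderOf x.2
        · rw [regInd_of_sing hx2, if_neg (fun h => h.2 hx2), zero_mul, mul_zero]
        · rw [regInd_of_reg hx1, regInd_of_reg hx2, if_pos ⟨hx1, hx2⟩, hμapp, hval]
          ring
    rw [hL, hR]
    symm
    apply Finset.sum_nbij (fun x => μ x)
    · intro x hx
      rw [Finset.mem_filter] at hx ⊢
      refine ⟨Finset.mem_univ _, ?_⟩
      obtain ⟨-, hx1, hx2⟩ := hx
      rw [← Subgroup.orderOf_coe] at hx1 hx2
      have hc : Commute (x.1 : G) (x.2 : G) := hcomm _ x.1.2 _ x.2.2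
      intro hdvd
      have h3 := dvd_trans hdvd hc.orderOf_mul_dvd_lcm
      rcases (Nat.Prime.dvd_mul hp).mp (dvd_trans h3 (Nat.lcm_dvd_mul _ _)) with h4 | h4
      · exact hx1 h4
      · exact hx2 h4
    · intro x hx y hy hxy
      rw [Finset.coe_filter] at hx hy
      obtain ⟨-, hx1, hx2⟩ := hx
      obtain ⟨-, hy1, hy2⟩ := hy
      simp only [hμapp] at hxy
      have hz : ((y.1 : G))⁻¹ * (x.1 : G) = (y.2 : G) * ((x.2 : G))⁻¹ := by
        have : (x.1 : G) = (y.1 : G) * (y.2 : G) * ((x.2 : G))⁻¹ := by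
          rw [← hxy]; group
        rw [this]; group
      set z : G := ((y.1 : G))⁻¹ * (x.1 : G) with hzdef
      have hz1 : z ∈ U₁ := U₁.mul_mem (U₁.inv_mem y.1.2) x.1.2
      have hz2 : z ∈ U₂ := by
        rw [hz]
        exact U₂.mul_mem y.2.2 (U₂.inv_mem x.2.2)
      obtain ⟨k, hk⟩ := (IsPGroup.iff_orderOf.mp hZ) ⟨z, Subgroup.mem_inf.mpr ⟨hz1, hz2⟩⟩
      rw [Subgroup.orderOf_mk] at hk
      have hx1z : (x.1 : G) = (y.1 : G) * z := by rw [hzdef]; group
      have hcz : Commute (y.1 : G) z := hcomm _ y.1.2 _ hz2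
      have hz1' : z = 1 := by
        have h5 : z ^ (orderOf (x.1 : G) * orderOf (y.1 : G)) = 1 := by
          have h6 : (x.1 : G) ^ (orderOf (x.1 : G) * orderOf (y.1 : G)) = 1 := by
            rw [pow_mul, pow_orderOf_eq_one, one_pow]
          have h6' : (y.1 : G) ^ (orderOf (x.1 : G) * orderOf (y.1 : G)) = 1 := by
            rw [mul_comm, pow_mul, pow_orderOf_eq_one, one_pow]
          generalize orderOf (x.1 : G) * orderOf (y.1 : G) = n at h6 h6'
          rw [hx1z, hcz.mul_pow, h6', one_mul] at h6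
          exact h6
        have h7 := orderOf_dvd_of_pow_eq_one h5
        rw [hk] at h7
        rcases Nat.eq_zero_or_pos k with hk0 | hk0
        · rw [hk0, pow_zero] at hk
          exact orderOf_eq_one_iff.mp hk
        · exfalso
          have h8 : p ∣ orderOf (x.1 : G) * orderOf (y.1 : G) :=
            dvd_trans (dvd_pow_self p (by omega)) h7
          rw [Subgroup.orderOf_coe, Subgroup.orderOf_coe] at h8
          rcases (Nat.Prime.dvd_mul hp).mp h8 with h9 | h9
          · exact hx1 h9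
          · exact hy1 h9
      have hxy1 : (x.1 : G) = (y.1 : G) := by rw [hx1z, hz1', mul_one]
      have hxy2 : (x.2 : G) = (y.2 : G) := by
        rw [hxy1] at hxy
        exact mul_left_cancel hxy
      exact Prod.ext (Subtype.ext hxy1) (Subtype.ext hxy2)
    · intro g hg
      rw [Finset.coe_filter] at hg
      have hg' : ¬ p ∣ orderOf g := hg.2
      obtain ⟨⟨u, v⟩, huv⟩ := hμ g
      set e := p ^ (Nat.card G).factorization p with he
      have hcop : Nat.Coprime e (orderOf g) :=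
        Nat.Coprime.pow_left _ ((Nat.Prime.coprime_iff_not_dvd hp).mpr hg')
      have hex : ∃ k : ℕ, g ^ (e * k) = g := by
        rcases Nat.lt_or_ge 1 (orderOf g) with h1 | h1
        · obtain ⟨k, -, hk⟩ := Nat.exists_mul_mod_eq_one_of_coprime hcop h1
          refine ⟨k, ?_⟩
          rw [← pow_mod_orderOf, hk, pow_one]
        · have h2 : orderOf g = 1 := by
            have := orderOf_pos g
            omega
          rw [orderOf_eq_one_iff] at h2
          exact ⟨0, by rw [h2, one_pow]⟩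
      obtain ⟨k, hk⟩ := hex
      refine ⟨(u ^ (e * k), v ^ (e * k)), ?_, ?_⟩
      · rw [Finset.coe_filter]
        refine ⟨Finset.mem_univ _, ?_, ?_⟩
        · show ¬ p ∣ orderOf (u ^ (e * k))
          rw [← Subgroup.orderOf_coe]
          push_cast
          exact pow_regular p (u : G) k
        · show ¬ p ∣ orderOf (v ^ (e * k))
          rw [← Subgroup.orderOf_coe]
          push_cast
          exact pow_regular p (v : G) k
      · show μ (u ^ (e * k), v ^ (e * k)) = g
        have : ((u ^ (e * k), v ^ (e * k)) : U₁ × U₂) = (u, v) ^ (e * k) := rfl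
        rw [this, map_pow, huv, hk]
    · intro x _
      rfl
  rw [principal_iff_sum hM χ, principal_iff_sum hM ψ₁, principal_iff_sum hM ψ₂, hsum]
  exact mul_ne_zero_iff

end Cfsg.Agent.S4521
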