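import Cfsg.Statements.S4735
import Cfsg.Agent.S4521
import Cfsg.Agent.Lib.helper22.QuotDefect2
import Cfsg.Agent.Lib.helper23.GalConj
import Cfsg.Agent.Lib.helper24.CharComplete
import Cfsg.Agent.Lib.helper24.CharKer
import Cfsg.Agent.Lib.helper9.PPrimeCore
import Cfsg.Agent.Lib.helper5.BlockQuot
import Cfsg.Agent.Lib.helper5.BlockNormal
import Cfsg.Agent.Lib.helper23.CharInt

set_option autoImplicit false
open Cfsg

namespace Cfsg.Agent.S4735

open Cfsg.Agent.Lib.helper5 Cfsg.Agent.Lib.helper23 Cfsg.Agent.Lib.helper24 Cfsg.Agent.Lib.helper22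
open scoped ComplexConjugate

theorem infl_injective {G : Type*} [Group G] (N : Subgroup G) [N.Normal] :
    Function.Injective (inflIrr N) := by
  intro a b h
  apply Subtype.ext
  funext q
  obtain ⟨g, rfl⟩ := QuotientGroup.mk_surjective q
  exact congrArg (fun χ : IrrCharacter G => χ.1 g) h

theorem infl_mem_principal {G : Type*} [Group G] [Finite G] {p : ℕ} {M : Ideal Cfsg.AlgInt}
    (hM : Cfsg.IsPModular p M) (N : Subgroup G) [N.Normal] (hN : ¬ p ∣ Nat.card N)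
    (ψ : IrrCharacter (G ⧸ N)) :
    inflIrr N ψ ∈ Cfsg.principalBlock M G ↔ ψ ∈ Cfsg.principalBlock M (G ⧸ N) := by
  have hMp := Cfsg.Agent.Lib.helper23.isPModular_isPrime hM
  constructor
  · intro h
    exact sameBlock_of_comp_mk hM N hN (θ₁ := fun _ => (1 : ℂ)) (fun _ _ => rfl)
      (isClassFunction_irr ψ) h
  · intro h
    exact sameBlock_comp_mk hMp N (θ₁ := fun _ => (1 : ℂ)) h

theorem exists_infl {G : Type*} [Group G] [Finite G] {p : ℕ} {M : Ideal Cfsg.AlgInt}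
    (hM : Cfsg.IsPModular p M) (N : Subgroup G) [N.Normal] (hN : ¬ p ∣ Nat.card N)
    (χ : IrrCharacter G) (hχ : χ ∈ Cfsg.principalBlock M G) :
    ∃ ψ : IrrCharacter (G ⧸ N), inflIrr N ψ = χ := by
  classical
  have := Fintype.ofFinite G
  have := Fintype.ofFinite (IrrCharacter G)
  have h1 := kernel_of_sameBlock hM N hN (χ := trivIrr G) (ψ := χ) hχ (fun n _ => rfl)
  obtain ⟨χ', hirr, hχ'⟩ := isIrrCharacter_deflate N χ.2 h1
  exact ⟨⟨χ', hirr⟩, Subtype.ext (funext fun g => hχ' g)⟩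

theorem sum_transfer {G : Type*} [Group G] [Finite G] {p : ℕ} {M : Ideal Cfsg.AlgInt}
    (hM : Cfsg.IsPModular p M) (N : Subgroup G) [N.Normal] (hN : ¬ p ∣ Nat.card N)
    {R : Type*} [AddCommMonoid R] (f : IrrCharacter G → R) :
    ∑ᶠ χ ∈ Cfsg.principalBlock M G, f χ
      = ∑ᶠ ψ ∈ Cfsg.principalBlock M (G ⧸ N), f (inflIrr N ψ) := by
  symm
  apply finsum_mem_eq_of_bijOn (inflIrr N)
  · refine ⟨?_, ?_, ?_⟩
    · intro ψ hψ
      exact (infl_mem_principal hM N hN ψ).mpr hψ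
    · exact (infl_injective N).injOn
    · intro χ hχ
      obtain ⟨ψ, rfl⟩ := exists_infl hM N hN χ hχ
      exact ⟨ψ, (infl_mem_principal hM N hN ψ).mp hχ, rfl⟩
  · intro ψ _
    rfl

theorem finsum_mem_filter {α : Type*} [Fintype α] {R : Type*} [AddCommMonoid R] (B : Set α)
    [DecidablePred (· ∈ B)] (h : α → R) :
    ∑ᶠ a ∈ B, h a = ∑ a ∈ Finset.univ.filter (· ∈ B), h a := by
  rw [finsum_mem_def, finsum_eq_sum_of_fintype, Finset.sum_filter]
  apply Finset.sum_congr rfl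
  intro a _
  rw [Set.indicator_apply]

theorem irr_mem {G : Type*} [Group G] [Finite G] (χ : IrrCharacter G) (g : G) :
    χ.1 g ∈ algebraicClosure ℚ ℂ := by
  obtain ⟨n, ρ, _, h⟩ := χ.2
  rw [← h]
  exact char_mem_algClosure ρ g

theorem irr_algHom {G : Type*} [Group G] [Finite G] (φ : algebraicClosure ℚ ℂ →ₐ[ℚ] ℂ) (m : ℕ)
    (hφ : ∀ μ : algebraicClosure ℚ ℂ, (μ : ℂ) ^ Nat.card G = 1 → φ μ = (μ : ℂ) ^ m)
    (χ : IrrCharacter G) (g : G) : φ ⟨χ.1 g, irr_mem χ g⟩ = χ.1 (g ^ m) := by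
  obtain ⟨n, ρ, _, h⟩ := χ.2
  have h1 : (⟨χ.1 g, irr_mem χ g⟩ : algebraicClosure ℚ ℂ)
      = ⟨ρ.character g, char_mem_algClosure ρ g⟩ := Subtype.ext (congrFun h g).symm
  rw [h1, algHom_char φ m hφ ρ g, h]

theorem irr_isIntegral {G : Type*} [Group G] [Finite G] (χ : IrrCharacter G) (g : G) :
    IsIntegral ℤ (χ.1 g) := by
  obtain ⟨n, ρ, _, h⟩ := χ.2
  rw [← h]
  exact genrep_char_isIntegral ρ g (isOfFinOrder_of_finite g)

noncomputable def powIrr {G : Type*} [Group G] [Finite G] (m : ℕ) (hm : m.Coprime (Nat.card G))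
    (χ : IrrCharacter G) : IrrCharacter G :=
  ⟨fun g => χ.1 (g ^ m), isIrrCharacter_pow_coprime χ.2 m hm⟩

theorem powIrr_injective {G : Type*} [Group G] [Finite G] (m : ℕ)
    (hm : m.Coprime (Nat.card G)) : Function.Injective (powIrr (G := G) m hm) := by
  intro a b h
  apply Subtype.ext
  funext g
  obtain ⟨g', rfl⟩ := (powCoprime hm.symm).surjective g
  rw [powCoprime_apply]
  exact congrArg (fun χ : IrrCharacter G => χ.1 g') h

theorem powIrr_mem {G : Type*} [Group G] [Fintype G] {p : ℕ} [Fact p.Prime]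
    {M : Ideal Cfsg.AlgInt} (hM : Cfsg.IsPModular p M) (m : ℕ) (hm : m.Coprime (Nat.card G))
    (χ : IrrCharacter G) :
    powIrr m hm χ ∈ Cfsg.principalBlock M G ↔ χ ∈ Cfsg.principalBlock M G := by
  rw [Cfsg.Agent.S4521.principal_iff_sum hM, Cfsg.Agent.S4521.principal_iff_sum hM]
  have h1 : ∑ g : G, regInd p G g * (powIrr m hm χ).1 g = ∑ g : G, regInd p G g * χ.1 g := by
    rw [← Equiv.sum_comp (powCoprime hm.symm) (fun g => regInd p G g * χ.1 g)]
    apply Finset.sum_congr rfl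
    intro g _
    rw [powCoprime_apply]
    have ho : orderOf (g ^ m) = orderOf g :=
      Nat.Coprime.orderOf_pow (Nat.Coprime.coprime_dvd_left (orderOf_dvd_natCard g) hm.symm)
    have h2 : regInd p G (g ^ m) = regInd p G g := by
      by_cases hg : p ∣ orderOf g
      · rw [regInd_of_sing hg, regInd_of_sing (by rw [ho]; exact hg)]
      · rw [regInd_of_reg hg, regInd_of_reg (by rw [ho]; exact hg)]
    rw [h2]
    rfl
  rw [h1]

theorem lam_int {G : Type*} [Group G] [Finite G] (p : ℕ) [Fact p.Prime] (M : Ideal Cfsg.AlgInt)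
    (hM : Cfsg.IsPModular p M) (x : G) :
    ∃ z : ℤ, ∑ᶠ χ ∈ Cfsg.principalBlock M G, Complex.normSq ((χ : G → ℂ) x) = (z : ℝ) := by
  classical
  have := Fintype.ofFinite G
  have := Fintype.ofFinite (IrrCharacter G)
  rw [finsum_mem_filter]
  obtain ⟨Bf, hBf⟩ : ∃ Bf : Finset (IrrCharacter G),
      Bf = Finset.univ.filter (· ∈ Cfsg.principalBlock M G) := ⟨_, rfl⟩
  rw [← hBf]
  let L : algebraicClosure ℚ ℂ :=
    ∑ χ ∈ Bf, (⟨χ.1 x, irr_mem χ x⟩ * ⟨χ.1 x⁻¹, irr_mem χ x⁻¹⟩ : algebraicClosure ℚ ℂ)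
  have hL : (L : ℂ) = ∑ χ ∈ Bf, χ.1 x * χ.1 x⁻¹ := by
    simp only [L]
    push_cast
    rfl
  have hLr : (L : ℂ) = ((∑ χ ∈ Bf, Complex.normSq (χ.1 x) : ℝ) : ℂ) := by
    rw [hL]
    push_cast
    apply Finset.sum_congr rfl
    intro χ _
    rw [irr_inv, Complex.mul_conj]
  have hint : IsIntegral ℤ (L : ℂ) := by
    rw [hL]
    exact IsIntegral.sum _ (fun χ _ => (irr_isIntegral χ x).mul (irr_isIntegral χ x⁻¹))
  have hfix : ∀ φ : algebraicClosure ℚ ℂ →ₐ[ℚ] ℂ, φ L = (L : ℂ) := by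
    intro φ
    obtain ⟨m, hm, hφ⟩ := algHom_root_of_unity_pow (Nat.card G) Nat.card_pos.ne' φ
    rw [hL]
    simp only [L]
    rw [map_sum]
    simp only [map_mul, irr_algHom φ m hφ]
    let e : IrrCharacter G ≃ IrrCharacter G :=
      Equiv.ofBijective (powIrr m hm) (Finite.injective_iff_bijective.mp (powIrr_injective m hm))
    have he : ∀ χ, e χ = powIrr m hm χ := fun χ => rfl
    rw [hBf, Finset.sum_filter, Finset.sum_filter]
    rw [← Equiv.sum_comp e (fun χ : IrrCharacter G =>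
      if χ ∈ Cfsg.principalBlock M G then χ.1 x * χ.1 x⁻¹ else 0)]
    apply Finset.sum_congr rfl
    intro χ _
    rw [he]
    by_cases hχ : χ ∈ Cfsg.principalBlock M G
    · rw [if_pos hχ, if_pos ((powIrr_mem hM m hm χ).mpr hχ)]
      rfl
    · rw [if_neg hχ, if_neg (fun h => hχ ((powIrr_mem hM m hm χ).mp h))]
  obtain ⟨z, hz⟩ := int_of_fixed L hint hfix
  refine ⟨z, ?_⟩
  have h3 : ((∑ χ ∈ Bf, Complex.normSq (χ.1 x) : ℝ) : ℂ) = ((z : ℝ) : ℂ) := by
    rw [← hLr, hz]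
    push_cast
    rfl
  exact_mod_cast h3

theorem result {G : Type*} [Group G] [Finite G] (p : ℕ) [Fact p.Prime] (M : Ideal Cfsg.AlgInt) (hM : Cfsg.IsPModular p M) (x : G) : (∃ n : ℕ, 0 < n ∧ ∑ᶠ χ ∈ Cfsg.principalBlock M G, Complex.normSq ((χ : G → ℂ) x) = n) ∧ ∑ᶠ χ ∈ Cfsg.principalBlock M G, Complex.normSq ((χ : G → ℂ) x) = ∑ᶠ ψ ∈ Cfsg.principalBlock M (G ⧸ Cfsg.pPrimeCore p G), Complex.normSq ((ψ : G ⧸ Cfsg.pPrimeCore p G → ℂ) (QuotientGroup.mk x)) ∧ ∑ᶠ χ ∈ Cfsg.principalBlock M G, Complex.normSq ((χ : G → ℂ) x) ≤ (Nat.card ↥(Subgroup.centralizer ({(QuotientGroup.mk x : G ⧸ Cfsg.pPrimeCore p G)} : Set (G ⧸ Cfsg.pPrimeCore p G))) : ℝ) ∧ ((∑ᶠ χ ∈ Cfsg.principalBlock M G, Cfsg.charDegree (χ : G → ℂ) ^ 2) = (Cfsg.pPrimeCore p G).index ↔ ∀ B : Set (Cfsg.IrrCharacter (G ⧸ Cfsg.pPrimeCore p G)), Cfsg.IsPBlock M B → B = Cfsg.principalBlock M (G ⧸ Cfsg.pPrimeCore p G)) := by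
  classical
  have := Fintype.ofFinite G
  have := Fintype.ofFinite (IrrCharacter G)
  have := Fintype.ofFinite (G ⧸ Cfsg.pPrimeCore p G)
  have := Fintype.ofFinite (IrrCharacter (G ⧸ Cfsg.pPrimeCore p G))
  have hMp := Cfsg.Agent.Lib.helper23.isPModular_isPrime hM
  have hp : p.Prime := hM.1
  have hN : ¬ p ∣ Nat.card (Cfsg.pPrimeCore p G) := by
    have h := Cfsg.Agent.Lib.helper9.pPrimeCore_coprime p G
    intro hd
    exact hp.one_lt.ne' (h.symm.eq_one_of_dvd hd)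
  have htr2 := sum_transfer hM (Cfsg.pPrimeCore p G) hN
    (fun χ : IrrCharacter G => Complex.normSq (χ.1 x))
  refine ⟨?_, htr2, ?_, ?_⟩
  · obtain ⟨z, hz⟩ := lam_int p M hM x
    have hpos : (1 : ℝ) ≤ ∑ᶠ χ ∈ Cfsg.principalBlock M G, Complex.normSq ((χ : G → ℂ) x) := by
      rw [finsum_mem_filter]
      have htriv : trivIrr G ∈ Finset.univ.filter (· ∈ Cfsg.principalBlock M G) := by
        rw [Finset.mem_filter]
        exact ⟨Finset.mem_univ _, Cfsg.Agent.Lib.helper23.sameBlock_refl hMp.ne_top _⟩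
      have h1 := Finset.single_le_sum (f := fun χ : IrrCharacter G => Complex.normSq (χ.1 x))
        (fun χ _ => Complex.normSq_nonneg _) htriv
      simp only [trivIrr_apply, map_one] at h1
      exact h1
    rw [hz] at hpos
    have hz1 : (1 : ℤ) ≤ z := by exact_mod_cast hpos
    refine ⟨z.toNat, by omega, ?_⟩
    rw [hz]
    have h2 : ((z.toNat : ℤ) : ℝ) = (z : ℝ) := by rw [Int.toNat_of_nonneg (by omega)]
    exact_mod_cast h2.symm
  · rw [htr2]
    rw [finsum_mem_filter]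
    have h1 : ∑ ψ ∈ Finset.univ.filter (· ∈ Cfsg.principalBlock M (G ⧸ Cfsg.pPrimeCore p G)),
        Complex.normSq ((inflIrr (Cfsg.pPrimeCore p G) ψ).1 x)
        ≤ ∑ ψ : IrrCharacter (G ⧸ Cfsg.pPrimeCore p G),
          Complex.normSq ((inflIrr (Cfsg.pPrimeCore p G) ψ).1 x) :=
      Finset.sum_le_sum_of_subset_of_nonneg (Finset.filter_subset _ _)
        (fun _ _ _ => Complex.normSq_nonneg _)
    have h2 : ((∑ ψ : IrrCharacter (G ⧸ Cfsg.pPrimeCore p G),
        Complex.normSq ((inflIrr (Cfsg.pPrimeCore p G) ψ).1 x) : ℝ) : ℂ)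
        = (Nat.card ↥(Subgroup.centralizer
          ({(QuotientGroup.mk x : G ⧸ Cfsg.pPrimeCore p G)} : Set (G ⧸ Cfsg.pPrimeCore p G))) : ℂ) := by
      rw [← second_orth_of_isConj (IsConj.refl (QuotientGroup.mk x : G ⧸ Cfsg.pPrimeCore p G))]
      push_cast
      apply Finset.sum_congr rfl
      intro ψ _
      rw [Complex.mul_conj]
      rfl
    have h3 : ∑ ψ : IrrCharacter (G ⧸ Cfsg.pPrimeCore p G),
        Complex.normSq ((inflIrr (Cfsg.pPrimeCore p G) ψ).1 x)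
        = (Nat.card ↥(Subgroup.centralizer
          ({(QuotientGroup.mk x : G ⧸ Cfsg.pPrimeCore p G)} : Set (G ⧸ Cfsg.pPrimeCore p G))) : ℝ) := by
      exact_mod_cast h2
    linarith
  · have htr4 := sum_transfer hM (Cfsg.pPrimeCore p G) hN
      (fun χ : IrrCharacter G => Cfsg.charDegree (χ : G → ℂ) ^ 2)
    rw [htr4]
    have hdeg : ∀ ψ : IrrCharacter (G ⧸ Cfsg.pPrimeCore p G),
        Cfsg.charDegree ((inflIrr (Cfsg.pPrimeCore p G) ψ : IrrCharacter G) : G → ℂ)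
          = Cfsg.charDegree (ψ : G ⧸ Cfsg.pPrimeCore p G → ℂ) := fun ψ => rfl
    simp only [hdeg]
    rw [finsum_mem_filter]
    have hall : ∑ ψ : IrrCharacter (G ⧸ Cfsg.pPrimeCore p G), Cfsg.charDegree ψ.1 ^ 2
        = (Cfsg.pPrimeCore p G).index := by
      have h1 := sum_sq_degrees (G := G ⧸ Cfsg.pPrimeCore p G)
      rw [Subgroup.index_eq_card]
      have h2 : ((∑ ψ : IrrCharacter (G ⧸ Cfsg.pPrimeCore p G), Cfsg.charDegree ψ.1 ^ 2 : ℕ) : ℂ)
          = (Nat.card (G ⧸ Cfsg.pPrimeCore p G) : ℂ) := by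
        rw [← h1]
        push_cast
        apply Finset.sum_congr rfl
        intro ψ _
        rw [charDegree_cast]
      exact_mod_cast h2
    constructor
    · intro heq B hB
      have hmem : ∀ ψ : IrrCharacter (G ⧸ Cfsg.pPrimeCore p G),
          ψ ∈ Cfsg.principalBlock M (G ⧸ Cfsg.pPrimeCore p G) := by
        intro ψ
        by_contra hψ
        have hlt : ∑ ψ ∈ Finset.univ.filter (· ∈ Cfsg.principalBlock M (G ⧸ Cfsg.pPrimeCore p G)),
            Cfsg.charDegree ψ.1 ^ 2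
            < ∑ ψ : IrrCharacter (G ⧸ Cfsg.pPrimeCore p G), Cfsg.charDegree ψ.1 ^ 2 := by
          apply Finset.sum_lt_sum_of_subset (Finset.filter_subset _ _) (i := ψ) (Finset.mem_univ ψ)
            (by simp [hψ]) (pow_pos (charDegree_pos ψ) 2) (fun _ _ _ => Nat.zero_le _)
        rw [heq, hall] at hlt
        exact lt_irrefl _ hlt
      obtain ⟨χ, rfl⟩ := hB
      ext ψ
      constructor
      · intro _
        exact hmem ψ
      · intro hψ
        exact Cfsg.Agent.Lib.helper23.sameBlock_trans hMp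
          (Cfsg.Agent.Lib.helper23.sameBlock_symm (hmem χ)) hψ
    · intro hB
      have hmem : ∀ ψ : IrrCharacter (G ⧸ Cfsg.pPrimeCore p G),
          ψ ∈ Cfsg.principalBlock M (G ⧸ Cfsg.pPrimeCore p G) := by
        intro ψ
        have h1 := hB (Cfsg.blockOf M ψ.1) ⟨ψ, rfl⟩
        rw [← h1]
        exact Cfsg.Agent.Lib.helper23.sameBlock_refl hMp.ne_top ψ.1
      rw [← hall, Finset.filter_true_of_mem (fun ψ _ => hmem ψ)]

end Cfsg.Agent.S4735
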