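import Cfsg.Statements.S4520
import Cfsg.Agent.Lib.helper22.OddGal
import Cfsg.Agent.Lib.helper22.Gagola2
import Cfsg.Agent.Lib.helper5.BlockCover
import Cfsg.Agent.Lib.helper5.BlockThird
import Cfsg.Agent.S4735

set_option autoImplicit false
open Cfsg

namespace Cfsg.Agent.S4520

open Cfsg.Agent.Lib.helper23 Cfsg.Agent.Lib.helper24 Cfsg.Agent.Lib.helper22 Cfsg.Agent.Lib.helper5
open scoped ComplexConjugate

theorem sum_fixed_two {X : Type*} [Fintype X] [DecidableEq X] (f : X → X) (e : ℕ)
    (hf : f^[2 ^ e] = id) (w : X → ℂ) (hw : ∀ x, w (f x) = w x) (P : ℂ → Prop) (hP0 : P 0)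
    (hPadd : ∀ a b, P a → P b → P (a + b)) (hPw : ∀ x, P (w x)) :
    ∃ r : ℂ, P r ∧ ∑ x, w x = ∑ x ∈ Finset.univ.filter (fun x => f x = x), w x + 2 * r := by
  classical
  have hp2 : Fact (Nat.Prime 2) := ⟨Nat.prime_two⟩
  have hPn : ∀ (n : ℕ) (a : ℂ), P a → P (n • a) := by
    intro n a ha
    induction n with
    | zero => simpa using hP0
    | succ n ih =>
      rw [succ_nsmul]
      exact hPadd _ _ ih ha
  have hPsum : ∀ (s : Finset ℂ) (g : ℂ → ℂ), (∀ b ∈ s, P (g b)) → P (∑ b ∈ s, g b) := by
    intro s g hg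
    induction s using Finset.induction_on with
    | empty => simpa using hP0
    | insert a s ha ih =>
      rw [Finset.sum_insert ha]
      exact hPadd _ _ (hg a (Finset.mem_insert_self a s))
        (ih fun b hb => hg b (Finset.mem_insert_of_mem hb))
  obtain ⟨Fix, hFix⟩ : ∃ Fix : Finset X, Fix = Finset.univ.filter (fun x => f x = x) := ⟨_, rfl⟩
  have hmemFix : ∀ x, x ∈ Fix ↔ f x = x := by
    intro x
    rw [hFix, Finset.mem_filter]
    exact ⟨fun h => h.2, fun h => ⟨Finset.mem_univ _, h⟩⟩
  have hcard : ∀ b : ℂ, ∃ m : ℕ, (Finset.univ.filter (fun a => w a = b)).card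
      = (Fix.filter (fun a => w a = b)).card + 2 * m := by
    intro b
    obtain ⟨fb, hfbdef⟩ : ∃ fb : {a : X // w a = b} → {a : X // w a = b},
        ∀ y, (fb y).1 = f y.1 := ⟨fun y => ⟨f y.1, (hw y.1).trans y.2⟩, fun y => rfl⟩
    have hiter : ∀ (n : ℕ) (y : {a : X // w a = b}), (fb^[n] y).1 = f^[n] y.1 := by
      intro n
      induction n with
      | zero => intro y; rfl
      | succ n ih =>
        intro y
        rw [Function.iterate_succ_apply', Function.iterate_succ_apply', ← ih y, hfbdef]
    have hfb : ∀ g : Function.End {a : X // w a = b}, g = fb → g ^ 2 ^ e = 1 := by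
      intro g hg
      funext y
      apply Subtype.ext
      show (g^[2 ^ e] y).1 = y.1
      rw [hg, hiter, hf]
      rfl
    have h1 := Equiv.Perm.card_fixedPoints_modEq (p := 2) (n := e) (hfb fb rfl)
    have h2 : Fintype.card {a : X // w a = b} = (Finset.univ.filter (fun a => w a = b)).card :=
      Fintype.card_subtype _
    have h3 : Fintype.card (Function.fixedPoints fb) = (Fix.filter (fun a => w a = b)).card := by
      rw [← Fintype.card_coe]
      apply Fintype.card_congr
      refine ⟨fun y => ⟨y.1.1, ?_⟩, fun a => ⟨⟨a.1, (Finset.mem_filter.mp a.2).2⟩, ?_⟩, ?_, ?_⟩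
      · rw [Finset.mem_filter, hmemFix]
        refine ⟨?_, y.1.2⟩
        have h4 : fb y.1 = y.1 := y.2
        have h5 := congrArg Subtype.val h4
        rw [hfbdef] at h5
        exact h5
      · show fb _ = _
        apply Subtype.ext
        rw [hfbdef]
        exact (hmemFix _).mp (Finset.mem_filter.mp a.2).1
      · intro y
        rfl
      · intro a
        rfl
    rw [h2, h3] at h1
    have hle : (Fix.filter (fun a => w a = b)).card ≤ (Finset.univ.filter (fun a => w a = b)).card :=
      Finset.card_le_card (Finset.filter_subset_filter _ (Finset.subset_univ _))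
    obtain ⟨m, hm⟩ := (Nat.modEq_iff_dvd' hle).mp h1.symm
    exact ⟨m, by omega⟩
  choose m hm using hcard
  refine ⟨∑ b ∈ Finset.univ.image w, m b • b, ?_, ?_⟩
  · apply hPsum
    intro b hb
    obtain ⟨x, -, rfl⟩ := Finset.mem_image.mp hb
    exact hPn _ _ (hPw x)
  · have e1 : ∑ x, w x = ∑ b ∈ Finset.univ.image w,
        (Finset.univ.filter (fun a => w a = b)).card • b := Finset.sum_comp (fun b => b) w
    have e2 : ∑ x ∈ Fix, w x = ∑ b ∈ Finset.univ.image w,
        (Fix.filter (fun a => w a = b)).card • b := by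
      rw [Finset.sum_comp (fun b => b) w]
      apply Finset.sum_subset (Finset.image_subset_image (Finset.subset_univ _))
      intro b _ hb
      have : Fix.filter (fun a => w a = b) = ∅ := by
        rw [Finset.filter_eq_empty_iff]
        intro a ha hab
        exact hb (Finset.mem_image.mpr ⟨a, ha, hab⟩)
      rw [this, Finset.card_empty, zero_nsmul]
    rw [← hFix, e1, e2, Finset.mul_sum, ← Finset.sum_add_distrib]
    apply Finset.sum_congr rfl
    intro b _
    rw [hm b]
    simp only [nsmul_eq_mul]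
    push_cast
    ring


theorem reg_sum_pow {G : Type*} [Group G] [Fintype G] (p : ℕ) (m : ℕ)
    (hm : m.Coprime (Nat.card G)) (F : G → ℂ) :
    ∑ g : G, regInd p G g * F (g ^ m) = ∑ g : G, regInd p G g * F g := by
  rw [← Equiv.sum_comp (powCoprime hm.symm) (fun g => regInd p G g * F g)]
  apply Finset.sum_congr rfl
  intro g _
  rw [powCoprime_apply]
  have ho : orderOf (g ^ m) = orderOf g :=
    Nat.Coprime.orderOf_pow (Nat.Coprime.coprime_dvd_left (orderOf_dvd_natCard g) hm.symm)
  have h2 : regInd p G (g ^ m) = regInd p G g := by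
    by_cases hg : p ∣ orderOf g
    · rw [regInd_of_sing hg, regInd_of_sing (by rw [ho]; exact hg)]
    · rw [regInd_of_reg hg, regInd_of_reg (by rw [ho]; exact hg)]
  rw [h2]

theorem ind_reg_sum {G : Type*} [Group G] [Fintype G] [Fintype (IrrCharacter G)] (p : ℕ)
    [Fact p.Prime] (N : Subgroup G) [Fintype N] (θ : N → ℂ) :
    ∑ χ' : IrrCharacter G, classInner (indFun N θ) χ'.1 * ∑ g : G, regInd p G g * χ'.1 g
      = (N.index : ℂ) * ∑ n : N, regInd p N n * θ n := by
  have hG : (Nat.card G : ℂ) ≠ 0 := NeZero.ne _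
  have hH : (Nat.card N : ℂ) ≠ 0 := NeZero.ne _
  have hreal : ∀ g : G, conj (regInd p G g) = regInd p G g := by
    intro g
    by_cases hg : p ∣ orderOf g
    · rw [regInd_of_sing hg, map_zero]
    · rw [regInd_of_reg hg, map_one]
  have hfr := frobenius_reciprocity N θ (regInd_isClassFunction (G := G) (p := p))
  have e1 : ∑ χ' : IrrCharacter G, classInner (indFun N θ) χ'.1 * ∑ g : G, regInd p G g * χ'.1 g
      = ∑ g : G, indFun N θ g * conj (regInd p G g) := by
    simp only [Finset.mul_sum]
    rw [Finset.sum_comm]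
    apply Finset.sum_congr rfl
    intro g _
    rw [hreal, classFunction_expansion_apply (indFun_isClassFunction N θ) g, Finset.sum_mul]
    apply Finset.sum_congr rfl
    intro χ _
    ring
  have e2 : ∑ g : G, indFun N θ g * conj (regInd p G g)
      = (Nat.card G : ℂ) * classInner (indFun N θ) (regInd p G) := by
    unfold classInner
    field_simp
  rw [e1, e2, hfr]
  unfold classInner
  have e3 : ∑ h : N, θ h * conj (regInd p G (h : G)) = ∑ n : N, regInd p N n * θ n := by
    apply Finset.sum_congr rfl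
    intro h _
    rw [hreal, mul_comm]
    congr 1
    by_cases hh : p ∣ orderOf h
    · rw [regInd_of_sing hh, regInd_of_sing (by rw [Subgroup.orderOf_coe]; exact hh)]
    · rw [regInd_of_reg hh, regInd_of_reg (by rw [Subgroup.orderOf_coe]; exact hh)]
  rw [e3]
  have hcard : (Nat.card G : ℂ) = (N.index : ℂ) * (Nat.card N : ℂ) := by
    rw [← Nat.cast_mul, Subgroup.index_mul_card]
  rw [hcard]
  field_simp

theorem result {G : Type*} [Group G] [Fintype G] (M : Ideal Cfsg.AlgInt) (hM : Cfsg.IsPModular 2 M) (N : Subgroup G) [N.Normal] [Fintype N] (hidx : Odd N.index) (k e : ℕ) (hk : Nat.Coprime k (Nat.card G)) (hke : k ^ (2 ^ e) ≡ 1 [MOD Nat.card G]) (hk₂ : ∀ g : G, Odd (orderOf g) → g ^ k = g⁻¹) (θ : Cfsg.IrrCharacter N) (hθ : ∀ n : N, (θ : N → ℂ) (n ^ k) = (θ : N → ℂ) n) (χ : Cfsg.IrrCharacter G) (hχ : ∀ g : G, (χ : G → ℂ) (g ^ k) = (χ : G → ℂ) g) (hover : Cfsg.classInner (fun n : N => (χ : G → ℂ) n) (θ : N → ℂ) ≠ 0) : χ ∈ Cfsg.principalBlock M G ↔ θ ∈ Cfsg.principalBlock M N := by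
  classical
  have hp2 : Fact (Nat.Prime 2) := ⟨Nat.prime_two⟩
  have hMp := Cfsg.Agent.Lib.helper23.isPModular_isPrime hM
  have : Fintype (IrrCharacter G) := Fintype.ofFinite _
  have : Fintype (IrrCharacter N) := Fintype.ofFinite _
  constructor
  · intro hχB
    have hsb : Cfsg.SameBlock M χ.1 (trivIrr G).1 := sameBlock_symm hχB
    have h2 : Cfsg.classInner (fun n : N => (trivIrr G).1 n) (trivIrr N).1 ≠ 0 := by
      have : (fun n : N => (trivIrr G).1 n) = (trivIrr N).1 := rfl
      rw [this, isIrrCharacter_inner_self (trivIrr N).2]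
      exact one_ne_zero
    obtain ⟨g, hg⟩ := cover_conj N hMp hsb hover h2
    have h3 : Cfsg.Agent.Lib.helper24.conjFun N (trivIrr N).1 g = fun _ => 1 := rfl
    rw [h3] at hg
    exact sameBlock_symm hg
  · intro hθB
    have hkN : k.Coprime (Nat.card N) :=
      Nat.Coprime.coprime_dvd_right (Subgroup.card_subgroup_dvd_card N) hk
    obtain ⟨a, ha⟩ : ∃ a : IrrCharacter G → ℂ,
        a = fun χ' => ∑ g : G, regInd 2 G g * χ'.1 g := ⟨_, rfl⟩
    obtain ⟨w, hw⟩ : ∃ w : IrrCharacter G → ℂ,
        w = fun χ' => classInner (indFun N θ.1) χ'.1 * a χ' / θ.1 1 := ⟨_, rfl⟩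
    obtain ⟨f, hf⟩ : ∃ f : IrrCharacter G → IrrCharacter G,
        f = Cfsg.Agent.S4735.powIrr k hk := ⟨_, rfl⟩
    have hfapp : ∀ (χ' : IrrCharacter G) (g : G), (f χ').1 g = χ'.1 (g ^ k) := by
      intro χ' g
      rw [hf]
      rfl
    have hθ1 : θ.1 1 ≠ 0 := irr_one_ne_zero θ
    have hfrob : ∀ χ' : IrrCharacter G, classInner (indFun N θ.1) χ'.1
        = classInner θ.1 (fun n : N => χ'.1 n) := fun χ' =>
      frobenius_reciprocity N θ.1 (isCharacter_conj_class (isCharacter_of_isIrrCharacter χ'.2))
    have hfit : f^[2 ^ e] = id := by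
      have hiter : ∀ (n : ℕ) (χ' : IrrCharacter G) (g : G), (f^[n] χ').1 g = χ'.1 (g ^ (k ^ n)) := by
        intro n
        induction n with
        | zero => intro χ' g; simp
        | succ n ih =>
          intro χ' g
          rw [Function.iterate_succ_apply', hfapp, ih, ← pow_mul, pow_succ, mul_comm]
      funext χ'
      apply Subtype.ext
      funext g
      rw [hiter]
      have h1 : g ^ (k ^ 2 ^ e) = g ^ 1 := by
        rw [← pow_mod_natCard, hke, pow_mod_natCard]
      rw [h1, pow_one]
      rfl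
    have hwf : ∀ χ', w (f χ') = w χ' := by
      intro χ'
      rw [hw]
      show classInner (indFun N θ.1) (f χ').1 * a (f χ') / θ.1 1
        = classInner (indFun N θ.1) χ'.1 * a χ' / θ.1 1
      have h1 : a (f χ') = a χ' := by
        rw [ha]
        show ∑ g : G, regInd 2 G g * (f χ').1 g = ∑ g : G, regInd 2 G g * χ'.1 g
        simp only [hfapp]
        exact reg_sum_pow 2 k hk χ'.1
      have h2 : classInner (indFun N θ.1) (f χ').1 = classInner (indFun N θ.1) χ'.1 := by
        rw [hfrob, hfrob]
        unfold classInner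
        congr 1
        rw [← Equiv.sum_comp (powCoprime hkN.symm) (fun n : N => θ.1 n * conj (χ'.1 n))]
        apply Finset.sum_congr rfl
        intro n _
        show θ.1 n * conj ((f χ').1 (n : G)) = θ.1 (n ^ k) * conj (χ'.1 ((n ^ k : N) : G))
        rw [hθ n, hfapp, Subgroup.coe_pow]
      rw [h1, h2]
    have hwR : ∀ χ', Cfsg.MemLocalRing M (w χ') := by
      intro χ'
      by_cases h0 : classInner (indFun N θ.1) χ'.1 = 0
      · rw [hw]
        show Cfsg.MemLocalRing M (classInner (indFun N θ.1) χ'.1 * a χ' / θ.1 1)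
        rw [h0, zero_mul, zero_div]
        exact memLocalRing_zero hMp.ne_top
      · have hcon : classInner (fun n : N => χ'.1 n) θ.1 ≠ 0 := by
          intro hz
          apply h0
          rw [hfrob, classInner_conj_symm (fun n : N => χ'.1 n) θ.1, hz, map_zero]
        obtain ⟨c, hc0, hn, hc⟩ := clifford_degree_mult N χ' θ.2 hcon
        have hsym : classInner (indFun N θ.1) χ'.1 = (c : ℂ) := by
          rw [hfrob, classInner_conj_symm (fun n : N => χ'.1 n) θ.1, hn, Complex.conj_natCast]
        have hdeg : χ'.1 1 = (c : ℂ) * ((conjStab N θ.1).index : ℂ) * θ.1 1 := by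
          rw [← charDegree_cast χ', ← charDegree_cast θ, hc]
          push_cast
          rfl
        have hχ'1 : χ'.1 1 ≠ 0 := irr_one_ne_zero χ'
        have hw' : w χ' = (c : ℂ) * ((c : ℂ) * ((conjStab N θ.1).index : ℂ))
            * coord (regInd 2 G) χ' := by
          rw [hw]
          show classInner (indFun N θ.1) χ'.1 * a χ' / θ.1 1 = _
          rw [hsym, ha]
          unfold coord
          rw [hdeg]
          have hcC : (c : ℂ) ≠ 0 := by exact_mod_cast hc0
          have hiC : ((conjStab N θ.1).index : ℂ) ≠ 0 := by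
            intro hz
            rw [hdeg, hz] at hχ'1
            simp at hχ'1
          field_simp
        rw [hw']
        exact memLocalRing_mul hMp (memLocalRing_mul hMp (memLocalRing_natCast hMp.ne_top c)
          (memLocalRing_mul hMp (memLocalRing_natCast hMp.ne_top c)
            (memLocalRing_natCast hMp.ne_top _)))
          (memLocalRing_coord hMp (coord_regInd_mem_osimaRing hMp) χ')
    obtain ⟨r, hr, hsum⟩ := sum_fixed_two f e hfit w hwf (Cfsg.MemLocalRing M)
      (memLocalRing_zero hMp.ne_top) (fun a b ha hb => memLocalRing_add hMp ha hb) hwR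
    obtain ⟨χ₀, hχ₀, -, -, -, huniq⟩ := exists_unique_fixed_over N hidx k hk hk₂ θ.1 θ.2 hθ
    have hfix : ∑ x ∈ Finset.univ.filter (fun x => f x = x), w x = w χ := by
      apply Finset.sum_eq_single χ
      · intro b hb hbχ
        by_contra hwb
        apply hbχ
        have hb' : f b = b := (Finset.mem_filter.mp hb).2
        have hbover : classInner (fun n : N => b.1 n) θ.1 ≠ 0 := by
          intro hz
          apply hwb
          rw [hw]
          show classInner (indFun N θ.1) b.1 * a b / θ.1 1 = 0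
          rw [hfrob, classInner_conj_symm (fun n : N => b.1 n) θ.1, hz, map_zero, zero_mul,
            zero_div]
        have hbσ : ∀ g : G, b.1 (g ^ k) = b.1 g := by
          intro g
          rw [← hfapp, hb']
        apply Subtype.ext
        rw [huniq b.1 b.2 hbover hbσ, huniq χ.1 χ.2 hover hχ]
      · intro hχn
        exfalso
        apply hχn
        rw [Finset.mem_filter]
        refine ⟨Finset.mem_univ _, ?_⟩
        apply Subtype.ext
        funext g
        rw [hfapp, hχ]
    have htotal : ∑ x, w x = (N.index : ℂ) * coord (regInd 2 N) θ := by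
      rw [hw]
      show ∑ x : IrrCharacter G, classInner (indFun N θ.1) x.1 * a x / θ.1 1 = _
      rw [← Finset.sum_div, ha]
      show (∑ x : IrrCharacter G, classInner (indFun N θ.1) x.1 * ∑ g : G, regInd 2 G g * x.1 g)
        / θ.1 1 = _
      rw [ind_reg_sum 2 N θ.1]
      unfold coord
      rw [mul_div_assoc]
    rw [hfix, htotal] at hsum
    rw [Cfsg.Agent.S4521.principal_iff_sum hM]
    intro ha0
    have hwχ : w χ = 0 := by
      rw [hw]
      show classInner (indFun N θ.1) χ.1 * a χ / θ.1 1 = 0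
      rw [ha]
      show classInner (indFun N θ.1) χ.1 * (∑ g : G, regInd 2 G g * χ.1 g) / θ.1 1 = 0
      rw [ha0, mul_zero, zero_div]
    rw [hwχ, zero_add] at hsum
    have h2M : Cfsg.MemLocalIdeal M ((2 : ℕ) : ℂ) := (memLocalIdeal_natCast_iff hM 2).mpr dvd_rfl
    have h2r : Cfsg.MemLocalIdeal M (2 * r) := by
      have := memLocalIdeal_mul_left hMp hr h2M
      rw [mul_comm] at this
      exact_mod_cast this
    rw [← hsum] at h2r
    rcases memLocalIdeal_or_of_mul hMp (memLocalRing_natCast hMp.ne_top N.index)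
      (memLocalRing_coord hMp (coord_regInd_mem_osimaRing hMp) θ) h2r with h5 | h5
    · rw [memLocalIdeal_natCast_iff hM] at h5
      exact (Nat.not_even_iff_odd.mpr hidx) (even_iff_two_dvd.mpr h5)
    · exact (Cfsg.Agent.Lib.helper5.mem_principalBlock_iff hM θ).mp hθB h5

end Cfsg.Agent.S4520
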