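import Cfsg.Statements.S4541
import Cfsg.Agent.Lib.helper22.Contrib
import Cfsg.Agent.Lib.helper22.TwoPowAvg

set_option autoImplicit false
open Cfsg

namespace Cfsg.Agent.S4541

open Cfsg.Agent.Lib.helper23 Cfsg.Agent.Lib.helper24 Cfsg.Agent.Lib.helper5 Cfsg.Agent.Lib.helper22
open scoped ComplexConjugate

universe u

theorem main {G : Type u} [Group G] [Fintype G] [Fintype (IrrCharacter G)]
    (H : Subgroup G) [Fintype H] [Fintype (IrrCharacter H)]
    (M : Ideal AlgInt) (hM : IsPModular 2 M)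
    (B : Set (IrrCharacter G)) (u : G) (huH : u ∈ H)
    (hcen : ∀ h : H, (h : G) * u = u * (h : G))
    (hH2 : Subgroup.centralizer ({u} : Set G) ≤ H)
    (n : ℕ) (hn : orderOf u = 2 ^ n)
    (b : Set (IrrCharacter H)) (hb : IsInducedBlock M H b B)
    (I₀ : Finset (IrrCharacter G))
    (hI₀ : ∀ χ, χ ∈ I₀ ↔ χ ∈ B ∧ blockHeight 2 B χ.1 = 0) :
    (Odd (Nat.sqrt (blockRank 2 b)) →
        I₀.card ≤ Nat.sqrt (blockRank 2 b) * 2 ^ blockDefect 2 b) ∧
    (¬ Odd (Nat.sqrt (blockRank 2 b)) →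
        (Nat.sqrt (blockRank 2 b) + 1) * I₀.card ≤ blockRank 2 b * 2 ^ blockDefect 2 b) ∧
    (blockRank 2 b ≤ 3 → I₀.card ≤ 2 ^ blockDefect 2 b) := by
  classical
  have hMp := isPModular_isPrime hM
  have hbb : IsPBlock M b := hb.1
  obtain ⟨ν₀, hν, hht, ξ₀, hξ₀, hξ₀0⟩ := block_nu 2 hM b hbb
  obtain ⟨q, hq⟩ : ∃ q : ℕ, q = blockDefect 2 b := ⟨_, rfl⟩
  obtain ⟨l, hl⟩ : ∃ l : ℕ, l = blockRank 2 b := ⟨_, rfl⟩
  rw [← hq] at hν ⊢
  rw [← hl]
  have h2c : ((2 : ℕ) : ℂ) = 2 := by norm_num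
  obtain ⟨t, ht⟩ : ∃ t : H, t = ⟨u, huH⟩ := ⟨_, rfl⟩
  have htc : ∀ c : H, c * t = t * c := by
    intro c
    apply Subtype.ext
    rw [ht]
    exact hcen c
  have htjc : ∀ j : ℕ, ∀ c : H, c * t ^ j = t ^ j * c := by
    intro j c
    have h1 : Commute c t := htc c
    exact (h1.pow_right j).eq
  have htn : t ^ (2 ^ n) = 1 := by
    apply Subtype.ext
    rw [ht]
    show u ^ (2 ^ n) = 1
    rw [← hn]
    exact pow_orderOf_eq_one u
  have htpow : ∀ j : ℕ, ((t ^ j : H) : G) = u ^ j := by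
    intro j
    rw [ht]
    rfl
  obtain ⟨ε, hε⟩ : ∃ ε : IrrCharacter H → ℂ, ε = fun ξ => (ξ.1 1)⁻¹ * ξ.1 t := ⟨_, rfl⟩
  have hεroot : ∀ ξ, ε ξ ^ (2 ^ n) = 1 := by
    intro ξ
    rw [hε]
    exact eps_root ξ t htc _ htn
  obtain ⟨ω, hω⟩ : ∃ ω : IrrCharacter H × IrrCharacter H → ℂ,
      ω = fun P => ε P.1 * conj (ε P.2) := ⟨_, rfl⟩
  have hωroot : ∀ P, ω P ^ (2 ^ n) = 1 := by
    intro P
    rw [hω]
    simp only []
    rw [mul_pow, ← map_pow, hεroot, hεroot, map_one, one_mul]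
  obtain ⟨c, hc⟩ : ∃ c : ℕ → IrrCharacter G → IrrCharacter G → ℂ,
      c = fun j χ ψ => ((2 : ℕ) : ℂ) ^ q * contribC H b 2 (t ^ j) χ ψ := ⟨_, rfl⟩
  have hcK : ∀ j χ ψ, c j χ ψ = ∑ P : IrrCharacter H × IrrCharacter H,
      (kInt H b 2 ν₀ χ ψ P : ℂ) * ω P ^ j := by
    intro j χ ψ
    rw [hc]
    have h := contrib_formula H b q ν₀ hν hht (t ^ j) (htjc j) χ ψ
    simp only []
    rw [h]
    apply Finset.sum_congr rfl
    intro P _
    rw [eps_pow P.1 t htc j, eps_pow P.2 t htc j, hω, hε]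
    simp only []
    rw [map_pow, ← mul_pow]
  have hodd_order : ∀ i : ℕ, ∃ k : ℕ, orderOf ((t ^ (2 * i + 1) : H) : G) = 2 ^ k := by
    intro i
    have hd : orderOf ((t ^ (2 * i + 1) : H) : G) ∣ 2 ^ n := by
      apply orderOf_dvd_of_pow_eq_one
      rw [htpow, ← pow_mul, mul_comm, pow_mul, ← hn, pow_orderOf_eq_one, one_pow]
    obtain ⟨k, -, hk⟩ := (Nat.dvd_prime_pow Nat.prime_two).mp hd
    exact ⟨k, hk⟩
  have hodd_cent : ∀ i : ℕ,
      Subgroup.centralizer ({((t ^ (2 * i + 1) : H) : G)} : Set G) ≤ H := by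
    intro i g hg
    apply hH2
    rw [Subgroup.mem_centralizer_iff] at hg ⊢
    intro x hx
    rw [Set.mem_singleton_iff] at hx
    rw [hx]
    have hcop : Nat.Coprime (2 * i + 1) (orderOf u) := by
      rw [hn]
      apply Nat.Coprime.pow_right
      rw [Nat.coprime_comm, Nat.Prime.coprime_iff_not_dvd Nat.prime_two]
      omega
    obtain ⟨m, hm⟩ := exists_pow_eq_self_of_coprime hcop
    have h2 := hg _ (Set.mem_singleton _)
    rw [htpow] at h2
    have h3 : Commute (u ^ (2 * i + 1)) g := h2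
    have h4 : Commute ((u ^ (2 * i + 1)) ^ m) g := h3.pow_left m
    rw [hm] at h4
    exact h4.eq
  have hbr : ∀ χ ∈ I₀, ∀ ψ ∈ I₀, ¬ MemLocalIdeal M
      ((∑ P : IrrCharacter H × IrrCharacter H, kInt H b 2 ν₀ χ ψ P : ℤ) : ℂ) := by
    intro χ hχ ψ hψ
    rw [hI₀] at hχ hψ
    have h := broue_odd H hM hb q ν₀ hν hht ξ₀ hξ₀ hξ₀0 χ ψ hχ.1 hψ.1 hχ.2 hψ.2
    intro hmem
    apply h
    have e : ((∑ P : IrrCharacter H × IrrCharacter H, kInt H b 2 ν₀ χ ψ P : ℤ) : ℂ)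
        = ∑ ξ : IrrCharacter H, ∑ ξ' : IrrCharacter H,
          b.indicator (fun _ => (1 : ℂ)) ξ * b.indicator (fun _ => (1 : ℂ)) ξ'
            * (resMult H χ ξ : ℂ) * (resMult H ψ ξ' : ℂ) * (nRed 2 ν₀ ξ ξ' : ℂ) := by
      rw [Fintype.sum_prod_type]
      push_cast
      apply Finset.sum_congr rfl
      intro ξ _
      apply Finset.sum_congr rfl
      intro ξ' _
      unfold kInt
      push_cast
      rw [ind_cast, ind_cast]
    rw [← e]
    exact hmem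
  obtain ⟨Bf, hBf⟩ : ∃ Bf : Finset (IrrCharacter G), Bf = Finset.univ.filter (fun χ => χ ∈ B) :=
    ⟨_, rfl⟩
  have hI : I₀ ⊆ Bf := by
    intro χ hχ
    rw [hBf, Finset.mem_filter]
    exact ⟨Finset.mem_univ _, ((hI₀ χ).mp hχ).1⟩
  have h1 : ∀ χ ψ, ∃ Z : ℤ, ∑ i ∈ Finset.range (2 ^ n), Complex.normSq (c (2 * i + 1) χ ψ)
      = (2 ^ n : ℝ) * (Z : ℝ) ∧ (c 1 χ ψ ≠ 0 → 1 ≤ Z) := by
    intro χ ψ
    obtain ⟨Z, hZ1, hZ2⟩ := avg_norm_sq n (kInt H b 2 ν₀ χ ψ) ω hωroot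
    refine ⟨Z, ?_, ?_⟩
    · simp only [hcK]
      exact hZ1
    · intro h
      apply hZ2
      rwa [hcK] at h
  have h2 : ∀ χ ∈ I₀, ∃ A : ℤ, ∑ i ∈ Finset.range (2 ^ n), c (2 * i + 1) χ χ
      = (2 ^ n : ℂ) * (A : ℂ) ∧ Odd A := by
    intro χ hχ
    have hKs : ∀ P, kInt H b 2 ν₀ χ χ (Prod.swap P) = kInt H b 2 ν₀ χ χ P := by
      intro P
      unfold kInt
      simp only [Prod.fst_swap, Prod.snd_swap]
      rw [nRed_symm ν₀ P.2 P.1]
      ring
    have hωs : ∀ P, ω (Prod.swap P) = conj (ω P) := by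
      intro P
      rw [hω]
      simp only [Prod.fst_swap, Prod.snd_swap]
      rw [map_mul, Complex.conj_conj, mul_comm]
    have hfix : ∀ P : IrrCharacter H × IrrCharacter H, Prod.swap P = P → ω P = 1 := by
      intro P hP
      have h12 : P.2 = P.1 := congrArg Prod.fst hP
      rw [hω]
      simp only []
      rw [h12, Complex.mul_conj, Complex.normSq_eq_norm_sq,
        Complex.norm_eq_one_of_pow_eq_one (hεroot P.1) (by positivity)]
      simp
    obtain ⟨A, hA1, hA2⟩ := avg_diag n (kInt H b 2 ν₀ χ χ) ω hωroot Prod.swap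
      (fun P => Prod.swap_swap P) hKs hωs hfix
    refine ⟨A, ?_, ?_⟩
    · simp only [hcK]
      exact hA1
    · have h := hbr χ hχ χ hχ
      rw [memLocalIdeal_intCast_iff hM] at h
      have hodd : Odd (∑ P : IrrCharacter H × IrrCharacter H, kInt H b 2 ν₀ χ χ P) := by
        rw [← Int.not_even_iff_odd]
        intro he
        exact h he.two_dvd
      have := hA2.add_odd hodd
      rwa [sub_add_cancel] at this
  have h3 : ∀ i χ, ∑ ψ, (Complex.normSq (c (2 * i + 1) χ ψ) : ℂ)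
      = (2 ^ q : ℂ) * c (2 * i + 1) χ χ := by
    intro i χ
    have h := contrib_idem H hM b hbb (t ^ (2 * i + 1)) (htjc _) (hodd_order i) (hodd_cent i) χ
    rw [hc]
    simp only []
    rw [h2c, ← h, Finset.mul_sum, Finset.mul_sum]
    apply Finset.sum_congr rfl
    intro ψ _
    rw [← Complex.mul_conj, map_mul, map_pow]
    have : conj (2 : ℂ) = 2 := Complex.conj_eq_iff_re.mpr rfl
    rw [this]
    ring
  have h4 : ∀ i, ∑ χ ∈ Bf, c (2 * i + 1) χ χ = (2 ^ q : ℂ) * (l : ℂ) := by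
    intro i
    have h := contrib_trace H hM b hbb B hb (t ^ (2 * i + 1)) (htjc _) (hodd_order i)
      (hodd_cent i)
    rw [hl, ← h, hBf, Finset.sum_filter, Finset.mul_sum, hc]
    apply Finset.sum_congr rfl
    intro χ _
    simp only []
    rw [h2c]
    by_cases hχ : χ ∈ B
    · rw [if_pos hχ, Set.indicator_of_mem hχ, one_mul]
    · rw [if_neg hχ, Set.indicator_of_notMem hχ]
      simp
  have h5 : ∀ χ ∈ I₀, ∀ ψ ∈ I₀, c 1 χ ψ ≠ 0 := by
    intro χ hχ ψ hψ h0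
    apply hbr χ hχ ψ hψ
    rw [hcK] at h0
    have e : ((∑ P : IrrCharacter H × IrrCharacter H, kInt H b 2 ν₀ χ ψ P : ℤ) : ℂ)
        = -∑ P : IrrCharacter H × IrrCharacter H, (kInt H b 2 ν₀ χ ψ P : ℂ) * (ω P - 1) := by
      push_cast
      simp only [mul_sub, mul_one, Finset.sum_sub_distrib]
      have h0' : ∑ P : IrrCharacter H × IrrCharacter H, (kInt H b 2 ν₀ χ ψ P : ℂ) * ω P = 0 := by
        rw [← h0]
        apply Finset.sum_congr rfl
        intro P _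
        rw [pow_one]
      rw [h0']
      ring
    rw [e]
    apply memLocalIdeal_neg
    apply memLocalIdeal_sum hMp
    intro P _
    exact memLocalIdeal_mul_left hMp (memLocalRing_intCast hMp.ne_top _)
      (memLocalIdeal_root_sub_one hM (ω P) n (hωroot P))
  exact k0_bound n q l c Bf I₀ hI h1 h2 h3 h4 h5

theorem result {G : Type*} [Group G] [Finite G] (M : Ideal Cfsg.AlgInt) (hM : Cfsg.IsPModular 2 M) (B : Set (Cfsg.IrrCharacter G)) (hB : Cfsg.IsPBlock M B) (u : G) (hu : ∃ j : ℕ, orderOf u = 2 ^ j) (b : Set (Cfsg.IrrCharacter ↥(Subgroup.centralizer ({u} : Set G)))) (hb : Cfsg.IsInducedBlock M (Subgroup.centralizer ({u} : Set G)) b B) : (Odd (Nat.sqrt (Cfsg.blockRank 2 b)) → Nat.card {χ : Cfsg.IrrCharacter G // χ ∈ B ∧ Cfsg.blockHeight 2 B (χ : G → ℂ) = 0} ≤ Nat.sqrt (Cfsg.blockRank 2 b) * 2 ^ Cfsg.blockDefect 2 b) ∧ (¬ Odd (Nat.sqrt (Cfsg.blockRank 2 b)) → (Nat.sqrt (Cfsg.blockRank 2 b) + 1)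 * Nat.card {χ : Cfsg.IrrCharacter G // χ ∈ B ∧ Cfsg.blockHeight 2 B (χ : G → ℂ) = 0} ≤ Cfsg.blockRank 2 b * 2 ^ Cfsg.blockDefect 2 b) ∧ (Cfsg.blockRank 2 b ≤ 3 → Nat.card {χ : Cfsg.IrrCharacter G // χ ∈ B ∧ Cfsg.blockHeight 2 B (χ : G → ℂ) = 0} ≤ 2 ^ Cfsg.blockDefect 2 b) := by
  classical
  have : Fintype G := Fintype.ofFinite G
  have : Fintype (IrrCharacter G) := Fintype.ofFinite _
  have : Fintype (Subgroup.centralizer ({u} : Set G)) := Fintype.ofFinite _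
  have : Fintype (IrrCharacter (Subgroup.centralizer ({u} : Set G))) := Fintype.ofFinite _
  obtain ⟨n, hn⟩ := hu
  have hcard : Nat.card {χ : Cfsg.IrrCharacter G // χ ∈ B ∧ Cfsg.blockHeight 2 B (χ : G → ℂ) = 0}
      = (Finset.univ.filter (fun χ : IrrCharacter G =>
          χ ∈ B ∧ Cfsg.blockHeight 2 B (χ : G → ℂ) = 0)).card := by
    rw [Nat.card_eq_fintype_card, Fintype.card_subtype]
  rw [hcard]
  refine main (Subgroup.centralizer ({u} : Set G)) M hM B u ?_ ?_ le_rfl n hn b hb _ ?_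
  · rw [Subgroup.mem_centralizer_iff]
    intro g hg
    rw [Set.mem_singleton_iff] at hg
    rw [hg]
  · intro h
    have := h.2
    rw [Subgroup.mem_centralizer_iff] at this
    exact (this u (Set.mem_singleton u)).symm
  · intro χ
    rw [Finset.mem_filter]
    simp

end Cfsg.Agent.S4541
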