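import Cfsg.Statements.S4550
import Cfsg.Agent.Lib.helper23.BlockSquares
import Cfsg.Agent.Lib.helper23.GalConj

set_option autoImplicit false
open Cfsg

namespace Cfsg.Agent.S4550

open Cfsg.Agent.Lib.helper24 Cfsg.Agent.Lib.helper23 Cfsg.Agent.Lib.helper5

universe u

theorem three_pow_dvd (n : ℕ) : (2 : ℤ) ^ (n + 1) ∣ 3 ^ (2 ^ n) - 1 := by
  induction n with
  | zero => norm_num
  | succ n ih =>
    have h1 : (3 : ℤ) ^ (2 ^ (n + 1)) - 1 = (3 ^ (2 ^ n) - 1) * (3 ^ (2 ^ n) - 1 + 2) := by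
      rw [pow_succ 2 n, pow_mul]
      ring
    rw [h1, pow_succ (2 : ℤ) (n + 1)]
    apply mul_dvd_mul ih
    have h2 : (2 : ℤ) ∣ 3 ^ (2 ^ n) - 1 := dvd_trans (dvd_pow_self 2 (Nat.succ_ne_zero n)) ih
    exact dvd_add h2 (dvd_refl 2)

theorem three_pow_modEq (n : ℕ) : 3 ^ (2 ^ n) ≡ 1 [MOD 2 ^ (n + 1)] := by
  have h := three_pow_dvd n
  have h2 : ((1 : ℕ) : ℤ) ≡ ((3 ^ (2 ^ n) : ℕ) : ℤ) [ZMOD ((2 ^ (n + 1) : ℕ) : ℤ)] := by
    rw [Int.modEq_iff_dvd]
    push_cast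
    exact h
  exact (Int.natCast_modEq_iff.mp h2).symm

theorem pow_pow_eq {G : Type u} [Group G] [Finite G] (k : ℕ)
    (hk₁ : ∀ g : G, (∃ j : ℕ, orderOf g = 2 ^ j) → g ^ k = g ^ 3)
    (hk₂ : ∀ g : G, Odd (orderOf g) → g ^ k = g) (g : G) :
    g ^ (k ^ (2 ^ Nat.card G)) = g := by
  obtain ⟨j, m, hm, ho⟩ := Nat.exists_eq_two_pow_mul_odd (orderOf_pos g).ne'
  have hm0 : m ≠ 0 := by
    rintro rfl
    exact (Nat.not_odd_iff_even.mpr (by decide : Even 0)) hm
  have h2j0 : (2 : ℕ) ^ j ≠ 0 := by positivity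
  have h2 : orderOf (g ^ m) = 2 ^ j := by
    rw [orderOf_pow_of_dvd hm0 (ho ▸ Dvd.intro_left _ rfl), ho]
    exact Nat.mul_div_cancel _ (Nat.pos_of_ne_zero hm0)
  have h3 : orderOf (g ^ 2 ^ j) = m := by
    rw [orderOf_pow_of_dvd h2j0 (ho ▸ Dvd.intro _ rfl), ho]
    exact Nat.mul_div_cancel_left _ (Nat.pos_of_ne_zero h2j0)
  have e1 : k ≡ 3 [MOD 2 ^ j] := by
    have h := hk₁ (g ^ m) ⟨j, h2⟩
    rw [← pow_mul, ← pow_mul, pow_eq_pow_iff_modEq, ho, mul_comm (2 ^ j) m] at h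
    exact Nat.ModEq.mul_left_cancel' hm0 h
  have e2 : k ≡ 1 [MOD m] := by
    have h := hk₂ (g ^ 2 ^ j) (h3 ▸ hm)
    have h' : (g ^ 2 ^ j) ^ k = (g ^ 2 ^ j) ^ 1 := by rw [pow_one]; exact h
    rw [← pow_mul, ← pow_mul, pow_eq_pow_iff_modEq, ho] at h'
    exact Nat.ModEq.mul_left_cancel' h2j0 h'
  have hj : j ≤ Nat.card G + 1 := by
    have h4 : 2 ^ j ≤ Nat.card G := by
      have h5 : orderOf (g ^ m) ≤ Nat.card G := orderOf_le_card
      rwa [h2] at h5
    have h6 : j < 2 ^ j := Nat.lt_two_pow_self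
    omega
  have e3 : k ^ (2 ^ Nat.card G) ≡ 1 [MOD 2 ^ j] := by
    have h7 : k ^ (2 ^ Nat.card G) ≡ 3 ^ (2 ^ Nat.card G) [MOD 2 ^ j] := e1.pow _
    have h8 : 3 ^ (2 ^ Nat.card G) ≡ 1 [MOD 2 ^ j] :=
      (three_pow_modEq (Nat.card G)).of_dvd (pow_dvd_pow 2 hj)
    exact h7.trans h8
  have e4 : k ^ (2 ^ Nat.card G) ≡ 1 [MOD m] := by
    have h7 : k ^ (2 ^ Nat.card G) ≡ 1 ^ (2 ^ Nat.card G) [MOD m] := e2.pow _
    rwa [one_pow] at h7
  have hcop : Nat.Coprime (2 ^ j) m := by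
    apply Nat.Coprime.pow_left
    exact Nat.coprime_two_left.mpr hm
  have e5 : k ^ (2 ^ Nat.card G) ≡ 1 [MOD 2 ^ j * m] :=
    (Nat.modEq_and_modEq_iff_modEq_mul hcop).mp ⟨e3, e4⟩
  rw [← ho] at e5
  have h9 := pow_eq_pow_iff_modEq.mpr e5
  rwa [pow_one] at h9

theorem coprime_of_pow {G : Type u} [Group G] [Finite G] (k n : ℕ) (hn : n ≠ 0)
    (h : ∀ g : G, g ^ (k ^ n) = g) : Nat.Coprime k (Nat.card G) := by
  apply Nat.Coprime.symm
  apply Nat.coprime_of_dvd
  intro q hq hqG hqk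
  have := Fact.mk hq
  obtain ⟨g, hg⟩ := exists_prime_orderOf_dvd_card' q hqG
  have h1 : g ^ (k ^ n) = 1 := by
    apply orderOf_dvd_iff_pow_eq_one.mp
    rw [hg]
    exact dvd_trans hqk (dvd_pow_self k hn)
  rw [h g] at h1
  rw [h1, orderOf_one] at hg
  exact hq.one_lt.ne hg

theorem centralizer_pow_eq {G : Type u} [Group G] (g : G) (k n : ℕ) (hn : n ≠ 0)
    (h : g ^ (k ^ n) = g) :
    Subgroup.centralizer ({g ^ k} : Set G) = Subgroup.centralizer ({g} : Set G) := by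
  ext x
  rw [Subgroup.mem_centralizer_singleton_iff, Subgroup.mem_centralizer_singleton_iff]
  constructor
  · intro hx
    have h1 : Commute (g ^ k) x := hx.symm
    have h2 : Commute ((g ^ k) ^ (k ^ (n - 1))) x := h1.pow_left _
    rw [← pow_mul, ← pow_succ', Nat.sub_add_cancel (Nat.pos_of_ne_zero hn), h] at h2
    exact h2.symm
  · intro hx
    have h1 : Commute g x := hx.symm
    exact (h1.pow_left k).symm

theorem main {G : Type u} [Group G] [Finite G] (M : Ideal AlgInt) (hM : IsPModular 2 M)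
    (hev : Even (Nat.card G)) (k : ℕ)
    (hk₁ : ∀ g : G, (∃ j : ℕ, orderOf g = 2 ^ j) → g ^ k = g ^ 3)
    (hk₂ : ∀ g : G, Odd (orderOf g) → g ^ k = g) :
    Even (Nat.card {χ : IrrCharacter G // χ ∈ principalBlock M G ∧
      Odd (charDegree (χ : G → ℂ)) ∧ ∀ g : G, (χ : G → ℂ) (g ^ k) = (χ : G → ℂ) g}) := by
  classical
  have := Fintype.ofFinite G
  have := Fintype.ofFinite (IrrCharacter G)
  have hMp := isPModular_isPrime hM
  have hpp := pow_pow_eq k hk₁ hk₂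
  have hN0 : 2 ^ Nat.card G ≠ 0 := by positivity
  have hcop := coprime_of_pow k (2 ^ Nat.card G) hN0 hpp
  have hmem : ∀ χ : IrrCharacter G, χ ∈ principalBlock M G →
      ∀ (h : IsIrrCharacter G (fun g => χ.1 (g ^ k))),
        (⟨fun g => χ.1 (g ^ k), h⟩ : IrrCharacter G) ∈ principalBlock M G := by
    intro χ hχ h g
    have h1 := hχ (g ^ k)
    have hc : Subgroup.centralizer ({g ^ k} : Set G) = Subgroup.centralizer ({g} : Set G) :=
      centralizer_pow_eq g k _ hN0 (hpp g)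
    have e1 : centralChar (fun _ : G => (1 : ℂ)) (g ^ k)
        = centralChar (fun _ : G => (1 : ℂ)) g := by
      unfold centralChar
      rw [hc]
    have e2 : centralChar χ.1 (g ^ k) = centralChar (fun g => χ.1 (g ^ k)) g := by
      unfold centralChar
      rw [hc]
      show _ = _ / χ.1 (1 ^ k)
      rw [one_pow]
    rw [e1, e2] at h1
    exact h1
  have hdeg : ∀ χ : IrrCharacter G, charDegree (fun g => χ.1 (g ^ k)) = charDegree χ.1 := by
    intro χ
    unfold charDegree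
    show ⌊(χ.1 (1 ^ k)).re⌋₊ = _
    rw [one_pow]
  let f : Function.End {χ : IrrCharacter G // χ ∈ principalBlock M G ∧ Odd (charDegree χ.1)} :=
    fun χ => ⟨⟨fun g => χ.1.1 (g ^ k), isIrrCharacter_pow_coprime χ.1.2 k hcop⟩,
      hmem χ.1 χ.2.1 _, by rw [hdeg]; exact χ.2.2⟩
  have hiter : ∀ (n : ℕ)
      (χ : {χ : IrrCharacter G // χ ∈ principalBlock M G ∧ Odd (charDegree χ.1)}) (g : G),
      ((f ^ n) χ).1.1 g = χ.1.1 (g ^ (k ^ n)) := by
    intro n
    induction n with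
    | zero =>
      intro χ g
      rw [pow_zero, pow_zero, pow_one]
      rfl
    | succ n ih =>
      intro χ g
      rw [pow_succ]
      show ((f ^ n) (f χ)).1.1 g = _
      rw [ih (f χ) g]
      show χ.1.1 ((g ^ (k ^ n)) ^ k) = _
      rw [← pow_mul, ← pow_succ]
  have hf : f ^ 2 ^ (Nat.card G) = 1 := by
    funext χ
    apply Subtype.ext
    apply Subtype.ext
    funext g
    rw [hiter, hpp]
    rfl
  have := Fact.mk Nat.prime_two
  have hmod := Equiv.Perm.card_fixedPoints_modEq (p := 2) (n := Nat.card G) hf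
  have e : {χ : IrrCharacter G // χ ∈ principalBlock M G ∧ Odd (charDegree χ.1) ∧
      ∀ g : G, χ.1 (g ^ k) = χ.1 g} ≃ Function.fixedPoints f :=
    { toFun := fun χ => ⟨⟨χ.1, χ.2.1, χ.2.2.1⟩, Subtype.ext (Subtype.ext (funext χ.2.2.2))⟩
      invFun := fun x => ⟨x.1.1, x.1.2.1, x.1.2.2, fun g =>
        congrFun (congrArg (fun y : {χ : IrrCharacter G // χ ∈ principalBlock M G ∧
          Odd (charDegree χ.1)} => y.1.1) x.2) g⟩
      left_inv := fun χ => rfl
      right_inv := fun x => rfl }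
  rw [Nat.card_congr e]
  rw [← Nat.card_eq_fintype_card, ← Nat.card_eq_fintype_card] at hmod
  have hB₀ : IsPBlock M (principalBlock M G) := ⟨trivIrr G, rfl⟩
  have hfac := factorization_sum_sq hM (principalBlock M G) hB₀
  have ha : 1 ≤ (Nat.card G).factorization 2 := by
    have h2 : 2 ∣ Nat.card G := even_iff_two_dvd.mp hev
    exact (Nat.prime_two.dvd_iff_one_le_factorization Nat.card_pos.ne').mp h2
  have hdle : blockDefect 2 (principalBlock M G) ≤ (Nat.card G).factorization 2 := by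
    unfold blockDefect
    exact Nat.sub_le _ _
  have hS : Even (∑ χ : IrrCharacter G,
      if χ ∈ principalBlock M G then charDegree χ.1 ^ 2 else 0) := by
    rw [even_iff_two_dvd]
    apply Nat.dvd_of_factorization_pos
    rw [hfac]
    omega
  rw [Finset.even_sum_iff_even_card_odd] at hS
  have hX : Nat.card {χ : IrrCharacter G // χ ∈ principalBlock M G ∧ Odd (charDegree χ.1)}
      = (Finset.univ.filter (fun χ : IrrCharacter G =>
          Odd (if χ ∈ principalBlock M G then charDegree χ.1 ^ 2 else 0))).card := by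
    rw [Nat.card_eq_fintype_card, Fintype.card_subtype]
    congr 1
    ext χ
    simp only [Finset.mem_filter, Finset.mem_univ, true_and]
    by_cases hχ : χ ∈ principalBlock M G
    · rw [if_pos hχ, Nat.odd_pow_iff (by norm_num : (2 : ℕ) ≠ 0)]
      constructor
      · intro h
        exact h.2
      · intro h
        exact ⟨hχ, h⟩
    · rw [if_neg hχ]
      constructor
      · intro h
        exact absurd h.1 hχ
      · intro h
        exact absurd h (by decide)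
  rw [← hX] at hS
  have h3 := hmod
  unfold Nat.ModEq at h3
  rw [Nat.even_iff] at hS ⊢
  omega

theorem result {G : Type*} [Group G] [Finite G] (M : Ideal Cfsg.AlgInt) (hM : Cfsg.IsPModular 2 M) (hev : Even (Nat.card G)) (k : ℕ) (hk₁ : ∀ g : G, (∃ j : ℕ, orderOf g = 2 ^ j) → g ^ k = g ^ 3) (hk₂ : ∀ g : G, Odd (orderOf g) → g ^ k = g) : Even (Nat.card {χ : Cfsg.IrrCharacter G // χ ∈ Cfsg.principalBlock M G ∧ Odd (Cfsg.charDegree (χ : G → ℂ)) ∧ ∀ g : G, (χ : G → ℂ) (g ^ k) = (χ : G → ℂ) g}) := by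
  exact main M hM hev k hk₁ hk₂

end Cfsg.Agent.S4550
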