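import Cfsg.Statements.S4708
import Cfsg.Agent.S4521
import Cfsg.Agent.Lib.helper5.BlockCover

set_option autoImplicit false
open Cfsg

namespace Cfsg.Agent.S4708

open Cfsg.Agent.Lib.helper5 Cfsg.Agent.Lib.helper23 Cfsg.Agent.Lib.helper24
open scoped ComplexConjugate

theorem finsum_mem_filter {α : Type*} [Fintype α] {R : Type*} [AddCommMonoid R] (B : Set α)
    [DecidablePred (· ∈ B)] (h : α → R) :
    ∑ᶠ a ∈ B, h a = ∑ a ∈ Finset.univ.filter (· ∈ B), h a := by
  rw [finsum_mem_def, finsum_eq_sum_of_fintype, Finset.sum_filter]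
  apply Finset.sum_congr rfl
  intro a _
  rw [Set.indicator_apply]

theorem exists_over {G : Type*} [Group G] [Fintype G] [Fintype (Cfsg.IrrCharacter G)]
    (p : ℕ) [Fact p.Prime] (M : Ideal Cfsg.AlgInt) (hM : Cfsg.IsPModular p M)
    (H : Subgroup G) [Fintype H] (θ : Cfsg.IrrCharacter H)
    (hθ : θ ∈ Cfsg.principalBlock M H) :
    ∃ χ ∈ Cfsg.principalBlock M G, Cfsg.classInner (Cfsg.indFun H θ.1) χ.1 ≠ 0 := by
  classical
  by_contra hcon
  push Not at hcon
  have h1 := (Cfsg.Agent.S4521.principal_iff_sum hM θ).mp hθ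
  apply h1
  have hG : (Nat.card G : ℂ) ≠ 0 := NeZero.ne _
  have hH : (Nat.card H : ℂ) ≠ 0 := NeZero.ne _
  have hfr := frobenius_reciprocity H θ.1 (regInd_isClassFunction (G := G) (p := p))
  have hreal : ∀ g : G, conj (regInd p G g) = regInd p G g := by
    intro g
    by_cases hg : p ∣ orderOf g
    · rw [regInd_of_sing hg, map_zero]
    · rw [regInd_of_reg hg, map_one]
  have hL : Cfsg.classInner (Cfsg.indFun H θ.1) (regInd p G) = 0 := by
    unfold Cfsg.classInner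
    have e : ∀ g : G, Cfsg.indFun H θ.1 g * conj (regInd p G g)
        = ∑ χ : Cfsg.IrrCharacter G,
            Cfsg.classInner (Cfsg.indFun H θ.1) χ.1 * (regInd p G g * χ.1 g) := by
      intro g
      rw [hreal, classFunction_expansion_apply (indFun_isClassFunction H θ.1) g, Finset.sum_mul]
      apply Finset.sum_congr rfl
      intro χ _
      ring
    rw [Finset.sum_congr rfl (fun g _ => e g), Finset.sum_comm]
    have e2 : ∀ χ : Cfsg.IrrCharacter G, ∑ g : G,
        Cfsg.classInner (Cfsg.indFun H θ.1) χ.1 * (regInd p G g * χ.1 g) = 0 := by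
      intro χ
      rw [← Finset.mul_sum]
      by_cases hχ : χ ∈ Cfsg.principalBlock M G
      · rw [hcon χ hχ, zero_mul]
      · have h2 : ∑ g : G, regInd p G g * χ.1 g = 0 := by
          by_contra h3
          exact hχ ((Cfsg.Agent.S4521.principal_iff_sum hM χ).mpr h3)
        rw [h2, mul_zero]
    rw [Finset.sum_congr rfl (fun χ _ => e2 χ), Finset.sum_const_zero, mul_zero]
  rw [hL] at hfr
  unfold Cfsg.classInner at hfr
  have h4 : ∑ h : H, θ.1 h * conj (regInd p G (h : G)) = 0 := by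
    rcases mul_eq_zero.mp hfr.symm with h5 | h5
    · exact absurd h5 (inv_ne_zero hH)
    · exact h5
  rw [← h4]
  apply Finset.sum_congr rfl
  intro h _
  rw [hreal, mul_comm]
  congr 1
  by_cases hh : p ∣ orderOf h
  · rw [regInd_of_sing hh, regInd_of_sing (by rw [Subgroup.orderOf_coe]; exact hh)]
  · rw [regInd_of_reg hh, regInd_of_reg (by rw [Subgroup.orderOf_coe]; exact hh)]

theorem result {G : Type*} [Group G] [Finite G] (p : ℕ) [Fact p.Prime] (M : Ideal Cfsg.AlgInt) (hM : Cfsg.IsPModular p M) (H : Subgroup G) [H.Normal] : (∑ᶠ θ ∈ Cfsg.principalBlock M H, Cfsg.charDegree (θ : H → ℂ) ^ 2) ≤ (∑ᶠ χ ∈ Cfsg.principalBlock M G, Cfsg.charDegree (χ : G → ℂ) ^ 2) ∧ (∑ᶠ χ ∈ Cfsg.principalBlock M G, Cfsg.charDegree (χ : G → ℂ) ^ 2) ≤ H.index * ∑ᶠ θ ∈ Cfsg.principalBlock M H, Cfsg.charDegree (θ : H → ℂ) ^ 2 := by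
  classical
  have : Fintype G := Fintype.ofFinite G
  have : Fintype H := Fintype.ofFinite H
  have : Fintype (Cfsg.IrrCharacter G) := Fintype.ofFinite _
  have : Fintype (Cfsg.IrrCharacter H) := Fintype.ofFinite _
  have hMp := isPModular_isPrime hM
  choose Mm hMm using fun (χ : Cfsg.IrrCharacter G) (θ : Cfsg.IrrCharacter H) =>
    isCharacter_inner_irr_nat (isCharacter_restrict H (isCharacter_irr χ)) θ
  have hF1 : ∀ χ : Cfsg.IrrCharacter G,
      Cfsg.charDegree χ.1 = ∑ θ : Cfsg.IrrCharacter H, Mm χ θ * Cfsg.charDegree θ.1 := by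
    intro χ
    have h1 := classFunction_expansion_apply
      (isCharacter_conj_class (isCharacter_restrict H (isCharacter_irr χ))) (1 : H)
    have h2 : ((Cfsg.charDegree χ.1 : ℕ) : ℂ)
        = ((∑ θ : Cfsg.IrrCharacter H, Mm χ θ * Cfsg.charDegree θ.1 : ℕ) : ℂ) := by
      rw [charDegree_cast]
      push_cast
      have h3 : χ.1 1 = χ.1 ((1 : H) : G) := by rw [Subgroup.coe_one]
      rw [h3, h1]
      apply Finset.sum_congr rfl
      intro θ _
      rw [hMm, charDegree_cast]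
    exact_mod_cast h2
  have hfrob : ∀ (χ : Cfsg.IrrCharacter G) (θ : Cfsg.IrrCharacter H),
      Cfsg.classInner (Cfsg.indFun H θ.1) χ.1 = (Mm χ θ : ℂ) := by
    intro χ θ
    rw [frobenius_reciprocity H θ.1 (isClassFunction_irr χ), classInner_conj_symm, hMm,
      Complex.conj_natCast]
  have hF2 : ∀ θ : Cfsg.IrrCharacter H,
      H.index * Cfsg.charDegree θ.1 = ∑ χ : Cfsg.IrrCharacter G, Mm χ θ * Cfsg.charDegree χ.1 := by
    intro θ
    have h1 := classFunction_expansion_apply (indFun_isClassFunction H θ.1) (1 : G)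
    rw [indFun_one] at h1
    have h2 : ((H.index * Cfsg.charDegree θ.1 : ℕ) : ℂ)
        = ((∑ χ : Cfsg.IrrCharacter G, Mm χ θ * Cfsg.charDegree χ.1 : ℕ) : ℂ) := by
      push_cast
      rw [charDegree_cast, h1]
      apply Finset.sum_congr rfl
      intro χ _
      rw [hfrob, charDegree_cast]
    exact_mod_cast h2
  have hF3 : ∀ (χ : Cfsg.IrrCharacter G) (θ : Cfsg.IrrCharacter H),
      χ ∈ Cfsg.principalBlock M G → Mm χ θ ≠ 0 → θ ∈ Cfsg.principalBlock M H := by
    intro χ θ hχ hne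
    have hsb : Cfsg.SameBlock M χ.1 (trivIrr G).1 := sameBlock_symm hχ
    have hθc : Cfsg.classInner (fun n : H => χ.1 n) θ.1 ≠ 0 := by
      rw [hMm]
      exact_mod_cast hne
    have hψ : Cfsg.classInner (fun n : H => (trivIrr G).1 n) (trivIrr H).1 ≠ 0 := by
      have h1 := irr_orthonormal (trivIrr H) (trivIrr H)
      rw [if_pos rfl] at h1
      have h2 : (fun n : H => (trivIrr G).1 n) = (trivIrr H).1 := rfl
      rw [h2, h1]
      exact one_ne_zero
    obtain ⟨g, hg⟩ := cover_conj H hMp hsb hθc hψ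
    have h3 : Cfsg.Agent.Lib.helper24.conjFun H (trivIrr H).1 g = (trivIrr H).1 := rfl
    rw [h3] at hg
    exact sameBlock_symm hg
  have hF4 : ∀ θ : Cfsg.IrrCharacter H, θ ∈ Cfsg.principalBlock M H →
      ∃ χ ∈ Cfsg.principalBlock M G, Mm χ θ ≠ 0 := by
    intro θ hθ
    obtain ⟨χ, hχ, hne⟩ := exists_over p M hM H θ hθ
    refine ⟨χ, hχ, ?_⟩
    rw [hfrob] at hne
    exact_mod_cast hne
  obtain ⟨Af, hAf⟩ : ∃ Af : Finset (Cfsg.IrrCharacter G),
      Af = Finset.univ.filter (· ∈ Cfsg.principalBlock M G) := ⟨_, rfl⟩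
  obtain ⟨Bf, hBf⟩ : ∃ Bf : Finset (Cfsg.IrrCharacter H),
      Bf = Finset.univ.filter (· ∈ Cfsg.principalBlock M H) := ⟨_, rfl⟩
  have hmemA : ∀ χ, χ ∈ Af ↔ χ ∈ Cfsg.principalBlock M G := by
    intro χ
    rw [hAf, Finset.mem_filter]
    simp
  have hmemB : ∀ θ, θ ∈ Bf ↔ θ ∈ Cfsg.principalBlock M H := by
    intro θ
    rw [hBf, Finset.mem_filter]
    simp
  rw [finsum_mem_filter, finsum_mem_filter, ← hAf, ← hBf]
  obtain ⟨W, hW⟩ : ∃ W : Cfsg.IrrCharacter H → ℕ,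
      W = fun θ => ∑ χ ∈ Af, Mm χ θ * Cfsg.charDegree χ.1 := ⟨_, rfl⟩
  have hlam : ∑ χ ∈ Af, Cfsg.charDegree χ.1 ^ 2
      = ∑ θ : Cfsg.IrrCharacter H, Cfsg.charDegree θ.1 * W θ := by
    have h1 : ∀ χ ∈ Af, Cfsg.charDegree χ.1 ^ 2
        = ∑ θ : Cfsg.IrrCharacter H, Cfsg.charDegree θ.1 * (Mm χ θ * Cfsg.charDegree χ.1) := by
      intro χ _
      have e : Cfsg.charDegree χ.1 ^ 2
          = (∑ θ : Cfsg.IrrCharacter H, Mm χ θ * Cfsg.charDegree θ.1) * Cfsg.charDegree χ.1 := by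
        rw [← hF1 χ, pow_two]
      rw [e, Finset.sum_mul]
      apply Finset.sum_congr rfl
      intro θ _
      ring
    rw [Finset.sum_congr rfl h1, Finset.sum_comm]
    apply Finset.sum_congr rfl
    intro θ _
    rw [hW, Finset.mul_sum]
  have hW0 : ∀ θ : Cfsg.IrrCharacter H, θ ∉ Bf → W θ = 0 := by
    intro θ hθ
    rw [hW]
    apply Finset.sum_eq_zero
    intro χ hχ
    have h1 : Mm χ θ = 0 := by
      by_contra hne
      exact hθ ((hmemB θ).mpr (hF3 χ θ ((hmemA χ).mp hχ) hne))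
    rw [h1, zero_mul]
  have hWle : ∀ θ : Cfsg.IrrCharacter H, W θ ≤ H.index * Cfsg.charDegree θ.1 := by
    intro θ
    rw [hW, hF2 θ]
    exact Finset.sum_le_sum_of_subset (Finset.subset_univ _)
  have hWge : ∀ θ ∈ Bf, Cfsg.charDegree θ.1 ≤ W θ := by
    intro θ hθ
    obtain ⟨χ, hχ, hne⟩ := hF4 θ ((hmemB θ).mp hθ)
    have h1 : Mm χ θ * Cfsg.charDegree χ.1 ≤ W θ := by
      rw [hW]
      exact Finset.single_le_sum (f := fun χ => Mm χ θ * Cfsg.charDegree χ.1)
        (fun _ _ => Nat.zero_le _) ((hmemA χ).mpr hχ)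
    have h2 : Mm χ θ * Cfsg.charDegree θ.1 ≤ Cfsg.charDegree χ.1 := by
      rw [hF1 χ]
      exact Finset.single_le_sum (f := fun θ => Mm χ θ * Cfsg.charDegree θ.1)
        (fun _ _ => Nat.zero_le _) (Finset.mem_univ θ)
    have h3 : 1 ≤ Mm χ θ := Nat.one_le_iff_ne_zero.mpr hne
    calc Cfsg.charDegree θ.1 = 1 * Cfsg.charDegree θ.1 := (one_mul _).symm
      _ ≤ Mm χ θ * Cfsg.charDegree θ.1 := Nat.mul_le_mul_right _ h3
      _ ≤ Cfsg.charDegree χ.1 := h2
      _ = 1 * Cfsg.charDegree χ.1 := (one_mul _).symm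
      _ ≤ Mm χ θ * Cfsg.charDegree χ.1 := Nat.mul_le_mul_right _ h3
      _ ≤ W θ := h1
  have hsplit : ∑ θ : Cfsg.IrrCharacter H, Cfsg.charDegree θ.1 * W θ
      = ∑ θ ∈ Bf, Cfsg.charDegree θ.1 * W θ := by
    symm
    apply Finset.sum_subset (Finset.subset_univ _)
    intro θ _ hθ
    rw [hW0 θ hθ, mul_zero]
  rw [hlam, hsplit]
  constructor
  · apply Finset.sum_le_sum
    intro θ hθ
    rw [pow_two]
    exact Nat.mul_le_mul_left _ (hWge θ hθ)
  · rw [Finset.mul_sum]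
    apply Finset.sum_le_sum
    intro θ hθ
    calc Cfsg.charDegree θ.1 * W θ ≤ Cfsg.charDegree θ.1 * (H.index * Cfsg.charDegree θ.1) :=
          Nat.mul_le_mul_left _ (hWle θ)
      _ = H.index * Cfsg.charDegree θ.1 ^ 2 := by ring

end Cfsg.Agent.S4708
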