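import Cfsg.Statements.S4551
import Cfsg.Agent.Lib.helper23.CharInt
import Cfsg.Agent.Lib.helper23.GaloisChar
import Cfsg.Agent.Lib.helper23.GaloisApps
import Cfsg.Agent.Lib.helper24.CharGallagher2
import Cfsg.Agent.Lib.helper24.CharLin
import Cfsg.Agent.Lib.helper5.BlockCover
import Cfsg.Agent.S4708

set_option autoImplicit false
open Cfsg

namespace Cfsg.Agent.S4551

open Cfsg.Agent.Lib.helper23 Cfsg.Agent.Lib.helper24 Cfsg.Agent.Lib.helper22 Cfsg.Agent.Lib.helper5
open scoped ComplexConjugate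

theorem ratio_mem {G : Type*} [Group G] [Finite G] {p : ℕ} [Fact p.Prime]
    {M : Ideal Cfsg.AlgInt} (hM : Cfsg.IsPModular p M) (P : Sylow p G) (χ : Cfsg.IrrCharacter G)
    (hχ : χ ∈ Cfsg.principalBlock M G) (g : G)
    (hg : g ∈ Subgroup.centralizer ((P : Subgroup G) : Set G)) :
    Cfsg.MemLocalIdeal M (χ.1 g / χ.1 1 - 1) := by
  have hMp := Cfsg.Agent.Lib.helper23.isPModular_isPrime hM
  have h := (Cfsg.Agent.Lib.helper23.mem_principalBlock_iff M χ).mp hχ g
  have hle : (P : Subgroup G) ≤ Subgroup.centralizer ({g} : Set G) := by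
    intro x hx
    rw [Subgroup.mem_centralizer_singleton_iff]
    exact Subgroup.mem_centralizer_iff.mp hg x hx
  have hidx : ¬ p ∣ (Subgroup.centralizer ({g} : Set G)).index := fun hd =>
    P.not_dvd_index (dvd_trans hd (Subgroup.index_dvd_of_le hle))
  obtain ⟨d, hd0, hd⟩ := isIrrCharacter_one χ.2
  have hdC : (d : ℂ) ≠ 0 := by exact_mod_cast hd0.ne'
  have hiC : ((Subgroup.centralizer ({g} : Set G)).index : ℂ) ≠ 0 := by
    exact_mod_cast Subgroup.index_ne_zero_of_finite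
  unfold Cfsg.centralChar at h
  rw [hd] at h ⊢
  have h2 := memLocalIdeal_mul_left hMp (memLocalRing_inv_natCast hM _ hidx) (memLocalIdeal_neg h)
  convert h2 using 1
  field_simp
  ring

theorem ne_zero_of_mem {G : Type*} [Group G] [Finite G] {p : ℕ} [Fact p.Prime]
    {M : Ideal Cfsg.AlgInt} (hM : Cfsg.IsPModular p M) (P : Sylow p G) (χ : Cfsg.IrrCharacter G)
    (hχ : χ ∈ Cfsg.principalBlock M G) (g : G)
    (hg : g ∈ Subgroup.centralizer ((P : Subgroup G) : Set G)) :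
    χ.1 g ≠ 0 := by
  have hMp := Cfsg.Agent.Lib.helper23.isPModular_isPrime hM
  intro h0
  have h := ratio_mem hM P χ hχ g hg
  rw [h0, zero_div, zero_sub] at h
  have h2 := memLocalIdeal_neg h
  rw [neg_neg] at h2
  exact not_memLocalIdeal_one hMp h2

theorem irr_restrict_of_coset {G : Type*} [Group G] [Fintype G] (N : Subgroup G) [N.Normal]
    [Fintype N] (χ : Cfsg.IrrCharacter G) (h : ∀ g : G, ∃ n : N, χ.1 ((n : G) * g) ≠ 0) :
    Cfsg.IsIrrCharacter N (fun n : N => χ.1 n) := by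
  classical
  have hχc := isCharacter_of_isIrrCharacter χ.2
  have hχcf : IsClassFunction G χ.1 := isCharacter_conj_class hχc
  have hGne : (Nat.card G : ℂ) ≠ 0 := by exact_mod_cast Nat.card_pos.ne'
  have hNpos : (0 : ℝ) < (Nat.card N : ℝ) := by exact_mod_cast Nat.card_pos
  obtain ⟨F, hF⟩ : ∃ F : G → ℂ, F = fun g => (Nat.card N : ℂ)⁻¹ *
      ∑ n : N, χ.1 ((n : G) * g) * conj (χ.1 ((n : G) * g)) := ⟨_, rfl⟩
  obtain ⟨Fr, hFr⟩ : ∃ Fr : G → ℝ, Fr = fun g => (Nat.card N : ℝ)⁻¹ *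
      ∑ n : N, ‖χ.1 ((n : G) * g)‖ ^ 2 := ⟨_, rfl⟩
  have hFFr : ∀ g, F g = ((Fr g : ℝ) : ℂ) := by
    intro g
    rw [hF, hFr]
    push_cast
    congr 1
    refine Finset.sum_congr rfl (fun n _ => ?_)
    rw [Complex.mul_conj, Complex.normSq_eq_norm_sq]
    push_cast
    rfl
  have hFcf : IsClassFunction G F := by
    rw [hF]
    exact coset_average_isClassFunction N χ.1 χ.1 hχcf hχcf
  have hFin : ∀ χ' : IrrCharacter G, ∃ m : ℕ, classInner F χ'.1 = m := by
    intro χ'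
    rw [hF, coset_average_inner N χ.1 χ.1 χ'.1 χ'.2]
    split_ifs with hk
    · exact isCharacter_inner_nat hχc (isCharacter_mul (isCharacter_of_isIrrCharacter χ'.2) hχc)
    · exact ⟨0, by simp⟩
  have hFchar : IsCharacter G F := isCharacter_of_nat_inner hFcf hFin
  have hsumF : ∑ g : G, F g = (Nat.card G : ℂ) := by
    have h1 : classInner F (trivIrr G).1 = 1 := by
      rw [hF, coset_average_inner N χ.1 χ.1 (trivIrr G).1 (trivIrr G).2, if_pos (show ∀ n ∈ N, (trivIrr G).1 n = (trivIrr G).1 1 from fun _ _ => rfl)]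
      have h2 : (trivIrr G).1 * χ.1 = χ.1 := by
        funext g
        simp [trivIrr_apply]
      rw [h2]
      exact isIrrCharacter_inner_self χ.2
    unfold classInner at h1
    have h3 : ∑ g : G, F g * conj ((trivIrr G).1 g) = ∑ g : G, F g := by
      refine Finset.sum_congr rfl (fun g _ => ?_)
      rw [trivIrr_apply, map_one, mul_one]
    rw [h3] at h1
    field_simp at h1
    exact h1
  have hsumFr : ∑ g : G, Fr g = (Nat.card G : ℝ) := by
    apply Complex.ofReal_injective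
    rw [Complex.ofReal_sum]
    rw [← Finset.sum_congr rfl (fun g _ => hFFr g), hsumF]
    push_cast
    rfl
  have hFrpos : ∀ g, 0 < Fr g := by
    intro g
    obtain ⟨n₀, hn₀⟩ := h g
    rw [hFr]
    apply mul_pos (inv_pos.mpr hNpos)
    apply Finset.sum_pos' (fun n _ => by positivity)
    exact ⟨n₀, Finset.mem_univ _, by positivity⟩
  obtain ⟨k, ρ, hρ⟩ := hFchar
  have hN0 : NeZero (Nat.card G) := ⟨Nat.card_pos.ne'⟩
  have hge : ∀ g : G, (Fintype.card (ZMod (Nat.card G))ˣ : ℝ)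
      ≤ ∑ u : (ZMod (Nat.card G))ˣ, Fr (g ^ (u : ZMod (Nat.card G)).val) := by
    intro g
    obtain ⟨z, hz⟩ := prod_units_char_int ρ g
    rw [hρ] at hz
    have hz2 : ∏ u : (ZMod (Nat.card G))ˣ, Fr (g ^ (u : ZMod (Nat.card G)).val) = (z : ℝ) := by
      apply Complex.ofReal_injective
      rw [Complex.ofReal_prod]
      rw [← Finset.prod_congr rfl (fun u _ => hFFr _), hz]
      push_cast
      rfl
    have hzpos : (0 : ℝ) < (z : ℝ) := by
      rw [← hz2]
      exact Finset.prod_pos (fun u _ => hFrpos _)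
    have hz1 : (1 : ℝ) ≤ (z : ℝ) := by
      have : (0 : ℤ) < z := by exact_mod_cast hzpos
      exact_mod_cast this
    have := sum_ge_card_of_prod_ge_one Finset.univ
      (fun u : (ZMod (Nat.card G))ˣ => Fr (g ^ (u : ZMod (Nat.card G)).val))
      (fun u _ => (hFrpos _).le) (by rw [hz2]; exact hz1)
    simpa using this
  have htot := sum_units_sum Fr
  rw [hsumFr] at htot
  have hzero : ∑ g : G, (∑ u : (ZMod (Nat.card G))ˣ, Fr (g ^ (u : ZMod (Nat.card G)).val)
      - (Fintype.card (ZMod (Nat.card G))ˣ : ℝ)) = 0 := by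
    rw [Finset.sum_sub_distrib, htot]
    simp
    ring
  have hall := (Finset.sum_eq_zero_iff_of_nonneg (fun g _ => sub_nonneg.mpr (hge g))).mp hzero 1
    (Finset.mem_univ _)
  simp only [one_pow, Finset.sum_const, Finset.card_univ, nsmul_eq_mul] at hall
  have hcpos : (0 : ℝ) < (Fintype.card (ZMod (Nat.card G))ˣ : ℝ) := by
    exact_mod_cast Fintype.card_pos
  have hFr1 : Fr 1 = 1 := by
    have : (Fintype.card (ZMod (Nat.card G))ˣ : ℝ) * (Fr 1 - 1) = 0 := by linarith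
    rcases mul_eq_zero.mp this with h0 | h0
    · exact absurd h0 hcpos.ne'
    · linarith
  apply isIrrCharacter_of_inner_self_eq_one (Cfsg.Agent.Lib.helper24.isCharacter_restrict N hχc)
  have hF1 := hFFr 1
  rw [hFr1, hF] at hF1
  simp only [mul_one] at hF1
  unfold classInner
  rw [hF1]
  push_cast
  rfl

theorem irr_int {G : Type*} [Group G] [Finite G] (χ : IrrCharacter G) (g : G) :
    IsIntegral ℤ (χ.1 g) := by
  obtain ⟨n, ρ, _, h⟩ := χ.2
  rw [← h]
  exact genrep_char_isIntegral ρ g (isOfFinOrder_of_finite g)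

theorem root_eq_one {M : Ideal Cfsg.AlgInt} {p : ℕ} (hM : Cfsg.IsPModular p M) (ζ : ℂ) (m : ℕ)
    (hm : ¬ p ∣ m) (hζ : ζ ^ m = 1) (h : Cfsg.MemLocalIdeal M (ζ - 1)) : ζ = 1 := by
  have hMp := Cfsg.Agent.Lib.helper23.isPModular_isPrime hM
  by_contra hne
  have hsum : ∑ i ∈ Finset.range m, ζ ^ i = 0 := by
    have h1 := mul_geom_sum ζ m
    rw [hζ, sub_self] at h1
    rcases mul_eq_zero.mp h1 with h0 | h0
    · exact absurd (sub_eq_zero.mp h0) hne
    · exact h0
  have hζR : Cfsg.MemLocalRing M ζ := memLocalRing_of_sub_one hMp h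
  have hpow : ∀ j : ℕ, Cfsg.MemLocalIdeal M (ζ ^ j - 1) := by
    intro j
    induction j with
    | zero => simpa using memLocalIdeal_zero hMp.ne_top
    | succ j ih =>
      have : ζ ^ (j + 1) - 1 = ζ * (ζ ^ j - 1) + (ζ - 1) := by ring
      rw [this]
      exact memLocalIdeal_add hMp (memLocalIdeal_mul_left hMp hζR ih) h
  have h2 : Cfsg.MemLocalIdeal M (∑ i ∈ Finset.range m, (ζ ^ i - 1)) :=
    memLocalIdeal_sum hMp _ _ (fun i _ => hpow i)
  rw [Finset.sum_sub_distrib, hsum, zero_sub] at h2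
  simp only [Finset.sum_const, Finset.card_range, nsmul_eq_mul, mul_one] at h2
  have h3 := memLocalIdeal_neg h2
  rw [neg_neg, memLocalIdeal_natCast_iff hM] at h3
  exact hm h3

theorem result {G : Type*} [Group G] [Finite G] (p : ℕ) [Fact p.Prime] (M : Ideal Cfsg.AlgInt) (hM : Cfsg.IsPModular p M) (N : Subgroup G) [N.Normal] (hidx : ¬ p ∣ N.index) (P : Sylow p G) (hsup : N ⊔ Subgroup.centralizer ((P : Subgroup G) : Set G) = ⊤) : (∀ χ ∈ Cfsg.principalBlock M G, ∃ θ ∈ Cfsg.principalBlock M ↥N, ∀ n : N, (χ : G → ℂ) n = (θ : N → ℂ) n) ∧ ∀ θ ∈ Cfsg.principalBlock M ↥N, ∃! χ : Cfsg.IrrCharacter G, χ ∈ Cfsg.principalBlock M G ∧ ∀ n : N, (χ : G → ℂ) n = (θ : N → ℂ) n := by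
  classical
  have hp : p.Prime := hM.1
  have hMp := Cfsg.Agent.Lib.helper23.isPModular_isPrime hM
  have : Fintype G := Fintype.ofFinite G
  have : Fintype N := Fintype.ofFinite N
  have : Fintype (Cfsg.IrrCharacter G) := Fintype.ofFinite _
  have : Fintype (Cfsg.IrrCharacter N) := Fintype.ofFinite _
  have hdec : ∀ g : G, ∃ n : N, ∃ c ∈ Subgroup.centralizer ((P : Subgroup G) : Set G),
      (n : G) * c = g := by
    intro g
    have hg : g ∈ N ⊔ Subgroup.centralizer ((P : Subgroup G) : Set G) := by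
      rw [hsup]
      trivial
    rw [← SetLike.mem_coe, Subgroup.normal_mul] at hg
    obtain ⟨n, hn, c, hc, rfl⟩ := Set.mem_mul.mp hg
    exact ⟨⟨n, hn⟩, c, hc, rfl⟩
  have hirr : ∀ χ ∈ Cfsg.principalBlock M G, Cfsg.IsIrrCharacter N (fun n : N => χ.1 n) := by
    intro χ hχ
    apply irr_restrict_of_coset N χ
    intro g
    obtain ⟨n, c, hc, rfl⟩ := hdec g
    refine ⟨n⁻¹, ?_⟩
    rw [Subgroup.coe_inv, inv_mul_cancel_left]
    exact ne_zero_of_mem hM P χ hχ c hc
  have hmemN : ∀ χ ∈ Cfsg.principalBlock M G, ∀ θ : IrrCharacter N,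
      (∀ n : N, χ.1 n = θ.1 n) → θ ∈ Cfsg.principalBlock M N := by
    intro χ hχ θ hθ
    have hsb : Cfsg.SameBlock M χ.1 (trivIrr G).1 := sameBlock_symm hχ
    have h1 : Cfsg.classInner (fun n : N => χ.1 n) θ.1 ≠ 0 := by
      have : (fun n : N => χ.1 n) = θ.1 := funext hθ
      rw [this, isIrrCharacter_inner_self θ.2]
      exact one_ne_zero
    have h2 : Cfsg.classInner (fun n : N => (trivIrr G).1 n) (trivIrr N).1 ≠ 0 := by
      have : (fun n : N => (trivIrr G).1 n) = (trivIrr N).1 := rfl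
      rw [this, isIrrCharacter_inner_self (trivIrr N).2]
      exact one_ne_zero
    obtain ⟨g, hg⟩ := cover_conj N hMp hsb h1 h2
    have h3 : Cfsg.Agent.Lib.helper24.conjFun N (trivIrr N).1 g = fun _ => 1 := rfl
    rw [h3] at hg
    exact sameBlock_symm hg
  refine ⟨fun χ hχ => ⟨⟨fun n : N => χ.1 n, hirr χ hχ⟩, hmemN χ hχ _ (fun n => rfl), fun n => rfl⟩,
    ?_⟩
  intro θ hθ
  obtain ⟨χ, hχ, hne⟩ := Cfsg.Agent.S4708.exists_over p M hM N θ hθ
  have hχn : ∀ n : N, χ.1 n = θ.1 n := by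
    rw [frobenius_reciprocity N θ.1 (isCharacter_conj_class (isCharacter_of_isIrrCharacter χ.2))]
      at hne
    have := irr_eq_of_inner_ne_zero (χ := θ) (ψ := ⟨fun n : N => χ.1 n, hirr χ hχ⟩) hne
    intro n
    rw [this]
  refine ⟨χ, ⟨hχ, hχn⟩, ?_⟩
  rintro χ₂ ⟨hχ₂, hχ₂n⟩
  have hbij := gallagher_quotient N χ.1 χ.2 (hirr χ hχ)
  have hmem : χ₂.1 ∈ {ψ : G → ℂ | IsIrrCharacter G ψ ∧
      classInner (fun n : N => ψ n) (fun n : N => χ.1 n) ≠ 0} := by
    refine ⟨χ₂.2, ?_⟩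
    have e1 : (fun n : N => χ₂.1 n) = θ.1 := funext hχ₂n
    have e2 : (fun n : N => χ.1 n) = θ.1 := funext hχn
    rw [e1, e2, isIrrCharacter_inner_self θ.2]
    exact one_ne_zero
  obtain ⟨β, ⟨hβ, hβN⟩, hβχ⟩ := hbij.surjOn hmem
  have hβχ' : ∀ g, β g * χ.1 g = χ₂.1 g := fun g => congrFun hβχ g
  obtain ⟨d, hd0, hd⟩ := isIrrCharacter_one χ.2
  have hdC : (d : ℂ) ≠ 0 := by exact_mod_cast hd0.ne'
  have h11 : χ₂.1 1 = χ.1 1 := by
    have a := hχ₂n 1
    have b := hχn 1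
    rw [Subgroup.coe_one] at a b
    rw [a, b]
  have hβ1 : β 1 = 1 := by
    have := hβχ' 1
    rw [h11, hd] at this
    field_simp at this
    exact this
  have hmul : ∀ a b : G, β (a * b) = β a * β b := fun a b => irr_linear_mul' ⟨β, hβ⟩ hβ1 a b
  have hβc : ∀ c ∈ Subgroup.centralizer ((P : Subgroup G) : Set G), β c = 1 := by
    intro c hc
    have r1 := ratio_mem hM P χ hχ c hc
    have r2 := ratio_mem hM P χ₂ hχ₂ c hc
    rw [h11, ← hβχ' c] at r2
    have hint : Cfsg.MemLocalRing M (β c) :=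
      memLocalRing_of_isIntegral hMp.ne_top (irr_int ⟨β, hβ⟩ c)
    have r3 : Cfsg.MemLocalIdeal M (β c - 1) := by
      have e : β c - 1 = (β c * χ.1 c / χ.1 1 - 1) - β c * (χ.1 c / χ.1 1 - 1) := by ring
      rw [e]
      exact memLocalIdeal_sub hMp r2 (memLocalIdeal_mul_left hMp hint r1)
    apply root_eq_one hM (β c) N.index hidx _ r3
    have hpow : ∀ j : ℕ, β (c ^ j) = β c ^ j := by
      intro j
      induction j with
      | zero => simpa using hβ1
      | succ j ih => rw [pow_succ, pow_succ, hmul, ih]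
    rw [← hpow, hβN _ (Subgroup.pow_index_mem N c), hβ1]
  apply Subtype.ext
  rw [← hβχ]
  funext g
  obtain ⟨n, c, hc, rfl⟩ := hdec g
  show β (n * c) * χ.1 (n * c) = χ.1 (n * c)
  rw [hmul, hβN n n.2, hβ1, hβc c hc, one_mul, one_mul]

end Cfsg.Agent.S4551
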