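import Cfsg.Statements.S4611
import Cfsg.Agent.Lib.helper22.FongB0
import Cfsg.Agent.Lib.helper14.SolvPSolv
import Cfsg.Agent.Lib.helper2.BS5
import Cfsg.Agent.Lib.helper24.CharComplete
import Cfsg.Agent.Lib.helper24.CharKer

set_option autoImplicit false
open Cfsg

namespace Cfsg.Agent.S4611

open Cfsg.Agent.Lib.helper23 Cfsg.Agent.Lib.helper24 Cfsg.Agent.Lib.helper22 Cfsg.Agent.Lib.helper5
open scoped ComplexConjugate

theorem exists_irr_ne {G : Type*} [Group G] [Fintype G] (g : G) (hg : g ≠ 1) :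
    ∃ χ : IrrCharacter G, χ.1 g ≠ χ.1 1 := by
  classical
  have : Fintype (IrrCharacter G) := Fintype.ofFinite _
  by_contra hcon
  push Not at hcon
  have h1 : ∑ χ : IrrCharacter G, χ.1 g * conj (χ.1 1) = 0 :=
    second_orth_of_not_isConj (by
      intro hc
      exact hg (isConj_one_left.mp hc))
  have h2 : ∑ χ : IrrCharacter G, χ.1 (1 : G) * conj (χ.1 1)
      = (Nat.card (Subgroup.centralizer ({(1 : G)} : Set G)) : ℂ) :=
    second_orth_of_isConj (IsConj.refl 1)
  have h3 : ∑ χ : IrrCharacter G, χ.1 g * conj (χ.1 1)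
      = ∑ χ : IrrCharacter G, χ.1 (1 : G) * conj (χ.1 1) := by
    apply Finset.sum_congr rfl
    intro χ _
    rw [hcon χ]
  rw [h1, h2] at h3
  have h4 : (Nat.card (Subgroup.centralizer ({(1 : G)} : Set G)) : ℂ) ≠ 0 := by
    exact_mod_cast Nat.card_pos.ne'
  exact h4 h3.symm

theorem result {G : Type*} [Group G] [Finite G] [Group.IsSolvable G] (π : Set ℕ) (hπ : ∀ p ∈ π, p.Prime ∧ p ∣ Nat.card G) (hne : π.Nonempty) (M : ℕ → Ideal Cfsg.AlgInt) (hM : ∀ p ∈ π, Cfsg.IsPModular p (M p)) :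
    (∀ χ : Cfsg.IrrCharacter G, (∀ p ∈ π, χ ∈ Cfsg.principalBlock (M p) G) → (χ : G → ℂ) = fun _ => 1) ↔
      ⨆ p ∈ π, Cfsg.pPrimeCore p G = ⊤ := by
  classical
  have : Fintype G := Fintype.ofFinite G
  obtain ⟨T, hT⟩ : ∃ T : Subgroup G, T = ⨆ p ∈ π, Cfsg.pPrimeCore p G := ⟨_, rfl⟩
  rw [← hT]
  have hTn : T.Normal := by
    rw [hT]
    exact Subgroup.biSup_normal π (fun p => Cfsg.pPrimeCore p G) (fun p _ => Cfsg.pPrimeCore_normal p G)
  have key : ∀ χ : IrrCharacter G, (∀ p ∈ π, χ ∈ Cfsg.principalBlock (M p) G) ↔ T ≤ irrKer χ := by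
    intro χ
    rw [hT, iSup₂_le_iff]
    constructor
    · intro h p hp n hn
      have : Fact p.Prime := ⟨(hπ p hp).1⟩
      rw [mem_irrKer]
      exact (Cfsg.Agent.Lib.helper22.FongB0.mem_principalBlock_iff_pSolvable (hM p hp)
        (Cfsg.Agent.Lib.helper14.isPSolvable_of_solvable p inferInstance) χ).mp (h p hp) n hn
    · intro h p hp
      have : Fact p.Prime := ⟨(hπ p hp).1⟩
      apply (Cfsg.Agent.Lib.helper22.FongB0.mem_principalBlock_iff_pSolvable (hM p hp)
        (Cfsg.Agent.Lib.helper14.isPSolvable_of_solvable p inferInstance) χ).mpr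
      intro n hn
      exact (mem_irrKer χ n).mp (h p hp hn)
  constructor
  · intro h
    by_contra hne
    obtain ⟨g, hg⟩ : ∃ g : G, g ∉ T := by
      by_contra hall
      push Not at hall
      exact hne (eq_top_iff.mpr (fun x _ => hall x))
    have : Fintype (G ⧸ T) := Fintype.ofFinite _
    have hg1 : (g : G ⧸ T) ≠ 1 := by
      intro h1
      exact hg ((QuotientGroup.eq_one_iff g).mp h1)
    obtain ⟨ψ, hψ⟩ := exists_irr_ne (g : G ⧸ T) hg1
    have hle : T ≤ irrKer (irrInfl T ψ) := by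
      intro n hn
      rw [mem_irrKer]
      exact irrInfl_apply_of_mem T ψ hn
    have h2 := h (irrInfl T ψ) ((key _).mpr hle)
    apply hψ
    have h3 := congrFun h2 g
    have h4 := congrFun h2 1
    rw [irrInfl_apply] at h3 h4
    rw [h3]
    rw [QuotientGroup.mk_one] at h4
    rw [h4]
  · intro h χ hχ
    have h1 := (key χ).mp hχ
    rw [h] at h1
    have h2 := Cfsg.Agent.Lib.helper2.BS.eq_triv_of_ker_top χ (eq_top_iff.mpr h1)
    rw [h2]
    funext g
    exact trivIrr_apply g
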