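import Cfsg.Statements.S4763
import Cfsg.Agent.S4611
import Cfsg.Agent.Lib.helper24.GlaubExt
import Cfsg.Agent.Lib.helper24.CharPPow
import Cfsg.Agent.Lib.helper24.CharComplete
import Cfsg.Agent.Lib.helper24.CharOps
import Cfsg.Agent.Lib.helper22.CharZ
import Cfsg.Agent.Lib.helper22.CliffDeg
import Cfsg.Agent.Lib.helper23.CharInt

set_option autoImplicit false
open Cfsg

namespace Cfsg.Agent.S4763

open Cfsg.Agent.Lib.helper23 Cfsg.Agent.Lib.helper24 Cfsg.Agent.Lib.helper22
open scoped ComplexConjugate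

universe u

theorem card_carrier_mk {G : Type u} [Group G] [Finite G] (g : G) :
    Nat.card (ConjClasses.mk g).carrier = (Subgroup.centralizer ({g} : Set G)).index := by
  classical
  have := Fintype.ofFinite G
  have h1 := Cfsg.Agent.Lib.helper23.card_isConj_eq_index g
  rw [← h1, ← Fintype.card_subtype, ← Nat.card_eq_fintype_card]
  apply Nat.card_congr
  apply Equiv.subtypeEquivRight
  intro y
  rw [ConjClasses.mem_carrier_iff_mk_eq, ConjClasses.mk_eq_mk_iff_isConj]
  exact isConj_comm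

theorem exists_conj_mem_centralizer {G : Type u} [Group G] [Finite G] (p : ℕ) [Fact p.Prime]
    (P : Sylow p G) (g : G) (h : ¬ p ∣ (Subgroup.centralizer ({g} : Set G)).index) :
    ∃ t : G, t * g * t⁻¹ ∈ Subgroup.centralizer ((P : Subgroup G) : Set G) := by
  have hfix := IsPGroup.nonempty_fixed_point_of_prime_not_dvd_card P.isPGroup'
    (G ⧸ Subgroup.centralizer ({g} : Set G)) h
  obtain ⟨q, hq⟩ := hfix
  induction q using QuotientGroup.induction_on with
  | H t =>
    refine ⟨t, ?_⟩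
    rw [Subgroup.mem_centralizer_iff]
    intro x hx
    have h1 := hq ⟨x⁻¹, (P : Subgroup G).inv_mem hx⟩
    have h2 : ((x⁻¹ * t : G) : G ⧸ Subgroup.centralizer ({g} : Set G)) = (t : G) := h1
    rw [QuotientGroup.eq] at h2
    have h3 : t⁻¹ * x * t ∈ Subgroup.centralizer ({g} : Set G) := by
      have e : (x⁻¹ * t)⁻¹ * t = t⁻¹ * x * t := by group
      rwa [e] at h2
    rw [Subgroup.mem_centralizer_iff] at h3
    have h4 := h3 g (Set.mem_singleton g)
    have e1 : x * (t * g * t⁻¹) = t * ((t⁻¹ * x * t) * g) * t⁻¹ := by group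
    have e2 : t * g * t⁻¹ * x = t * (g * (t⁻¹ * x * t)) * t⁻¹ := by group
    rw [e1, e2, h4]

theorem normalizer_le_centralizer {G : Type u} [Group G] (N P : Subgroup G) [hN : N.Normal]
    (hinf : N ⊓ P = ⊥) (hsup : N ⊔ P = ⊤) (hab : ∀ a ∈ P, ∀ b ∈ P, a * b = b * a) :
    Subgroup.normalizer (P : Set G) ≤ Subgroup.centralizer (P : Set G) := by
  intro g hg
  have hgt : g ∈ ((N ⊔ P : Subgroup G) : Set G) := by
    rw [hsup]
    trivial
  rw [Subgroup.normal_mul] at hgt
  obtain ⟨m, hm, y, hy, rfl⟩ := hgt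
  have hmn : m ∈ Subgroup.normalizer (P : Set G) := by
    have h1 := Subgroup.mul_mem _ hg (Subgroup.inv_mem _ (Subgroup.le_normalizer hy))
    rwa [mul_inv_cancel_right] at h1
  rw [Subgroup.mem_centralizer_iff]
  intro x hx
  have h2 : m * x * m⁻¹ ∈ P := (Subgroup.mem_normalizer_iff.mp hmn x).mp hx
  have h3 : m * x * m⁻¹ * x⁻¹ ∈ N ⊓ P := by
    refine ⟨?_, P.mul_mem h2 (P.inv_mem hx)⟩
    have h4 : x * m⁻¹ * x⁻¹ ∈ N := hN.conj_mem _ (N.inv_mem hm) x
    have h5 := N.mul_mem hm h4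
    have e : m * (x * m⁻¹ * x⁻¹) = m * x * m⁻¹ * x⁻¹ := by group
    rwa [e] at h5
  rw [hinf, Subgroup.mem_bot] at h3
  have h6 : m * x = x * m := mul_inv_eq_iff_eq_mul.mp (mul_inv_eq_one.mp h3)
  rw [← mul_assoc, ← h6, mul_assoc, hab x hx y hy, mul_assoc]

theorem card_classes {G : Type u} [Group G] [Finite G] (p : ℕ) [Fact p.Prime] (P : Sylow p G)
    (hNC : Subgroup.normalizer ((P : Subgroup G) : Set G)
      ≤ Subgroup.centralizer ((P : Subgroup G) : Set G)) :
    Nat.card (ConjClasses (Subgroup.normalizer ((P : Subgroup G) : Set G)))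
      = Nat.card {C : ConjClasses G // ¬ p ∣ Nat.card C.carrier} := by
  have hwell : ∀ c : ConjClasses (Subgroup.normalizer ((P : Subgroup G) : Set G)),
      ¬ p ∣ Nat.card
        (ConjClasses.map (Subgroup.normalizer ((P : Subgroup G) : Set G)).subtype c).carrier := by
    intro c
    obtain ⟨y, rfl⟩ := ConjClasses.mk_surjective c
    show ¬ p ∣ Nat.card (ConjClasses.mk (y : G)).carrier
    rw [card_carrier_mk]
    intro hdvd
    apply P.not_dvd_index
    refine dvd_trans hdvd (Subgroup.index_dvd_of_le ?_)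
    intro x hx
    rw [Subgroup.mem_centralizer_iff]
    intro z hz
    rw [Set.mem_singleton_iff] at hz
    rw [hz]
    have h1 := hNC y.2
    rw [Subgroup.mem_centralizer_iff] at h1
    exact (h1 x hx).symm
  apply Nat.card_congr
  refine Equiv.ofBijective (fun c => ⟨ConjClasses.map
    (Subgroup.normalizer ((P : Subgroup G) : Set G)).subtype c, hwell c⟩) ⟨?_, ?_⟩
  · intro c c' hcc
    obtain ⟨y, rfl⟩ := ConjClasses.mk_surjective c
    obtain ⟨y', rfl⟩ := ConjClasses.mk_surjective c'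
    have h1 : ConjClasses.mk (y : G) = ConjClasses.mk (y' : G) := congrArg Subtype.val hcc
    rw [ConjClasses.mk_eq_mk_iff_isConj, isConj_iff] at h1
    obtain ⟨g, hg⟩ := h1
    have hy : (y : G) ∈ Subgroup.centralizer ((P : Subgroup G) : Set G) := hNC y.2
    have hy' : (g⁻¹)⁻¹ * (y : G) * g⁻¹ ∈ Subgroup.centralizer ((P : Subgroup G) : Set G) := by
      rw [inv_inv, hg]
      exact hNC y'.2
    obtain ⟨n, hn, e⟩ := P.conj_eq_normalizer_conj_of_mem_centralizer (y : G) g⁻¹ hy hy'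
    rw [inv_inv, hg] at e
    rw [ConjClasses.mk_eq_mk_iff_isConj, isConj_iff]
    refine ⟨⟨n⁻¹, Subgroup.inv_mem _ hn⟩, ?_⟩
    apply Subtype.ext
    show n⁻¹ * (y : G) * (n⁻¹)⁻¹ = (y' : G)
    rw [inv_inv, e]
  · rintro ⟨C, hC⟩
    obtain ⟨g, rfl⟩ := ConjClasses.mk_surjective C
    rw [card_carrier_mk] at hC
    obtain ⟨t, ht⟩ := exists_conj_mem_centralizer p P g hC
    refine ⟨ConjClasses.mk ⟨t * g * t⁻¹, Subgroup.centralizer_le_normalizer _ ht⟩, ?_⟩
    apply Subtype.ext
    show ConjClasses.mk (t * g * t⁻¹) = ConjClasses.mk g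
    rw [ConjClasses.mk_eq_mk_iff_isConj, isConj_comm, isConj_iff]
    exact ⟨t, rfl⟩

theorem restrict_irr {G : Type u} [Group G] [Fintype G] (p k : ℕ) (hp : p.Prime)
    (N : Subgroup G) [hN : N.Normal] [Fintype N] (hidx : N.index = p ^ k) (χ : IrrCharacter G)
    (hχ : ¬ p ∣ charDegree χ.1) : IsIrrCharacter N (fun n : N => χ.1 n) := by
  obtain ⟨c, hc, -⟩ := irr_degree_dvd_card χ
  have hcc : charDegree χ.1 = c := by
    unfold charDegree
    rw [hc]
    simp
  have hχK : IsCharacter N (fun n : N => χ.1 n) := isCharacter_restrict N (isCharacter_irr χ)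
  have hne1 : (fun n : N => χ.1 n) 1 ≠ 0 := irr_one_ne_zero χ
  obtain ⟨θ, hθ⟩ := exists_constituent hχK hne1
  obtain ⟨d, hd, hdK⟩ := irr_degree_dvd_card θ
  obtain ⟨hdc, hratio⟩ := degree_ratio_dvd_index N χ.1 χ.2 θ.1 θ.2 hθ c d hc hd
  have hcd : c = d := by
    rw [hidx] at hratio
    have h1 : c / d ∣ c := Nat.div_dvd_of_dvd hdc
    obtain ⟨i, -, hi⟩ := (Nat.dvd_prime_pow hp).mp hratio
    have hi0 : i = 0 := by
      by_contra h
      apply hχ
      rw [hcc]
      exact dvd_trans (by rw [hi]; exact dvd_pow_self p h) h1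
    rw [hi0, pow_zero] at hi
    have h3 := Nat.div_mul_cancel hdc
    rw [hi, one_mul] at h3
    exact h3.symm
  have hresχ : (fun n : N => χ.1 n) = θ.1 := by
    have hsub := isCharacter_sub_irr hχK θ hθ
    have h0 : ((fun n : N => χ.1 n) - θ.1) 1 = 0 := by
      show χ.1 ((1 : N) : G) - θ.1 1 = 0
      rw [hd, Subgroup.coe_one, hc, hcd, sub_self]
    exact sub_eq_zero.1 (isCharacter_eq_zero_of_one hsub h0)
  rw [hresχ]
  exact θ.2

theorem quot_comm {G : Type u} [Group G] [Finite G] (p : ℕ) [Fact p.Prime] (N : Subgroup G)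
    [N.Normal] (k : ℕ) (hidx : N.index = p ^ k) (hN1 : N ≠ ⊥)
    (hone : ∀ χ ψ : IrrCharacter G, p ∣ charDegree χ.1 → p ∣ charDegree ψ.1 → χ = ψ) :
    ∀ a b : G ⧸ N, a * b = b * a := by
  classical
  have hp : p.Prime := Fact.out
  have := Fintype.ofFinite G
  have := Fintype.ofFinite N
  apply Cfsg.Agent.Lib.helper24.comm_of_all_linear
  intro μ
  by_contra hμ1
  have hdvd : charDegree μ.1 ∣ p ^ k := by
    have h1 := charDegree_dvd_card μ
    rwa [← Subgroup.index_eq_card, hidx] at h1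
  obtain ⟨i, -, hi⟩ := (Nat.dvd_prime_pow hp).mp hdvd
  have hi0 : i ≠ 0 := by
    intro h
    apply hμ1
    rw [← charDegree_cast μ, hi, h, pow_zero, Nat.cast_one]
  have hpμ : p ∣ charDegree μ.1 := by
    rw [hi]
    exact dvd_pow_self p hi0
  obtain ⟨β, hβ⟩ : ∃ β : IrrCharacter G,
      β = ⟨fun g => μ.1 (g : G ⧸ N), isIrrCharacter_inflate N μ.2⟩ := ⟨_, rfl⟩
  have hβv : ∀ g, β.1 g = μ.1 (g : G ⧸ N) := by
    intro g
    rw [hβ]
  have hβ1 : β.1 1 = μ.1 1 := by
    rw [hβv]
    rfl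
  have hβdeg : charDegree β.1 = charDegree μ.1 := by
    unfold charDegree
    rw [hβ1]
  have hβN : ∀ n ∈ N, β.1 n = β.1 1 := by
    intro n hn
    rw [hβv, hβv, (QuotientGroup.eq_one_iff n).mpr hn]
    rfl
  obtain ⟨n, hnN, hn1⟩ : ∃ n ∈ N, n ≠ 1 := by
    by_contra hcon
    push Not at hcon
    exact hN1 ((Subgroup.eq_bot_iff_forall N).mpr hcon)
  obtain ⟨χ₁, hχ₁⟩ := Cfsg.Agent.S4611.exists_irr_ne n hn1
  by_cases hpχ : p ∣ charDegree χ₁.1
  · have h1 := hone χ₁ β hpχ (by rw [hβdeg]; exact hpμ)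
    apply hχ₁
    rw [h1]
    exact hβN n hnN
  · have hres := restrict_irr p k hp N hidx χ₁ hpχ
    have hmem : β.1 ∈ {β : G → ℂ | IsIrrCharacter G β ∧ ∀ n ∈ N, β n = β 1} := ⟨β.2, hβN⟩
    have hψ := ((gallagher_quotient N χ₁.1 χ₁.2 hres).mapsTo hmem).1
    have hψdeg : p ∣ charDegree (β.1 * χ₁.1) := by
      have e : (β.1 * χ₁.1) 1 = ((charDegree μ.1 * charDegree χ₁.1 : ℕ) : ℂ) := by
        show β.1 1 * χ₁.1 1 = _
        rw [hβ1, ← charDegree_cast μ, ← charDegree_cast χ₁]
        push_cast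
        rfl
      unfold charDegree
      rw [e]
      simp only [Complex.natCast_re, Nat.floor_natCast]
      exact Dvd.dvd.mul_right hpμ _
    have heq := hone ⟨β.1 * χ₁.1, hψ⟩ β hψdeg (by rw [hβdeg]; exact hpμ)
    have hfun : β.1 * χ₁.1 = β.1 := congrArg Subtype.val heq
    have hb0 : β.1 1 ≠ 0 := irr_one_ne_zero β
    have e1 := congrFun hfun 1
    have en := congrFun hfun n
    simp only [Pi.mul_apply] at e1 en
    rw [hβN n hnN] at en
    apply hχ₁
    have a1 : χ₁.1 1 = 1 := mul_left_cancel₀ hb0 (by rw [e1, mul_one])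
    have an : χ₁.1 n = 1 := mul_left_cancel₀ hb0 (by rw [en, mul_one])
    rw [a1, an]

theorem result {G : Type*} [Group G] [Finite G] (p : ℕ) [Fact p.Prime] (hnil : ¬ Group.IsNilpotent G) (N : Subgroup G) [N.Normal] (hN : (Nat.card N).Coprime p) (hidx : ∃ k : ℕ, N.index = p ^ k) (hone : Nat.card {χ : Cfsg.IrrCharacter G // p ∣ Cfsg.charDegree (χ : G → ℂ)} = 1) : Nat.card {C : ConjClasses G // p ∣ Nat.card C.carrier} = 1 := by
  classical
  have hp : p.Prime := Fact.out
  have := Fintype.ofFinite G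
  obtain ⟨k, hk⟩ := hidx
  have huniq : ∀ χ ψ : IrrCharacter G, p ∣ charDegree χ.1 → p ∣ charDegree ψ.1 → χ = ψ := by
    intro χ ψ h1 h2
    have hsub : Subsingleton {χ : IrrCharacter G // p ∣ charDegree χ.1} :=
      (Nat.card_eq_one_iff_unique.mp hone).1
    exact congrArg Subtype.val
      (Subsingleton.elim (⟨χ, h1⟩ : {χ : IrrCharacter G // p ∣ charDegree χ.1}) ⟨ψ, h2⟩)
  obtain ⟨⟨χ₀, hχ₀⟩⟩ : Nonempty {χ : IrrCharacter G // p ∣ charDegree χ.1} :=
    (Nat.card_eq_one_iff_unique.mp hone).2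
  have hpG : p ∣ Nat.card G := dvd_trans hχ₀ (charDegree_dvd_card χ₀)
  obtain ⟨P⟩ : Nonempty (Sylow p G) := inferInstance
  have hPne : (P : Subgroup G) ≠ ⊥ := P.ne_bot_of_dvd_card hpG
  obtain ⟨j, hj⟩ := IsPGroup.iff_card.mp P.isPGroup'
  have hj0 : j ≠ 0 := by
    intro h
    apply hPne
    rw [h, pow_zero] at hj
    exact Subgroup.card_eq_one.mp hj
  have hcop : (Nat.card N).Coprime (Nat.card (P : Subgroup G)) := by
    rw [hj]
    exact Nat.Coprime.pow_right j hN
  have hinf : N ⊓ (P : Subgroup G) = ⊥ := (Subgroup.disjoint_of_coprime_natCard hcop).eq_bot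
  have hsup : N ⊔ (P : Subgroup G) = ⊤ := by
    rw [← Subgroup.index_eq_one]
    have h1 : (N ⊔ (P : Subgroup G)).index ∣ p ^ k := by
      rw [← hk]
      exact Subgroup.index_dvd_of_le le_sup_left
    have h2 : (N ⊔ (P : Subgroup G)).index ∣ (P : Subgroup G).index :=
      Subgroup.index_dvd_of_le le_sup_right
    obtain ⟨i, -, hi⟩ := (Nat.dvd_prime_pow hp).mp h1
    rw [hi] at h2 ⊢
    have hi0 : i = 0 := by
      by_contra h
      exact P.not_dvd_index (dvd_trans (dvd_pow_self p h) h2)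
    rw [hi0, pow_zero]
  have hN1 : N ≠ ⊥ := by
    intro h
    apply hnil
    have hG : IsPGroup p G := by
      have hcardN : Nat.card N = 1 := by
        rw [h]
        exact Subgroup.card_bot
      apply IsPGroup.of_card (n := k)
      rw [← N.card_mul_index, hcardN, one_mul, hk]
    exact hG.isNilpotent
  have hQ := quot_comm p N k hk hN1 huniq
  have hab : ∀ a ∈ (P : Subgroup G), ∀ b ∈ (P : Subgroup G), a * b = b * a := by
    intro a ha b hb
    have h1 := hQ (a : G ⧸ N) (b : G ⧸ N)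
    rw [← QuotientGroup.mk_mul, ← QuotientGroup.mk_mul, QuotientGroup.eq] at h1
    have h2 : (a * b)⁻¹ * (b * a) ∈ N ⊓ (P : Subgroup G) :=
      ⟨h1, Subgroup.mul_mem _ (Subgroup.inv_mem _ (Subgroup.mul_mem _ ha hb))
        (Subgroup.mul_mem _ hb ha)⟩
    rw [hinf, Subgroup.mem_bot] at h2
    exact inv_mul_eq_one.mp h2
  have hNC := normalizer_le_centralizer N (P : Subgroup G) hinf hsup hab
  have hcls := card_classes p P hNC
  have hsolvP : Group.IsSolvable (P : Subgroup G) := by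
    have := P.isPGroup'.isNilpotent
    infer_instance
  have hnorm := card_coprime_degree_normalizer N (P : Subgroup G) hsup hcop hsolvP
  have hiff : ∀ d : ℕ, d.Coprime (Nat.card (P : Subgroup G)) ↔ ¬ p ∣ d := by
    intro d
    rw [hj]
    constructor
    · intro h hd
      have h1 : d.Coprime p := Nat.Coprime.coprime_dvd_right (dvd_pow_self p hj0) h
      exact (Nat.Prime.coprime_iff_not_dvd hp).mp h1.symm hd
    · intro h
      exact Nat.Coprime.pow_right j ((Nat.Prime.coprime_iff_not_dvd hp).mpr h).symm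
  have hD : ∀ η : IrrCharacter (Subgroup.normalizer ((P : Subgroup G) : Set G)),
      (charDegree η.1).Coprime (Nat.card (P : Subgroup G)) := by
    intro η
    rw [hiff]
    intro hdvd
    have h1 := charDegree_dvd_index_abelian_normal η
      ((P : Subgroup G).subgroupOf (Subgroup.normalizer ((P : Subgroup G) : Set G)))
      (by
        intro a ha b hb
        exact Subtype.ext (hab a ha b hb))
    exact P.not_dvd_index (dvd_trans hdvd (dvd_trans h1
      (Subgroup.relIndex_dvd_index_of_le Subgroup.le_normalizer)))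
  have e1 : Nat.card {χ : IrrCharacter G // ¬ p ∣ charDegree χ.1}
      = Nat.card {C : ConjClasses G // ¬ p ∣ Nat.card C.carrier} := by
    rw [← hcls, ← card_irr_eq_card_conjClasses]
    have e2 : Nat.card {χ : IrrCharacter G // ¬ p ∣ charDegree χ.1}
        = Nat.card {χ : IrrCharacter G // (charDegree χ.1).Coprime (Nat.card (P : Subgroup G))} :=
      Nat.card_congr (Equiv.subtypeEquivRight (fun χ => (hiff _).symm))
    rw [e2, hnorm]
    exact Nat.card_congr (Equiv.subtypeUnivEquiv hD)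
  have hfinI : Finite (IrrCharacter G) := inferInstance
  have e3 : Nat.card (IrrCharacter G) = Nat.card {χ : IrrCharacter G // p ∣ charDegree χ.1}
      + Nat.card {χ : IrrCharacter G // ¬ p ∣ charDegree χ.1} := by
    rw [← Nat.card_sum]
    exact Nat.card_congr (Equiv.sumCompl _).symm
  have e4 : Nat.card (ConjClasses G) = Nat.card {C : ConjClasses G // p ∣ Nat.card C.carrier}
      + Nat.card {C : ConjClasses G // ¬ p ∣ Nat.card C.carrier} := by
    rw [← Nat.card_sum]
    exact Nat.card_congr (Equiv.sumCompl _).symm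
  have e5 := card_irr_eq_card_conjClasses (G := G)
  omega

end Cfsg.Agent.S4763
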