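import Cfsg.Statements.S4553
import Cfsg.Agent.S4763
import Cfsg.Agent.Lib.helper22.DetGal
import Cfsg.Agent.Lib.helper24.CharExt815
import Cfsg.Agent.Lib.helper24.CharGallagher2
import Cfsg.Agent.Lib.helper24.CharLin
import Cfsg.Agent.Lib.helper5.BlockThird
import Cfsg.Agent.Lib.helper14.PIrred

set_option autoImplicit false
open Cfsg

namespace Cfsg.Agent.S4553

open Cfsg.Agent.Lib.helper23 Cfsg.Agent.Lib.helper24 Cfsg.Agent.Lib.helper5 Cfsg.Agent.Lib.helper22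
open Cfsg.Agent.Lib.helper14
open scoped ComplexConjugate

universe u

theorem hom_pow_eq_one {G : Type*} [Group G] [Finite G] (p : ℕ) [Fact p.Prime] (N : Subgroup G)
    (hNres : N = pResidual p G) (lam : N →* ℂˣ) (n : N) :
    lam n ^ (Nat.card G / p ^ (Nat.card G).factorization p) = 1 := by
  have hp := (Fact.out : p.Prime)
  obtain ⟨m, hm⟩ : ∃ m, m = Nat.card G / p ^ (Nat.card G).factorization p := ⟨_, rfl⟩
  rw [← hm]
  have hle : N ≤ ((powMonoidHom m : ℂˣ →* ℂˣ).comp lam).ker.map N.subtype := by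
    conv_lhs => rw [hNres]
    unfold pResidual
    rw [Subgroup.closure_le]
    intro g hg
    have hgN : g ∈ N := by
      rw [hNres]
      exact Subgroup.subset_closure hg
    refine ⟨⟨g, hgN⟩, ?_, rfl⟩
    show lam ⟨g, hgN⟩ ^ m = 1
    have h1 : orderOf g ∣ m := by
      have h2 : orderOf g ∣ p ^ (Nat.card G).factorization p * m := by
        rw [hm, Nat.ordProj_mul_ordCompl_eq_self]
        exact orderOf_dvd_natCard g
      exact (Nat.Coprime.pow_right _ hg).dvd_of_dvd_mul_left h2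
    rw [← map_pow]
    have h3 : (⟨g, hgN⟩ : N) ^ m = 1 := by
      apply Subtype.ext
      show g ^ m = 1
      exact orderOf_dvd_iff_pow_eq_one.mp h1
    rw [h3, map_one]
  obtain ⟨n', hn', hnn'⟩ := hle n.2
  have : n' = n := Subtype.ext hnn'
  rw [← this]
  exact hn'

theorem k_coprime {G : Type*} [Group G] [Finite G] (p : ℕ) [Fact p.Prime] (k : ℕ)
    (hk₁ : ∀ g : G, (∃ j : ℕ, orderOf g = p ^ j) → g ^ k = g ^ (1 + p))
    (hk₂ : ∀ g : G, Nat.Coprime (orderOf g) p → g ^ k = g) : k.Coprime (Nat.card G) := by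
  have hp := (Fact.out : p.Prime)
  apply Nat.coprime_of_dvd
  intro q hq hqk hqG
  have : Fact q.Prime := ⟨hq⟩
  obtain ⟨g, hg⟩ := exists_prime_orderOf_dvd_card' q hqG
  have h1 : g ^ k = 1 := by
    rw [← orderOf_dvd_iff_pow_eq_one, hg]
    exact hqk
  have hg1 : g ≠ 1 := by
    intro h
    rw [h, orderOf_one] at hg
    exact hq.one_lt.ne hg
  by_cases hqp : q = p
  · have h2 := hk₁ g ⟨1, by rw [hg, hqp, pow_one]⟩
    rw [h1, pow_add, pow_one] at h2
    have h3 : g ^ p = 1 := by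
      rw [← orderOf_dvd_iff_pow_eq_one, hg, hqp]
    rw [h3, mul_one] at h2
    exact hg1 h2.symm
  · have h2 := hk₂ g (by rw [hg]; exact (Nat.coprime_primes hq hp).mpr hqp)
    rw [h1] at h2
    exact hg1 h2.symm

theorem principal_iff {G : Type u} [Group G] [Fintype G] (p : ℕ) [Fact p.Prime]
    (M : Ideal AlgInt) (hM : IsPModular p M)
    (N : Subgroup G) [Fintype N] (hreg : ∀ g : G, ¬ p ∣ orderOf g → g ∈ N)
    (χ : IrrCharacter G) (θ : IrrCharacter N) (hres : ∀ n : N, χ.1 n = θ.1 n) :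
    χ ∈ principalBlock M G ↔ θ ∈ principalBlock M N := by
  classical
  have : Fintype (IrrCharacter G) := Fintype.ofFinite _
  have : Fintype (IrrCharacter N) := Fintype.ofFinite _
  rw [Cfsg.Agent.Lib.helper5.mem_principalBlock_iff hM,
    Cfsg.Agent.Lib.helper5.mem_principalBlock_iff hM]
  have h : coord (regInd p G) χ = coord (regInd p N) θ := by
    unfold coord
    have h1 : θ.1 1 = χ.1 1 := (hres 1).symm
    rw [h1]
    congr 1
    have h2 : ∑ g : G, regInd p G g * χ.1 g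
        = ∑ g ∈ Finset.univ.filter (fun g : G => g ∈ N), regInd p G g * χ.1 g := by
      symm
      apply Finset.sum_subset (Finset.filter_subset _ _)
      intro g _ hg
      rw [Finset.mem_filter] at hg
      have h3 : p ∣ orderOf g := by
        by_contra h3
        exact hg ⟨Finset.mem_univ _, hreg g h3⟩
      rw [regInd_of_sing h3, zero_mul]
    have h4 : ∑ g ∈ Finset.univ.filter (fun g : G => g ∈ N), regInd p G g * χ.1 g
        = ∑ n : N, regInd p G (n : G) * χ.1 (n : G) :=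
      Finset.sum_subtype (Finset.univ.filter (fun g : G => g ∈ N))
        (p := fun g => g ∈ N) (fun x => by simp) (fun g => regInd p G g * χ.1 g)
    rw [h2, h4]
    apply Finset.sum_congr rfl
    intro n _
    rw [hres n]
    congr 1
    by_cases hn : p ∣ orderOf n
    · rw [regInd_of_sing hn, regInd_of_sing (by rw [Subgroup.orderOf_coe]; exact hn)]
    · rw [regInd_of_reg hn, regInd_of_reg (by rw [Subgroup.orderOf_coe]; exact hn)]
  rw [h]

theorem exists_fixed_ext {G : Type u} [Group G] [Finite G] (p : ℕ) [Fact p.Prime]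
    (N : Subgroup G) [hN : N.Normal]
    (hNres : N = pResidual p G) (a : ℕ) (hidx : N.index = p ^ a) (k : ℕ)
    (hk : k.Coprime (Nat.card G))
    (θ : N → ℂ) (hθ : IsIrrCharacter N θ)
    (hinv : ∀ (g : G) (n : N), θ ⟨g * n * g⁻¹, hN.conj_mem (n : G) n.2 g⟩ = θ n)
    (hdeg : ¬ p ∣ charDegree θ) (hfix : ∀ n : N, θ (n ^ k) = θ n) :
    ∃ χ : G → ℂ, IsIrrCharacter G χ ∧ (∀ n : N, χ n = θ n) ∧ ∀ g : G, χ (g ^ k) = χ g := by
  have hp := (Fact.out : p.Prime)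
  have hθc := isCharacter_of_isIrrCharacter hθ
  obtain ⟨d, hd0, hd⟩ := isIrrCharacter_one hθ
  have hdeg' : ¬ p ∣ d := by
    have h1 : charDegree θ = d := by
      unfold charDegree
      rw [hd]
      simp
    rwa [h1] at hdeg
  obtain ⟨m, hm⟩ : ∃ m, m = Nat.card G / p ^ (Nat.card G).factorization p := ⟨_, rfl⟩
  have hmcop : Nat.Coprime p m := by
    rw [hm]
    exact Nat.coprime_ordCompl hp Nat.card_pos.ne'
  have hdet : detOrder θ ∣ m := by
    rw [detOrder_dvd_iff]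
    intro n
    obtain ⟨f, hf⟩ := exists_detHom hθc
    rw [hf n, ← Units.val_pow_eq_pow_val, hm, hom_pow_eq_one p N hNres f n]
    rfl
  have hcop : Nat.Coprime N.index (detOrder θ * d) := by
    rw [hidx]
    apply Nat.Coprime.pow_left
    exact Nat.Coprime.mul_right (Nat.Coprime.coprime_dvd_right hdet hmcop)
      ((Nat.Prime.coprime_iff_not_dvd hp).mpr hdeg')
  obtain ⟨χ, ⟨hχ, hχN, hχdet⟩, huniq⟩ := ext_coprime_unique N θ hθ hinv d hd hcop
  refine ⟨χ, hχ, hχN, ?_⟩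
  have hχ' := isIrrCharacter_pow_coprime hχ k hk
  have h1 : (fun g => χ (g ^ k)) = χ := by
    apply huniq _ hχ'
    · intro n
      show χ ((n : G) ^ k) = θ n
      have h2 := hχN (n ^ k)
      rw [Subgroup.coe_pow] at h2
      rw [h2, hfix]
    · have h2 := detOrder_pow_coprime_dvd (isCharacter_of_isIrrCharacter hχ) k hk
      rw [hχdet] at h2
      rw [hidx]
      exact Nat.Coprime.pow_left _ (Nat.Coprime.coprime_dvd_right (dvd_trans h2 hdet) hmcop)
  intro g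
  exact congrFun h1 g

theorem one_of_pow {G : Type u} [Group G] (p : ℕ) (hp : p ≠ 0) (β : IrrCharacter G)
    (h : β.1 1 ^ p = 1) : β.1 1 = 1 := by
  obtain ⟨d, hd0, hd⟩ := isIrrCharacter_one β.2
  rw [hd] at h ⊢
  have h1 : d ^ p = 1 := by exact_mod_cast h
  rcases (Nat.pow_eq_one).mp h1 with h2 | h2
  · rw [h2]
    simp
  · exact absurd h2 hp

theorem card_roots (p : ℕ) (hp : p ≠ 0) : Nat.card {ζ : ℂ // ζ ^ p = 1} = p := by
  classical
  have h1 := (Complex.isPrimitiveRoot_exp p hp).card_nthRootsFinset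
  have h2 : Nat.card {ζ : ℂ // ζ ^ p = 1} = (Polynomial.nthRootsFinset p (1 : ℂ)).card := by
    rw [← Nat.card_eq_finsetCard]
    apply Nat.card_congr
    exact Equiv.subtypeEquivRight
      (fun x => by rw [Polynomial.mem_nthRootsFinset (Nat.pos_of_ne_zero hp)])
  rw [h2, h1]

theorem card_T {G : Type u} [Group G] [Finite G] (p : ℕ) [Fact p.Prime] (N : Subgroup G)
    [hN : N.Normal] (hcyc : IsCyclic (G ⧸ N)) (a : ℕ) (ha : a ≠ 0) (hidx : N.index = p ^ a) :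
    Nat.card {β : IrrCharacter G // (∀ n ∈ N, β.1 n = β.1 1) ∧ ∀ g, β.1 g ^ p = 1} = p := by
  classical
  have hp := (Fact.out : p.Prime)
  obtain ⟨q₀, hq₀⟩ := IsCyclic.exists_generator (α := G ⧸ N)
  obtain ⟨g₀, rfl⟩ := QuotientGroup.mk_surjective q₀
  have hdec : ∀ g : G, ∃ (i : ℤ) (n : G), n ∈ N ∧ g = g₀ ^ i * n := by
    intro g
    obtain ⟨i, hi⟩ := Subgroup.mem_zpowers_iff.mp (hq₀ (g : G ⧸ N))
    refine ⟨i, (g₀ ^ i)⁻¹ * g, ?_, by group⟩
    rw [← QuotientGroup.eq, QuotientGroup.mk_zpow]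
    exact hi
  have hgen : Subgroup.closure ({g₀} ∪ (N : Set G)) = ⊤ := by
    rw [eq_top_iff]
    intro g _
    obtain ⟨i, n, hn, rfl⟩ := hdec g
    have hg₀ : g₀ ∈ Subgroup.closure ({g₀} ∪ (N : Set G)) :=
      Subgroup.subset_closure (Set.mem_union_left _ (Set.mem_singleton g₀))
    have hn' : n ∈ Subgroup.closure ({g₀} ∪ (N : Set G)) :=
      Subgroup.subset_closure (Set.mem_union_right _ hn)
    exact Subgroup.mul_mem _ (Subgroup.zpow_mem _ hg₀ i) hn'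
  refine Eq.trans ?_ (card_roots p hp.ne_zero)
  apply Nat.card_congr
  refine Equiv.ofBijective (fun β => ⟨β.1.1 g₀, β.2.2 g₀⟩) ⟨?_, ?_⟩
  · intro β β' hββ'
    have hv : β.1.1 g₀ = β'.1.1 g₀ := congrArg Subtype.val hββ'
    have h1 := one_of_pow p hp.ne_zero β.1 (β.2.2 1)
    have h1' := one_of_pow p hp.ne_zero β'.1 (β'.2.2 1)
    have heq : irrLinHom β.1 h1 = irrLinHom β'.1 h1' := by
      apply MonoidHom.eq_of_eqOn_dense hgen
      intro x hx
      apply Units.ext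
      rw [irrLinHom_apply, irrLinHom_apply]
      rcases hx with hx | hx
      · rw [Set.mem_singleton_iff] at hx
        rw [hx]
        exact hv
      · rw [β.2.1 x hx, β'.2.1 x hx, h1, h1']
    apply Subtype.ext
    apply Subtype.ext
    funext g
    have h2 := congrArg (fun f : G →* ℂˣ => (f g : ℂ)) heq
    exact h2
  · rintro ⟨ζ, hζ⟩
    have hζ0 : ζ ≠ 0 := by
      intro h0
      rw [h0, zero_pow hp.ne_zero] at hζ
      exact zero_ne_one hζ
    obtain ⟨v, hv⟩ : ∃ v : ℂˣ, (v : ℂ) = ζ := ⟨Units.mk0 ζ hζ0, rfl⟩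
    have hvp : v ^ p = 1 := by
      apply Units.ext
      rw [Units.val_pow_eq_pow_val, hv, hζ]
      rfl
    have hord : orderOf v ∣ orderOf (g₀ : G ⧸ N) := by
      rw [orderOf_eq_card_of_forall_mem_zpowers hq₀, ← Subgroup.index_eq_card, hidx]
      exact dvd_trans (orderOf_dvd_of_pow_eq_one hvp) (dvd_pow_self p ha)
    obtain ⟨φ, hφ⟩ : ∃ φ : G ⧸ N →* ℂˣ, φ = monoidHomOfForallMemZpowers hq₀ hord := ⟨_, rfl⟩
    have hφg : φ (g₀ : G ⧸ N) = v := by
      rw [hφ]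
      exact monoidHomOfForallMemZpowers_apply_gen hq₀ hord
    obtain ⟨lam, hlam⟩ : ∃ lam : G →* ℂˣ, lam = φ.comp (QuotientGroup.mk' N) := ⟨_, rfl⟩
    have hlamN : ∀ n ∈ N, lam n = 1 := by
      intro n hn
      rw [hlam, MonoidHom.comp_apply, QuotientGroup.mk'_apply,
        (QuotientGroup.eq_one_iff n).mpr hn, map_one]
    have hlamp : ∀ g, lam g ^ p = 1 := by
      intro g
      obtain ⟨i, n, hn, rfl⟩ := hdec g
      have h3 : lam g₀ = v := by
        rw [hlam, MonoidHom.comp_apply, QuotientGroup.mk'_apply, hφg]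
      rw [map_mul, map_zpow, hlamN n hn, mul_one, h3, ← zpow_natCast, ← zpow_mul, mul_comm,
        zpow_mul, zpow_natCast, hvp, one_zpow]
    refine ⟨⟨⟨fun g => (lam g : ℂ), isIrrCharacter_of_hom lam⟩, ?_, ?_⟩, ?_⟩
    · intro n hn
      show (lam n : ℂ) = (lam 1 : ℂ)
      rw [hlamN n hn, map_one]
    · intro g
      show (lam g : ℂ) ^ p = 1
      rw [← Units.val_pow_eq_pow_val, hlamp g]
      rfl
    · apply Subtype.ext
      show (lam g₀ : ℂ) = ζ
      rw [hlam, MonoidHom.comp_apply, QuotientGroup.mk'_apply, hφg, hv]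

theorem card_fiber {G : Type u} [Group G] [Fintype G] (p : ℕ) [Fact p.Prime] (N : Subgroup G)
    [hN : N.Normal] [Fintype N] (hcyc : IsCyclic (G ⧸ N)) (a : ℕ) (ha : a ≠ 0)
    (hidx : N.index = p ^ a) (k : ℕ) (hk : k.Coprime (Nat.card G))
    (hpow : ∀ β : IrrCharacter G, (∀ n ∈ N, β.1 n = β.1 1) → β.1 1 = 1 →
      ∀ g, β.1 (g ^ k) = β.1 g ^ (1 + p))
    (χ₀ : IrrCharacter G) (hχ₀N : IsIrrCharacter N (fun n : N => χ₀.1 n))
    (hχ₀fix : ∀ g, χ₀.1 (g ^ k) = χ₀.1 g) :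
    Nat.card {χ : IrrCharacter G // (∀ n : N, χ.1 n = χ₀.1 n) ∧ ∀ g, χ.1 (g ^ k) = χ.1 g}
      = p := by
  classical
  have hp := (Fact.out : p.Prime)
  refine Eq.trans ?_ (card_T p N hcyc a ha hidx)
  symm
  apply Nat.card_congr
  have hbij := gallagher_quotient N χ₀.1 χ₀.2 hχ₀N
  have hmem : ∀ β : {β : IrrCharacter G // (∀ n ∈ N, β.1 n = β.1 1) ∧ ∀ g, β.1 g ^ p = 1},
      IsIrrCharacter G (β.1.1 * χ₀.1) := fun β => (hbij.mapsTo ⟨β.1.2, β.2.1⟩).1
  refine Equiv.ofBijective (fun β => ⟨⟨β.1.1 * χ₀.1, hmem β⟩, ?_, ?_⟩) ⟨?_, ?_⟩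
  · intro n
    have h1 := one_of_pow p hp.ne_zero β.1 (β.2.2 1)
    show β.1.1 (n : G) * χ₀.1 (n : G) = χ₀.1 n
    rw [β.2.1 n n.2, h1, one_mul]
  · intro g
    have h1 := one_of_pow p hp.ne_zero β.1 (β.2.2 1)
    show β.1.1 (g ^ k) * χ₀.1 (g ^ k) = β.1.1 g * χ₀.1 g
    rw [hpow β.1 β.2.1 h1 g, hχ₀fix g, pow_add, pow_one, β.2.2 g, mul_one]
  · intro β β' hββ'
    have h1 : β.1.1 * χ₀.1 = β'.1.1 * χ₀.1 := congrArg (fun x => x.1.1) hββ'
    have h2 := hbij.injOn ⟨β.1.2, β.2.1⟩ ⟨β'.1.2, β'.2.1⟩ h1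
    apply Subtype.ext
    apply Subtype.ext
    exact h2
  · rintro ⟨χ, hχN, hχfix⟩
    have htgt : χ.1 ∈ {ψ : G → ℂ | IsIrrCharacter G ψ ∧
        classInner (fun n : N => ψ n) (fun n : N => χ₀.1 n) ≠ 0} := by
      refine ⟨χ.2, ?_⟩
      have h1 : (fun n : N => χ.1 n) = (fun n : N => χ₀.1 n) := funext hχN
      rw [h1]
      have h2 := irr_inner_self (⟨_, hχ₀N⟩ : IrrCharacter N)
      rw [h2]
      exact one_ne_zero
    obtain ⟨β, ⟨hβirr, hβN⟩, hβχ⟩ := hbij.surjOn htgt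
    have hβχ' : ∀ g, β g * χ₀.1 g = χ.1 g := fun g => congrFun hβχ g
    have hβ1 : β 1 = 1 := by
      have h1 := hβχ' 1
      have h2 := hχN 1
      rw [Subgroup.coe_one] at h2
      rw [h2] at h1
      have h3 := irr_one_ne_zero χ₀
      have h4 : (β 1 - 1) * χ₀.1 1 = 0 := by
        rw [sub_mul, h1, one_mul, sub_self]
      rcases mul_eq_zero.mp h4 with h5 | h5
      · exact sub_eq_zero.mp h5
      · exact absurd h5 h3
    have hβ' : (fun g => β (g ^ k)) ∈ {β : G → ℂ | IsIrrCharacter G β ∧ ∀ n ∈ N, β n = β 1} := by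
      refine ⟨isIrrCharacter_pow_coprime hβirr k hk, ?_⟩
      intro n hn
      show β (n ^ k) = β (1 ^ k)
      rw [one_pow, hβN _ (Subgroup.pow_mem N hn k)]
    have heq : (fun g => β (g ^ k)) = β := by
      apply hbij.injOn hβ' ⟨hβirr, hβN⟩
      funext g
      show β (g ^ k) * χ₀.1 g = β g * χ₀.1 g
      rw [hβχ' g, ← hχ₀fix g, hβχ' (g ^ k), hχfix g]
    have hβp : ∀ g, β g ^ p = 1 := by
      intro g
      have h1 := hpow ⟨β, hβirr⟩ hβN hβ1 g
      have h2 := congrFun heq g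
      simp only at h1 h2
      rw [h2, pow_add, pow_one] at h1
      have h3 : β g ≠ 0 := by
        have h4 := (irrLinHom ⟨β, hβirr⟩ hβ1 g).ne_zero
        rwa [irrLinHom_apply] at h4
      have h5 : β g * (β g ^ p - 1) = 0 := by
        rw [mul_sub, mul_one, ← h1, sub_self]
      rcases mul_eq_zero.mp h5 with h6 | h6
      · exact absurd h6 h3
      · exact sub_eq_zero.mp h6
    refine ⟨⟨⟨β, hβirr⟩, hβN, hβp⟩, ?_⟩
    apply Subtype.ext
    apply Subtype.ext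
    exact hβχ

theorem result {G : Type*} [Group G] [Finite G] (p : ℕ) [Fact p.Prime] (M : Ideal Cfsg.AlgInt) (hM : Cfsg.IsPModular p M) (P : Sylow p G) (N : Subgroup G) [hN : N.Normal] (hNres : N = Cfsg.pResidual p G) (hcyc : IsCyclic (G ⧸ N)) (hnt : N ≠ ⊤) (k : ℕ) (hk₁ : ∀ g : G, (∃ j : ℕ, orderOf g = p ^ j) → g ^ k = g ^ (1 + p)) (hk₂ : ∀ g : G, Nat.Coprime (orderOf g) p → g ^ k = g) : Nat.card {χ : Cfsg.IrrCharacter G // χ ∈ Cfsg.principalBlock M G ∧ ¬ p ∣ Cfsg.charDegree (χ : G → ℂ) ∧ ∀ g : G, (χ : G → ℂ) (g ^ k) = (χ : G → ℂ) g} = p * Nat.card {θ : Cfsg.IrrCharacter ↥N // θ ∈ Cfsg.principalBlock M ↥N ∧ ¬ p ∣ Cfsg.charDegree (θ : ↥N → ℂ) ∧ (∀ x ∈ (P : Subgroup G), ∀ n : ↥N, (θ : ↥N → ℂ) ⟨x * n * x⁻¹, hN.conj_mem n n.2 x⟩ = (θ : ↥N → ℂ) n) ∧ ∀ n : ↥N, (θ : ↥N → ℂ) (n ^ k) = (θ : ↥N → ℂ) n} := by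
  classical
  have hp := (Fact.out : p.Prime)
  have : Fintype G := Fintype.ofFinite G
  have : Fintype N := Fintype.ofFinite N
  have : Fintype (IrrCharacter G) := Fintype.ofFinite _
  have : Fintype (IrrCharacter N) := Fintype.ofFinite _
  have hQ : IsPGroup p (G ⧸ N) := pResidual_quotient_isPGroup p N (le_of_eq hNres.symm)
  obtain ⟨a, ha⟩ := IsPGroup.iff_card.1 hQ
  have hidx : N.index = p ^ a := by
    rw [Subgroup.index_eq_card]
    exact ha
  have ha0 : a ≠ 0 := by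
    intro h0
    rw [h0, pow_zero] at hidx
    exact hnt (Subgroup.index_eq_one.mp hidx)
  have hkc := k_coprime p k hk₁ hk₂
  have hreg : ∀ g : G, ¬ p ∣ orderOf g → g ∈ N := by
    intro g hg
    rw [hNres]
    exact Subgroup.subset_closure ((Nat.Prime.coprime_iff_not_dvd hp).mpr hg).symm
  have hNP : ∀ g : G, ∃ n ∈ N, ∃ x ∈ (P : Subgroup G), g = n * x := by
    intro g
    have h1 : g ∈ N ⊔ (P : Subgroup G) := by
      rw [hNres, pResidual_sup_sylow P]
      exact Subgroup.mem_top g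
    rw [← SetLike.mem_coe, Subgroup.normal_mul] at h1
    obtain ⟨n, hn, x, hx, rfl⟩ := Set.mem_mul.mp h1
    exact ⟨n, hn, x, hx, rfl⟩
  have hpow : ∀ β : IrrCharacter G, (∀ n ∈ N, β.1 n = β.1 1) → β.1 1 = 1 →
      ∀ g, β.1 (g ^ k) = β.1 g ^ (1 + p) := by
    intro β hβN h1 g
    obtain ⟨n, hn, x, hx, rfl⟩ := hNP g
    have hm := irr_linear_mul' β h1
    have hpw : ∀ (y : G) (j : ℕ), β.1 (y ^ j) = β.1 y ^ j := by
      intro y j
      induction j with
      | zero => rw [pow_zero, pow_zero, h1]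
      | succ j ih => rw [pow_succ, hm, ih, pow_succ]
    have e1 : β.1 (n * x) = β.1 x := by rw [hm, hβN n hn, h1, one_mul]
    have hx' : ∃ j : ℕ, orderOf x = p ^ j := by
      obtain ⟨j, hj⟩ := (IsPGroup.iff_orderOf.mp P.isPGroup') ⟨x, hx⟩
      rw [Subgroup.orderOf_mk] at hj
      exact ⟨j, hj⟩
    rw [hpw, e1, ← hpw, hk₁ x hx', hpw]
  have hGinv : ∀ θ : IrrCharacter N,
      (∀ x ∈ (P : Subgroup G), ∀ n : N, θ.1 ⟨x * n * x⁻¹, hN.conj_mem n n.2 x⟩ = θ.1 n) →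
      ∀ (g : G) (n : N), θ.1 ⟨g * n * g⁻¹, hN.conj_mem (n : G) n.2 g⟩ = θ.1 n := by
    intro θ hθP g n
    obtain ⟨n₀, hn₀, x, hx, rfl⟩ := hNP g
    have h1 := isClassFunction_irr θ ⟨x * n * x⁻¹, hN.conj_mem n n.2 x⟩ ⟨n₀, hn₀⟩
    have h2 : (⟨n₀ * x * n * (n₀ * x)⁻¹, hN.conj_mem (n : G) n.2 (n₀ * x)⟩ : N)
        = ⟨n₀, hn₀⟩ * ⟨x * n * x⁻¹, hN.conj_mem n n.2 x⟩ * ⟨n₀, hn₀⟩⁻¹ := by
      apply Subtype.ext
      simp only [Subgroup.coe_mul, Subgroup.coe_inv]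
      group
    rw [h2, h1, hθP x hx n]
  obtain ⟨A, hA⟩ : ∃ A : Finset (IrrCharacter G), A = Finset.univ.filter
      (fun χ : IrrCharacter G => χ ∈ principalBlock M G ∧ ¬ p ∣ charDegree (χ : G → ℂ) ∧
        ∀ g : G, (χ : G → ℂ) (g ^ k) = (χ : G → ℂ) g) := ⟨_, rfl⟩
  obtain ⟨Bf, hBf⟩ : ∃ Bf : Finset (IrrCharacter N), Bf = Finset.univ.filter
      (fun θ : IrrCharacter N => θ ∈ principalBlock M N ∧ ¬ p ∣ charDegree (θ : N → ℂ) ∧
        (∀ x ∈ (P : Subgroup G), ∀ n : N,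
          (θ : N → ℂ) ⟨x * n * x⁻¹, hN.conj_mem n n.2 x⟩ = (θ : N → ℂ) n) ∧
        ∀ n : N, (θ : N → ℂ) (n ^ k) = (θ : N → ℂ) n) := ⟨_, rfl⟩
  have hcA : Nat.card {χ : IrrCharacter G // χ ∈ principalBlock M G ∧
      ¬ p ∣ charDegree (χ : G → ℂ) ∧ ∀ g : G, (χ : G → ℂ) (g ^ k) = (χ : G → ℂ) g}
      = A.card := by
    rw [Nat.card_eq_fintype_card, Fintype.card_subtype, hA]
  have hcB : Nat.card {θ : IrrCharacter N // θ ∈ principalBlock M N ∧
      ¬ p ∣ charDegree (θ : N → ℂ) ∧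
      (∀ x ∈ (P : Subgroup G), ∀ n : N,
        (θ : N → ℂ) ⟨x * n * x⁻¹, hN.conj_mem n n.2 x⟩ = (θ : N → ℂ) n) ∧
      ∀ n : N, (θ : N → ℂ) (n ^ k) = (θ : N → ℂ) n} = Bf.card := by
    rw [Nat.card_eq_fintype_card, Fintype.card_subtype, hBf]
  rw [hcA, hcB]
  obtain ⟨r, hr⟩ : ∃ r : IrrCharacter G → IrrCharacter N, r = fun χ =>
      if h : IsIrrCharacter N (fun n : N => χ.1 n) then ⟨_, h⟩ else trivIrr N := ⟨_, rfl⟩
  have hr1 : ∀ χ : IrrCharacter G, ∀ h : IsIrrCharacter N (fun n : N => χ.1 n),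
      r χ = ⟨_, h⟩ := by
    intro χ h
    rw [hr]
    simp only
    rw [dif_pos h]
  have hresirr : ∀ χ : IrrCharacter G, ¬ p ∣ charDegree χ.1 →
      IsIrrCharacter N (fun n : N => χ.1 n) :=
    fun χ hχ => Cfsg.Agent.S4763.restrict_irr p a hp N hidx χ hχ
  have hdegres : ∀ χ : IrrCharacter G, charDegree (fun n : N => χ.1 n) = charDegree χ.1 := by
    intro χ
    rfl
  have hH : ∀ χ ∈ A, r χ ∈ Bf := by
    intro χ hχ
    rw [hA, Finset.mem_filter] at hχ
    obtain ⟨-, hχB, hχd, hχf⟩ := hχ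
    have hirr := hresirr χ hχd
    rw [hr1 χ hirr, hBf, Finset.mem_filter]
    refine ⟨Finset.mem_univ _, ?_, ?_, ?_, ?_⟩
    · exact (principal_iff p M hM N hreg χ ⟨_, hirr⟩ (fun n => rfl)).mp hχB
    · show ¬ p ∣ charDegree (fun n : N => χ.1 n)
      rw [hdegres]
      exact hχd
    · intro x hx n
      show χ.1 (x * n * x⁻¹) = χ.1 n
      exact isClassFunction_irr χ n x
    · intro n
      show χ.1 ((n ^ k : N) : G) = χ.1 n
      rw [Subgroup.coe_pow]
      exact hχf n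
  have hfib : ∀ θ ∈ Bf, (A.filter (fun χ => r χ = θ)).card = p := by
    intro θ hθ
    rw [hBf, Finset.mem_filter] at hθ
    obtain ⟨-, hθB, hθd, hθP, hθf⟩ := hθ
    obtain ⟨χ₀, hχ₀, hχ₀N, hχ₀f⟩ := exists_fixed_ext p N hNres a hidx k hkc θ.1 θ.2
      (hGinv θ hθP) hθd hθf
    have hχ₀N' : (fun n : N => χ₀ n) = θ.1 := funext hχ₀N
    have hc := card_fiber p N hcyc a ha0 hidx k hkc hpow ⟨χ₀, hχ₀⟩
      (by
        show IsIrrCharacter N (fun n : N => χ₀ n)
        rw [hχ₀N']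
        exact θ.2) hχ₀f
    rw [← hc, Nat.card_eq_fintype_card, Fintype.card_subtype]
    congr 1
    ext χ
    rw [Finset.mem_filter, Finset.mem_filter, hA, Finset.mem_filter]
    constructor
    · rintro ⟨⟨-, hχB, hχd, hχf⟩, hrχ⟩
      have hirr := hresirr χ hχd
      rw [hr1 χ hirr] at hrχ
      refine ⟨Finset.mem_univ _, ?_, hχf⟩
      intro n
      have h1 := congrArg (fun ψ : IrrCharacter N => ψ.1 n) hrχ
      simp only at h1
      rw [h1]
      exact (hχ₀N n).symm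
    · rintro ⟨-, hχN, hχf⟩
      have hres : ∀ n : N, χ.1 n = θ.1 n := fun n => by
        rw [hχN n]
        exact hχ₀N n
      have hresf : (fun n : N => χ.1 n) = θ.1 := funext hres
      have hirr : IsIrrCharacter N (fun n : N => χ.1 n) := by
        rw [hresf]
        exact θ.2
      refine ⟨⟨Finset.mem_univ _, ?_, ?_, hχf⟩, ?_⟩
      · exact (principal_iff p M hM N hreg χ θ hres).mpr hθB
      · rw [← hdegres, hresf]
        exact hθd
      · rw [hr1 χ hirr]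
        apply Subtype.ext
        exact hresf
  rw [Finset.card_eq_sum_card_fiberwise hH, Finset.sum_congr rfl hfib, Finset.sum_const,
    smul_eq_mul, mul_comm]

end Cfsg.Agent.S4553
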