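import Cfsg.Statements.S4571
import Mathlib
import Cfsg.Agent.Lib.helper5.BlockRankAux
import Cfsg.Agent.Lib.helper5.BlockCentralProd
import Cfsg.Agent.S0941

set_option autoImplicit false
open Cfsg

namespace Cfsg.Agent.S4571

open Cfsg.Agent.Lib.helper5 Cfsg.Agent.Lib.helper23 Cfsg.Agent.Lib.helper24
open scoped ComplexConjugate

/-- uniqueness of `p`-regular lifts to `G = Q C_G(Q)` -/
theorem preg_lift_unique {G : Type*} [Group G] [Finite G] {p : ℕ} [Fact p.Prime]
    (Q : Subgroup G) [Q.Normal] (hQ : IsPGroup p Q)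
    (hsup : Q ⊔ Subgroup.centralizer (Q : Set G) = ⊤) {g g' : G} (hg : ¬ p ∣ orderOf g)
    (hg' : ¬ p ∣ orderOf g') (h : (QuotientGroup.mk g : G ⧸ Q) = QuotientGroup.mk g') :
    g = g' := by
  have hq : g⁻¹ * g' ∈ Q := QuotientGroup.eq.mp h
  have hgc := pRegular_mem_centralizer Q hQ hsup hg
  have hcomm : Commute (g⁻¹ * g') g := Subgroup.mem_centralizer_iff.mp hgc (g⁻¹ * g') hq
  have hqpow : ∃ k : ℕ, orderOf (g⁻¹ * g') = p ^ k := by
    obtain ⟨k, hk⟩ := (IsPGroup.iff_orderOf.mp hQ) ⟨g⁻¹ * g', hq⟩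
    exact ⟨k, by rw [← hk, Subgroup.orderOf_mk]⟩
  have h1 : Cfsg.IsPPart p g' (g⁻¹ * g') := by
    have h3 := isPPart_mul hcomm hqpow hg
    have e : (g⁻¹ * g') * g = g' := by rw [hcomm.eq]; group
    rwa [e] at h3
  have h2 : Cfsg.IsPPart p g' 1 := ⟨g', one_mul _, Commute.one_left _, ⟨0, by simp⟩, hg'⟩
  have h3 := isPPart_unique h1 h2
  exact inv_mul_eq_one.mp h3

/-- existence of `p`-regular lifts -/
theorem exists_preg_lift {G : Type*} [Group G] [Finite G] {p : ℕ} [Fact p.Prime]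
    (Q : Subgroup G) [Q.Normal] (x : G ⧸ Q) (hx : ¬ p ∣ orderOf x) :
    ∃ g : G, ¬ p ∣ orderOf g ∧ (QuotientGroup.mk g : G ⧸ Q) = x := by
  have hp : p.Prime := Fact.out
  obtain ⟨g₀, rfl⟩ := QuotientGroup.mk_surjective x
  obtain ⟨z, y, hzy, hc, ⟨k, hk⟩, hy⟩ := exists_isPPart p g₀
  refine ⟨y, hy, ?_⟩
  have h1 : Cfsg.IsPPart p (QuotientGroup.mk g₀ : G ⧸ Q) (QuotientGroup.mk z) := by
    refine ⟨QuotientGroup.mk y, ?_, ?_, ?_, ?_⟩
    · rw [← QuotientGroup.mk_mul, hzy]
    · exact hc.map (QuotientGroup.mk' Q)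
    · have hd : orderOf (QuotientGroup.mk' Q z) ∣ p ^ k := by
        rw [← hk]; exact orderOf_map_dvd _ z
      obtain ⟨j, -, hj⟩ := (Nat.dvd_prime_pow hp).mp hd
      exact ⟨j, hj⟩
    · intro hd
      exact hy (dvd_trans hd (orderOf_map_dvd (QuotientGroup.mk' Q) y))
  have h2 : Cfsg.IsPPart p (QuotientGroup.mk g₀ : G ⧸ Q) 1 :=
    ⟨_, one_mul _, Commute.one_left _, ⟨0, by simp⟩, hx⟩
  have h3 : (QuotientGroup.mk z : G ⧸ Q) = 1 := isPPart_unique h1 h2
  rw [← hzy, QuotientGroup.mk_mul, h3, one_mul]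


/-- Let Q be a normal p-subgroup of the finite group G with G = Q·C_G(Q), and M a maximal ideal of the algebraic integers containing p. Then the principal p-blocks of G and of G/Q have the same p-regular rank (the same number of irreducible Brauer characters). -/
theorem result {G : Type*} [Group G] [Finite G] (p : ℕ) [Fact p.Prime] (M : Ideal Cfsg.AlgInt) (hM : Cfsg.IsPModular p M) (Q : Subgroup G) [Q.Normal] (hQ : IsPGroup p Q) (hsup : Q ⊔ Subgroup.centralizer (Q : Set G) = ⊤) : Cfsg.blockRank p (Cfsg.principalBlock M G) = Cfsg.blockRank p (Cfsg.principalBlock M (G ⧸ Q)) := by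
  classical
  haveI := Fintype.ofFinite G
  haveI := Fintype.ofFinite (Cfsg.IrrCharacter G)
  haveI := Fintype.ofFinite (G ⧸ Q)
  haveI := Fintype.ofFinite (Cfsg.IrrCharacter (G ⧸ Q))
  have hMp := isPModular_isPrime hM
  have hMt := hMp.ne_top
  have hp : p.Prime := Fact.out
  have hC := index_centralizer_pow Q hQ hsup
  have h41 := (Cfsg.Agent.S0941.result p M hM Q hQ hC).1
  -- inflation
  have hinfl : ∀ ψ : Cfsg.IrrCharacter (G ⧸ Q),
      Cfsg.IsIrrCharacter G (ψ.1 ∘ (QuotientGroup.mk : G → G ⧸ Q)) := fun ψ =>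
    isIrrCharacter_comp_surjective (QuotientGroup.mk' Q) (QuotientGroup.mk'_surjective Q) ψ.2
  have hmem : ∀ ψ : Cfsg.IrrCharacter (G ⧸ Q), ψ ∈ Cfsg.principalBlock M (G ⧸ Q)
      ↔ (⟨_, hinfl ψ⟩ : Cfsg.IrrCharacter G) ∈ Cfsg.principalBlock M G := by
    intro ψ
    exact h41 (trivIrr (G ⧸ Q)) ψ
  have hord : ∀ g : G, ¬ p ∣ orderOf g → ¬ p ∣ orderOf (QuotientGroup.mk g : G ⧸ Q) :=
    fun g hg hd => hg (dvd_trans hd (orderOf_map_dvd (QuotientGroup.mk' Q) g))
  obtain ⟨S₁, hS₁⟩ : ∃ S₁ : Set (G → ℂ), S₁ = (fun ψ : Cfsg.IrrCharacter (G ⧸ Q) =>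
      Cfsg.pRegularPart p (ψ.1 ∘ (QuotientGroup.mk : G → G ⧸ Q))) ''
        Cfsg.principalBlock M (G ⧸ Q) := ⟨_, rfl⟩
  -- step A
  have hA : Submodule.span ℂ ((fun χ : Cfsg.IrrCharacter G =>
        Cfsg.pRegularPart p (χ : G → ℂ)) '' Cfsg.principalBlock M G)
      = Submodule.span ℂ S₁ := by
    apply le_antisymm
    · rw [Submodule.span_le]
      rintro _ ⟨χ, hχ, rfl⟩
      obtain ⟨f, hfdef⟩ : ∃ f : G ⧸ Q → ℂ, f = fun x => ∑ g : G,
          if ((QuotientGroup.mk g : G ⧸ Q) = x ∧ ¬ p ∣ orderOf g) then χ.1 g else 0 := ⟨_, rfl⟩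
      have hfapp : ∀ x, f x = ∑ g : G,
          if ((QuotientGroup.mk g : G ⧸ Q) = x ∧ ¬ p ∣ orderOf g) then χ.1 g else 0 := by
        intro x; rw [hfdef]
      have hfreg : ∀ g₀ : G, ¬ p ∣ orderOf g₀ → f (QuotientGroup.mk g₀) = χ.1 g₀ := by
        intro g₀ hg₀
        rw [hfapp, Finset.sum_eq_single g₀]
        · rw [if_pos ⟨rfl, hg₀⟩]
        · intro g _ hne
          rw [if_neg]
          rintro ⟨h1, h2⟩
          exact hne (preg_lift_unique Q hQ hsup h2 hg₀ h1)
        · intro h; exact absurd (Finset.mem_univ _) h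
      have hfcl : Cfsg.IsClassFunction (G ⧸ Q) f := by
        intro x t
        obtain ⟨t₀, rfl⟩ := QuotientGroup.mk_surjective t
        rw [hfapp, hfapp, ← Equiv.sum_comp (MulAut.conj t₀).toEquiv]
        apply Finset.sum_congr rfl
        intro g _
        have e1 : (MulAut.conj t₀).toEquiv g = t₀ * g * t₀⁻¹ := rfl
        rw [e1]
        have hiff : ((QuotientGroup.mk (t₀ * g * t₀⁻¹) : G ⧸ Q)
              = QuotientGroup.mk t₀ * x * (QuotientGroup.mk t₀)⁻¹
              ∧ ¬ p ∣ orderOf (t₀ * g * t₀⁻¹))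
            ↔ ((QuotientGroup.mk g : G ⧸ Q) = x ∧ ¬ p ∣ orderOf g) := by
          have ho : orderOf (t₀ * g * t₀⁻¹) = orderOf g :=
            orderOf_injective (MulAut.conj t₀).toMonoidHom (MulAut.conj t₀).injective g
          rw [ho, QuotientGroup.mk_mul, QuotientGroup.mk_mul, QuotientGroup.mk_inv]
          constructor
          · rintro ⟨h1, h2⟩
            exact ⟨mul_left_cancel (mul_right_cancel h1), h2⟩
          · rintro ⟨h1, h2⟩
            exact ⟨by rw [h1], h2⟩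
        by_cases h : ((QuotientGroup.mk g : G ⧸ Q) = x ∧ ¬ p ∣ orderOf g)
        · rw [if_pos h, if_pos (hiff.mpr h), isClassFunction_irr χ g t₀]
        · rw [if_neg h, if_neg (fun h' => h (hiff.mp h'))]
      have hinner : ∀ ψ : Cfsg.IrrCharacter (G ⧸ Q), ψ ∉ Cfsg.principalBlock M (G ⧸ Q) →
          Cfsg.classInner f ψ.1 = 0 := by
        intro ψ hψ
        have hψ' : (⟨_, hinfl ψ⟩ : Cfsg.IrrCharacter G) ∉ Cfsg.principalBlock M G :=
          fun h => hψ ((hmem ψ).mpr h)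
        have horth := orth_p_regular hM (indicator_mem_osimaRing (G := G) hMp (trivIrr G))
          (indicator_mul_self _) χ ⟨_, hinfl ψ⟩ (Set.indicator_of_mem hχ _)
          (Set.indicator_of_notMem hψ' _)
        unfold Cfsg.classInner
        have hsum : ∑ x : G ⧸ Q, f x * conj (ψ.1 x) = 0 := by
          rw [← horth]
          simp only [hfapp, Finset.sum_mul]
          rw [Finset.sum_comm]
          apply Finset.sum_congr rfl
          intro g _
          rw [Finset.sum_eq_single (QuotientGroup.mk g : G ⧸ Q)]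
          · by_cases hg : ¬ p ∣ orderOf g
            · rw [if_pos ⟨rfl, hg⟩, if_pos hg]
              rfl
            · rw [if_neg (fun h => hg h.2), if_neg hg, zero_mul]
          · intro x _ hne
            rw [if_neg (fun h => hne h.1.symm), zero_mul]
          · intro h; exact absurd (Finset.mem_univ _) h
        rw [hsum, mul_zero]
      have hχexp : Cfsg.pRegularPart p χ.1 = ∑ ψ : Cfsg.IrrCharacter (G ⧸ Q),
          Cfsg.classInner f ψ.1 •
            Cfsg.pRegularPart p (ψ.1 ∘ (QuotientGroup.mk : G → G ⧸ Q)) := by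
        funext g
        rw [Finset.sum_apply]
        simp only [Pi.smul_apply, smul_eq_mul, pRegularPart_apply]
        by_cases hg : Cfsg.IsPRegular p g
        · simp only [if_pos hg]
          rw [← hfreg g hg, classFunction_expansion_apply hfcl]
          rfl
        · simp only [if_neg hg, mul_zero, Finset.sum_const_zero]
      show Cfsg.pRegularPart p χ.1 ∈ _
      rw [hχexp]
      apply Submodule.sum_mem
      intro ψ _
      by_cases hψ : ψ ∈ Cfsg.principalBlock M (G ⧸ Q)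
      · apply Submodule.smul_mem
        apply Submodule.subset_span
        rw [hS₁]
        exact ⟨ψ, hψ, rfl⟩
      · rw [hinner ψ hψ, zero_smul]
        exact Submodule.zero_mem _
    · rw [Submodule.span_le, hS₁]
      rintro _ ⟨ψ, hψ, rfl⟩
      exact Submodule.subset_span ⟨⟨_, hinfl ψ⟩, (hmem ψ).mp hψ, rfl⟩
  -- step B
  obtain ⟨L, hL⟩ : ∃ L : (G ⧸ Q → ℂ) →ₗ[ℂ] (G → ℂ),
      ∀ h, L h = Cfsg.pRegularPart p (h ∘ (QuotientGroup.mk : G → G ⧸ Q)) :=
    ⟨(pRegL p) ∘ₗ (LinearMap.funLeft ℂ ℂ (QuotientGroup.mk : G → G ⧸ Q)), fun h => rfl⟩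
  have hS₁' : S₁ = L '' ((fun ψ : Cfsg.IrrCharacter (G ⧸ Q) =>
      Cfsg.pRegularPart p (ψ : G ⧸ Q → ℂ)) '' Cfsg.principalBlock M (G ⧸ Q)) := by
    rw [hS₁, Set.image_image]
    apply Set.image_congr
    intro ψ _
    rw [hL]
    funext g
    simp only [pRegularPart_apply, Function.comp_apply]
    by_cases hg : Cfsg.IsPRegular p g
    · rw [if_pos hg, if_pos hg, if_pos (show Cfsg.IsPRegular p (QuotientGroup.mk g : G ⧸ Q) from
        hord g hg)]
    · rw [if_neg hg, if_neg hg]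
  unfold Cfsg.blockRank
  rw [hA, hS₁', ← Submodule.map_span]
  obtain ⟨W, hW⟩ : ∃ W : Submodule ℂ (G ⧸ Q → ℂ), W = Submodule.span ℂ
      ((fun ψ : Cfsg.IrrCharacter (G ⧸ Q) =>
        Cfsg.pRegularPart p (ψ : G ⧸ Q → ℂ)) '' Cfsg.principalBlock M (G ⧸ Q)) := ⟨_, rfl⟩
  rw [← hW]
  have hWle : W ≤ LinearMap.eqLocus (pRegL (G := G ⧸ Q) p) LinearMap.id := by
    rw [hW, Submodule.span_le]
    rintro _ ⟨ψ, -, rfl⟩
    exact pRegularPart_idem p _
  have hinj : Function.Injective (L.domRestrict W) := by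
    rw [← LinearMap.ker_eq_bot, LinearMap.ker_eq_bot']
    rintro ⟨h, hh⟩ h0
    apply Subtype.ext
    show h = 0
    have h0' : Cfsg.pRegularPart p (h ∘ (QuotientGroup.mk : G → G ⧸ Q)) = 0 := by
      rw [← hL]; exact h0
    funext x
    by_cases hx : Cfsg.IsPRegular p x
    · obtain ⟨g, hg, rfl⟩ := exists_preg_lift Q x hx
      have h5 := congrFun h0' g
      rw [pRegularPart_apply, if_pos (show Cfsg.IsPRegular p g from hg)] at h5
      exact h5
    · have h6 : pRegL p h = h := hWle hh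
      have h5 := congrFun h6 x
      rw [pRegL_apply, pRegularPart_apply, if_neg hx] at h5
      rw [← h5]
      rfl
  have hr : LinearMap.range (L.domRestrict W) = W.map L := by
    show LinearMap.range (L ∘ₗ W.subtype) = W.map L
    rw [LinearMap.range_comp, Submodule.range_subtype]
  rw [← hr]
  exact LinearMap.finrank_range_of_inj hinj

end Cfsg.Agent.S4571
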