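import Cfsg.Statements.S4580
import Cfsg.Agent.S4520
import Cfsg.Agent.S4551
import Cfsg.Agent.Lib.helper24.CharChief
import Cfsg.Agent.Lib.helper22.IndexP

set_option autoImplicit false
open Cfsg

namespace Cfsg.Agent.S4580

open Cfsg.Agent.Lib.helper23 Cfsg.Agent.Lib.helper24 Cfsg.Agent.Lib.helper22 Cfsg.Agent.Lib.helper5
open scoped ComplexConjugate

theorem mem_of_real_on_odd {G : Type*} [Group G] [Fintype G] (M : Ideal Cfsg.AlgInt)
    (hM : Cfsg.IsPModular 2 M) (η : Cfsg.IrrCharacter G) (d : ℕ) (hd : η.1 1 = d) (hodd : Odd d)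
    (hreal : ∀ g : G, Odd (orderOf g) → conj (η.1 g) = η.1 g) :
    η ∈ Cfsg.principalBlock M G := by
  classical
  have hp2 : Fact (Nat.Prime 2) := ⟨Nat.prime_two⟩
  have hMp := Cfsg.Agent.Lib.helper23.isPModular_isPrime hM
  have : Fintype (IrrCharacter G) := Fintype.ofFinite _
  rw [Cfsg.Agent.S4521.principal_iff_sum hM]
  obtain ⟨w, hw⟩ : ∃ w : G → ℂ, w = fun g => regInd 2 G g * η.1 g := ⟨_, rfl⟩
  have hwinv : ∀ g : G, w g⁻¹ = w g := by
    intro g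
    rw [hw]
    show regInd 2 G g⁻¹ * η.1 g⁻¹ = regInd 2 G g * η.1 g
    by_cases hg : 2 ∣ orderOf g
    · rw [regInd_of_sing hg, regInd_of_sing (by rw [orderOf_inv]; exact hg), zero_mul, zero_mul]
    · rw [regInd_of_reg hg, regInd_of_reg (by rw [orderOf_inv]; exact hg), one_mul, one_mul,
        irr_inv η g, hreal g (Nat.odd_iff.mpr (Nat.two_dvd_ne_zero.mp hg))]
  have hwR : ∀ g : G, Cfsg.MemLocalRing M (w g) := by
    intro g
    rw [hw]
    exact memLocalRing_mul hMp (regInd_memLocalRing hMp.ne_top g)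
      (memLocalRing_of_isIntegral hMp.ne_top (Cfsg.Agent.S4551.irr_int η g))
  have hf2 : (fun g : G => g⁻¹)^[2 ^ 1] = id := by
    funext g
    simp
  obtain ⟨r, hr, hsum⟩ := Cfsg.Agent.S4520.sum_fixed_two (fun g : G => g⁻¹) 1 hf2 w hwinv
    (Cfsg.MemLocalRing M) (memLocalRing_zero hMp.ne_top)
    (fun a b ha hb => memLocalRing_add hMp ha hb) hwR
  have hfix : ∑ x ∈ Finset.univ.filter (fun x : G => x⁻¹ = x), w x = (d : ℂ) := by
    rw [Finset.sum_eq_single (1 : G)]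
    · rw [hw]
      show regInd 2 G 1 * η.1 1 = d
      rw [regInd_of_reg (by rw [orderOf_one]; decide), one_mul, hd]
    · intro b hb hb1
      have hb' : b⁻¹ = b := (Finset.mem_filter.mp hb).2
      have hb2 : b ^ 2 = 1 := by
        rw [pow_two]
        nth_rewrite 1 [← hb']
        exact inv_mul_cancel b
      have ho : orderOf b = 2 := orderOf_eq_prime hb2 hb1
      rw [hw]
      show regInd 2 G b * η.1 b = 0
      rw [regInd_of_sing (by rw [ho]), zero_mul]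
    · intro h1
      exfalso
      apply h1
      rw [Finset.mem_filter]
      exact ⟨Finset.mem_univ _, inv_one⟩
  rw [hfix] at hsum
  intro h0
  have h0' : ∑ x, w x = 0 := by
    rw [hw]
    exact h0
  rw [h0'] at hsum
  have h2M : Cfsg.MemLocalIdeal M ((2 : ℕ) : ℂ) := (memLocalIdeal_natCast_iff hM 2).mpr dvd_rfl
  have h2r : Cfsg.MemLocalIdeal M (2 * r) := by
    have := memLocalIdeal_mul_left hMp hr h2M
    rw [mul_comm] at this
    exact_mod_cast this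
  have hdM : Cfsg.MemLocalIdeal M ((d : ℕ) : ℂ) := by
    have h3 : ((d : ℕ) : ℂ) = -(2 * r) := by linear_combination -hsum
    rw [h3]
    exact memLocalIdeal_neg h2r
  rw [memLocalIdeal_natCast_iff hM] at hdM
  exact (Nat.not_even_iff_odd.mpr hodd) (even_iff_two_dvd.mpr hdM)

theorem result {G : Type*} [Group G] [Finite G] (N : Subgroup G) [N.Normal] (M : Ideal Cfsg.AlgInt) (hM : Cfsg.IsPModular 2 M) (θ : Cfsg.IrrCharacter N) (hreal : ∀ n : N, ((θ : N → ℂ) n).im = 0) (hodd : Odd (Cfsg.charDegree (θ : N → ℂ))) (hext : ∃ η : Cfsg.IrrCharacter G, ∀ n : N, (η : G → ℂ) n = (θ : N → ℂ) n) :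
    ∃ η : Cfsg.IrrCharacter G, (∀ n : N, (η : G → ℂ) n = (θ : N → ℂ) n) ∧ η ∈ Cfsg.principalBlock M G := by
  classical
  have hp2 : Fact (Nat.Prime 2) := ⟨Nat.prime_two⟩
  have hMp := Cfsg.Agent.Lib.helper23.isPModular_isPrime hM
  have : Fintype G := Fintype.ofFinite G
  have : Fintype N := Fintype.ofFinite N
  obtain ⟨η₀, hη₀⟩ := hext
  have e2 : (fun n : N => η₀.1 n) = θ.1 := funext hη₀
  have hη₀N : IsIrrCharacter N (fun n : N => η₀.1 n) := by
    rw [e2]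
    exact θ.2
  have hbij := gallagher_quotient N η₀.1 η₀.2 hη₀N
  have hmem : (fun g => conj (η₀.1 g)) ∈ {ψ : G → ℂ | IsIrrCharacter G ψ ∧
      classInner (fun n : N => ψ n) (fun n : N => η₀.1 n) ≠ 0} := by
    refine ⟨isIrrCharacter_conj η₀.2, ?_⟩
    have e1 : (fun n : N => conj (η₀.1 n)) = θ.1 := by
      funext n
      rw [hη₀ n]
      exact Complex.conj_eq_iff_im.mpr (hreal n)
    show classInner (fun n : N => conj (η₀.1 n)) (fun n : N => η₀.1 n) ≠ 0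
    rw [e1, e2, isIrrCharacter_inner_self θ.2]
    exact one_ne_zero
  obtain ⟨β, ⟨hβ, hβN⟩, hβχ⟩ := hbij.surjOn hmem
  have hβχ' : ∀ g, β g * η₀.1 g = conj (η₀.1 g) := fun g => congrFun hβχ g
  obtain ⟨d, hd0, hd⟩ := isIrrCharacter_one η₀.2
  have hdC : (d : ℂ) ≠ 0 := by exact_mod_cast hd0.ne'
  have hβ1 : β 1 = 1 := by
    have := hβχ' 1
    rw [hd, Complex.conj_natCast] at this
    field_simp at this
    exact this
  obtain ⟨f, hf⟩ : ∃ f : G →* ℂˣ, ∀ g, (f g : ℂ) = β g :=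
    ⟨irrLinHom ⟨β, hβ⟩ hβ1, fun g => irrLinHom_apply ⟨β, hβ⟩ hβ1 g⟩
  have hcard : Nat.card G ≠ 0 := Nat.card_pos.ne'
  obtain ⟨m, hm⟩ : ∃ m : ℕ, m = Nat.card G / 2 ^ (Nat.card G).factorization 2 := ⟨_, rfl⟩
  have hm2 : ¬ 2 ∣ m := by
    rw [hm]
    exact Nat.not_dvd_ordCompl Nat.prime_two hcard
  have hmul : 2 ^ (Nat.card G).factorization 2 * m = Nat.card G := by
    rw [hm]
    exact Nat.ordProj_mul_ordCompl_eq_self (Nat.card G) 2
  obtain ⟨c, hc⟩ : ∃ c : ℕ, 2 * c = m + 1 := by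
    have : m % 2 = 1 := Nat.two_dvd_ne_zero.mp hm2
    exact ⟨(m + 1) / 2, by omega⟩
  obtain ⟨η, hηdef⟩ : ∃ η : IrrCharacter G, ∀ g, η.1 g = ((f g : ℂˣ) : ℂ) ^ c * η₀.1 g := by
    refine ⟨⟨fun g => (((f ^ c) g : ℂˣ) : ℂ) * η₀.1 g, isIrrCharacter_hom_mul (f ^ c) η₀.2⟩, ?_⟩
    intro g
    show (((f ^ c) g : ℂˣ) : ℂ) * η₀.1 g = _
    rw [MonoidHom.pow_apply, Units.val_pow_eq_pow_val]
  have hηN : ∀ n : N, η.1 n = θ.1 n := by
    intro n
    rw [hηdef, hf, hβN n n.2, hβ1, one_pow, one_mul, hη₀ n]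
  refine ⟨η, hηN, ?_⟩
  have hθd : θ.1 1 = (Cfsg.charDegree θ.1 : ℂ) := (charDegree_cast θ).symm
  have hη1 : η.1 1 = (Cfsg.charDegree θ.1 : ℕ) := by
    have := hηN 1
    rw [Subgroup.coe_one] at this
    rw [this, hθd]
  apply mem_of_real_on_odd M hM η (Cfsg.charDegree θ.1) hη1 hodd
  intro g hg
  have hzm : ((f g : ℂˣ) : ℂ) ^ m = 1 := by
    have hdvd : orderOf g ∣ m := by
      have h1 : orderOf g ∣ 2 ^ (Nat.card G).factorization 2 * m := by
        rw [hmul]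
        exact orderOf_dvd_natCard g
      have hcop : Nat.Coprime (orderOf g) (2 ^ (Nat.card G).factorization 2) :=
        Nat.Coprime.pow_right _ (Nat.Coprime.symm
          ((Nat.Prime.coprime_iff_not_dvd Nat.prime_two).mpr
            (Nat.two_dvd_ne_zero.mpr (Nat.odd_iff.mp hg))))
      exact Nat.Coprime.dvd_of_dvd_mul_left hcop h1
    rw [← Units.val_pow_eq_pow_val, ← map_pow, orderOf_dvd_iff_pow_eq_one.mp hdvd, map_one,
      Units.val_one]
  have hzz := hom_mul_conj f g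
  have hz0 : ((f g : ℂˣ) : ℂ) ≠ 0 := Units.ne_zero _
  rw [hηdef, map_mul, map_pow, ← hβχ' g, ← hf g]
  have key : conj ((f g : ℂˣ) : ℂ) ^ c * ((f g : ℂˣ) : ℂ) = ((f g : ℂˣ) : ℂ) ^ c := by
    have hc0 : ((f g : ℂˣ) : ℂ) ^ c ≠ 0 := pow_ne_zero _ hz0
    apply mul_left_cancel₀ hc0
    have h1 : ((f g : ℂˣ) : ℂ) ^ c * (conj ((f g : ℂˣ) : ℂ) ^ c * ((f g : ℂˣ) : ℂ))
        = (((f g : ℂˣ) : ℂ) * conj ((f g : ℂˣ) : ℂ)) ^ c * ((f g : ℂˣ) : ℂ) := by ring
    have h2 : ((f g : ℂˣ) : ℂ) ^ c * ((f g : ℂˣ) : ℂ) ^ c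
        = ((f g : ℂˣ) : ℂ) ^ m * ((f g : ℂˣ) : ℂ) := by
      rw [← pow_add, ← two_mul, hc, pow_succ]
    rw [h1, h2, hzz, hzm, one_pow]
  rw [← mul_assoc, key]

end Cfsg.Agent.S4580
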