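import Cfsg.Statements.S4583
import Cfsg.Agent.S4520
import Cfsg.Agent.Lib.helper24.GlaubAbove

set_option autoImplicit false
open Cfsg

namespace Cfsg.Agent.S4583

open Cfsg.Agent.Lib.helper23 Cfsg.Agent.Lib.helper24 Cfsg.Agent.Lib.helper22 Cfsg.Agent.Lib.helper5
open scoped ComplexConjugate

theorem key {G : Type*} [Group G] [Fintype G] (N : Subgroup G) [N.Normal] [Fintype N] (p : ℕ)
    [Fact p.Prime] (M : Ideal Cfsg.AlgInt) (hM : Cfsg.IsPModular p M) (P : Sylow p G)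
    (θ : Cfsg.IrrCharacter N) (hθ : θ ∈ Cfsg.principalBlock M N)
    (hdeg : ¬ p ∣ Cfsg.charDegree (θ : N → ℂ)) (H : Subgroup G) (hNH : N ≤ H)
    (hPH : (P : Subgroup G) ≤ H) (k : ℕ) (hidx : (N.subgroupOf H).index = p ^ k)
    (η : Cfsg.IrrCharacter H) (hη : ∀ n : N, η.1 ⟨n, hNH n.2⟩ = θ.1 n) :
    ∃ χ : Cfsg.IrrCharacter G, χ ∈ Cfsg.principalBlock M G ∧
      ¬ p ∣ Cfsg.charDegree (χ : G → ℂ) ∧ Cfsg.classInner (fun n : N => χ.1 n) θ.1 ≠ 0 := by
  classical
  have hp : p.Prime := hM.1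
  have hMp := Cfsg.Agent.Lib.helper23.isPModular_isPrime hM
  have : Fintype H := Fintype.ofFinite H
  have : Fintype (IrrCharacter G) := Fintype.ofFinite _
  have : Fintype (IrrCharacter H) := Fintype.ofFinite _
  have : Fintype (N.subgroupOf H) := Fintype.ofFinite _
  have : Fintype (IrrCharacter (N.subgroupOf H)) := Fintype.ofFinite _
  obtain ⟨e, he⟩ : ∃ e : (N.subgroupOf H) ≃* N, ∀ x, ((e x : N) : G) = ((x : H) : G) :=
    ⟨Subgroup.subgroupOfEquivOfLe hNH, fun x => rfl⟩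
  obtain ⟨θ', hθ'⟩ : ∃ θ' : IrrCharacter (N.subgroupOf H), θ'.1 = θ.1 ∘ e :=
    ⟨⟨θ.1 ∘ e, isIrrCharacter_comp_equiv e θ.2⟩, rfl⟩
  have hθ'B : Cfsg.SameBlock M (trivIrr (N.subgroupOf H)).1 θ'.1 := by
    have h1 := Cfsg.Agent.Lib.helper5.sameBlock_comp_equiv (M := M) e hθ
    rw [hθ']
    exact h1
  have hηover : Cfsg.classInner (fun n : N.subgroupOf H => η.1 n) θ'.1 ≠ 0 := by
    have h1 : (fun n : N.subgroupOf H => η.1 n) = θ'.1 := by
      funext n
      rw [hθ']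
      show η.1 n = θ.1 (e n)
      have h2 : (⟨((e n : N) : G), hNH (e n).2⟩ : H) = (n : H) := Subtype.ext (he n)
      rw [← hη (e n), h2]
    rw [h1, isIrrCharacter_inner_self θ'.2]
    exact one_ne_zero
  have htriv : Cfsg.classInner (fun n : N.subgroupOf H => (trivIrr H).1 n)
      (trivIrr (N.subgroupOf H)).1 ≠ 0 := by
    have h1 : (fun n : N.subgroupOf H => (trivIrr H).1 n) = (trivIrr (N.subgroupOf H)).1 := rfl
    rw [h1, isIrrCharacter_inner_self (trivIrr (N.subgroupOf H)).2]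
    exact one_ne_zero
  have hηB₀ : Cfsg.SameBlock M (trivIrr H).1 η.1 :=
    sameBlock_of_cover_index_pow (N.subgroupOf H) hM hidx (χ := trivIrr H) (χ' := η)
      (θ := trivIrr (N.subgroupOf H)) (θ' := θ') hθ'B htriv hηover
  have hηB : η ∈ Cfsg.principalBlock M H := hηB₀
  have hid := Cfsg.Agent.S4520.ind_reg_sum p H η.1
  have hθdeg : (Cfsg.charDegree θ.1 : ℂ) ≠ 0 := by
    rw [charDegree_cast θ]
    exact irr_one_ne_zero θ
  have hR : ¬ Cfsg.MemLocalIdeal M ((H.index : ℂ) * ∑ n : H, regInd p H n * η.1 n) := by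
    intro hmem
    have hη1 : η.1 1 = (Cfsg.charDegree θ.1 : ℂ) := by
      rw [charDegree_cast θ, ← hη 1]
      rfl
    have e1 : (H.index : ℂ) * ∑ n : H, regInd p H n * η.1 n
        = ((H.index * Cfsg.charDegree θ.1 : ℕ) : ℂ) * coord (regInd p H) η := by
      unfold coord
      rw [hη1]
      push_cast
      field_simp
    rw [e1] at hmem
    rcases memLocalIdeal_or_of_mul hMp (memLocalRing_natCast hMp.ne_top _)
      (memLocalRing_coord hMp (coord_regInd_mem_osimaRing hMp) η) hmem with h | h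
    · rw [memLocalIdeal_natCast_iff hM] at h
      rcases (Nat.Prime.dvd_mul hp).mp h with h | h
      · exact P.not_dvd_index (dvd_trans h (Subgroup.index_dvd_of_le hPH))
      · exact hdeg h
    · exact (Cfsg.Agent.Lib.helper5.mem_principalBlock_iff hM η).mp hηB h
  rw [← hid] at hR
  by_contra hcon
  push Not at hcon
  apply hR
  apply memLocalIdeal_sum hMp
  intro χ _
  by_cases h0 : classInner (indFun H η.1) χ.1 = 0
  · rw [h0, zero_mul]
    exact memLocalIdeal_zero hMp.ne_top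
  by_cases ha : ∑ g : G, regInd p G g * χ.1 g = 0
  · rw [ha, mul_zero]
    exact memLocalIdeal_zero hMp.ne_top
  have hχB : χ ∈ Cfsg.principalBlock M G := (Cfsg.Agent.S4521.principal_iff_sum hM χ).mpr ha
  have h1 : classInner (fun x : H => χ.1 x) η.1 ≠ 0 := by
    intro hz
    apply h0
    rw [frobenius_reciprocity H η.1 (isCharacter_conj_class (isCharacter_of_isIrrCharacter χ.2)),
      classInner_conj_symm (fun x : H => χ.1 x) η.1, hz, map_zero]
  have h2 : classInner (fun n : N => η.1 ⟨n, hNH n.2⟩) θ.1 ≠ 0 := by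
    have h3 : (fun n : N => η.1 ⟨n, hNH n.2⟩) = θ.1 := funext hη
    rw [h3, isIrrCharacter_inner_self θ.2]
    exact one_ne_zero
  have hover : classInner (fun n : N => χ.1 n) θ.1 ≠ 0 := over_trans H N hNH χ η θ h1 h2
  have hpdvd : p ∣ Cfsg.charDegree χ.1 := by
    by_contra hnd
    exact hover (hcon χ hχB hnd)
  obtain ⟨n, hn⟩ := isCharacter_inner_irr_nat
    (isCharacter_indFun H (isCharacter_of_isIrrCharacter η.2)) χ
  have hχ1 : χ.1 1 ≠ 0 := irr_one_ne_zero χ
  have e2 : classInner (indFun H η.1) χ.1 * ∑ g : G, regInd p G g * χ.1 g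
      = (n : ℂ) * ((Cfsg.charDegree χ.1 : ℕ) : ℂ) * coord (regInd p G) χ := by
    rw [hn]
    unfold coord
    rw [charDegree_cast χ]
    field_simp
  rw [e2]
  exact memLocalIdeal_mul_right hMp (memLocalIdeal_mul_left hMp (memLocalRing_natCast hMp.ne_top n)
    ((memLocalIdeal_natCast_iff hM _).mpr hpdvd))
    (memLocalRing_coord hMp (coord_regInd_mem_osimaRing hMp) χ)

theorem result {G : Type*} [Group G] [Finite G] (N : Subgroup G) [N.Normal] (p : ℕ) [Fact p.Prime] (M : Ideal Cfsg.AlgInt) (hM : Cfsg.IsPModular p M) (P : Sylow p G)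
    (θ : Cfsg.IrrCharacter N) (hθ : θ ∈ Cfsg.principalBlock M N) (hdeg : ¬ p ∣ Cfsg.charDegree (θ : N → ℂ))
    (hext : ∃ η : Cfsg.IrrCharacter ↥(N ⊔ (P : Subgroup G)), ∀ n : N, (η : ↥(N ⊔ (P : Subgroup G)) → ℂ) (Subgroup.inclusion le_sup_left n) = (θ : N → ℂ) n) :
    ∃ χ : Cfsg.IrrCharacter G, χ ∈ Cfsg.principalBlock M G ∧ ¬ p ∣ Cfsg.charDegree (χ : G → ℂ) ∧
      haveI := Fintype.ofFinite N; Cfsg.classInner (fun n : N => (χ : G → ℂ) n) (θ : N → ℂ) ≠ 0 := by
  classical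
  have hp : p.Prime := hM.1
  have : Fintype G := Fintype.ofFinite G
  let _ : Fintype N := Fintype.ofFinite N
  obtain ⟨η, hη⟩ := hext
  have hidx : ∃ k : ℕ, (N.subgroupOf (N ⊔ (P : Subgroup G))).index = p ^ k := by
    have h1 : N.relIndex (N ⊔ (P : Subgroup G)) = N.relIndex (P : Subgroup G) := by
      rw [sup_comm]
      exact Subgroup.relIndex_sup_right _ _
    obtain ⟨k, hk⟩ := IsPGroup.index P.isPGroup' (N.subgroupOf (P : Subgroup G))
    exact ⟨k, by rw [← hk]; exact h1⟩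
  obtain ⟨k, hk⟩ := hidx
  exact key N p M hM P θ hθ hdeg (N ⊔ (P : Subgroup G)) le_sup_left le_sup_right k hk η hη

end Cfsg.Agent.S4583
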