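import Cfsg.Statements.S4591
import Cfsg.Agent.S0081
import Cfsg.Agent.S0086
import Cfsg.Agent.S4551
import Cfsg.Agent.Lib.helper1.PGroup
import Cfsg.Agent.Lib.helper22.IndexP
import Cfsg.Agent.Lib.helper22.CliffDeg
import Cfsg.Agent.Lib.helper23.Ito
import Cfsg.Agent.Lib.helper24.CharGallagher2
import Cfsg.Agent.Lib.helper24.CharLin

set_option autoImplicit false
open Cfsg

namespace Cfsg.Agent.S4591

open Cfsg.Agent.Lib.helper23 Cfsg.Agent.Lib.helper24 Cfsg.Agent.Lib.helper22
open scoped ComplexConjugate Pointwise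

theorem sum_fixed_pgroup {P X : Type*} [Group P] [Finite P] [Fintype X] (p : ℕ) [Fact p.Prime]
    (hP : IsPGroup p P) (φ : P →* Equiv.Perm X) (w : X → ℂ)
    (hw : ∀ (g : P) (x : X), w (φ g x) = w x)
    (x₀ : X) (hx₀ : ∀ g : P, φ g x₀ = x₀) (hfix : ∀ x : X, (∀ g : P, φ g x = x) → x = x₀)
    (Q : ℂ → Prop) (h0 : Q 0) (hadd : ∀ a b, Q a → Q b → Q (a + b)) (hQ : ∀ x, Q (w x)) :
    ∃ r, Q r ∧ ∑ x, w x = w x₀ + (p : ℂ) * r := by
  classical
  let _ : MulAction P X := MulAction.compHom X φ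
  have hsm : ∀ (g : P) (x : X), g • x = φ g x := fun g x => rfl
  have hfib : ∀ v : ℂ, ∃ k : ℕ, (Finset.univ.filter (fun x : X => w x = v)).card
      = (if v = w x₀ then 1 else 0) + p * k := by
    intro v
    let S : SubMulAction P X := ⟨{x | w x = v}, fun g x hx => by
      show w (φ g x) = v
      rw [hw]
      exact hx⟩
    have h1 := hP.card_modEq_card_fixedPoints S
    have h2 : Nat.card S = (Finset.univ.filter (fun x : X => w x = v)).card := by
      rw [Nat.card_eq_fintype_card]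
      exact Fintype.card_subtype _
    have h3 : Nat.card (MulAction.fixedPoints P S) = if v = w x₀ then 1 else 0 := by
      split_ifs with hv
      · rw [Nat.card_eq_one_iff_unique]
        refine ⟨⟨?_⟩, ⟨⟨⟨x₀, hv.symm⟩, ?_⟩⟩⟩
        · rintro ⟨⟨a, ha⟩, hfa⟩ ⟨⟨b, hb⟩, hfb⟩
          have ea : a = x₀ := hfix a (fun g => congrArg Subtype.val (hfa g))
          have eb : b = x₀ := hfix b (fun g => congrArg Subtype.val (hfb g))
          apply Subtype.ext
          apply Subtype.ext
          show a = b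
          rw [ea, eb]
        · intro g
          exact Subtype.ext (hx₀ g)
      · rw [Nat.card_eq_zero]
        left
        constructor
        rintro ⟨⟨a, ha⟩, hfa⟩
        apply hv
        have ea : a = x₀ := hfix a (fun g => congrArg Subtype.val (hfa g))
        rw [← ea]
        exact ha.symm
    rw [h2, h3] at h1
    split_ifs with hv
    · rw [if_pos hv] at h1
      have hpos : 1 ≤ (Finset.univ.filter (fun x : X => w x = v)).card := by
        apply Finset.card_pos.mpr
        exact ⟨x₀, Finset.mem_filter.mpr ⟨Finset.mem_univ _, hv.symm⟩⟩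
      obtain ⟨k, hk⟩ := (Nat.modEq_iff_dvd' hpos).mp h1.symm
      exact ⟨k, by omega⟩
    · rw [if_neg hv] at h1
      obtain ⟨k, hk⟩ := (Nat.modEq_zero_iff_dvd).mp h1
      exact ⟨k, by omega⟩
  choose k hk using hfib
  have hQn : ∀ (n : ℕ) (x : X), Q ((n : ℂ) * w x) := by
    intro n x
    induction n with
    | zero => simpa using h0
    | succ n ih =>
      have : ((n + 1 : ℕ) : ℂ) * w x = (n : ℂ) * w x + w x := by push_cast; ring
      rw [this]
      exact hadd _ _ ih (hQ x)
  have hQs : ∀ s : Finset ℂ, (∀ v ∈ s, ∃ x, w x = v) → Q (∑ v ∈ s, (k v : ℂ) * v) := by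
    intro s
    induction s using Finset.induction_on with
    | empty => intro _; simpa using h0
    | insert a s ha ih =>
      intro hs
      rw [Finset.sum_insert ha]
      obtain ⟨x, hx⟩ := hs a (Finset.mem_insert_self a s)
      refine hadd _ _ ?_ (ih (fun v hv => hs v (Finset.mem_insert_of_mem hv)))
      rw [← hx]
      exact hQn _ x
  refine ⟨∑ v ∈ Finset.univ.image w, (k v : ℂ) * v, hQs _ ?_, ?_⟩
  · intro v hv
    obtain ⟨x, -, hx⟩ := Finset.mem_image.mp hv
    exact ⟨x, hx⟩
  · have h1 := Finset.sum_comp (s := (Finset.univ : Finset X)) (fun v : ℂ => v) w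
    rw [h1]
    have h2 : ∀ v ∈ Finset.univ.image w,
        (Finset.univ.filter (fun x : X => w x = v)).card • v
          = (if v = w x₀ then v else 0) + (p : ℂ) * ((k v : ℂ) * v) := by
      intro v _
      rw [hk v, nsmul_eq_mul]
      split_ifs <;> push_cast <;> ring
    rw [Finset.sum_congr rfl h2, Finset.sum_add_distrib, ← Finset.mul_sum,
      Finset.sum_ite_eq' (Finset.univ.image w) (w x₀) (fun v => v),
      if_pos (Finset.mem_image_of_mem w (Finset.mem_univ x₀))]

theorem ker_of_translate {G : Type*} [Group G] [Fintype G] (Ψ : G → ℂ) (T : Subgroup G)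
    [T.Normal] (hT : ∀ t ∈ T, ∀ g, Ψ (t * g) = Ψ g) (χ : IrrCharacter G)
    (hne : classInner Ψ χ.1 ≠ 0) : ∀ t ∈ T, χ.1 t = χ.1 1 := by
  classical
  have : Fintype T := Fintype.ofFinite T
  by_contra hcon
  push Not at hcon
  obtain ⟨m, hm, hne'⟩ := hcon
  apply hne
  have hz : ∀ g : G, ∑ n : T, χ.1 ((n : G) * g) = 0 := by
    intro g
    have h0 := sum_irr_mul_normal_eq_zero χ T ⟨m, hm, hne'⟩ g
    rw [← h0]
    apply Finset.sum_congr rfl
    intro n _
    exact isCharacter_mul_comm (isCharacter_of_isIrrCharacter χ.2) _ _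
  have hTne : (Nat.card T : ℂ) ≠ 0 := by
    exact_mod_cast (Nat.card_pos (α := T)).ne'
  have key : (Nat.card T : ℂ) * ∑ g : G, Ψ g * conj (χ.1 g) = 0 := by
    have e1 : (Nat.card T : ℂ) * ∑ g : G, Ψ g * conj (χ.1 g)
        = ∑ n : T, ∑ g : G, Ψ g * conj (χ.1 g) := by
      rw [Finset.sum_const, Finset.card_univ, nsmul_eq_mul, Nat.card_eq_fintype_card]
    have e2 : ∀ n : T, ∑ g : G, Ψ g * conj (χ.1 g)
        = ∑ g : G, Ψ g * conj (χ.1 ((n : G) * g)) := by
      intro n
      rw [← Equiv.sum_comp (Equiv.mulLeft (n : G)) (fun g => Ψ g * conj (χ.1 g))]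
      apply Finset.sum_congr rfl
      intro g _
      simp only [Equiv.coe_mulLeft]
      rw [hT n n.2]
    rw [e1, Finset.sum_congr rfl (fun n _ => e2 n), Finset.sum_comm]
    apply Finset.sum_eq_zero
    intro g _
    rw [← Finset.mul_sum, ← map_sum, hz g, map_zero, mul_zero]
  unfold classInner
  rcases mul_eq_zero.mp key with h | h
  · exact absurd h hTne
  · rw [h, mul_zero]

theorem exists_pprime_over {G : Type*} [Group G] [Fintype G] (p : ℕ) [Fact p.Prime]
    (H : Subgroup G) [Fintype H] (hH : ¬ p ∣ H.index) (lam : H →* ℂˣ) :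
    ∃ χ : IrrCharacter G, ¬ p ∣ charDegree χ.1 ∧
      classInner (fun h : H => (lam h : ℂ)) (fun h : H => χ.1 h) ≠ 0 := by
  classical
  have : Fintype (IrrCharacter G) := Fintype.ofFinite _
  have hchar : IsCharacter G (indFun H (fun h : H => (lam h : ℂ))) :=
    isCharacter_indFun H (isCharacter_of_isIrrCharacter (isIrrCharacter_of_hom lam))
  have hexp := classFunction_expansion_apply (isCharacter_conj_class hchar) 1
  rw [indFun_one, map_one, Units.val_one, mul_one] at hexp
  by_contra hcon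
  push Not at hcon
  apply hH
  have hn : ∀ χ : IrrCharacter G, ∃ n : ℕ,
      classInner (indFun H (fun h : H => (lam h : ℂ))) χ.1 = n :=
    fun χ => isCharacter_inner_irr_nat hchar χ
  choose n hn using hn
  have hsum : (H.index : ℂ) = ((∑ χ : IrrCharacter G, n χ * charDegree χ.1 : ℕ) : ℂ) := by
    rw [hexp]
    push_cast
    apply Finset.sum_congr rfl
    intro χ _
    rw [hn χ, charDegree_cast χ]
  have hsum' : H.index = ∑ χ : IrrCharacter G, n χ * charDegree χ.1 := by
    exact_mod_cast hsum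
  rw [hsum']
  apply Finset.dvd_sum
  intro χ _
  by_cases h0 : n χ = 0
  · rw [h0, zero_mul]
    exact dvd_zero p
  · apply Dvd.dvd.mul_left
    by_contra hnd
    have h1 := hcon χ hnd
    rw [← frobenius_reciprocity H (fun h : H => (lam h : ℂ))
      (isCharacter_conj_class (isCharacter_of_isIrrCharacter χ.2)), hn χ] at h1
    exact h0 (by exact_mod_cast h1)

theorem exists_linear_under {G : Type*} [Group G] [Fintype G] (p : ℕ) [Fact p.Prime]
    (P : Sylow p G) [Fintype (P : Subgroup G)] (χ : IrrCharacter G) (hχ : ¬ p ∣ charDegree χ.1) :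
    ∃ lam : (P : Subgroup G) →* ℂˣ,
      classInner (fun h : (P : Subgroup G) => (lam h : ℂ)) (fun h : (P : Subgroup G) => χ.1 h) ≠ 0 := by
  classical
  have hp : p.Prime := Fact.out
  have : Fintype (IrrCharacter (P : Subgroup G)) := Fintype.ofFinite _
  have hchar : IsCharacter (P : Subgroup G) (fun h : (P : Subgroup G) => χ.1 h) :=
    Cfsg.Agent.Lib.helper24.isCharacter_restrict (P : Subgroup G) (isCharacter_of_isIrrCharacter χ.2)
  have hexp := classFunction_expansion_apply (isCharacter_conj_class hchar) 1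
  have hn : ∀ μ : IrrCharacter (P : Subgroup G), ∃ n : ℕ,
      classInner (fun h : (P : Subgroup G) => χ.1 h) μ.1 = n :=
    fun μ => isCharacter_inner_irr_nat hchar μ
  choose n hn using hn
  have hsum : ((charDegree χ.1 : ℕ) : ℂ)
      = ((∑ μ : IrrCharacter (P : Subgroup G), n μ * charDegree μ.1 : ℕ) : ℂ) := by
    rw [charDegree_cast χ]
    have e1 : χ.1 1 = χ.1 ((1 : (P : Subgroup G)) : G) := rfl
    rw [e1, hexp]
    push_cast
    apply Finset.sum_congr rfl
    intro μ _
    rw [hn μ, charDegree_cast μ]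
  have hsum' : charDegree χ.1 = ∑ μ : IrrCharacter (P : Subgroup G), n μ * charDegree μ.1 := by
    exact_mod_cast hsum
  have hex : ∃ μ : IrrCharacter (P : Subgroup G), n μ ≠ 0 ∧ ¬ p ∣ charDegree μ.1 := by
    by_contra hcon
    push Not at hcon
    apply hχ
    rw [hsum']
    apply Finset.dvd_sum
    intro μ _
    by_cases h0 : n μ = 0
    · rw [h0, zero_mul]
      exact dvd_zero p
    · exact Dvd.dvd.mul_left (hcon μ h0) _
  obtain ⟨μ, hμ0, hμp⟩ := hex
  have hdvd : charDegree μ.1 ∣ Nat.card (P : Subgroup G) := charDegree_dvd_card μ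
  obtain ⟨e, he⟩ := IsPGroup.iff_card.mp P.isPGroup'
  rw [he] at hdvd
  obtain ⟨i, -, hi⟩ := (Nat.dvd_prime_pow hp).mp hdvd
  have hi0 : i = 0 := by
    by_contra h
    exact hμp (by rw [hi]; exact dvd_pow_self p h)
  have hμ1 : μ.1 1 = 1 := by
    rw [← charDegree_cast μ, hi, hi0, pow_zero, Nat.cast_one]
  refine ⟨irrLinHom μ hμ1, ?_⟩
  have e2 : (fun h : (P : Subgroup G) => ((irrLinHom μ hμ1 h : ℂˣ) : ℂ)) = μ.1 := by
    funext h
    rfl
  rw [e2, classInner_conj_symm, hn μ]
  simpa using hμ0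

theorem ker_of_le_commutator {G : Type*} [Group G] [Fintype G] (p : ℕ) [Fact p.Prime]
    (P : Sylow p G) (K : Subgroup G) [hKn : K.Normal]
    (hK : K ≤ ⁅(P : Subgroup G), (P : Subgroup G)⁆)
    (χ : IrrCharacter G) (hχ : ¬ p ∣ charDegree χ.1) : ∀ k ∈ K, χ.1 k = χ.1 1 := by
  classical
  have : Fintype (P : Subgroup G) := Fintype.ofFinite _
  obtain ⟨lam, hlam⟩ := exists_linear_under p P χ hχ
  rw [← frobenius_reciprocity (P : Subgroup G) (fun h => (lam h : ℂ))
    (isCharacter_conj_class (isCharacter_of_isIrrCharacter χ.2))] at hlam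
  apply ker_of_translate (indFun (P : Subgroup G) (fun h => (lam h : ℂ))) K ?_ χ hlam
  intro k hk g
  unfold indFun
  congr 1
  apply Finset.sum_congr rfl
  intro x _
  have hk' : x⁻¹ * k * x ∈ K := by
    have := hKn.conj_mem k hk x⁻¹
    simpa using this
  have hk2 := hK hk'
  rw [← Subgroup.map_subtype_commutator, Subgroup.mem_map] at hk2
  obtain ⟨y, hy, hyk⟩ := hk2
  have hly : lam y = 1 := by
    have := Abelianization.commutator_subset_ker lam hy
    exact MonoidHom.mem_ker.mp this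
  have e : x⁻¹ * (k * g) * x = (y : G) * (x⁻¹ * g * x) := by
    have hyk' : (y : G) = x⁻¹ * k * x := hyk
    rw [hyk']
    group
  rw [e]
  by_cases hz : x⁻¹ * g * x ∈ (P : Subgroup G)
  · have hyz : (y : G) * (x⁻¹ * g * x) ∈ (P : Subgroup G) := (P : Subgroup G).mul_mem y.2 hz
    rw [extendByZero_apply_mem _ _ hyz, extendByZero_apply_mem _ _ hz]
    have e2 : (⟨(y : G) * (x⁻¹ * g * x), hyz⟩ : (P : Subgroup G)) = y * ⟨x⁻¹ * g * x, hz⟩ := rfl
    rw [e2, map_mul, hly, one_mul]
  · have hyz : (y : G) * (x⁻¹ * g * x) ∉ (P : Subgroup G) := by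
      intro h
      apply hz
      have := (P : Subgroup G).mul_mem ((P : Subgroup G).inv_mem y.2) h
      simpa using this
    rw [extendByZero_apply_not_mem _ _ hyz, extendByZero_apply_not_mem _ _ hz]

theorem hom_eq_one_of_ker {G : Type*} [Group G] [Fintype G] (p : ℕ) [Fact p.Prime]
    (H : Subgroup G) (hH : ¬ p ∣ H.index) (lam : H →* ℂˣ) (x : H)
    (hx : ∀ χ : IrrCharacter G, ¬ p ∣ charDegree χ.1 → χ.1 x = χ.1 1) : lam x = 1 := by
  classical
  have : Fintype H := Fintype.ofFinite H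
  obtain ⟨χ, hχp, hne⟩ := exists_pprime_over p H hH lam
  have hT : ∀ t ∈ (irrKer χ).subgroupOf H, ∀ g : H,
      (fun h : H => χ.1 h) (t * g) = (fun h : H => χ.1 h) g := by
    intro t ht g
    have h1 : χ.1 (t : G) = χ.1 1 := (mem_irrKer χ t).mp (Subgroup.mem_subgroupOf.mp ht)
    exact irr_mul_of_mem_ker χ.2 h1 (g : G)
  have hne' : classInner (fun h : H => χ.1 h)
      (⟨fun h : H => (lam h : ℂ), isIrrCharacter_of_hom lam⟩ : IrrCharacter H).1 ≠ 0 := by
    rw [classInner_conj_symm]
    exact (map_ne_zero _).mpr hne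
  have h1 := ker_of_translate (fun h : H => χ.1 h) ((irrKer χ).subgroupOf H) hT
    ⟨_, isIrrCharacter_of_hom lam⟩ hne' x
    (by rw [Subgroup.mem_subgroupOf, mem_irrKer]; exact hx χ hχp)
  apply Units.ext
  simpa using h1

theorem eq_one_of_centralizer {G : Type*} [Group G] [Fintype G] (p : ℕ) [Fact p.Prime]
    (P : Sylow p G) (c : G) (hcC : c ∈ Subgroup.centralizer ((P : Subgroup G) : Set G))
    (hcop : Nat.Coprime (orderOf c) p)
    (hc : ∀ χ : IrrCharacter G, ¬ p ∣ charDegree χ.1 → χ.1 c = χ.1 1) : c = 1 := by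
  classical
  have hp : p.Prime := Fact.out
  by_contra hc1
  have hcomm : ∀ (z : Subgroup.zpowers c) (x : (P : Subgroup G)),
      Commute ((Subgroup.zpowers c).subtype z) ((P : Subgroup G).subtype x) := by
    intro z x
    obtain ⟨k, hk⟩ := Subgroup.mem_zpowers_iff.mp z.2
    show Commute (z : G) (x : G)
    rw [← hk]
    have h1 : Commute c (x : G) := ((Subgroup.mem_centralizer_iff.mp hcC) x x.2).symm
    exact h1.zpow_left k
  obtain ⟨f, hf⟩ : ∃ f : Subgroup.zpowers c × (P : Subgroup G) →* G,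
      f = MonoidHom.noncommCoprod (Subgroup.zpowers c).subtype (P : Subgroup G).subtype hcomm :=
    ⟨_, rfl⟩
  have hfa : ∀ z x, f (z, x) = (z : G) * (x : G) := by
    intro z x
    rw [hf]
    rfl
  have hinj : Function.Injective f := by
    rw [injective_iff_map_eq_one]
    rintro ⟨z, x⟩ h
    rw [hfa] at h
    have hzP : (z : G) ∈ (P : Subgroup G) := by
      have h2 : (z : G) = (x : G)⁻¹ := eq_inv_of_mul_eq_one_left h
      rw [h2]
      exact (P : Subgroup G).inv_mem x.2
    have hz1 : (z : G) = 1 := by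
      obtain ⟨j, hj⟩ := (IsPGroup.iff_orderOf.mp P.isPGroup') ⟨(z : G), hzP⟩
      rw [Subgroup.orderOf_mk] at hj
      have hdvd : orderOf (z : G) ∣ orderOf c := by
        obtain ⟨k, hk⟩ := Subgroup.mem_zpowers_iff.mp z.2
        rw [← hk]
        exact orderOf_dvd_of_mem_zpowers (Subgroup.mem_zpowers_iff.mpr ⟨k, rfl⟩)
      have hcop2 : Nat.Coprime (orderOf (z : G)) p := Nat.Coprime.coprime_dvd_left hdvd hcop
      rw [hj] at hcop2
      have hj0 : j = 0 := by
        by_contra hj0
        have h3 : p ∣ Nat.gcd (p ^ j) p := Nat.dvd_gcd (dvd_pow_self p hj0) dvd_rfl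
        rw [Nat.Coprime] at hcop2
        rw [hcop2] at h3
        exact hp.one_lt.ne' (Nat.dvd_one.mp h3)
      rw [hj0, pow_zero, orderOf_eq_one_iff] at hj
      exact hj
    have hx1 : (x : G) = 1 := by
      rw [hz1, one_mul] at h
      exact h
    exact Prod.ext (Subtype.ext hz1) (Subtype.ext hx1)
  have hcz : (⟨c, Subgroup.mem_zpowers c⟩ : Subgroup.zpowers c) ≠ 1 :=
    fun h => hc1 (congrArg Subtype.val h)
  have hprim : ∃ ζ : ℂˣ, IsPrimitiveRoot ζ (Nat.card (Subgroup.zpowers c)) := by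
    have hn0 : Nat.card (Subgroup.zpowers c) ≠ 0 := Nat.card_pos.ne'
    have h4 := Complex.isPrimitiveRoot_exp (Nat.card (Subgroup.zpowers c)) hn0
    obtain ⟨u, hu⟩ := h4.isUnit hn0
    refine ⟨u, ?_⟩
    rw [← hu] at h4
    exact IsPrimitiveRoot.coe_units_iff.mp h4
  obtain ⟨μ, hμ⟩ := IsCyclic.exists_apply_ne_one hprim hcz
  have hPE : (P : Subgroup G) ≤ f.range := by
    intro x hx
    refine ⟨(1, ⟨x, hx⟩), ?_⟩
    rw [hfa]
    simp
  have hidx : ¬ p ∣ f.range.index :=
    fun h => P.not_dvd_index (dvd_trans h (Subgroup.index_dvd_of_le hPE))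
  have hcE : c ∈ f.range := by
    refine ⟨(⟨c, Subgroup.mem_zpowers c⟩, 1), ?_⟩
    rw [hfa]
    simp
  have hsymm : (MonoidHom.ofInjective hinj).symm ⟨c, hcE⟩
      = (⟨c, Subgroup.mem_zpowers c⟩, 1) := by
    rw [MulEquiv.symm_apply_eq]
    apply Subtype.ext
    rw [MonoidHom.ofInjective_apply, hfa]
    simp
  have h1 := hom_eq_one_of_ker p f.range hidx
    ((μ.comp (MonoidHom.fst _ _)).comp (MonoidHom.ofInjective hinj).symm.toMonoidHom)
    ⟨c, hcE⟩ hc
  apply hμ
  rw [← h1]
  show μ ⟨c, Subgroup.mem_zpowers c⟩ = μ ((MonoidHom.ofInjective hinj).symm ⟨c, hcE⟩).1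
  rw [hsymm]

theorem result {G : Type*} [Group G] [Finite G] (p : ℕ) [Fact p.Prime] (P : Sylow p G) (N : Subgroup G) [N.Normal]
    (hN : N ⊓ Subgroup.centralizer ((P : Subgroup G) : Set G) = ⊥)
    (hmax : ∀ L : Subgroup G, L.Normal → L ⊓ Subgroup.centralizer ((P : Subgroup G) : Set G) = ⊥ → L ≤ N) :
    {g : G | ∀ χ : Cfsg.IrrCharacter G, ¬ p ∣ Cfsg.charDegree (χ : G → ℂ) → (χ : G → ℂ) g = (χ : G → ℂ) 1} =
      ((N ⊔ ⁅(P : Subgroup G), (P : Subgroup G)⁆).normalCore : Set G) := by
  classical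
  have hp : p.Prime := Fact.out
  have : Fintype G := Fintype.ofFinite G
  have : Fintype (P : Subgroup G) := Fintype.ofFinite _
  ext g
  simp only [Set.mem_ofPred_eq, SetLike.mem_coe]
  constructor
  · intro hg
    obtain ⟨L, hL⟩ : ∃ L : Subgroup G,
        L = ⨅ χ : {χ : IrrCharacter G // ¬ p ∣ charDegree χ.1}, irrKer χ.1 := ⟨_, rfl⟩
    have hLmem : ∀ x, x ∈ L ↔
        ∀ χ : IrrCharacter G, ¬ p ∣ charDegree χ.1 → χ.1 x = χ.1 1 := by
      intro x
      rw [hL, Subgroup.mem_iInf]
      constructor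
      · intro h χ hχ
        exact (mem_irrKer χ x).mp (h ⟨χ, hχ⟩)
      · intro h χ
        exact (mem_irrKer χ.1 x).mpr (h χ.1 χ.2)
    have hLn : L.Normal := by
      rw [hL]
      exact Subgroup.normal_iInf_normal (fun χ => irrKer_normal χ.1)
    have hKC : ∀ (x : G) (hxP : x ∈ (P : Subgroup G)), x ∈ L →
        ∀ lam : (P : Subgroup G) →* ℂˣ, lam ⟨x, hxP⟩ = 1 := by
      intro x hxP hxL lam
      exact hom_eq_one_of_ker p (P : Subgroup G) P.not_dvd_index lam ⟨x, hxP⟩ ((hLmem x).mp hxL)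
    have hfr : L ⊓ (P : Subgroup G) ≤ (frattini P).map (P : Subgroup G).subtype := by
      rintro x ⟨hxL, hxP⟩
      rw [Subgroup.mem_map]
      refine ⟨⟨x, hxP⟩, ?_, rfl⟩
      by_contra hnf
      have hex : ∃ Mx : Subgroup (P : Subgroup G), IsCoatom Mx ∧
          (⟨x, hxP⟩ : (P : Subgroup G)) ∉ Mx := by
        by_contra hall
        push Not at hall
        apply hnf
        simp only [frattini, Order.radical, Subgroup.mem_iInf]
        intro Mx hMx
        exact hall Mx hMx
      obtain ⟨Mx, hMx, hxM⟩ := hex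
      obtain ⟨hMn, hMidx⟩ := Cfsg.Agent.Lib.helper1.coatom_normal_index p P.isPGroup' Mx hMx
      obtain ⟨μ, h1, h2⟩ := exists_hom_of_index_prime Mx hp hMidx
      apply hxM
      rw [← h1]
      exact hKC x hxP hxL μ
    have hcomm : ∀ x, x ∈ L → x ∈ (P : Subgroup G) →
        x ∈ ⁅(P : Subgroup G), (P : Subgroup G)⁆ := by
      intro x hxL hxP
      rw [← Subgroup.map_subtype_commutator, Subgroup.mem_map]
      refine ⟨⟨x, hxP⟩, ?_, rfl⟩
      by_contra hnc
      have hne : (Abelianization.of (⟨x, hxP⟩ : (P : Subgroup G))) ≠ 1 := by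
        intro h
        apply hnc
        exact (QuotientGroup.eq_one_iff _).mp h
      obtain ⟨φ, hφ⟩ := CommGroup.exists_apply_ne_one_of_hasEnoughRootsOfUnity
        (Abelianization (P : Subgroup G)) ℂ hne
      exact hφ (hKC x hxP hxL (φ.comp Abelianization.of))
    obtain ⟨Q, K, hKn, hKc⟩ := Cfsg.Agent.S0081.result P L hfr
    have hKmem : ∀ n : L, n ∈ K ↔ Nat.Coprime (orderOf n) p := fun n =>
      Cfsg.Agent.S0086.result Q K hKc n
    obtain ⟨K', hK'⟩ : ∃ K' : Subgroup G, K' = K.map L.subtype := ⟨_, rfl⟩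
    have hK'n : K'.Normal := by
      constructor
      intro k hk g
      rw [hK', Subgroup.mem_map] at hk ⊢
      obtain ⟨n, hn, rfl⟩ := hk
      refine ⟨⟨g * (n : G) * g⁻¹, hLn.conj_mem (n : G) n.2 g⟩, ?_, rfl⟩
      rw [hKmem] at hn ⊢
      have e : orderOf (⟨g * (n : G) * g⁻¹, hLn.conj_mem (n : G) n.2 g⟩ : L) = orderOf n := by
        rw [← Subgroup.orderOf_coe, ← Subgroup.orderOf_coe n]
        exact orderOf_injective (MulAut.conj g).toMonoidHom (MulAut.conj g).injective (n : G)
      rw [e]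
      exact hn
    have hK'cent : K' ⊓ Subgroup.centralizer ((P : Subgroup G) : Set G) = ⊥ := by
      rw [eq_bot_iff]
      intro c hc
      obtain ⟨hcK, hcC⟩ := Subgroup.mem_inf.mp hc
      rw [Subgroup.mem_bot]
      rw [hK', Subgroup.mem_map] at hcK
      obtain ⟨n, hn, rfl⟩ := hcK
      have hcop : Nat.Coprime (orderOf (L.subtype n)) p := by
        have h3 := (hKmem n).mp hn
        rwa [← Subgroup.orderOf_coe] at h3
      exact eq_one_of_centralizer p P _ hcC hcop ((hLmem _).mp n.2)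
    have hK'N : K' ≤ N := hmax K' hK'n hK'cent
    have hLle : L ≤ N ⊔ ⁅(P : Subgroup G), (P : Subgroup G)⁆ := by
      intro x hx
      have hQp : IsPGroup p ((Q : Subgroup L).map L.subtype) := Q.isPGroup'.map L.subtype
      obtain ⟨P₁, hP₁⟩ := hQp.exists_le_sylow
      obtain ⟨t, ht⟩ := MulAction.exists_smul_eq G P₁ P
      have hconj : ∀ y ∈ (P₁ : Subgroup G), t * y * t⁻¹ ∈ (P : Subgroup G) := by
        intro y hy
        have h1 : t * y * t⁻¹ ∈ MulAut.conj t • (P₁ : Subgroup G) :=
          Subgroup.smul_mem_pointwise_smul y (MulAut.conj t) (P₁ : Subgroup G) hy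
        have h2 : ((t • P₁ : Sylow p G) : Subgroup G) = MulAut.conj t • (P₁ : Subgroup G) := by
          rw [Sylow.smul_def]
          rfl
        rw [← ht]
        show t * y * t⁻¹ ∈ ((t • P₁ : Sylow p G) : Subgroup G)
        rw [h2]
        exact h1
      have hx' : t⁻¹ * x * t ∈ L := by
        have := hLn.conj_mem x hx t⁻¹
        simpa using this
      obtain ⟨⟨k, q⟩, hkq⟩ := hKc.2 ⟨t⁻¹ * x * t, hx'⟩
      have h3 : ((k.1 : L) : G) * ((q.1 : L) : G) = t⁻¹ * x * t := congrArg Subtype.val hkq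
      have hx_eq : x = (t * ((k.1 : L) : G) * t⁻¹) * (t * ((q.1 : L) : G) * t⁻¹) := by
        have h4 : x = t * (t⁻¹ * x * t) * t⁻¹ := by group
        rw [h4, ← h3]
        group
      rw [hx_eq]
      have hkK' : ((k.1 : L) : G) ∈ K' := by
        rw [hK']
        exact Subgroup.mem_map_of_mem L.subtype k.2
      have hqP₁ : ((q.1 : L) : G) ∈ (P₁ : Subgroup G) :=
        hP₁ (Subgroup.mem_map_of_mem L.subtype q.2)
      exact Subgroup.mul_mem_sup (hK'N (hK'n.conj_mem _ hkK' t))
        (hcomm _ (hLn.conj_mem _ q.1.2 t) (hconj _ hqP₁))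
    have := hLn
    exact (Subgroup.normal_le_normalCore.mpr hLle) ((hLmem g).mpr hg)
  · intro hg χ hχ
    have hNker : ∀ n ∈ N, χ.1 n = χ.1 1 := by
      by_contra hcon
      push Not at hcon
      have : Fintype N := Fintype.ofFinite N
      have hz := sum_irr_mul_normal_eq_zero χ N hcon 1
      simp only [one_mul] at hz
      have hcl := isCharacter_conj_class (isCharacter_of_isIrrCharacter χ.2)
      obtain ⟨r, hr, hsum⟩ := sum_fixed_pgroup p P.isPGroup'
        ((MulAut.toPerm N).comp ((MulAut.conjNormal (H := N)).comp (P : Subgroup G).subtype))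
        (fun n : N => χ.1 n)
        (by
          intro y n
          show χ.1 ((y : G) * (n : G) * (y : G)⁻¹) = χ.1 n
          exact hcl _ _)
        1
        (by
          intro y
          apply Subtype.ext
          show (y : G) * ((1 : N) : G) * (y : G)⁻¹ = ((1 : N) : G)
          simp)
        (by
          intro n hn
          have hmem : (n : G) ∈ N ⊓ Subgroup.centralizer ((P : Subgroup G) : Set G) := by
            refine Subgroup.mem_inf.mpr ⟨n.2, ?_⟩
            rw [Subgroup.mem_centralizer_iff]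
            intro h hh
            have h6 := congrArg Subtype.val (hn ⟨h, hh⟩)
            have h7 : h * (n : G) * h⁻¹ = (n : G) := h6
            calc h * (n : G) = h * (n : G) * h⁻¹ * h := by group
              _ = (n : G) * h := by rw [h7]
          rw [hN, Subgroup.mem_bot] at hmem
          exact Subtype.ext hmem)
        (fun z => IsIntegral ℤ z) isIntegral_zero (fun a b ha hb => ha.add hb)
        (fun n => Cfsg.Agent.S4551.irr_int χ n)
      rw [hz] at hsum
      apply hχ
      apply dvd_of_isIntegral_div (charDegree χ.1) p hp.ne_zero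
      have hp0 : (p : ℂ) ≠ 0 := by exact_mod_cast hp.ne_zero
      have e : ((charDegree χ.1 : ℕ) : ℂ) / (p : ℂ) = -r := by
        rw [charDegree_cast χ]
        have h8 : χ.1 1 = -((p : ℂ) * r) := by
          have h9 : χ.1 ((1 : N) : G) + (p : ℂ) * r = 0 := hsum.symm
          rw [Subgroup.coe_one] at h9
          linear_combination h9
        rw [h8]
        field_simp
      rw [e]
      exact hr.neg
    obtain ⟨χ', hirr, hχ'⟩ := isIrrCharacter_deflate N χ.2 hNker
    have : Fintype (G ⧸ N) := Fintype.ofFinite _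
    have hdeg : charDegree χ' = charDegree χ.1 := by
      unfold charDegree
      rw [← hχ' 1]
      rfl
    have hsurj := QuotientGroup.mk'_surjective N
    obtain ⟨P', hP'⟩ : ∃ P' : Sylow p (G ⧸ N),
        (P' : Subgroup (G ⧸ N)) = (P : Subgroup G).map (QuotientGroup.mk' N) :=
      ⟨P.mapSurjective hsurj, Sylow.coe_mapSurjective hsurj P⟩
    obtain ⟨Kb, hKb⟩ : ∃ Kb : Subgroup (G ⧸ N),
        Kb = ((N ⊔ ⁅(P : Subgroup G), (P : Subgroup G)⁆).normalCore).map (QuotientGroup.mk' N) :=
      ⟨_, rfl⟩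
    have hKbn : Kb.Normal := by
      rw [hKb]
      exact Subgroup.Normal.map (Subgroup.normalCore_normal _) _ hsurj
    have hKble : Kb ≤ ⁅(P' : Subgroup (G ⧸ N)), (P' : Subgroup (G ⧸ N))⁆ := by
      rw [hKb, hP', ← Subgroup.map_commutator]
      refine le_trans (Subgroup.map_mono (Subgroup.normalCore_le _)) ?_
      rw [Subgroup.map_sup, QuotientGroup.map_mk'_self, bot_sup_eq]
    have h1 := ker_of_le_commutator p P' Kb hKble ⟨χ', hirr⟩ (by rw [hdeg]; exact hχ)
      (QuotientGroup.mk' N g) (by rw [hKb]; exact Subgroup.mem_map_of_mem _ hg)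
    have h2 := hχ' g
    have h3 := hχ' 1
    rw [← h2, ← h3]
    exact h1

end Cfsg.Agent.S4591
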