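import Cfsg.Statements.S4722
import Cfsg.Agent.Lib.helper22.FongB0
import Cfsg.Agent.Lib.helper5.BlockSecond4
import Cfsg.Agent.Lib.helper2.BS5
import Cfsg.Agent.Lib.helper23.PrincipalP
import Cfsg.Agent.Lib.helper23.PTrunc2

set_option autoImplicit false
open Cfsg

namespace Cfsg.Agent.S4722

open Cfsg.Agent.Lib.helper23 Cfsg.Agent.Lib.helper24 Cfsg.Agent.Lib.helper5
open scoped ComplexConjugate

theorem isPPart_inv {G : Type*} [Group G] {p : ℕ} {g x : G} (h : Cfsg.IsPPart p g x) :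
    Cfsg.IsPPart p g⁻¹ x⁻¹ := by
  obtain ⟨y, hxy, hc, ⟨k, hk⟩, hy⟩ := h
  refine ⟨y⁻¹, ?_, hc.inv_inv, ⟨k, ?_⟩, ?_⟩
  · rw [← hxy, mul_inv_rev]
    exact hc.inv_inv.eq
  · rw [orderOf_inv]
    exact hk
  · rw [orderOf_inv]
    exact hy

theorem real_quad {ι : Type*} [Fintype ι] (α d v : ι → ℝ) (hd : ∀ i, 0 < d i)
    (h1 : ∑ i, α i * v i ^ 2 / d i = 0) (h2 : ∑ i, α i * d i = 0) (h3 : ∑ i, α i * v i = 0)
    (i₁ : ι) (hi₁ : α i₁ ≠ 0) (hv₁ : v i₁ = d i₁)
    (hpos : ∀ i j, 0 < α i → 0 < α j → i = j) :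
    ∃ j, j ≠ i₁ ∧ α j ≠ 0 ∧ v j = d j := by
  classical
  obtain ⟨i₀, hi₀⟩ : ∃ i₀, ∀ i, i ≠ i₀ → α i ≤ 0 := by
    by_cases h : ∃ i, 0 < α i
    · obtain ⟨i₀, h0⟩ := h
      refine ⟨i₀, fun i hi => ?_⟩
      by_contra hc
      push Not at hc
      exact hi (hpos i i₀ hc h0)
    · push Not at h
      exact ⟨i₁, fun i _ => h i⟩
  obtain ⟨s, hs⟩ : ∃ s : ℝ, s = v i₀ / d i₀ := ⟨_, rfl⟩
  have hsum : ∑ i, α i * (s * d i - v i) ^ 2 / d i = 0 := by
    have e : ∀ i, α i * (s * d i - v i) ^ 2 / d i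
        = s ^ 2 * (α i * d i) - 2 * s * (α i * v i) + α i * v i ^ 2 / d i := by
      intro i
      have := (hd i).ne'
      field_simp
      ring
    rw [Finset.sum_congr rfl (fun i _ => e i), Finset.sum_add_distrib, Finset.sum_sub_distrib,
      ← Finset.mul_sum, ← Finset.mul_sum, h1, h2, h3]
    ring
  have hterm : ∀ i, α i * (s * d i - v i) ^ 2 / d i ≤ 0 := by
    intro i
    by_cases hi : i = i₀
    · rw [hi, hs]
      have e : v i₀ / d i₀ * d i₀ - v i₀ = 0 := by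
        rw [div_mul_cancel₀ _ (hd i₀).ne', sub_self]
      rw [e]
      simp
    · have h4 := hi₀ i hi
      have h5 : 0 ≤ (s * d i - v i) ^ 2 / d i := div_nonneg (sq_nonneg _) (hd i).le
      rw [mul_div_assoc]
      exact mul_nonpos_of_nonpos_of_nonneg h4 h5
  have hzero : ∀ i, α i * (s * d i - v i) ^ 2 / d i = 0 := by
    intro i
    exact (Finset.sum_eq_zero_iff_of_nonpos (fun i _ => hterm i)).mp hsum i (Finset.mem_univ i)
  have hkey : ∀ i, α i ≠ 0 → v i = s * d i := by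
    intro i hi
    have h6 := hzero i
    rw [div_eq_zero_iff] at h6
    rcases h6 with h6 | h6
    · rcases mul_eq_zero.mp h6 with h7 | h7
      · exact absurd h7 hi
      · have h8 : s * d i - v i = 0 := by
          rcases pow_eq_zero_iff (n := 2) (by norm_num) |>.mp h7 with h
          exact h
        linarith
    · exact absurd h6 (hd i).ne'
  have hs1 : s = 1 := by
    have h9 := hkey i₁ hi₁
    rw [hv₁] at h9
    have h10 : (1 - s) * d i₁ = 0 := by linarith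
    rcases mul_eq_zero.mp h10 with h | h
    · linarith
    · exact absurd h (hd i₁).ne'
  by_contra hcon
  push Not at hcon
  have hall : ∀ j, j ≠ i₁ → α j = 0 := by
    intro j hj
    by_contra hα
    have h12 := hkey j hα
    rw [hs1, one_mul] at h12
    exact hcon j hj hα h12
  have h11 : ∑ i, α i * d i = α i₁ * d i₁ := by
    rw [Finset.sum_eq_single i₁]
    · intro j _ hj
      rw [hall j hj, zero_mul]
    · intro h
      exact absurd (Finset.mem_univ _) h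
  rw [h2] at h11
  exact (mul_ne_zero hi₁ (hd i₁).ne') h11.symm

theorem lemA {G : Type*} [Group G] [Fintype G] (M : Ideal Cfsg.AlgInt)
    (hM : Cfsg.IsPModular 2 M) (P : Subgroup G) [Fintype P] (hP : IsPGroup 2 P) (U : Set G)
    (t : G)
    (hinv : ∀ u ∈ U, ∀ g : G, (g * t * g⁻¹) * u * (g * t * g⁻¹)⁻¹ ≠ u⁻¹) (θ : ↥P → ℂ)
    (hθU : ∀ y : ↥P, (y : G) ∉ U → θ y = 0) (h : G) (hh : t * h * t⁻¹ = h⁻¹) :
    ∑ᶠ χ ∈ Cfsg.principalBlock M G,
      ((Nat.card ↥P : ℂ)⁻¹ * ∑ᶠ y : ↥P, (χ : G → ℂ) (y : G) * θ y⁻¹) * (χ : G → ℂ) h = 0 := by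
  classical
  have : Fintype (IrrCharacter G) := Fintype.ofFinite _
  have : Fact (Nat.Prime 2) := ⟨Nat.prime_two⟩
  have hB0 : IsPBlock M (principalBlock M G) := ⟨trivIrr G, rfl⟩
  have hy0 : ∀ y : P, θ y⁻¹ ≠ 0 →
      ∑ᶠ χ ∈ principalBlock M G, χ.1 (y : G) * χ.1 h = 0 := by
    intro y hθy
    have hyU : ((y⁻¹ : P) : G) ∈ U := by
      by_contra hn
      exact hθy (hθU _ hn)
    obtain ⟨x₂, hx₂⟩ := exists_isPPart 2 h⁻¹
    have hyy : IsPPart 2 (y : G) (y : G) := by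
      obtain ⟨k, hk⟩ := (IsPGroup.iff_orderOf.mp hP) y
      refine ⟨1, mul_one _, Commute.one_right _, ⟨k, ?_⟩, ?_⟩
      · rw [← hk]
        exact Subgroup.orderOf_coe y
      · rw [orderOf_one]
        norm_num
    have hnc : ¬ IsConj (y : G) x₂ := by
      intro hc
      obtain ⟨c, hc⟩ := isConj_iff.mp hc
      have h1 : IsPPart 2 (t * h⁻¹ * t⁻¹) (t * x₂ * t⁻¹) := isPPart_conj hx₂ t
      have h2 : t * h⁻¹ * t⁻¹ = (h⁻¹)⁻¹ := by
        have h4 : t * h⁻¹ * t⁻¹ = (t * h * t⁻¹)⁻¹ := by group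
        rw [h4, hh]
      rw [h2] at h1
      have h3 : t * x₂ * t⁻¹ = x₂⁻¹ := isPPart_unique h1 (isPPart_inv hx₂)
      apply hinv _ hyU c⁻¹
      have hy : (y : G) = c⁻¹ * x₂ * c := by
        rw [← hc]
        group
      rw [Subgroup.coe_inv]
      have h5 : c⁻¹ * t * c⁻¹⁻¹ * (y : G)⁻¹ * (c⁻¹ * t * c⁻¹⁻¹)⁻¹
          = c⁻¹ * (t * x₂ * t⁻¹)⁻¹ * c := by
        rw [hy]
        group
      rw [h5, h3, inv_inv, inv_inv, hy]
    have h6 := block_orth hM (y : G) h⁻¹ (y : G) x₂ hyy hx₂ hnc (principalBlock M G) hB0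
    simpa only [inv_inv] using h6
  rw [finsum_mem_def, finsum_eq_sum_of_fintype]
  have e : ∀ χ : IrrCharacter G, (principalBlock M G).indicator
      (fun χ : IrrCharacter G =>
        ((Nat.card ↥P : ℂ)⁻¹ * ∑ᶠ y : ↥P, (χ : G → ℂ) (y : G) * θ y⁻¹) * (χ : G → ℂ) h) χ
      = (Nat.card ↥P : ℂ)⁻¹ * ∑ y : P, θ y⁻¹ * (principalBlock M G).indicator
          (fun χ : IrrCharacter G => χ.1 (y : G) * χ.1 h) χ := by
    intro χ
    by_cases hχ : χ ∈ principalBlock M G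
    · simp only [Set.indicator_of_mem hχ]
      rw [finsum_eq_sum_of_fintype, mul_assoc, Finset.sum_mul]
      congr 1
      apply Finset.sum_congr rfl
      intro y _
      ring
    · simp only [Set.indicator_of_notMem hχ, mul_zero, Finset.sum_const_zero]
  rw [Finset.sum_congr rfl (fun χ _ => e χ), ← Finset.mul_sum, Finset.sum_comm]
  have e2 : ∀ y : P, ∑ χ : IrrCharacter G, θ y⁻¹ * (principalBlock M G).indicator
      (fun χ : IrrCharacter G => χ.1 (y : G) * χ.1 h) χ = 0 := by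
    intro y
    rw [← Finset.mul_sum]
    by_cases hθy : θ y⁻¹ = 0
    · rw [hθy, zero_mul]
    · have h7 := hy0 y hθy
      rw [finsum_mem_def, finsum_eq_sum_of_fintype] at h7
      rw [h7, mul_zero]
  rw [Finset.sum_congr rfl (fun y _ => e2 y), Finset.sum_const_zero, mul_zero]

theorem re_prod3 (z₁ z₂ z₃ : ℂ) (h₁ : z₁.im = 0) (h₂ : z₂.im = 0) (h₃ : z₃.im = 0) :
    (z₁ * z₂ ^ 2 / z₃).re = z₁.re * z₂.re ^ 2 / z₃.re := by
  lift z₁ to ℝ using h₁
  lift z₂ to ℝ using h₂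
  lift z₃ to ℝ using h₃
  rw [← Complex.ofReal_pow, ← Complex.ofReal_mul, ← Complex.ofReal_div]
  simp only [Complex.ofReal_re]

theorem result {G : Type*} [Group G] [Finite G] (M : Ideal Cfsg.AlgInt) (hM : Cfsg.IsPModular 2 M) (P : Subgroup G) (hP : IsPGroup 2 P) (U : Set G) (hUP : U ⊆ (P : Set G)) (t : G) (ht : orderOf t = 2) (hinv : ∀ u ∈ U, ∀ g : G, (g * t * g⁻¹) * u * (g * t * g⁻¹)⁻¹ ≠ u⁻¹) (θ : ↥P → ℂ) (hθ : Cfsg.IsGeneralizedCharacter ↥P θ) (hθU : ∀ y : ↥P, (y : G) ∉ U → θ y = 0) : (∑ᶠ χ ∈ Cfsg.principalBlock M G, ((Nat.card ↥P : ℂ)⁻¹ * ∑ᶠ y : ↥P, (χ : G → ℂ) (y : G) * θ y⁻¹) * (χ : G → ℂ) t ^ 2 / (χ : G → ℂ) 1 = 0) ∧ (∑ᶠ χ ∈ Cfsg.principalBlock M G, ((Nat.card ↥P : ℂ)⁻¹ * ∑ᶠ y : ↥P, (χ : G → ℂ) (y : G) * θ y⁻¹) * (χ : G → ℂ) 1 = 0) ∧ (∑ᶠ χ ∈ Cfsg.principalBlock M G, ((Nat.card ↥P : ℂ)⁻¹ * ∑ᶠ y : ↥P, (χ : G → ℂ) (y : G) * θ y⁻¹) * (χ : G → ℂ) t = 0) ∧ ((Nat.card ↥P : ℂ)⁻¹ * ∑ᶠ y : ↥P, θ y ≠ 0 → (2 ≤ Nat.card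 {χ : Cfsg.IrrCharacter G // χ ∈ Cfsg.principalBlock M G ∧ 0 < (((Nat.card ↥P : ℂ)⁻¹ * ∑ᶠ y : ↥P, (χ : G → ℂ) (y : G) * θ y⁻¹)).re} ∧ 2 ≤ Nat.card {χ : Cfsg.IrrCharacter G // χ ∈ Cfsg.principalBlock M G ∧ (((Nat.card ↥P : ℂ)⁻¹ * ∑ᶠ y : ↥P, (χ : G → ℂ) (y : G) * θ y⁻¹)).re < 0}) ∨ ∃ K : Subgroup G, K.Normal ∧ K ≠ ⊤ ∧ Cfsg.pPrimeCore 2 G ≤ K ∧ t ∈ K) := by
  classical
  have : Fintype G := Fintype.ofFinite G
  have : Fintype P := Fintype.ofFinite P
  have : Fintype (IrrCharacter G) := Fintype.ofFinite _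
  have : Fact (Nat.Prime 2) := ⟨Nat.prime_two⟩
  have hMp := isPModular_isPrime hM
  have htt : t * t = 1 := by
    rw [← pow_two, ← ht]
    exact pow_orderOf_eq_one t
  have htinv : t⁻¹ = t := inv_eq_of_mul_eq_one_left htt
  have hA := lemA M hM P hP U t hinv θ hθU
  obtain ⟨a, ha⟩ : ∃ a : IrrCharacter G → ℂ, ∀ χ : IrrCharacter G,
      a χ = (Nat.card ↥P : ℂ)⁻¹ * ∑ᶠ y : ↥P, (χ : G → ℂ) (y : G) * θ y⁻¹ := ⟨_, fun χ => rfl⟩
  simp only [← ha] at hA ⊢
  have hfin : ∀ f : IrrCharacter G → ℂ, ∑ᶠ χ ∈ principalBlock M G, f χ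
      = ∑ χ : IrrCharacter G, if χ ∈ principalBlock M G then f χ else 0 := by
    intro f
    rw [finsum_mem_def, finsum_eq_sum_of_fintype]
    apply Finset.sum_congr rfl
    intro χ _
    rw [Set.indicator_apply]
  have h2 : ∑ᶠ χ ∈ principalBlock M G, a χ * χ.1 1 = 0 := hA 1 (by simp)
  have h3 : ∑ᶠ χ ∈ principalBlock M G, a χ * χ.1 t = 0 := hA t (by
    rw [htinv, htt, one_mul])
  have h1 : ∑ᶠ χ ∈ principalBlock M G, a χ * χ.1 t ^ 2 / χ.1 1 = 0 := by
    have hG : (Nat.card G : ℂ) ≠ 0 := by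
      have : 0 < Nat.card G := Nat.card_pos
      exact_mod_cast this.ne'
    have e : ∀ χ : IrrCharacter G, a χ * χ.1 t ^ 2 / χ.1 1
        = (Nat.card G : ℂ)⁻¹ * ∑ x : G, a χ * χ.1 (x * t * x⁻¹ * t) := by
      intro χ
      rw [← Finset.mul_sum, irr_sum_conj_mul χ t t]
      have h0 := irr_one_ne_zero χ
      field_simp
    rw [hfin]
    have e' : ∀ χ : IrrCharacter G, (if χ ∈ principalBlock M G then a χ * χ.1 t ^ 2 / χ.1 1 else 0)
        = (Nat.card G : ℂ)⁻¹ * ∑ x : G,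
          (if χ ∈ principalBlock M G then a χ * χ.1 (x * t * x⁻¹ * t) else 0) := by
      intro χ
      by_cases hχ : χ ∈ principalBlock M G
      · simp only [if_pos hχ]
        exact e χ
      · simp only [if_neg hχ, Finset.sum_const_zero, mul_zero]
    rw [Finset.sum_congr rfl (fun χ _ => e' χ), ← Finset.mul_sum, Finset.sum_comm]
    have e2 : ∀ x : G, ∑ χ : IrrCharacter G,
        (if χ ∈ principalBlock M G then a χ * χ.1 (x * t * x⁻¹ * t) else 0) = 0 := by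
      intro x
      rw [← hfin]
      apply hA
      have hl : t * (x * t * x⁻¹ * t) * t⁻¹ = t * x * t * x⁻¹ := by group
      have hr : (x * t * x⁻¹ * t)⁻¹ = t⁻¹ * x * t⁻¹ * x⁻¹ := by group
      rw [hl, hr, htinv]
    rw [Finset.sum_congr rfl (fun x _ => e2 x), Finset.sum_const_zero, mul_zero]
  refine ⟨h1, h2, h3, ?_⟩
  intro hne
  rw [or_iff_not_imp_left]
  intro hcard
  have hθconj : ∀ y : P, conj (θ y⁻¹) = θ y := by
    intro y
    obtain ⟨α, β, hα, hβ, rfl⟩ := hθ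
    simp only [Pi.sub_apply, map_sub]
    rw [isCharacter_inv hα, isCharacter_inv hβ, Complex.conj_conj, Complex.conj_conj]
  have hsumP : ∀ χ : IrrCharacter G, a χ = (Nat.card ↥P : ℂ)⁻¹ * ∑ y : P, χ.1 (y : G) * θ y⁻¹ := by
    intro χ
    rw [ha, finsum_eq_sum_of_fintype]
  have hima : ∀ χ : IrrCharacter G, (a χ).im = 0 := by
    intro χ
    rw [← Complex.conj_eq_iff_im, hsumP, map_mul, map_inv₀, Complex.conj_natCast, map_sum]
    congr 1
    rw [← Equiv.sum_comp (Equiv.inv P)]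
    apply Finset.sum_congr rfl
    intro y _
    rw [map_mul, hθconj, Equiv.inv_apply, Subgroup.coe_inv, irr_inv, Complex.conj_conj]
  have him1 : ∀ χ : IrrCharacter G, (χ.1 1).im = 0 := by
    intro χ
    rw [← charDegree_cast χ]
    exact Complex.natCast_im _
  have himt : ∀ χ : IrrCharacter G, (χ.1 t).im = 0 := by
    intro χ
    rw [← Complex.conj_eq_iff_im, ← irr_inv, htinv]
  have hd : ∀ χ : IrrCharacter G, 0 < (χ.1 1).re := by
    intro χ
    rw [← charDegree_cast χ, Complex.natCast_re]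
    exact_mod_cast Nat.pos_of_ne_zero (charDegree_ne_zero' χ)
  obtain ⟨α, hα⟩ : ∃ α : IrrCharacter G → ℝ, ∀ χ : IrrCharacter G,
      α χ = if χ ∈ principalBlock M G then (a χ).re else 0 := ⟨_, fun χ => rfl⟩
  have hR1 : ∑ χ : IrrCharacter G, α χ * (χ.1 t).re ^ 2 / (χ.1 1).re = 0 := by
    have h := congrArg Complex.re h1
    rw [hfin, Complex.re_sum, Complex.zero_re] at h
    rw [← h]
    apply Finset.sum_congr rfl
    intro χ _
    rw [hα]
    by_cases hχ : χ ∈ principalBlock M G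
    · rw [if_pos hχ, if_pos hχ, re_prod3 _ _ _ (hima χ) (himt χ) (him1 χ)]
    · rw [if_neg hχ, if_neg hχ, Complex.zero_re, zero_mul, zero_div]
  have hR2 : ∑ χ : IrrCharacter G, α χ * (χ.1 1).re = 0 := by
    have h := congrArg Complex.re h2
    rw [hfin, Complex.re_sum, Complex.zero_re] at h
    rw [← h]
    apply Finset.sum_congr rfl
    intro χ _
    rw [hα]
    by_cases hχ : χ ∈ principalBlock M G
    · rw [if_pos hχ, if_pos hχ, Complex.mul_re, hima χ, zero_mul, sub_zero]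
    · rw [if_neg hχ, if_neg hχ, Complex.zero_re, zero_mul]
  have hR3 : ∑ χ : IrrCharacter G, α χ * (χ.1 t).re = 0 := by
    have h := congrArg Complex.re h3
    rw [hfin, Complex.re_sum, Complex.zero_re] at h
    rw [← h]
    apply Finset.sum_congr rfl
    intro χ _
    rw [hα]
    by_cases hχ : χ ∈ principalBlock M G
    · rw [if_pos hχ, if_pos hχ, Complex.mul_re, hima χ, zero_mul, sub_zero]
    · rw [if_neg hχ, if_neg hχ, Complex.zero_re, zero_mul]
  have htrivB : trivIrr G ∈ principalBlock M G := mem_blockOf_self hMp.ne_top (trivIrr G)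
  have hα1 : α (trivIrr G) ≠ 0 := by
    rw [hα, if_pos htrivB]
    intro h0
    apply hne
    have h4 : a (trivIrr G) = 0 := Complex.ext h0 (hima _)
    rw [hsumP] at h4
    rw [finsum_eq_sum_of_fintype, ← h4]
    congr 1
    rw [← Equiv.sum_comp (Equiv.inv P)]
    apply Finset.sum_congr rfl
    intro y _
    rw [trivIrr_apply, one_mul, Equiv.inv_apply]
  have hfinal : ∀ j : IrrCharacter G, j ≠ trivIrr G → α j ≠ 0 → (j.1 t).re = (j.1 1).re →
      ∃ K : Subgroup G, K.Normal ∧ K ≠ ⊤ ∧ Cfsg.pPrimeCore 2 G ≤ K ∧ t ∈ K := by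
    intro j hj hαj hvj
    have hjB : j ∈ principalBlock M G := by
      by_contra hn
      rw [hα, if_neg hn] at hαj
      exact hαj rfl
    have hKn : (Cfsg.pPrimeCore 2 G).Normal := Cfsg.Agent.Lib.helper9.ppc_normal 2 G
    have hKcop : ¬ 2 ∣ Nat.card (Cfsg.pPrimeCore 2 G) := by
      intro h
      have h2 := Cfsg.Agent.Lib.helper9.pPrimeCore_coprime 2 G
      have h3 : 2 ∣ Nat.gcd (Nat.card (Cfsg.pPrimeCore 2 G)) 2 := Nat.dvd_gcd h dvd_rfl
      rw [Nat.Coprime] at h2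
      rw [h2] at h3
      exact absurd h3 (by norm_num)
    refine ⟨irrKer j, inferInstance, ?_, ?_, ?_⟩
    · intro h
      exact hj (Cfsg.Agent.Lib.helper2.BS.eq_triv_of_ker_top j h)
    · intro n hn
      rw [mem_irrKer]
      exact kernel_of_sameBlock hM (Cfsg.pPrimeCore 2 G) hKcop (χ := trivIrr G) (ψ := j) hjB
        (fun n _ => rfl) n hn
    · rw [mem_irrKer]
      exact Complex.ext hvj (by rw [himt, him1])
  have hcases : Nat.card {χ : Cfsg.IrrCharacter G // χ ∈ Cfsg.principalBlock M G ∧ 0 < (a χ).re} ≤ 1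
      ∨ Nat.card {χ : Cfsg.IrrCharacter G // χ ∈ Cfsg.principalBlock M G ∧ (a χ).re < 0} ≤ 1 := by
    by_contra hc
    push Not at hc
    exact hcard ⟨by omega, by omega⟩
  rcases hcases with hc | hc
  · have hsub := (Finite.card_le_one_iff_subsingleton).mp hc
    have hpos : ∀ i j : IrrCharacter G, 0 < α i → 0 < α j → i = j := by
      intro i j hi hj
      have hiB : i ∈ principalBlock M G ∧ 0 < (a i).re := by
        by_cases hn : i ∈ principalBlock M G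
        · rw [hα, if_pos hn] at hi
          exact ⟨hn, hi⟩
        · rw [hα, if_neg hn] at hi
          exact absurd hi (lt_irrefl 0)
      have hjB : j ∈ principalBlock M G ∧ 0 < (a j).re := by
        by_cases hn : j ∈ principalBlock M G
        · rw [hα, if_pos hn] at hj
          exact ⟨hn, hj⟩
        · rw [hα, if_neg hn] at hj
          exact absurd hj (lt_irrefl 0)
      have h5 := hsub.elim ⟨i, hiB⟩ ⟨j, hjB⟩
      exact congrArg Subtype.val h5
    obtain ⟨j, hj, hαj, hvj⟩ := real_quad α (fun χ => (χ.1 1).re) (fun χ => (χ.1 t).re) hd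
      hR1 hR2 hR3 (trivIrr G) hα1 rfl hpos
    exact hfinal j hj hαj hvj
  · have hsub := (Finite.card_le_one_iff_subsingleton).mp hc
    have hpos : ∀ i j : IrrCharacter G, 0 < -α i → 0 < -α j → i = j := by
      intro i j hi hj
      have hiB : i ∈ principalBlock M G ∧ (a i).re < 0 := by
        by_cases hn : i ∈ principalBlock M G
        · rw [hα, if_pos hn] at hi
          exact ⟨hn, by linarith⟩
        · rw [hα, if_neg hn] at hi
          exact absurd hi (by norm_num)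
      have hjB : j ∈ principalBlock M G ∧ (a j).re < 0 := by
        by_cases hn : j ∈ principalBlock M G
        · rw [hα, if_pos hn] at hj
          exact ⟨hn, by linarith⟩
        · rw [hα, if_neg hn] at hj
          exact absurd hj (by norm_num)
      have h5 := hsub.elim ⟨i, hiB⟩ ⟨j, hjB⟩
      exact congrArg Subtype.val h5
    obtain ⟨j, hj, hαj, hvj⟩ := real_quad (fun χ => -α χ) (fun χ => (χ.1 1).re)
      (fun χ => (χ.1 t).re) hd
      (by
        have e : ∀ χ : IrrCharacter G, -α χ * (χ.1 t).re ^ 2 / (χ.1 1).re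
            = -(α χ * (χ.1 t).re ^ 2 / (χ.1 1).re) := fun χ => by ring
        rw [Finset.sum_congr rfl (fun χ _ => e χ), Finset.sum_neg_distrib, hR1, neg_zero])
      (by
        have e : ∀ χ : IrrCharacter G, -α χ * (χ.1 1).re = -(α χ * (χ.1 1).re) := fun χ => by ring
        rw [Finset.sum_congr rfl (fun χ _ => e χ), Finset.sum_neg_distrib, hR2, neg_zero])
      (by
        have e : ∀ χ : IrrCharacter G, -α χ * (χ.1 t).re = -(α χ * (χ.1 t).re) := fun χ => by ring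
        rw [Finset.sum_congr rfl (fun χ _ => e χ), Finset.sum_neg_distrib, hR3, neg_zero])
      (trivIrr G) (neg_ne_zero.mpr hα1) rfl hpos
    exact hfinal j hj (neg_ne_zero.mp hαj) hvj

end Cfsg.Agent.S4722
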