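import Cfsg.Statements.S4888
import Cfsg.Agent.S4520
import Cfsg.Agent.S0081
import Cfsg.Agent.S0086
import Cfsg.Agent.Lib.helper1.PGroup
import Cfsg.Agent.Lib.helper22.IndexP
import Cfsg.Agent.Lib.helper22.CliffDeg
import Cfsg.Agent.Lib.helper5.BlockNormal

set_option autoImplicit false
open Cfsg

namespace Cfsg.Agent.S4888

open Cfsg.Agent.Lib.helper23 Cfsg.Agent.Lib.helper24 Cfsg.Agent.Lib.helper22 Cfsg.Agent.Lib.helper5
open scoped ComplexConjugate

theorem npc_of_ext {G : Type*} [Group G] [Finite G] (p : ℕ) [Fact p.Prime] (P : Sylow p G)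
    (hext : ∀ lam : (P : Subgroup G) →* ℂˣ, (∀ y, lam y ^ p = 1) →
      ∃ χ : G →* ℂˣ, ∀ x : (P : Subgroup G), χ x = lam x) :
    Cfsg.HasNormalPComplement p G := by
  classical
  have hp : p.Prime := Fact.out
  have hcard : Nat.card G ≠ 0 := Nat.card_pos.ne'
  obtain ⟨a, ha⟩ : ∃ a : ℕ, a = (Nat.card G).factorization p := ⟨_, rfl⟩
  obtain ⟨m, hm⟩ : ∃ m : ℕ, m = Nat.card G / p ^ (Nat.card G).factorization p := ⟨_, rfl⟩
  have hmp : ¬ p ∣ m := by
    rw [hm]
    exact Nat.not_dvd_ordCompl hp hcard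
  have hmul : p ^ a * m = Nat.card G := by
    rw [hm, ha]
    exact Nat.ordProj_mul_ordCompl_eq_self (Nat.card G) p
  obtain ⟨N, hN⟩ : ∃ N : Subgroup G, N = ⨅ χ : G →* ℂˣ, (χ ^ m).ker := ⟨_, rfl⟩
  have hNmem : ∀ g, g ∈ N ↔ ∀ χ : G →* ℂˣ, χ g ^ m = 1 := by
    intro g
    rw [hN, Subgroup.mem_iInf]
    constructor
    · intro h χ
      have := h χ
      rwa [MonoidHom.mem_ker, MonoidHom.pow_apply] at this
    · intro h χ
      rw [MonoidHom.mem_ker, MonoidHom.pow_apply]
      exact h χ
  have hNn : N.Normal := by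
    rw [hN]
    exact Subgroup.normal_iInf_normal (fun χ => MonoidHom.normal_ker _)
  have hfr : N ⊓ (P : Subgroup G) ≤ (frattini P).map (P : Subgroup G).subtype := by
    rintro x ⟨hxN, hxP⟩
    rw [Subgroup.mem_map]
    refine ⟨⟨x, hxP⟩, ?_, rfl⟩
    by_contra hnf
    have hex : ∃ Mx : Subgroup (P : Subgroup G), IsCoatom Mx ∧
        (⟨x, hxP⟩ : (P : Subgroup G)) ∉ Mx := by
      by_contra hall
      push Not at hall
      apply hnf
      simp only [frattini, Order.radical, Subgroup.mem_iInf]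
      intro Mx hMx
      exact hall Mx hMx
    obtain ⟨Mx, hMx, hxM⟩ := hex
    obtain ⟨hMn, hMidx⟩ := Cfsg.Agent.Lib.helper1.coatom_normal_index p P.isPGroup' Mx hMx
    obtain ⟨μ, h1, h2⟩ := exists_hom_of_index_prime Mx hp hMidx
    obtain ⟨χ, hχ⟩ := hext μ h2
    have e1 : χ x ^ m = 1 := (hNmem x).mp hxN χ
    have e2 : χ x ^ p = 1 := by
      have := hχ ⟨x, hxP⟩
      rw [show χ x = μ ⟨x, hxP⟩ from this]
      exact h2 _
    have hcop : Nat.gcd m p = 1 :=
      Nat.Coprime.symm ((Nat.Prime.coprime_iff_not_dvd hp).mpr hmp)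
    have e3 : χ x = 1 := by
      have := pow_gcd_eq_one.mpr ⟨e1, e2⟩
      rwa [hcop, pow_one] at this
    apply hxM
    rw [← h1]
    have := hχ ⟨x, hxP⟩
    rw [← show χ x = μ ⟨x, hxP⟩ from this]
    exact e3
  obtain ⟨Q, K, hKn, hKc⟩ := Cfsg.Agent.S0081.result P N hfr
  have hKmem : ∀ n : N, n ∈ K ↔ Nat.Coprime (orderOf n) p := fun n =>
    Cfsg.Agent.S0086.result Q K hKc n
  obtain ⟨K', hK'⟩ : ∃ K' : Subgroup G, K' = K.map N.subtype := ⟨_, rfl⟩
  have hK'n : K'.Normal := by
    constructor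
    intro k hk g
    rw [hK', Subgroup.mem_map] at hk ⊢
    obtain ⟨n, hn, rfl⟩ := hk
    refine ⟨⟨g * (n : G) * g⁻¹, hNn.conj_mem (n : G) n.2 g⟩, ?_, rfl⟩
    rw [hKmem] at hn ⊢
    have e : orderOf (⟨g * (n : G) * g⁻¹, hNn.conj_mem (n : G) n.2 g⟩ : N) = orderOf n := by
      rw [← Subgroup.orderOf_coe, ← Subgroup.orderOf_coe n]
      exact orderOf_injective (MulAut.conj g).toMonoidHom (MulAut.conj g).injective (n : G)
    rw [e]
    exact hn
  have hcK' : Nat.card K' = Nat.card K := by
    rw [hK']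
    exact Subgroup.card_map_of_injective (Subgroup.subtype_injective N)
  have hKQ : Nat.card K * Nat.card Q = Nat.card N := hKc.card_mul_card
  obtain ⟨e, he⟩ : ∃ e : ℕ, e = (Nat.card N).factorization p := ⟨_, rfl⟩
  have hQ : Nat.card Q = p ^ e := by
    rw [he]
    exact Q.card_eq_multiplicity
  have hKN : Nat.card K * p ^ e = Nat.card N := by
    rw [← hQ]
    exact hKQ
  have hNcard : Nat.card N ≠ 0 := Nat.card_pos.ne'
  have hKcop : ¬ p ∣ Nat.card K := by
    have h4 : Nat.card K = Nat.card N / p ^ (Nat.card N).factorization p := by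
      rw [← he, ← hKN]
      exact (Nat.mul_div_cancel _ (pow_pos hp.pos _)).symm
    rw [h4]
    exact Nat.not_dvd_ordCompl hp hNcard
  have hquot : IsPGroup p (G ⧸ N) := by
    intro q
    obtain ⟨g, rfl⟩ := QuotientGroup.mk_surjective q
    refine ⟨a, ?_⟩
    rw [← QuotientGroup.mk_pow, QuotientGroup.eq_one_iff, hNmem]
    intro χ
    rw [map_pow, ← pow_mul, hmul, ← map_pow, pow_card_eq_one', map_one]
  obtain ⟨j, hj⟩ := IsPGroup.iff_card.mp hquot
  have hidx : N.index = p ^ j := by
    rw [Subgroup.index_eq_card]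
    exact hj
  have hG : Nat.card G = p ^ j * (Nat.card K * p ^ e) := by
    rw [← Subgroup.index_mul_card N, hidx, hKN]
  have hK0 : Nat.card K ≠ 0 := Nat.card_pos.ne'
  have hfac : (Nat.card G).factorization p = j + e := by
    rw [hG, Nat.factorization_mul (pow_pos hp.pos _).ne'
      (mul_ne_zero hK0 (pow_pos hp.pos _).ne'),
      Nat.factorization_mul hK0 (pow_pos hp.pos _).ne']
    simp only [Finsupp.coe_add, Pi.add_apply, Nat.Prime.factorization_pow hp,
      Finsupp.single_eq_same, Nat.factorization_eq_zero_of_not_dvd hKcop, zero_add]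
  have hP : Nat.card P = p ^ (j + e) := by
    rw [P.card_eq_multiplicity, hfac]
  refine ⟨P, K', hK'n, Subgroup.isComplement'_of_coprime ?_ ?_⟩
  · rw [hcK', hP, hG, pow_add]
    ring
  · rw [hcK', hP]
    exact Nat.Coprime.pow_right _ (Nat.Coprime.symm ((Nat.Prime.coprime_iff_not_dvd hp).mpr hKcop))

theorem height_zero_iff {G : Type*} [Group G] [Finite G] (p : ℕ) [Fact p.Prime]
    (M : Ideal Cfsg.AlgInt) (hM : Cfsg.IsPModular p M) (χ : Cfsg.IrrCharacter G) :
    Cfsg.blockHeight p (Cfsg.principalBlock M G) χ.1 = 0 ↔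
      (Cfsg.charDegree χ.1).factorization p = 0 := by
  have hMp := Cfsg.Agent.Lib.helper23.isPModular_isPrime hM
  unfold Cfsg.blockHeight
  have h0 : sInf ((fun ψ : IrrCharacter G => (charDegree (ψ : G → ℂ)).factorization p) ''
      (Cfsg.principalBlock M G)) = 0 := by
    rw [Nat.sInf_eq_zero]
    left
    refine ⟨trivIrr G, sameBlock_refl hMp.ne_top _, ?_⟩
    have h1 : charDegree (trivIrr G).1 = 1 := by
      have := charDegree_cast (trivIrr G)
      rw [trivIrr_apply] at this
      exact_mod_cast this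
    show (charDegree (trivIrr G).1).factorization p = 0
    rw [h1]
    simp
  rw [h0, Nat.sub_zero]

theorem result {G : Type*} [Group G] [Finite G] (p : ℕ) [Fact p.Prime] (M : Ideal Cfsg.AlgInt) (hM : Cfsg.IsPModular p M) : (∃ d : ℕ, ∀ χ : Cfsg.IrrCharacter G, χ ∈ (Cfsg.principalBlock M G) → Cfsg.blockHeight p (Cfsg.principalBlock M G) (χ : G → ℂ) = 0 → Cfsg.charDegree (χ : G → ℂ) = d) ↔ Cfsg.HasNormalPComplement p G := by
  classical
  have hp : p.Prime := hM.1
  have hMp := Cfsg.Agent.Lib.helper23.isPModular_isPrime hM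
  have : Fintype G := Fintype.ofFinite G
  have : Fintype (IrrCharacter G) := Fintype.ofFinite _
  have htriv1 : charDegree (trivIrr G).1 = 1 := by
    have := charDegree_cast (trivIrr G)
    rw [trivIrr_apply] at this
    exact_mod_cast this
  have htrivB : trivIrr G ∈ Cfsg.principalBlock M G := sameBlock_refl hMp.ne_top _
  constructor
  · rintro ⟨d, hd⟩
    have hd1 : d = 1 := by
      rw [← hd (trivIrr G) htrivB ((height_zero_iff p M hM (trivIrr G)).mpr (by rw [htriv1]; simp)),
        htriv1]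
    obtain ⟨P⟩ : Nonempty (Sylow p G) := inferInstance
    have : Fintype (P : Subgroup G) := Fintype.ofFinite _
    apply npc_of_ext p P
    intro lam _
    obtain ⟨θ, hθ⟩ : ∃ θ : IrrCharacter (P : Subgroup G), ∀ x, θ.1 x = (lam x : ℂ) :=
      ⟨⟨fun x => (lam x : ℂ), isIrrCharacter_of_hom lam⟩, fun x => rfl⟩
    have hid := Cfsg.Agent.S4520.ind_reg_sum p (P : Subgroup G) θ.1
    have hone : ∑ n : (P : Subgroup G), regInd p (P : Subgroup G) n * θ.1 n = 1 := by
      rw [Finset.sum_eq_single (1 : (P : Subgroup G))]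
      · rw [regInd_of_reg (by rw [orderOf_one]; exact hp.one_lt.ne' ∘ Nat.dvd_one.mp), one_mul,
          hθ, map_one, Units.val_one]
      · intro b _ hb1
        have hb : p ∣ orderOf b := by
          obtain ⟨k, hk⟩ := (IsPGroup.iff_orderOf.mp P.isPGroup') b
          rw [hk]
          have hk0 : k ≠ 0 := by
            rintro rfl
            rw [pow_zero, orderOf_eq_one_iff] at hk
            exact hb1 hk
          exact dvd_pow_self p hk0
        rw [regInd_of_sing hb, zero_mul]
      · intro h1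
        exact absurd (Finset.mem_univ _) h1
    rw [hone, mul_one] at hid
    have hR : ¬ Cfsg.MemLocalIdeal M (((P : Subgroup G).index : ℕ) : ℂ) := by
      rw [memLocalIdeal_natCast_iff hM]
      exact P.not_dvd_index
    rw [← hid] at hR
    have hex : ∃ χ : IrrCharacter G, classInner (indFun (P : Subgroup G) θ.1) χ.1 ≠ 0 ∧
        χ ∈ Cfsg.principalBlock M G ∧ ¬ p ∣ Cfsg.charDegree χ.1 := by
      by_contra hcon
      push Not at hcon
      apply hR
      apply memLocalIdeal_sum hMp
      intro χ _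
      by_cases h0 : classInner (indFun (P : Subgroup G) θ.1) χ.1 = 0
      · rw [h0, zero_mul]
        exact memLocalIdeal_zero hMp.ne_top
      by_cases ha : ∑ g : G, regInd p G g * χ.1 g = 0
      · rw [ha, mul_zero]
        exact memLocalIdeal_zero hMp.ne_top
      have hχB : χ ∈ Cfsg.principalBlock M G := (Cfsg.Agent.S4521.principal_iff_sum hM χ).mpr ha
      have hpdvd : p ∣ Cfsg.charDegree χ.1 := hcon χ h0 hχB
      obtain ⟨n, hn⟩ := isCharacter_inner_irr_nat
        (isCharacter_indFun (P : Subgroup G) (isCharacter_of_isIrrCharacter θ.2)) χ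
      have hχ1 : χ.1 1 ≠ 0 := irr_one_ne_zero χ
      have e2 : classInner (indFun (P : Subgroup G) θ.1) χ.1 * ∑ g : G, regInd p G g * χ.1 g
          = (n : ℂ) * ((Cfsg.charDegree χ.1 : ℕ) : ℂ) * coord (regInd p G) χ := by
        rw [hn]
        unfold coord
        rw [charDegree_cast χ]
        field_simp
      rw [e2]
      exact memLocalIdeal_mul_right hMp (memLocalIdeal_mul_left hMp
        (memLocalRing_natCast hMp.ne_top n) ((memLocalIdeal_natCast_iff hM _).mpr hpdvd))
        (memLocalRing_coord hMp (coord_regInd_mem_osimaRing hMp) χ)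
    obtain ⟨χ, hne, hχB, hχp⟩ := hex
    have hχd : Cfsg.charDegree χ.1 = 1 := by
      rw [hd χ hχB ((height_zero_iff p M hM χ).mpr (Nat.factorization_eq_zero_of_not_dvd hχp)), hd1]
    have hχ1 : χ.1 1 = 1 := by
      rw [← charDegree_cast χ, hχd, Nat.cast_one]
    refine ⟨irrLinHom χ hχ1, ?_⟩
    intro x
    have hres : IsIrrCharacter (P : Subgroup G) (fun y : (P : Subgroup G) => χ.1 y) := by
      have e : (fun y : (P : Subgroup G) => χ.1 y)
          = fun y : (P : Subgroup G) => (((irrLinHom χ hχ1).comp (P : Subgroup G).subtype) y : ℂ) := by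
        funext y
        rfl
      rw [e]
      exact isIrrCharacter_of_hom _
    rw [frobenius_reciprocity (P : Subgroup G) θ.1
      (isCharacter_conj_class (isCharacter_of_isIrrCharacter χ.2))] at hne
    have heq := irr_eq_of_inner_ne_zero (χ := θ)
      (ψ := ⟨fun y : (P : Subgroup G) => χ.1 y, hres⟩) hne
    apply Units.ext
    rw [irrLinHom_apply, ← hθ x, heq]
  · rintro ⟨P, K, hKn, hKc⟩
    refine ⟨1, ?_⟩
    intro χ hχ hht
    rw [height_zero_iff p M hM χ] at hht
    have hKP : Nat.card K * Nat.card P = Nat.card G := hKc.card_mul_card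
    obtain ⟨e, he⟩ : ∃ e : ℕ, e = (Nat.card G).factorization p := ⟨_, rfl⟩
    have hPc : Nat.card P = p ^ e := by
      rw [he]
      exact P.card_eq_multiplicity
    have hKG : Nat.card K * p ^ e = Nat.card G := by
      rw [← hPc]
      exact hKP
    have hcard : Nat.card G ≠ 0 := Nat.card_pos.ne'
    have hKcop : ¬ p ∣ Nat.card K := by
      have h4 : Nat.card K = Nat.card G / p ^ (Nat.card G).factorization p := by
        rw [← he, ← hKG]
        exact (Nat.mul_div_cancel _ (pow_pos hp.pos _)).symm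
      rw [h4]
      exact Nat.not_dvd_ordCompl hp hcard
    have hker : ∀ n ∈ K, χ.1 n = χ.1 1 :=
      kernel_of_sameBlock hM K hKcop (χ := trivIrr G) (ψ := χ) hχ (fun n _ => rfl)
    obtain ⟨χ', hirr, hχ'⟩ := isIrrCharacter_deflate K χ.2 hker
    have hdeg : Cfsg.charDegree χ.1 = Cfsg.charDegree χ' := by
      unfold Cfsg.charDegree
      rw [← hχ' 1]
      rfl
    have hdvd : Cfsg.charDegree χ.1 ∣ Nat.card (G ⧸ K) := by
      rw [hdeg]
      exact charDegree_dvd_card ⟨χ', hirr⟩
    have hquot : Nat.card (G ⧸ K) = p ^ e := by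
      rw [← Subgroup.index_eq_card]
      have h5 := Subgroup.index_mul_card K
      rw [← hKG] at h5
      have hK0 : 0 < Nat.card K := Nat.card_pos
      exact Nat.eq_of_mul_eq_mul_right hK0 (by rw [h5]; ring)
    rw [hquot] at hdvd
    obtain ⟨i, -, hi⟩ := (Nat.dvd_prime_pow hp).mp hdvd
    rw [hi, Nat.Prime.factorization_pow hp] at hht
    simp only [Finsupp.single_eq_same] at hht
    rw [hi, hht, pow_zero]

end Cfsg.Agent.S4888
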