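import Cfsg.Statements.S4736
import Cfsg.Agent.S4888
import Cfsg.Agent.Lib.helper22.FongB0
import Cfsg.Agent.Lib.helper23.ItoMichlerPS
import Cfsg.Agent.Lib.helper24.CharVanish

set_option autoImplicit false
open Cfsg

namespace Cfsg.Agent.S4736

open Cfsg.Agent.Lib.helper23 Cfsg.Agent.Lib.helper24 Cfsg.Agent.Lib.helper22 Cfsg.Agent.Lib.helper5
open scoped ComplexConjugate

theorem result {G : Type*} [Group G] [Finite G] (p : ℕ) [Fact p.Prime] (M : Ideal Cfsg.AlgInt) (hM : Cfsg.IsPModular p M) (hsolv : Cfsg.IsPSolvable p G) (P : Sylow p G) : IsMulCommutative P ↔ ∀ χ ∈ Cfsg.principalBlock M G, Cfsg.blockHeight p (Cfsg.principalBlock M G) (χ : G → ℂ) = 0 := by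
  classical
  have hp : p.Prime := Fact.out
  have : Fintype G := Fintype.ofFinite G
  obtain ⟨K, hK⟩ : ∃ K : Subgroup G, K = Cfsg.pPrimeCore p G := ⟨_, rfl⟩
  have hKn : K.Normal := by
    rw [hK]
    exact Cfsg.pPrimeCore_normal p G
  have hsurj := QuotientGroup.mk'_surjective K
  have hsolv' : Cfsg.IsPSolvable p (G ⧸ K) :=
    Cfsg.Agent.Lib.helper16.isPSolvable_of_surjective (QuotientGroup.mk' K) hsurj hsolv
  have hcore : Cfsg.pPrimeCore p (G ⧸ K) = ⊥ := by
    subst hK
    exact Cfsg.Agent.Lib.helper9.pPrimeCore_quotient_eq_bot p G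
  obtain ⟨Pb, hPb⟩ : ∃ Pb : Sylow p (G ⧸ K),
      (Pb : Subgroup (G ⧸ K)) = (P : Subgroup G).map (QuotientGroup.mk' K) :=
    ⟨P.mapSurjective hsurj, Sylow.coe_mapSurjective hsurj P⟩
  have hIM := Cfsg.Agent.Lib.helper23.ito_michler_psolvable p hsolv' Pb
  have hKP : ∀ x, x ∈ K → x ∈ (P : Subgroup G) → x = 1 := by
    intro x hxK hxP
    obtain ⟨k, hk⟩ := (IsPGroup.iff_orderOf.mp P.isPGroup') ⟨x, hxP⟩
    rw [Subgroup.orderOf_mk] at hk
    have hdvd : orderOf x ∣ Nat.card K := by
      have h1 := orderOf_dvd_natCard (⟨x, hxK⟩ : K)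
      rwa [Subgroup.orderOf_mk] at h1
    have hcop : (Nat.card K).Coprime p := by
      rw [hK]
      exact Cfsg.Agent.Lib.helper9.pPrimeCore_coprime p G
    by_contra hx1
    have hk0 : k ≠ 0 := by
      rintro rfl
      rw [pow_zero, orderOf_eq_one_iff] at hk
      exact hx1 hk
    have h2 : p ∣ Nat.card K := dvd_trans (by rw [hk]; exact dvd_pow_self p hk0) hdvd
    exact (Nat.Prime.coprime_iff_not_dvd hp).mp hcop.symm h2
  have hdegs : (∀ χ ∈ Cfsg.principalBlock M G,
      Cfsg.blockHeight p (Cfsg.principalBlock M G) (χ : G → ℂ) = 0) ↔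
      ∀ ψ : IrrCharacter (G ⧸ K), ¬ p ∣ Cfsg.charDegree ψ.1 := by
    constructor
    · intro h ψ
      have hmem : irrInfl K ψ ∈ Cfsg.principalBlock M G := by
        apply (Cfsg.Agent.Lib.helper22.FongB0.mem_principalBlock_iff_pSolvable hM hsolv _).mpr
        intro n hn
        rw [← hK] at hn
        exact irrInfl_apply_of_mem K ψ hn
      have h1 := h _ hmem
      rw [Cfsg.Agent.S4888.height_zero_iff p M hM] at h1
      have hdeg : Cfsg.charDegree (irrInfl K ψ).1 = Cfsg.charDegree ψ.1 := by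
        unfold Cfsg.charDegree
        rw [irrInfl_apply]
        rfl
      rw [hdeg] at h1
      intro hdvd
      have hd0 : Cfsg.charDegree ψ.1 ≠ 0 := by
        intro h0
        have h3 := charDegree_cast ψ
        rw [h0, Nat.cast_zero] at h3
        exact irr_one_ne_zero ψ h3.symm
      have h4 := Nat.Prime.factorization_pos_of_dvd hp hd0 hdvd
      omega
    · intro h χ hχ
      rw [Cfsg.Agent.S4888.height_zero_iff p M hM]
      have hker := (Cfsg.Agent.Lib.helper22.FongB0.mem_principalBlock_iff_pSolvable hM hsolv χ).mp hχ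
      rw [← hK] at hker
      obtain ⟨χ', hirr, hχ'⟩ := isIrrCharacter_deflate K χ.2 hker
      have hdeg : Cfsg.charDegree χ.1 = Cfsg.charDegree χ' := by
        unfold Cfsg.charDegree
        rw [← hχ' 1]
        rfl
      rw [hdeg]
      exact Nat.factorization_eq_zero_of_not_dvd (h ⟨χ', hirr⟩)
  rw [hdegs, ← hIM]
  constructor
  · intro hab
    have hcomm : ∀ a b : G ⧸ K, a ∈ (Pb : Subgroup (G ⧸ K)) → b ∈ (Pb : Subgroup (G ⧸ K)) →
        a * b = b * a := by
      intro a b ha hb
      rw [hPb, Subgroup.mem_map] at ha hb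
      obtain ⟨x, hx, rfl⟩ := ha
      obtain ⟨y, hy, rfl⟩ := hb
      have h1 := congrArg Subtype.val (hab.is_comm.comm ⟨x, hx⟩ ⟨y, hy⟩)
      have h2 : x * y = y * x := h1
      rw [← map_mul, ← map_mul, h2]
    have hPbab : IsMulCommutative Pb := by
      constructor
      constructor
      intro a b
      apply Subtype.ext
      exact hcomm a b a.2 b.2
    refine ⟨?_, hPbab⟩
    have hle : Cfsg.pCore p (G ⧸ K) ≤ (Pb : Subgroup (G ⧸ K)) :=
      Cfsg.Agent.Lib.helper15.pCore_le_sylow Pb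
    have hcent := Cfsg.Agent.Lib.helper10.centralizer_pCore_le_of_pSolvable hsolv' hcore
    have heq : (Pb : Subgroup (G ⧸ K)) = Cfsg.pCore p (G ⧸ K) := by
      apply le_antisymm _ hle
      intro a ha
      apply hcent
      rw [Subgroup.mem_centralizer_iff]
      intro u hu
      exact hcomm u a (hle hu) ha
    rw [heq]
    exact Cfsg.pCore_normal p _
  · rintro ⟨-, hab⟩
    constructor
    constructor
    intro x y
    apply Subtype.ext
    have hx : QuotientGroup.mk' K (x : G) ∈ (Pb : Subgroup (G ⧸ K)) := by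
      rw [hPb]
      exact Subgroup.mem_map_of_mem _ x.2
    have hy : QuotientGroup.mk' K (y : G) ∈ (Pb : Subgroup (G ⧸ K)) := by
      rw [hPb]
      exact Subgroup.mem_map_of_mem _ y.2
    have h1 := congrArg Subtype.val (hab.is_comm.comm ⟨_, hx⟩ ⟨_, hy⟩)
    have h1' : QuotientGroup.mk' K (x : G) * QuotientGroup.mk' K (y : G)
        = QuotientGroup.mk' K (y : G) * QuotientGroup.mk' K (x : G) := h1
    have h2 : ((x : G) * (y : G)) * ((y : G) * (x : G))⁻¹ ∈ K := by
      rw [← QuotientGroup.eq_one_iff]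
      have h5 : ((((x : G) * (y : G)) * ((y : G) * (x : G))⁻¹ : G) : G ⧸ K)
          = (QuotientGroup.mk' K (x : G) * QuotientGroup.mk' K (y : G))
            * (QuotientGroup.mk' K (y : G) * QuotientGroup.mk' K (x : G))⁻¹ := by
        simp
      rw [h5, h1', mul_inv_cancel]
    have h3 := hKP _ h2 ((P : Subgroup G).mul_mem ((P : Subgroup G).mul_mem x.2 y.2)
      ((P : Subgroup G).inv_mem ((P : Subgroup G).mul_mem y.2 x.2)))
    exact mul_inv_eq_one.mp h3
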