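import Cfsg.Statements.S4744
import Cfsg.Agent.Lib.helper5.OddCent

set_option autoImplicit false
open Cfsg

namespace Cfsg.Agent.S4744

open Cfsg.Agent.Lib.helper5 Cfsg.Agent.Lib.helper23 Cfsg.Agent.Lib.helper24
open scoped ComplexConjugate

/-- Let p be an odd prime and G a finite group of even order divisible by p in which the centralizer of every non-identity p-element has odd order. Then either G has an irreducible character of p-defect zero, or the normalizer of every Sylow p-subgroup P of G has even order and P is abelian. -/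
theorem result {G : Type*} [Group G] [Finite G] (p : ℕ) [Fact p.Prime] (hp2 : p ≠ 2) (hpG : p ∣ Nat.card G) (h2G : 2 ∣ Nat.card G) (hC : ∀ g : G, g ≠ 1 → (∃ k : ℕ, orderOf g = p ^ k) → Odd (Nat.card ↥(Subgroup.centralizer ({g} : Set G)))) : (∃ χ : Cfsg.IrrCharacter G, (Cfsg.charDegree (χ : G → ℂ)).factorization p = (Nat.card G).factorization p) ∨ ∀ P : Sylow p G, Even (Nat.card ↥(Subgroup.normalizer ((P : Subgroup G) : Set G))) ∧ IsMulCommutative ↥(P : Subgroup G) := by
  classical
  have hp : p.Prime := Fact.out
  by_cases hex : ∃ χ : Cfsg.IrrCharacter G,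
      (Cfsg.charDegree (χ : G → ℂ)).factorization p = (Nat.card G).factorization p
  · exact Or.inl hex
  · right
    push_neg at hex
    haveI : Fact (Nat.Prime 2) := ⟨Nat.prime_two⟩
    obtain ⟨z, hz⟩ := exists_prime_orderOf_dvd_card' 2 h2G
    intro P
    obtain ⟨g, hzg, hg⟩ := exists_inverting_conj p hC hex P z hz
    have hgo : orderOf g = 2 := by
      obtain ⟨c, hc⟩ := isConj_iff.mp hzg
      rw [← hc, orderOf_conj_eq, hz]
    have hg2 := sq_one_of_orderOf_two hgo
    constructor
    · have hgN : g ∈ Subgroup.normalizer ((P : Subgroup G) : Set G) :=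
        mem_normalizer_of_invol hg2 _ (fun x hx => by
          rw [hg x hx]
          exact Subgroup.inv_mem _ hx)
      have h1 : orderOf (⟨g, hgN⟩ : Subgroup.normalizer ((P : Subgroup G) : Set G))
          ∣ Nat.card (Subgroup.normalizer ((P : Subgroup G) : Set G)) := orderOf_dvd_natCard _
      rw [Subgroup.orderOf_mk, hgo] at h1
      exact even_iff_two_dvd.mpr h1
    · exact ⟨⟨fun a b => Subtype.ext (comm_of_inverted (P : Subgroup G) hg a a.2 b b.2)⟩⟩

end Cfsg.Agent.S4744
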