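import Cfsg.Statements.S4746
import Cfsg.Agent.Lib.helper5.OddCent
import Cfsg.Agent.Lib.helper5.KleinFour
import Cfsg.Agent.Lib.helper24.CharComplete
import Cfsg.Agent.Lib.helper24.CharKer
import Cfsg.Agent.Lib.helper23.CharMod

set_option autoImplicit false
open Cfsg

namespace Cfsg.Agent.S4746

open Cfsg.Agent.Lib.helper5 Cfsg.Agent.Lib.helper23 Cfsg.Agent.Lib.helper24
open scoped ComplexConjugate

/-- modulo a maximal ideal over `2`, the square of a sum is the sum of the squares -/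
theorem sq_sum_sub_mem {M : Ideal Cfsg.AlgInt} (hM : Cfsg.IsPModular 2 M) {ι : Type*}
    (s : Finset ι) (f : ι → ℂ) (hf : ∀ i, Cfsg.MemLocalRing M (f i)) :
    Cfsg.MemLocalIdeal M ((∑ i ∈ s, f i) * (∑ i ∈ s, f i) - ∑ i ∈ s, f i * f i) := by
  classical
  have hMp := isPModular_isPrime hM
  induction s using Finset.induction_on with
  | empty =>
    simp only [Finset.sum_empty, mul_zero, sub_zero]
    exact memLocalIdeal_zero hMp.ne_top
  | insert a s ha ih =>
    rw [Finset.sum_insert ha, Finset.sum_insert ha]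
    have e : (f a + ∑ i ∈ s, f i) * (f a + ∑ i ∈ s, f i) - (f a * f a + ∑ i ∈ s, f i * f i)
        = ((2 : ℕ) : ℂ) * (f a * ∑ i ∈ s, f i)
          + ((∑ i ∈ s, f i) * (∑ i ∈ s, f i) - ∑ i ∈ s, f i * f i) := by
      push_cast
      ring
    rw [e]
    apply memLocalIdeal_add hMp _ ih
    apply memLocalIdeal_mul_right hMp ((memLocalIdeal_natCast_iff hM 2).mpr dvd_rfl)
    exact memLocalRing_mul hMp (hf a) (memLocalRing_sum hMp _ _ (fun i _ => hf i))

/-- Let p be an odd prime and G a finite group of even order divisible by p in which the centralizer of every non-identity p-element has odd order. Then G has an irreducible character of p-defect zero or an irreducible character of even degree. -/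
theorem result {G : Type*} [Group G] [Finite G] (p : ℕ) [Fact p.Prime] (hp2 : p ≠ 2) (hpG : p ∣ Nat.card G) (h2G : 2 ∣ Nat.card G) (hC : ∀ g : G, g ≠ 1 → (∃ k : ℕ, orderOf g = p ^ k) → Odd (Nat.card ↥(Subgroup.centralizer ({g} : Set G)))) : (∃ χ : Cfsg.IrrCharacter G, (Cfsg.charDegree (χ : G → ℂ)).factorization p = (Nat.card G).factorization p) ∨ ∃ χ : Cfsg.IrrCharacter G, Even (Cfsg.charDegree (χ : G → ℂ)) := by
  classical
  have hp : p.Prime := Fact.out
  by_cases hex : ∃ χ : Cfsg.IrrCharacter G,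
      (Cfsg.charDegree (χ : G → ℂ)).factorization p = (Nat.card G).factorization p
  · exact Or.inl hex
  right
  by_contra hodd
  push Not at hex hodd
  haveI : Fact (Nat.Prime 2) := ⟨Nat.prime_two⟩
  haveI := Fintype.ofFinite G
  haveI := Fintype.ofFinite (Cfsg.IrrCharacter G)
  obtain ⟨z, hz⟩ := exists_prime_orderOf_dvd_card' 2 h2G
  obtain ⟨P⟩ : Nonempty (Sylow p G) := inferInstance
  obtain ⟨t, hzt, ht⟩ := exists_inverting_conj p hC hex P z hz
  have hto : orderOf t = 2 := by
    obtain ⟨c, hc⟩ := isConj_iff.mp hzt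
    rw [← hc, orderOf_conj_eq, hz]
  obtain ⟨x, hxP, hxo⟩ : ∃ x ∈ (P : Subgroup G), orderOf x = p := by
    have h1 : p ∣ Nat.card (P : Subgroup G) := P.dvd_card_of_dvd_card hpG
    obtain ⟨y, hy⟩ := exists_prime_orderOf_dvd_card' p h1
    exact ⟨(y : G), y.2, by rw [Subgroup.orderOf_coe]; exact hy⟩
  have hx1 : x ≠ 1 := by
    rintro rfl
    rw [orderOf_one] at hxo
    exact hp.one_lt.ne hxo
  have hCx : Odd (Nat.card (Subgroup.centralizer ({x} : Set G))) :=
    hC x hx1 ⟨1, by rw [hxo, pow_one]⟩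
  have hxinv : t * x * t⁻¹ = x⁻¹ := ht x hxP
  have hnc : ¬ IsConj t x := by
    intro h
    obtain ⟨c, hc⟩ := isConj_iff.mp h
    have h2 : orderOf x = 2 := by rw [← hc, orderOf_conj_eq, hto]
    rw [hxo] at h2
    exact hp2 h2
  have hreal : ∀ χ : Cfsg.IrrCharacter G, conj (χ.1 x) = χ.1 x := by
    intro χ
    rw [← irr_inv χ x, ← hxinv]
    exact isClassFunction_irr χ x t
  obtain ⟨M, hM⟩ := exists_isPModular 2 Nat.prime_two
  have hMp := isPModular_isPrime hM
  have hU : ∀ h ∈ Subgroup.zpowers t, h ≠ 1 → IsConj t h := by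
    intro h hh hne
    obtain ⟨j, rfl⟩ := Subgroup.mem_zpowers_iff.mp hh
    rw [← zpow_mod_orderOf, hto] at hne ⊢
    rcases Int.emod_two_eq_zero_or_one j with h0 | h0
    · exfalso
      apply hne
      have : j % ((2 : ℕ) : ℤ) = 0 := h0
      rw [this, zpow_zero]
    · have : j % ((2 : ℕ) : ℤ) = 1 := h0
      rw [this, zpow_one]
  have hloc : ∀ χ : Cfsg.IrrCharacter G, Cfsg.MemLocalRing M (χ.1 x) := fun χ =>
    memLocalRing_of_isIntegral hMp.ne_top
      (isCharacter_isIntegral (isCharacter_of_isIrrCharacter χ.2) x)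
  have htodd : ∀ χ : Cfsg.IrrCharacter G, Cfsg.MemLocalIdeal M (χ.1 t - 1) := by
    intro χ
    obtain ⟨n, hn⟩ := invol_restrict_nat (Subgroup.zpowers t) t hU χ
    rw [Nat.card_zpowers, hto] at hn
    obtain ⟨k, hk⟩ : ∃ k, Cfsg.charDegree χ.1 = 2 * k + 1 := Nat.not_even_iff_odd.mp (hodd χ)
    have hd : χ.1 1 = 2 * (k : ℂ) + 1 := by
      rw [← charDegree_cast χ, hk]
      push_cast
      ring
    have e : χ.1 t - 1 = ((2 : ℕ) : ℂ) * ((n : ℂ) - k - 1) := by
      push_cast at hn ⊢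
      linear_combination hn - hd
    rw [e]
    apply memLocalIdeal_mul_right hMp ((memLocalIdeal_natCast_iff hM 2).mpr dvd_rfl)
    exact memLocalRing_sub hMp (memLocalRing_sub hMp (memLocalRing_natCast hMp.ne_top n)
      (memLocalRing_natCast hMp.ne_top k)) (memLocalRing_of_isIntegral hMp.ne_top isIntegral_one)
  have h0 : ∑ χ : Cfsg.IrrCharacter G, χ.1 t * χ.1 x = 0 := by
    have h := second_orth_of_not_isConj hnc
    rw [← h]
    apply Finset.sum_congr rfl
    intro χ _
    rw [hreal]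
  have h1 : ∑ χ : Cfsg.IrrCharacter G, χ.1 x * χ.1 x
      = (Nat.card (Subgroup.centralizer ({x} : Set G)) : ℂ) := by
    have h := second_orth_of_isConj (IsConj.refl x)
    rw [← h]
    apply Finset.sum_congr rfl
    intro χ _
    rw [hreal]
  have hS : Cfsg.MemLocalIdeal M (∑ χ : Cfsg.IrrCharacter G, χ.1 x) := by
    have e : ∑ χ : Cfsg.IrrCharacter G, χ.1 x
        = - ∑ χ : Cfsg.IrrCharacter G, (χ.1 t - 1) * χ.1 x := by
      have e1 : ∑ χ : Cfsg.IrrCharacter G, (χ.1 t - 1) * χ.1 x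
          = ∑ χ : Cfsg.IrrCharacter G, χ.1 t * χ.1 x - ∑ χ : Cfsg.IrrCharacter G, χ.1 x := by
        rw [← Finset.sum_sub_distrib]
        apply Finset.sum_congr rfl
        intro χ _
        ring
      rw [e1, h0]
      ring
    rw [e]
    apply memLocalIdeal_neg
    apply memLocalIdeal_sum hMp
    intro χ _
    exact memLocalIdeal_mul_right hMp (htodd χ) (hloc χ)
  have hsq := sq_sum_sub_mem hM Finset.univ (fun χ : Cfsg.IrrCharacter G => χ.1 x) hloc
  have hc : Cfsg.MemLocalIdeal M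
      ((Nat.card (Subgroup.centralizer ({x} : Set G)) : ℂ)) := by
    rw [← h1]
    have h3 := memLocalIdeal_sub hMp
      (memLocalIdeal_mul_right hMp hS (memLocalRing_of_memLocalIdeal hS)) hsq
    rw [sub_sub_cancel] at h3
    exact h3
  have h2dvd := (memLocalIdeal_natCast_iff hM _).mp hc
  exact (Nat.not_even_iff_odd.mpr hCx) (even_iff_two_dvd.mpr h2dvd)

end Cfsg.Agent.S4746
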