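import Cfsg.Statements.S4825
import Cfsg.Agent.Lib.helper22.Gagola2
import Cfsg.Agent.Lib.helper23.BPNormal
import Cfsg.Agent.Lib.helper23.MinMax
import Cfsg.Agent.Lib.helper24.CharKer

set_option autoImplicit false
open Cfsg

namespace Cfsg.Agent.S4825

open Cfsg.Agent.Lib.helper23 Cfsg.Agent.Lib.helper24 Cfsg.Agent.Lib.helper5 Cfsg.Agent.Lib.helper22
open scoped ComplexConjugate

universe u

theorem dvd_index {G : Type*} [Group G] [Finite G] (p : ℕ) [Fact p.Prime] (P : Sylow p G)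
    (N : Subgroup G) [N.Normal] (hPN : ¬ (P : Subgroup G) ≤ N) : p ∣ N.index := by
  by_contra hnd
  apply hPN
  intro x hx
  have hp := (Fact.out : p.Prime)
  obtain ⟨k, hk⟩ := (IsPGroup.iff_orderOf.mp P.isPGroup') ⟨x, hx⟩
  rw [Subgroup.orderOf_mk] at hk
  have h1 : orderOf ((QuotientGroup.mk' N) x) ∣ p ^ k := by
    rw [← hk]
    exact orderOf_map_dvd _ x
  have h2 : orderOf ((QuotientGroup.mk' N) x) ∣ N.index := by
    rw [Subgroup.index_eq_card]
    exact orderOf_dvd_natCard _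
  have h3 : orderOf ((QuotientGroup.mk' N) x) = 1 := by
    have hcop : (p ^ k).Coprime N.index :=
      Nat.Coprime.pow_left k ((Nat.Prime.coprime_iff_not_dvd hp).mpr hnd)
    exact Nat.Coprime.eq_one_of_dvd (Nat.Coprime.coprime_dvd_left h1 hcop) h2
  have h4 := orderOf_eq_one_iff.mp h3
  rwa [QuotientGroup.mk'_apply, QuotientGroup.eq_one_iff] at h4

theorem key_sum {G : Type u} [Group G] [Fintype G] [Fintype (IrrCharacter G)]
    (B : Set (IrrCharacter G)) [DecidablePred (fun χ : IrrCharacter G => χ ∈ B)]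
    (N : Subgroup G) [N.Normal] [Fintype N] (θ : IrrCharacter N)
    (c : ℕ) (e : IrrCharacter G → ℕ)
    (he1 : ∀ χ : IrrCharacter G, classInner (fun n : N => χ.1 n) θ.1 = e χ)
    (he2 : ∀ χ : IrrCharacter G, e χ ≠ 0 → charDegree χ.1 = e χ * c) :
    (((c * ∑ χ ∈ Finset.univ.filter (fun χ : IrrCharacter G => χ ∈ B), e χ ^ 2 : ℕ)) : ℂ)
      = (N.index : ℂ) * ∑ n : N, θ.1 n * blockCoeff B (n : G) := by
  classical
  have h1 : ∀ χ : IrrCharacter G,
      ∑ n : N, θ.1 n * conj (χ.1 n) = (Nat.card N : ℂ) * (e χ : ℂ) := by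
    intro χ
    have h2 := classInner_conj_symm (fun n : N => χ.1 n) θ.1
    rw [he1 χ, Complex.conj_natCast] at h2
    unfold classInner at h2
    rw [← h2, ← mul_assoc, mul_inv_cancel₀ (Nat.cast_ne_zero.mpr Nat.card_pos.ne'), one_mul]
  have h3 : ∀ n : N, θ.1 n * blockCoeff B (n : G) = (Nat.card G : ℂ)⁻¹ *
      ∑ χ : IrrCharacter G, B.indicator (fun _ => (1 : ℂ)) χ *
        (χ.1 1 * (θ.1 n * conj (χ.1 n))) := by
    intro n
    rw [← coef_indicator]
    unfold coef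
    rw [mul_left_comm, Finset.mul_sum]
    congr 1
    apply Finset.sum_congr rfl
    intro χ _
    ring
  rw [Finset.sum_congr rfl (fun n _ => h3 n), ← Finset.mul_sum, Finset.sum_comm]
  have h4 : ∀ χ : IrrCharacter G, ∑ n : N, B.indicator (fun _ => (1 : ℂ)) χ *
      (χ.1 1 * (θ.1 n * conj (χ.1 n)))
      = (Nat.card N : ℂ) * (if χ ∈ B then ((c * e χ ^ 2 : ℕ) : ℂ) else 0) := by
    intro χ
    rw [← Finset.mul_sum, ← Finset.mul_sum, h1]
    by_cases hχ : χ ∈ B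
    · rw [Set.indicator_of_mem hχ, if_pos hχ, one_mul]
      have h7 : χ.1 1 * (e χ : ℂ) = ((c * e χ ^ 2 : ℕ) : ℂ) := by
        rw [← charDegree_cast]
        by_cases h0 : e χ = 0
        · rw [h0]
          simp
        · rw [he2 χ h0]
          push_cast
          ring
      rw [← h7]
      ring
    · rw [Set.indicator_of_notMem hχ, if_neg hχ, zero_mul, mul_zero]
  rw [Finset.sum_congr rfl (fun χ _ => h4 χ), ← Finset.mul_sum, ← Finset.sum_filter]
  have h5 : (Nat.card G : ℂ) = (N.index : ℂ) * (Nat.card N : ℂ) := by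
    rw [← Nat.cast_mul, mul_comm, Subgroup.card_mul_index]
  have hN0 : (Nat.card N : ℂ) ≠ 0 := Nat.cast_ne_zero.mpr Nat.card_pos.ne'
  have hi0 : (N.index : ℂ) ≠ 0 := by
    intro h
    rw [h, zero_mul] at h5
    exact (Nat.cast_ne_zero.mpr Nat.card_pos.ne') h5
  rw [h5, Nat.cast_mul, Nat.cast_sum, Finset.mul_sum]
  have h8 : ∀ x : ℂ, (N.index : ℂ) * (((N.index : ℂ) * (Nat.card N : ℂ))⁻¹ * ((Nat.card N : ℂ) * x))
      = x := by
    intro x
    field_simp
  rw [h8]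
  apply Finset.sum_congr rfl
  intro χ _
  push_cast
  ring

theorem result {G : Type*} [Group G] [Fintype G] (p : ℕ) [Fact p.Prime] (P : Sylow p G) (M : Ideal Cfsg.AlgInt) (hM : Cfsg.IsPModular p M) (B : Set (Cfsg.IrrCharacter G)) (hB : Cfsg.IsPBlock M B) (hBP : Cfsg.IsDefectGroup p M B P) (N : Subgroup G) [N.Normal] [Fintype N] (hPN : ¬ (P : Subgroup G) ≤ N) (θ : Cfsg.IrrCharacter N) :
    (Nat.card {χ : Cfsg.IrrCharacter G // χ ∈ B ∧ ¬ p ∣ Cfsg.charDegree (χ : G → ℂ) ∧ Cfsg.classInner (fun n : N => (χ : G → ℂ) n) (θ : N → ℂ) ≠ 0} = 0 ∨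
      2 ≤ Nat.card {χ : Cfsg.IrrCharacter G // χ ∈ B ∧ ¬ p ∣ Cfsg.charDegree (χ : G → ℂ) ∧ Cfsg.classInner (fun n : N => (χ : G → ℂ) n) (θ : N → ℂ) ≠ 0}) ∧
    (p ≤ 3 → p ∣ Nat.card {χ : Cfsg.IrrCharacter G // χ ∈ B ∧ ¬ p ∣ Cfsg.charDegree (χ : G → ℂ) ∧ Cfsg.classInner (fun n : N => (χ : G → ℂ) n) (θ : N → ℂ) ≠ 0}) := by
  classical
  have hp := (Fact.out : p.Prime)
  have hMp := isPModular_isPrime hM
  have : Fintype (IrrCharacter G) := Fintype.ofFinite _
  obtain ⟨c, hc⟩ : ∃ c, c = (conjStab N θ.1).index * charDegree θ.1 := ⟨_, rfl⟩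
  have hcl : ∀ χ : IrrCharacter G, ∃ e : ℕ, classInner (fun n : N => χ.1 n) θ.1 = e ∧
      (e ≠ 0 → charDegree χ.1 = e * c) := by
    intro χ
    by_cases hcon : classInner (fun n : N => χ.1 n) θ.1 = 0
    · exact ⟨0, by rw [hcon]; simp, fun h => absurd rfl h⟩
    · obtain ⟨e, he0, he1, he2⟩ := clifford_degree_mult N χ θ.2 hcon
      exact ⟨e, he1, fun _ => by rw [he2, hc, mul_assoc]⟩
  choose e he1 he2 using hcl
  have hidx := dvd_index p P N hPN
  have hkey := key_sum B N θ c e he1 he2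
  have hdiv : p ∣ c * ∑ χ ∈ Finset.univ.filter (fun χ : IrrCharacter G => χ ∈ B), e χ ^ 2 := by
    rw [← memLocalIdeal_natCast_iff hM, hkey]
    apply memLocalIdeal_mul_right hMp
    · exact (memLocalIdeal_natCast_iff hM _).mpr hidx
    · apply memLocalRing_sum hMp
      intro n _
      exact memLocalRing_mul hMp (memLocalRing_of_isIntegral hMp.ne_top
        (isCharacter_isIntegral (isCharacter_of_isIrrCharacter θ.2) n))
        (memLocalRing_blockCoeff' hM hB _)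
  obtain ⟨Xf, hXf⟩ : ∃ Xf : Finset (IrrCharacter G), Xf = Finset.univ.filter
      (fun χ : IrrCharacter G => χ ∈ B ∧ ¬ p ∣ charDegree (χ : G → ℂ) ∧
        classInner (fun n : N => (χ : G → ℂ) n) (θ : N → ℂ) ≠ 0) := ⟨_, rfl⟩
  have hcard : Nat.card {χ : IrrCharacter G // χ ∈ B ∧ ¬ p ∣ charDegree (χ : G → ℂ) ∧
      classInner (fun n : N => (χ : G → ℂ) n) (θ : N → ℂ) ≠ 0} = Xf.card := by
    rw [Nat.card_eq_fintype_card, Fintype.card_subtype, hXf]
  rw [hcard]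
  have hmem : ∀ χ, χ ∈ Xf ↔ (χ ∈ B ∧ ¬ p ∣ charDegree (χ : G → ℂ) ∧
      classInner (fun n : N => (χ : G → ℂ) n) (θ : N → ℂ) ≠ 0) := by
    intro χ
    rw [hXf, Finset.mem_filter]
    simp
  rcases Finset.eq_empty_or_nonempty Xf with hemp | ⟨χ₀, hχ₀⟩
  · rw [hemp, Finset.card_empty]
    exact ⟨Or.inl rfl, fun _ => dvd_zero p⟩
  have hX : ∀ χ ∈ Xf, e χ ≠ 0 ∧ ¬ p ∣ e χ ∧ ¬ p ∣ c := by
    intro χ hχ
    obtain ⟨-, h2, h3⟩ := (hmem χ).mp hχ
    have h0 : e χ ≠ 0 := by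
      intro h0
      apply h3
      rw [he1 χ, h0]
      simp
    rw [he2 χ h0] at h2
    exact ⟨h0, fun h => h2 (dvd_mul_of_dvd_left h _), fun h => h2 (dvd_mul_of_dvd_right h _)⟩
  have hpc : ¬ p ∣ c := (hX χ₀ hχ₀).2.2
  have hsub : Xf ⊆ Finset.univ.filter (fun χ : IrrCharacter G => χ ∈ B) := by
    intro χ hχ
    rw [Finset.mem_filter]
    exact ⟨Finset.mem_univ _, ((hmem χ).mp hχ).1⟩
  have hdiv2 : p ∣ ∑ χ ∈ Xf, e χ ^ 2 := by
    have h1 := (Nat.Prime.dvd_mul hp).mp hdiv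
    have h2 := h1.resolve_left hpc
    rw [← Finset.sum_sdiff hsub] at h2
    have h3 : p ∣ ∑ χ ∈ Finset.univ.filter (fun χ : IrrCharacter G => χ ∈ B) \ Xf, e χ ^ 2 := by
      apply Finset.dvd_sum
      intro χ hχ
      rw [Finset.mem_sdiff, Finset.mem_filter] at hχ
      by_cases h0 : e χ = 0
      · rw [h0]
        simp
      · have h4 : p ∣ charDegree χ.1 := by
          by_contra h4
          apply hχ.2
          rw [hmem]
          refine ⟨hχ.1.2, h4, ?_⟩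
          rw [he1 χ]
          exact Nat.cast_ne_zero.mpr h0
        rw [he2 χ h0] at h4
        have h5 := ((Nat.Prime.dvd_mul hp).mp h4).resolve_right hpc
        exact dvd_pow h5 (by norm_num)
    exact (Nat.dvd_add_right h3).mp h2
  refine ⟨Or.inr ?_, ?_⟩
  · by_contra hlt
    have h1 : Xf.card = 1 := by
      have := Finset.card_pos.mpr ⟨χ₀, hχ₀⟩
      omega
    obtain ⟨a, ha⟩ := Finset.card_eq_one.mp h1
    rw [ha, Finset.sum_singleton] at hdiv2
    have h2 := Nat.Prime.dvd_of_dvd_pow hp hdiv2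
    exact (hX a (by rw [ha]; exact Finset.mem_singleton_self a)).2.1 h2
  · intro hp3
    have hp2 := hp.two_le
    have h1 : ∀ χ ∈ Xf, e χ ^ 2 % p = 1 % p := by
      intro χ hχ
      have h2 := (hX χ hχ).2.1
      rw [Nat.pow_mod]
      interval_cases p
      · have h3 : e χ % 2 = 1 := by omega
        rw [h3]
      · have h3 : e χ % 3 = 1 ∨ e χ % 3 = 2 := by omega
        rcases h3 with h3 | h3 <;> rw [h3]
    have h2 : (∑ χ ∈ Xf, e χ ^ 2) % p = Xf.card % p := by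
      rw [Finset.sum_nat_mod, Finset.sum_congr rfl h1, ← Finset.sum_nat_mod, Finset.sum_const,
        smul_eq_mul, mul_one]
    rw [Nat.dvd_iff_mod_eq_zero] at hdiv2 ⊢
    rw [← h2]
    exact hdiv2

end Cfsg.Agent.S4825
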