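import Cfsg.Statements.S4836
import Cfsg.Agent.Lib.helper22.Gagola

set_option autoImplicit false
open Cfsg

namespace Cfsg.Agent.S4836

theorem result {G : Type*} [Group G] [Finite G] (hG : 2 < Nat.card G) (χ : Cfsg.IrrCharacter G) (hχ : Nat.card {C : ConjClasses G // ∃ g ∈ C.carrier, (χ : G → ℂ) g ≠ 0} = 2) :
    (∀ g : G, (χ : G → ℂ) g = (χ : G → ℂ) 1 → g = 1) ∧
      (∀ ψ : Cfsg.IrrCharacter G, (∀ g : G, (ψ : G → ℂ) g = (ψ : G → ℂ) 1 → g = 1) → ψ = χ) ∧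
      (∀ ψ : Cfsg.IrrCharacter G, Nat.card {C : ConjClasses G // ∃ g ∈ C.carrier, (ψ : G → ℂ) g ≠ 0} = 2 → ψ = χ) := by
  obtain ⟨-, -, -, -, hfaith⟩ := Cfsg.Agent.Lib.helper22.gagola_structure hG χ hχ
  obtain ⟨g, hg1, -, -, hker, -, -⟩ := Cfsg.Agent.Lib.helper22.gagola_core hG χ hχ
  refine ⟨hfaith, ?_, ?_⟩
  · intro ψ hψ
    by_contra hne
    exact hg1 (hψ g (hker ψ hne))
  · intro ψ hψ
    by_contra hne
    obtain ⟨g', hg1', -, -, hker', -, -⟩ := Cfsg.Agent.Lib.helper22.gagola_core hG ψ hψ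
    exact hg1' (hfaith g' (hker' χ (Ne.symm hne)))

end Cfsg.Agent.S4836
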