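import Cfsg.Statements.S4837
import Cfsg.Agent.Lib.helper22.Gagola2

set_option autoImplicit false
open Cfsg

namespace Cfsg.Agent.S4837

open Cfsg.Agent.Lib.helper22 Cfsg.Agent.Lib.helper24

theorem result {G : Type*} [Group G] [Finite G] (hG : 2 < Nat.card G) (χ : Cfsg.IrrCharacter G) (hχ : Nat.card {C : ConjClasses G // ∃ g ∈ C.carrier, (χ : G → ℂ) g ≠ 0} = 2) (p : ℕ) [Fact p.Prime] (N : Subgroup G) [N.Normal] (hN : ∀ g : G, g ∈ N ↔ (χ : G → ℂ) g ≠ 0) (hNp : IsPGroup p N) (hN1 : N ≠ ⊥) :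
    (∀ x ∈ N, x ≠ 1 → ∃ P : Sylow p G, Subgroup.centralizer ({x} : Set G) = P) ∧
      (∀ μ : Cfsg.IrrCharacter N, (μ : N → ℂ) ≠ (fun _ => (1 : ℂ)) → ∃ P : Sylow p G, ∀ g : G, g ∈ (P : Subgroup G) ↔ ∀ n n' : N, (n' : G) = g * n * g⁻¹ → (μ : N → ℂ) n' = (μ : N → ℂ) n) := by
  refine ⟨?_, ?_⟩
  · intro x hxN hx1
    obtain ⟨h1, h2, -⟩ := gagola_centralizer hG χ hχ p N hN hNp hN1 x hxN hx1
    exact ⟨h1.toSylow h2, (IsPGroup.toSylow_coe h1 h2).symm⟩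
  · intro μ hμ
    obtain ⟨h1, h2⟩ := gagola_stab hG χ hχ p N hN hNp hN1 μ hμ
    refine ⟨h1.toSylow h2, ?_⟩
    intro g
    rw [IsPGroup.toSylow_coe h1 h2, mem_conjStab]
    constructor
    · intro h n n' hn'
      have h3 := congrFun h n
      rw [conjFun_apply] at h3
      rw [← h3]
      have h4 : n' = ⟨g * n * g⁻¹, ‹N.Normal›.conj_mem n n.2 g⟩ := Subtype.ext hn'
      rw [h4]
    · intro h
      funext n
      rw [conjFun_apply]
      exact h n ⟨g * n * g⁻¹, _⟩ rfl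

end Cfsg.Agent.S4837
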