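import Cfsg.Statements.S4839
import Cfsg.Agent.Lib.helper22.Gagola4

set_option autoImplicit false
open Cfsg

namespace Cfsg.Agent.S4839

open Cfsg.Agent.Lib.helper22 Cfsg.Agent.Lib.helper24
open scoped Pointwise

theorem result {G : Type*} [Group G] [Finite G] (hG : 2 < Nat.card G) (χ : Cfsg.IrrCharacter G) (hχ : Nat.card {C : ConjClasses G // ∃ g ∈ C.carrier, (χ : G → ℂ) g ≠ 0} = 2) (p : ℕ) [Fact p.Prime] (N : Subgroup G) [N.Normal] (hN : ∀ g : G, g ∈ N ↔ (χ : G → ℂ) g ≠ 0) (hNp : IsPGroup p N) (hN1 : N ≠ ⊥) :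
    N = Cfsg.pCore p G ↔ ∃ H : Subgroup G, Cfsg.IsFrobeniusComplement H ∧ Cfsg.frobeniusKernel H = (N : Set G) ∧ Nat.card H + 1 = Nat.card N := by
  have hp : p.Prime := Fact.out
  obtain ⟨b, hb⟩ := IsPGroup.iff_card.mp hNp
  have hb0 : b ≠ 0 := by
    rintro rfl
    rw [pow_zero] at hb
    exact hN1 (Subgroup.eq_bot_of_card_eq N hb)
  have hNpos : 1 ≤ Nat.card N := Nat.card_pos
  have hcop1 : Nat.Coprime (Nat.card N - 1) p := by
    rw [Nat.coprime_comm, Nat.Prime.coprime_iff_not_dvd hp, hb]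
    intro hdvd
    have h5 : p ∣ p ^ b := dvd_pow_self p hb0
    have h6 : 1 ≤ p ^ b := Nat.one_le_pow _ _ hp.pos
    have h7 : p ∣ 1 := by
      have h8 : p ^ b = (p ^ b - 1) + 1 := by omega
      rw [h8] at h5
      exact (Nat.dvd_add_right hdvd).mp h5
    exact hp.one_lt.ne' (Nat.dvd_one.mp h7)
  obtain ⟨x, hxN, hx1⟩ := gagola_exists_ne_one N hN1
  obtain ⟨hCp, hCidx, hCc⟩ := gagola_centralizer hG χ hχ p N hN hNp hN1 x hxN hx1
  have hab := gagola_comm hG χ hχ N hN
  constructor
  · intro hNeq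
    have hcent : Subgroup.centralizer (N : Set G) ≤ N := by
      have h1 := gagola_centralizer_le_pCore hG χ hχ p N hN hNp hN1
      rwa [← hNeq] at h1
    have hCN : Nat.card (Subgroup.centralizer ({x} : Set G)) ≤ Nat.card N := by
      by_cases hp2 : p = 2
      · subst hp2
        have h1 := gagola_two hG χ hχ N hN hNp hN1 (by rw [← hNeq]) x hxN hx1
        exact Nat.le_of_dvd Nat.card_pos (Subgroup.card_dvd_of_le h1)
      · exact gagola_odd hG χ hχ p hp2 N hN hNp hN1 hcent x hxN hx1
    have hNC : N ≤ Subgroup.centralizer ({x} : Set G) := by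
      intro n hn
      rw [Subgroup.mem_centralizer_iff]
      intro y hy
      rw [Set.mem_singleton_iff] at hy
      rw [hy]
      exact hab x hxN n hn
    have hCeq : Nat.card (Subgroup.centralizer ({x} : Set G)) = Nat.card N :=
      le_antisymm hCN (Nat.le_of_dvd Nat.card_pos (Subgroup.card_dvd_of_le hNC))
    obtain ⟨hord, -⟩ := gagola_orders hG χ hχ N hN x hxN hx1
    rw [hCeq] at hord
    have hidx : N.index = Nat.card N - 1 := by
      have h1 := Subgroup.card_mul_index N
      rw [← hord] at h1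
      exact Nat.eq_of_mul_eq_mul_left hNpos h1
    have hcop : Nat.Coprime (Nat.card N) N.index := by
      rw [hidx, Nat.coprime_self_sub_right hNpos]
      exact Nat.coprime_one_right _
    obtain ⟨H, hH⟩ := Subgroup.exists_right_complement'_of_coprime hcop
    have hHcard : Nat.card H = Nat.card N - 1 := by
      have h1 := hH.card_mul_card
      rw [← hord] at h1
      exact Nat.eq_of_mul_eq_mul_left hNpos h1
    have hN3 : 3 ≤ Nat.card N := by
      by_contra hlt
      have h2 : Nat.card N = 1 ∨ Nat.card N = 2 := by omega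
      rcases h2 with h2 | h2
      · rw [h2] at hord
        omega
      · rw [h2] at hord
        omega
    have hH1 : H ≠ ⊥ := by
      rintro rfl
      rw [Subgroup.card_bot] at hHcard
      omega
    have hfpf : ∀ h ∈ H, h ≠ 1 → ∀ k ∈ N, h * k = k * h → k = 1 := by
      intro h hh hh1 k hk hkh
      by_contra hk1
      obtain ⟨hkp, -, -⟩ := gagola_centralizer hG χ hχ p N hN hNp hN1 k hk hk1
      have hmem : h ∈ Subgroup.centralizer ({k} : Set G) := by
        rw [Subgroup.mem_centralizer_iff]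
        intro y hy
        rw [Set.mem_singleton_iff] at hy
        rw [hy]
        exact hkh.symm
      obtain ⟨j, hj⟩ := hkp ⟨h, hmem⟩
      have hj' : h ^ p ^ j = 1 := congrArg Subtype.val hj
      have h1 : orderOf h ∣ Nat.card N - 1 := by
        rw [← hHcard]
        have h2 : (⟨h, hh⟩ : H) ^ Nat.card H = 1 := pow_card_eq_one'
        exact orderOf_dvd_of_pow_eq_one (congrArg Subtype.val h2)
      have h2 : orderOf h ∣ p ^ j := orderOf_dvd_of_pow_eq_one hj'
      have h3 : orderOf h = 1 :=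
        Nat.Coprime.eq_one_of_dvd (Nat.Coprime.coprime_dvd_left h1 (Nat.Coprime.pow_right j hcop1)) h2
      exact hh1 (orderOf_eq_one_iff.mp h3)
    have hsup : ∀ g : G, ∃ k ∈ N, ∃ h ∈ H, g = k * h := by
      intro g
      obtain ⟨⟨k, h⟩, hkh, -⟩ := (Subgroup.isComplement'_def.mp hH).existsUnique g
      exact ⟨k.1, k.2, h.1, h.2, hkh.symm⟩
    obtain ⟨hF1, hF2⟩ := frobenius_of_fpf N H hH.disjoint.eq_bot hsup hH1 hN1 hfpf
    exact ⟨H, hF1, hF2, by omega⟩
  · rintro ⟨H, hfrob, hker, hcard⟩
    apply le_antisymm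
    · exact le_sSup ⟨inferInstance, hNp⟩
    · intro g hg
      by_contra hgN
      have hg1 : g ≠ 1 := by
        rintro rfl
        exact hgN N.one_mem
      have hgk : g ∉ Cfsg.frobeniusKernel H := by
        rw [hker]
        exact hgN
      have hex : ∃ c : G, g ∈ MulAut.conj c • H := by
        by_contra hcon
        push Not at hcon
        exact hgk (Or.inr hcon)
      obtain ⟨c, hc⟩ := hex
      rw [mem_conj_smul] at hc
      have hP : Cfsg.pCore p G ≤ ((default : Sylow p G) : Subgroup G) :=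
        sSup_le (fun K hK => by
          have := hK.1
          exact hK.2.le_sylow_of_normal _)
      obtain ⟨j, hj⟩ := (default : Sylow p G).isPGroup' ⟨g, hP hg⟩
      have hj' : g ^ p ^ j = 1 := congrArg Subtype.val hj
      have hj'' : (c⁻¹ * g * c) ^ p ^ j = 1 := by
        have e : c⁻¹ * g * c = c⁻¹ * g * c⁻¹⁻¹ := by rw [inv_inv]
        rw [e, conj_pow, hj']
        group
      have h1 : orderOf (c⁻¹ * g * c) ∣ Nat.card N - 1 := by
        have h2 : (⟨c⁻¹ * g * c, hc⟩ : H) ^ Nat.card H = 1 := pow_card_eq_one'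
        have h3 : Nat.card N - 1 = Nat.card H := by omega
        rw [h3]
        exact orderOf_dvd_of_pow_eq_one (congrArg Subtype.val h2)
      have h2 : orderOf (c⁻¹ * g * c) ∣ p ^ j := orderOf_dvd_of_pow_eq_one hj''
      have h3 : orderOf (c⁻¹ * g * c) = 1 :=
        Nat.Coprime.eq_one_of_dvd (Nat.Coprime.coprime_dvd_left h1 (Nat.Coprime.pow_right j hcop1)) h2
      have h4 : c⁻¹ * g * c = 1 := orderOf_eq_one_iff.mp h3
      apply hg1
      have e : g = c * (c⁻¹ * g * c) * c⁻¹ := by group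
      rw [e, h4]
      group

end Cfsg.Agent.S4839
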