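import Cfsg.Statements.S4885
import Cfsg.Agent.S0081
import Cfsg.Agent.S0086
import Cfsg.Agent.S4591
import Cfsg.Agent.Lib.helper1.PGroup
import Cfsg.Agent.Lib.helper22.IndexP
import Cfsg.Agent.Lib.helper22.FongB0
import Cfsg.Agent.Lib.helper9.PPrimeCore

set_option autoImplicit false
open Cfsg

namespace Cfsg.Agent.S4885

open Cfsg.Agent.Lib.helper23 Cfsg.Agent.Lib.helper24 Cfsg.Agent.Lib.helper5 Cfsg.Agent.Lib.helper22
open Cfsg.Agent.Lib.helper22.FongB0 Cfsg.Agent.Lib.helper9 Cfsg.Agent.S4591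
open scoped ComplexConjugate

theorem exists_ext {G : Type*} [Group G] [Finite G] (p : ℕ) [Fact p.Prime] (P : Sylow p G)
    (K : Subgroup G) [K.Normal] (hK : (Nat.card K).Coprime p) (μ : (P : Subgroup G) →* ℂˣ) :
    ∃ (H : Subgroup G) (hPH : (P : Subgroup G) ≤ H) (hKH : K ≤ H) (lam : H →* ℂˣ),
      (∀ k (hk : k ∈ K), lam ⟨k, hKH hk⟩ = 1) ∧
      (∀ x (hx : x ∈ (P : Subgroup G)), lam ⟨x, hPH hx⟩ = μ ⟨x, hx⟩) := by
  have hbot : K.subgroupOf (P : Subgroup G) ≤ μ.ker := by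
    intro y hy
    rw [Subgroup.mem_subgroupOf] at hy
    have h1 : orderOf (y : G) ∣ Nat.card K := by
      have := orderOf_dvd_natCard (⟨(y : G), hy⟩ : K)
      rwa [Subgroup.orderOf_mk] at this
    obtain ⟨k, hk⟩ := (IsPGroup.iff_orderOf.mp P.isPGroup') y
    rw [Subgroup.orderOf_coe, hk] at h1
    have h2 : y = 1 := by
      have h3 : orderOf y = 1 := by
        rw [hk]
        exact Nat.Coprime.eq_one_of_dvd (Nat.Coprime.pow_left k hK.symm) h1
      exact orderOf_eq_one_iff.mp h3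
    rw [h2]
    exact one_mem _
  obtain ⟨e, he⟩ : ∃ e, e = QuotientGroup.quotientInfEquivProdNormalQuotient (P : Subgroup G) K :=
    ⟨_, rfl⟩
  refine ⟨(P : Subgroup G) ⊔ K, le_sup_left, le_sup_right,
    ((QuotientGroup.lift (K.subgroupOf (P : Subgroup G)) μ hbot).comp e.symm.toMonoidHom).comp
      (QuotientGroup.mk' _), ?_, ?_⟩
  · intro k hk
    have h1 : (QuotientGroup.mk' (K.subgroupOf ((P : Subgroup G) ⊔ K)))
        ⟨k, (le_sup_right : K ≤ (P : Subgroup G) ⊔ K) hk⟩ = 1 := by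
      rw [QuotientGroup.mk'_apply, QuotientGroup.eq_one_iff, Subgroup.mem_subgroupOf]
      exact hk
    rw [MonoidHom.comp_apply, h1, map_one]
  · intro x hx
    have h1 : (QuotientGroup.mk' (K.subgroupOf ((P : Subgroup G) ⊔ K)))
        ⟨x, (le_sup_left : (P : Subgroup G) ≤ (P : Subgroup G) ⊔ K) hx⟩
        = e (QuotientGroup.mk (⟨x, hx⟩ : (P : Subgroup G))) := by
      rw [he]
      rfl
    rw [MonoidHom.comp_apply, h1, MonoidHom.comp_apply]
    show (QuotientGroup.lift (K.subgroupOf (P : Subgroup G)) μ hbot)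
      (e.symm (e (QuotientGroup.mk (⟨x, hx⟩ : (P : Subgroup G))))) = _
    rw [MulEquiv.symm_apply_apply]
    rfl

theorem hom_trivial {G : Type*} [Group G] [Fintype G] (p : ℕ) [Fact p.Prime] (P : Sylow p G)
    (K W : Subgroup G) [hKn : K.Normal] (hK : (Nat.card K).Coprime p)
    (hX : ∀ χ : IrrCharacter G, ¬ p ∣ charDegree χ.1 → (∀ k ∈ K, χ.1 k = χ.1 1) →
      ∀ w ∈ W, χ.1 w = χ.1 1)
    (x : G) (hxP : x ∈ (P : Subgroup G)) (hxW : x ∈ W) (μ : (P : Subgroup G) →* ℂˣ) :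
    μ ⟨x, hxP⟩ = 1 := by
  classical
  obtain ⟨H, hPH, hKH, lam, hlamK, hlamP⟩ := exists_ext p P K hK μ
  have : Fintype H := Fintype.ofFinite _
  have hidx : ¬ p ∣ H.index := by
    intro hdvd
    exact P.not_dvd_index (dvd_trans hdvd (Subgroup.index_dvd_of_le hPH))
  obtain ⟨χ, hχp, hne⟩ := exists_pprime_over p H hidx lam
  have hKker : ∀ k ∈ K, χ.1 k = χ.1 1 := by
    have hne2 := hne
    rw [← frobenius_reciprocity H (fun h => (lam h : ℂ))
      (isCharacter_conj_class (isCharacter_of_isIrrCharacter χ.2))] at hne2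
    apply ker_of_translate (indFun H (fun h => (lam h : ℂ))) K ?_ χ hne2
    intro k hk g
    unfold indFun
    congr 1
    apply Finset.sum_congr rfl
    intro y _
    have hk' : y⁻¹ * k * y ∈ K := by
      have := hKn.conj_mem k hk y⁻¹
      simpa using this
    have e : y⁻¹ * (k * g) * y = (y⁻¹ * k * y) * (y⁻¹ * g * y) := by group
    rw [e]
    by_cases hz : y⁻¹ * g * y ∈ H
    · have hyz : (y⁻¹ * k * y) * (y⁻¹ * g * y) ∈ H := H.mul_mem (hKH hk') hz
      rw [extendByZero_apply_mem _ _ hyz, extendByZero_apply_mem _ _ hz]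
      have e2 : (⟨(y⁻¹ * k * y) * (y⁻¹ * g * y), hyz⟩ : H)
          = ⟨y⁻¹ * k * y, hKH hk'⟩ * ⟨y⁻¹ * g * y, hz⟩ := rfl
      rw [e2, map_mul, hlamK _ hk', one_mul]
    · have hyz : (y⁻¹ * k * y) * (y⁻¹ * g * y) ∉ H := by
        intro h
        apply hz
        have h7 := H.mul_mem (H.inv_mem (hKH hk')) h
        rw [inv_mul_cancel_left] at h7
        exact h7
      rw [extendByZero_apply_not_mem _ _ hyz, extendByZero_apply_not_mem _ _ hz]
  have hWker := hX χ hχp hKker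
  have hT : ∀ t ∈ (irrKer χ).subgroupOf H, ∀ g : H,
      (fun h : H => χ.1 h) (t * g) = (fun h : H => χ.1 h) g := by
    intro t ht g
    have h1 : χ.1 (t : G) = χ.1 1 := (mem_irrKer χ t).mp (Subgroup.mem_subgroupOf.mp ht)
    exact irr_mul_of_mem_ker χ.2 h1 (g : G)
  have hne' : classInner (fun h : H => χ.1 h)
      (⟨fun h : H => (lam h : ℂ), isIrrCharacter_of_hom lam⟩ : IrrCharacter H).1 ≠ 0 := by
    rw [classInner_conj_symm]
    exact (map_ne_zero _).mpr hne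
  have h1 := ker_of_translate (fun h : H => χ.1 h) ((irrKer χ).subgroupOf H) hT
    ⟨_, isIrrCharacter_of_hom lam⟩ hne' ⟨x, hPH hxP⟩
    (by rw [Subgroup.mem_subgroupOf, mem_irrKer]; exact hWker x hxW)
  rw [← hlamP x hxP]
  apply Units.ext
  simpa using h1

theorem le_of_coprime {G : Type*} [Group G] [Finite G] (p : ℕ) [Fact p.Prime]
    (W T : Subgroup G) [hWn : W.Normal] [hTn : T.Normal] (hKW : pPrimeCore p G ≤ W) (hWT : W ≤ T)
    (hA : ∀ (P : Sylow p G) (x : G) (hxP : x ∈ (P : Subgroup G)), x ∈ W →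
      ∀ μ : (P : Subgroup G) →* ℂˣ, μ ⟨x, hxP⟩ = 1)
    (hcop : (W.relIndex T).Coprime p) : T ≤ W := by
  classical
  have hp : p.Prime := Fact.out
  have hS : ∀ y ∈ T, (∃ k, orderOf y = p ^ k) → y ∈ W := by
    rintro y hyT ⟨k, hk⟩
    have h1 : y ^ (W.relIndex T) ∈ W := by
      have h := Subgroup.pow_index_mem (W.subgroupOf T) (⟨y, hyT⟩ : T)
      rw [Subgroup.mem_subgroupOf] at h
      exact h
    have h2 : ((y : G) : G ⧸ W) ^ (W.relIndex T) = 1 := by
      rw [← QuotientGroup.mk_pow, QuotientGroup.eq_one_iff]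
      exact h1
    have h3 : ((y : G) : G ⧸ W) ^ (p ^ k) = 1 := by
      rw [← QuotientGroup.mk_pow, ← hk, pow_orderOf_eq_one, QuotientGroup.mk_one]
    have h4 := (pow_gcd_eq_one (a := ((y : G) : G ⧸ W))).mpr ⟨h2, h3⟩
    have h5 : Nat.gcd (W.relIndex T) (p ^ k) = 1 := Nat.Coprime.pow_right k hcop
    rw [h5, pow_one, QuotientGroup.eq_one_iff] at h4
    exact h4
  obtain ⟨P⟩ : Nonempty (Sylow p G) := inferInstance
  have hPord : ∀ x ∈ (P : Subgroup G), ∃ k, orderOf x = p ^ k := by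
    intro x hx
    obtain ⟨k, hk⟩ := (IsPGroup.iff_orderOf.mp P.isPGroup') ⟨x, hx⟩
    exact ⟨k, by rw [← hk, Subgroup.orderOf_mk]⟩
  have hfr : T ⊓ (P : Subgroup G) ≤ (frattini P).map (P : Subgroup G).subtype := by
    rintro x ⟨hxT, hxP⟩
    have hxW : x ∈ W := hS x hxT (hPord x hxP)
    rw [Subgroup.mem_map]
    refine ⟨⟨x, hxP⟩, ?_, rfl⟩
    by_contra hnf
    have hex : ∃ Mx : Subgroup (P : Subgroup G), IsCoatom Mx ∧
        (⟨x, hxP⟩ : (P : Subgroup G)) ∉ Mx := by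
      by_contra hall
      push Not at hall
      apply hnf
      simp only [frattini, Order.radical, Subgroup.mem_iInf]
      intro Mx hMx
      exact hall Mx hMx
    obtain ⟨Mx, hMx, hxM⟩ := hex
    obtain ⟨hMn, hMidx⟩ := Cfsg.Agent.Lib.helper1.coatom_normal_index p P.isPGroup' Mx hMx
    obtain ⟨μ, h1, h2⟩ := exists_hom_of_index_prime Mx hp hMidx
    apply hxM
    rw [← h1]
    exact hA P x hxP hxW μ
  obtain ⟨Q, C, hCn, hCc⟩ := Cfsg.Agent.S0081.result P T hfr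
  have hCmem : ∀ n : T, n ∈ C ↔ Nat.Coprime (orderOf n) p := fun n =>
    Cfsg.Agent.S0086.result Q C hCc n
  obtain ⟨C', hC'⟩ : ∃ C' : Subgroup G, C' = C.map T.subtype := ⟨_, rfl⟩
  have hC'n : C'.Normal := by
    constructor
    intro k hk g
    rw [hC', Subgroup.mem_map] at hk ⊢
    obtain ⟨n, hn, rfl⟩ := hk
    refine ⟨⟨g * (n : G) * g⁻¹, hTn.conj_mem (n : G) n.2 g⟩, ?_, rfl⟩
    rw [hCmem] at hn ⊢
    have e : orderOf (⟨g * (n : G) * g⁻¹, hTn.conj_mem (n : G) n.2 g⟩ : T) = orderOf n := by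
      rw [← Subgroup.orderOf_coe, ← Subgroup.orderOf_coe n]
      exact orderOf_injective (MulAut.conj g).toMonoidHom (MulAut.conj g).injective (n : G)
    rw [e]
    exact hn
  have hC'card : (Nat.card C').Coprime p := by
    have h1 : Nat.card C' = Nat.card C := by
      rw [hC']
      exact Subgroup.card_map_of_injective (Subgroup.subtype_injective T)
    rw [h1, ← hCc.index_eq_card]
    exact (Nat.Coprime.symm ((Nat.Prime.coprime_iff_not_dvd hp).mpr Q.not_dvd_index))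
  have hC'W : C' ≤ W := le_trans (le_pPrimeCore hC'n hC'card) hKW
  intro t ht
  obtain ⟨⟨c, r⟩, hcr⟩ := hCc.2 ⟨t, ht⟩
  have h3 : ((c.1 : T) : G) * ((r.1 : T) : G) = t := congrArg Subtype.val hcr
  rw [← h3]
  apply W.mul_mem
  · apply hC'W
    rw [hC']
    exact Subgroup.mem_map_of_mem T.subtype c.2
  · apply hS _ (r.1 : T).2
    obtain ⟨k, hk⟩ := (IsPGroup.iff_orderOf.mp Q.isPGroup') r
    refine ⟨k, ?_⟩
    rw [← hk, Subgroup.orderOf_coe, Subgroup.orderOf_coe]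

theorem result {G : Type*} [Group G] [Finite G] (p q : ℕ) [Fact p.Prime] [Fact q.Prime] (hp : p ∣ Nat.card G) (hq : q ∣ Nat.card G) (hps : Cfsg.IsPSolvable p G) (hqs : Cfsg.IsPSolvable q G) (Mp Mq : Ideal Cfsg.AlgInt) (hMp : Cfsg.IsPModular p Mp) (hMq : Cfsg.IsPModular q Mq) (h : ∀ χ : Cfsg.IrrCharacter G, (χ ∈ Cfsg.principalBlock Mp G ∧ ¬ p ∣ Cfsg.charDegree (χ : G → ℂ)) ↔ (χ ∈ Cfsg.principalBlock Mq G ∧ ¬ q ∣ Cfsg.charDegree (χ : G → ℂ))) : p = q := by
  classical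
  have : Fintype G := Fintype.ofFinite G
  by_contra hpq
  have hpp : p.Prime := Fact.out
  have hqp : q.Prime := Fact.out
  obtain ⟨K, hKdef⟩ : ∃ K, K = pPrimeCore p G := ⟨_, rfl⟩
  obtain ⟨L, hLdef⟩ : ∃ L, L = pPrimeCore q G := ⟨_, rfl⟩
  have hKn : K.Normal := by
    rw [hKdef]
    exact ppc_normal p G
  have hLn : L.Normal := by
    rw [hLdef]
    exact ppc_normal q G
  have hKc : (Nat.card K).Coprime p := by
    rw [hKdef]
    exact pPrimeCore_coprime p G
  have hLc : (Nat.card L).Coprime q := by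
    rw [hLdef]
    exact pPrimeCore_coprime q G
  have hWn : (L ⊔ K).Normal := inferInstance
  have hXp : ∀ χ : IrrCharacter G, ¬ p ∣ charDegree χ.1 → (∀ k ∈ K, χ.1 k = χ.1 1) →
      ∀ w ∈ L ⊔ K, χ.1 w = χ.1 1 := by
    intro χ hχ hk w hw
    have h1 : χ ∈ principalBlock Mp G :=
      (mem_principalBlock_iff_pSolvable hMp hps χ).mpr (by rw [← hKdef]; exact hk)
    have h2 := (h χ).mp ⟨h1, hχ⟩
    have h3 := (mem_principalBlock_iff_pSolvable hMq hqs χ).mp h2.1
    have hL : L ≤ irrKer χ := fun l hl => (mem_irrKer χ l).mpr (h3 l (by rw [← hLdef]; exact hl))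
    have hK' : K ≤ irrKer χ := fun k hk' => (mem_irrKer χ k).mpr (hk k hk')
    exact (mem_irrKer χ w).mp (sup_le hL hK' hw)
  have hXq : ∀ χ : IrrCharacter G, ¬ q ∣ charDegree χ.1 → (∀ k ∈ L, χ.1 k = χ.1 1) →
      ∀ w ∈ L ⊔ K, χ.1 w = χ.1 1 := by
    intro χ hχ hk w hw
    have h1 : χ ∈ principalBlock Mq G :=
      (mem_principalBlock_iff_pSolvable hMq hqs χ).mpr (by rw [← hLdef]; exact hk)
    have h2 := (h χ).mpr ⟨h1, hχ⟩
    have h3 := (mem_principalBlock_iff_pSolvable hMp hps χ).mp h2.1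
    have hK' : K ≤ irrKer χ := fun l hl => (mem_irrKer χ l).mpr (h3 l (by rw [← hKdef]; exact hl))
    have hL : L ≤ irrKer χ := fun k hk' => (mem_irrKer χ k).mpr (hk k hk')
    exact (mem_irrKer χ w).mp (sup_le hL hK' hw)
  have hAp : ∀ (P : Sylow p G) (x : G) (hxP : x ∈ (P : Subgroup G)), x ∈ L ⊔ K →
      ∀ μ : (P : Subgroup G) →* ℂˣ, μ ⟨x, hxP⟩ = 1 :=
    fun P x hxP hxW μ => hom_trivial p P K (L ⊔ K) hKc hXp x hxP hxW μ
  have hAq : ∀ (Q : Sylow q G) (x : G) (hxQ : x ∈ (Q : Subgroup G)), x ∈ L ⊔ K →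
      ∀ μ : (Q : Subgroup G) →* ℂˣ, μ ⟨x, hxQ⟩ = 1 :=
    fun Q x hxQ hxW μ => hom_trivial q Q L (L ⊔ K) hLc hXq x hxQ hxW μ
  obtain ⟨n, H, h0, hlast, hmono, hnorm, hstep⟩ := hps
  have hall : ∀ i : Fin (n + 1), H i ≤ L ⊔ K := by
    intro i
    induction i using Fin.induction with
    | zero =>
      rw [h0]
      exact bot_le
    | succ i ih =>
      have hTn : (H i.succ ⊔ (L ⊔ K)).Normal := by
        have := hnorm i.succ
        infer_instance
      have hdvd : (L ⊔ K).relIndex (H i.succ ⊔ (L ⊔ K)) ∣ (H i.castSucc).relIndex (H i.succ) := by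
        rw [Subgroup.relIndex_sup_right]
        exact Subgroup.relIndex_dvd_of_le_left _ ih
      have hle : H i.succ ⊔ (L ⊔ K) ≤ L ⊔ K := by
        rcases hstep i with ⟨m, hm⟩ | hc
        · rw [hm] at hdvd
          apply le_of_coprime q (L ⊔ K) _ (by rw [← hLdef]; exact le_sup_left) le_sup_right hAq
          exact Nat.Coprime.coprime_dvd_left hdvd
            (Nat.Coprime.pow_left m ((Nat.coprime_primes hpp hqp).mpr hpq))
        · apply le_of_coprime p (L ⊔ K) _ (by rw [← hKdef]; exact le_sup_right) le_sup_right hAp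
          exact Nat.Coprime.coprime_dvd_left hdvd hc
      exact le_trans le_sup_left hle
  have htop : L ⊔ K = ⊤ := by
    rw [eq_top_iff, ← hlast]
    exact hall _
  obtain ⟨P⟩ : Nonempty (Sylow p G) := inferInstance
  have hPne : (P : Subgroup G) ≠ ⊥ := P.ne_bot_of_dvd_card hp
  rcases eq_top_or_exists_le_coatom (⊥ : Subgroup (P : Subgroup G)) with hbt | ⟨Mx, hMx, -⟩
  · apply hPne
    rw [Subgroup.eq_bot_iff_forall]
    intro x hx
    have h1 : (⟨x, hx⟩ : (P : Subgroup G)) ∈ (⊥ : Subgroup (P : Subgroup G)) := by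
      rw [hbt]
      trivial
    rw [Subgroup.mem_bot] at h1
    exact congrArg Subtype.val h1
  · obtain ⟨hMn, hMidx⟩ := Cfsg.Agent.Lib.helper1.coatom_normal_index p P.isPGroup' Mx hMx
    obtain ⟨μ, h1, h2⟩ := exists_hom_of_index_prime Mx hpp hMidx
    apply hMx.1
    rw [eq_top_iff]
    intro x _
    rw [← h1]
    exact hAp P x x.2 (by rw [htop]; trivial) μ

end Cfsg.Agent.S4885
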