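import Cfsg.Statements.S4931
import Cfsg.Agent.S4591
import Cfsg.Agent.S4888
import Cfsg.Agent.S4611

set_option autoImplicit false
open Cfsg

namespace Cfsg.Agent.S4931

open Cfsg.Agent.Lib.helper23 Cfsg.Agent.Lib.helper24 Cfsg.Agent.Lib.helper22 Cfsg.Agent.Lib.helper5
open scoped ComplexConjugate commutatorElement Pointwise
open Cfsg.Agent.S4591

theorem transfer_fusion {Γ A : Type*} [Group Γ] [CommGroup A] (H : Subgroup Γ) [H.FiniteIndex]
    (ϕ : H →* A)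
    (hfs : ∀ (x : Γ) (hx : x ∈ H) (g₀ : Γ) (h : g₀⁻¹ * x * g₀ ∈ H), ϕ ⟨_, h⟩ = ϕ ⟨x, hx⟩)
    (g : Γ) (hg : g ∈ H) : MonoidHom.transfer ϕ g = ϕ ⟨g, hg⟩ ^ H.index := by
  classical
  have : Fintype (Γ ⧸ H) := H.fintypeQuotientOfFiniteIndex
  have : Fintype (Quotient (MulAction.orbitRel (Subgroup.zpowers g) (Γ ⧸ H))) :=
    Fintype.ofFinite _
  rw [MonoidHom.transfer_eq_prod_quotient_orbitRel_zpowers_quot]
  have key : ∀ q : Quotient (MulAction.orbitRel (Subgroup.zpowers g) (Γ ⧸ H)),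
      ϕ ⟨q.out.out⁻¹ * g ^ Function.minimalPeriod (g • ·) q.out * q.out.out,
            QuotientGroup.out_conj_pow_minimalPeriod_mem H g q.out⟩ =
        ϕ ⟨g, hg⟩ ^ Function.minimalPeriod (g • ·) q.out := by
    intro q
    rw [hfs (g ^ Function.minimalPeriod (g • ·) q.out) (H.pow_mem hg _) q.out.out, ← map_pow]
    rfl
  rw [Finset.prod_congr rfl (fun q _ => key q), Finset.prod_pow_eq_pow_sum,
    ← Subgroup.index_eq_sum_minimalPeriod H g]

theorem ext_of_complement {G : Type*} [Group G] [Finite G] (N K : Subgroup G) [hKn : K.Normal]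
    (hsup : K ⊔ N = ⊤) (hinf : K ⊓ N = ⊥) (θ : IrrCharacter N) :
    ∃ χ : IrrCharacter G, ∀ x : N, χ.1 x = θ.1 x := by
  classical
  have hbij : Function.Bijective ((QuotientGroup.mk' K).comp N.subtype) := by
    constructor
    · rw [← MonoidHom.ker_eq_bot_iff, eq_bot_iff]
      intro x hx
      rw [MonoidHom.mem_ker, MonoidHom.comp_apply, QuotientGroup.mk'_apply,
        QuotientGroup.eq_one_iff] at hx
      have h1 : (x : G) ∈ K ⊓ N := Subgroup.mem_inf.mpr ⟨hx, x.2⟩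
      rw [hinf, Subgroup.mem_bot] at h1
      exact Subgroup.mem_bot.mpr (Subtype.ext h1)
    · intro q
      obtain ⟨g, rfl⟩ := QuotientGroup.mk'_surjective K q
      have hg : g ∈ K ⊔ N := by
        rw [hsup]
        exact Subgroup.mem_top g
      rw [Subgroup.mem_sup_of_normal_left] at hg
      obtain ⟨k, hk, n, hn, rfl⟩ := hg
      refine ⟨⟨n, hn⟩, ?_⟩
      show ((n : G) : G ⧸ K) = ((k * n : G) : G ⧸ K)
      rw [QuotientGroup.eq]
      have h2 := hKn.conj_mem k hk n⁻¹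
      simpa [mul_assoc] using h2
  obtain ⟨e, he⟩ : ∃ e : N ≃* G ⧸ K, ∀ x : N, e x = QuotientGroup.mk' K (x : G) :=
    ⟨MulEquiv.ofBijective _ hbij, fun x => rfl⟩
  obtain ⟨π, hπ⟩ : ∃ π : G →* N, ∀ g : G, π g = e.symm (QuotientGroup.mk' K g) :=
    ⟨e.symm.toMonoidHom.comp (QuotientGroup.mk' K), fun g => rfl⟩
  have hπsurj : Function.Surjective π := by
    intro n
    refine ⟨(n : G), ?_⟩
    rw [hπ, MulEquiv.symm_apply_eq, he]
  have hπN : ∀ x : N, π x = x := by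
    intro x
    rw [hπ, MulEquiv.symm_apply_eq, he]
  refine ⟨⟨θ.1 ∘ π, isIrrCharacter_comp_surjective π hπsurj θ.2⟩, ?_⟩
  intro x
  show θ.1 (π x) = θ.1 x
  rw [hπN]

theorem complement_of_ext {G : Type*} [Group G] [Finite G] (p : ℕ) [Fact p.Prime] (P : Sylow p G)
    (N : Subgroup G) (hN : N = Subgroup.normalizer ((P : Subgroup G) : Set G))
    (hext : ∀ θ : IrrCharacter N, ¬ p ∣ charDegree θ.1 →
      ∃ χ : IrrCharacter G, ∀ x : N, χ.1 x = θ.1 x) :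
    ∃ K : Subgroup G, K.Normal ∧ K ⊔ N = ⊤ ∧ K ⊓ N = ⊥ := by
  classical
  have hp : p.Prime := Fact.out
  have : Fintype G := Fintype.ofFinite G
  have : Fintype N := Fintype.ofFinite N
  have hPN : (P : Subgroup G) ≤ N := by
    rw [hN]
    exact Subgroup.le_normalizer
  obtain ⟨PN, hPN'⟩ : ∃ PN : Sylow p N, (PN : Subgroup N) = (P : Subgroup G).subgroupOf N :=
    ⟨P.subtype hPN, rfl⟩
  have hPNn : (PN : Subgroup N).Normal := by
    rw [hPN']
    subst hN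
    exact Subgroup.normal_in_normalizer
  have hmemP : ∀ y : N, y ∈ (PN : Subgroup N) ↔ (y : G) ∈ (P : Subgroup G) := by
    intro y
    rw [hPN']
    exact Subgroup.mem_subgroupOf
  obtain ⟨D₁, hD₁⟩ : ∃ D₁ : Subgroup G, D₁ = Subgroup.normalClosure ((P : Subgroup G) : Set G) :=
    ⟨_, rfl⟩
  obtain ⟨D, hD⟩ : ∃ D : Subgroup G, D = Subgroup.normalClosure
      {c : G | ∃ a ∈ (P : Subgroup G), ∃ b ∈ (P : Subgroup G), c = ⁅a, b⁆} := ⟨_, rfl⟩
  have hDn : D.Normal := by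
    rw [hD]
    exact Subgroup.normalClosure_normal
  have hD₁n : D₁.Normal := by
    rw [hD₁]
    exact Subgroup.normalClosure_normal
  have hPD₁ : (P : Subgroup G) ≤ D₁ := by
    rw [hD₁]
    exact Subgroup.subset_normalClosure
  have hcommD : ∀ a ∈ (P : Subgroup G), ∀ b ∈ (P : Subgroup G), ⁅a, b⁆ ∈ D := by
    intro a ha b hb
    rw [hD]
    exact Subgroup.subset_normalClosure ⟨a, ha, b, hb, rfl⟩
  have hDker : ∀ θ : IrrCharacter N, ¬ p ∣ charDegree θ.1 → ∀ x : N, (x : G) ∈ D →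
      θ.1 x = θ.1 1 := by
    intro θ hθ x hx
    obtain ⟨χ, hχ⟩ := hext θ hθ
    have hle : D ≤ irrKer χ := by
      rw [hD]
      apply Subgroup.normalClosure_le_normal
      rintro c ⟨a, ha, b, hb, rfl⟩
      rw [SetLike.mem_coe, mem_irrKer]
      have h1 := ker_of_le_commutator p PN ⁅(PN : Subgroup N), (PN : Subgroup N)⁆ le_rfl θ hθ
        ⁅(⟨a, hPN ha⟩ : N), (⟨b, hPN hb⟩ : N)⁆
        (Subgroup.commutator_mem_commutator ((hmemP _).mpr ha) ((hmemP _).mpr hb))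
      have h2 := hχ ⁅(⟨a, hPN ha⟩ : N), (⟨b, hPN hb⟩ : N)⁆
      have h3 := hχ 1
      rw [h1, ← h3] at h2
      exact h2
    have h4 := (mem_irrKer χ (x : G)).mp (hle hx)
    rw [← hχ x, h4]
    exact hχ 1
  have hD₁ker : ∀ θ : IrrCharacter N, ¬ p ∣ charDegree θ.1 →
      (∀ y : N, (y : G) ∈ (P : Subgroup G) → θ.1 y = θ.1 1) →
      ∀ x : N, (x : G) ∈ D₁ → θ.1 x = θ.1 1 := by
    intro θ hθ hker x hx
    obtain ⟨χ, hχ⟩ := hext θ hθ
    have hle : D₁ ≤ irrKer χ := by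
      rw [hD₁]
      apply Subgroup.normalClosure_le_normal
      intro c hc
      rw [SetLike.mem_coe, mem_irrKer]
      have h2 := hχ ⟨c, hPN hc⟩
      have h3 := hχ 1
      rw [hker ⟨c, hPN hc⟩ hc, ← h3] at h2
      exact h2
    have h4 := (mem_irrKer χ (x : G)).mp (hle hx)
    rw [← hχ x, h4]
    exact hχ 1
  have hI : ∀ x : G, x ∈ D₁ → x ∈ N → x ∈ (P : Subgroup G) := by
    intro x hxD hxN
    by_contra hxP
    have : Fintype (N ⧸ (PN : Subgroup N)) := Fintype.ofFinite _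
    have hne : (QuotientGroup.mk' (PN : Subgroup N) ⟨x, hxN⟩) ≠ 1 := by
      intro h
      rw [QuotientGroup.mk'_apply, QuotientGroup.eq_one_iff, hmemP] at h
      exact hxP h
    obtain ⟨θb, hθb⟩ := Cfsg.Agent.S4611.exists_irr_ne _ hne
    obtain ⟨θ, hθ⟩ : ∃ θ : IrrCharacter N, ∀ y : N,
        θ.1 y = θb.1 (QuotientGroup.mk' (PN : Subgroup N) y) :=
      ⟨⟨θb.1 ∘ (QuotientGroup.mk' (PN : Subgroup N)),
        isIrrCharacter_comp_surjective _ (QuotientGroup.mk'_surjective _) θb.2⟩, fun y => rfl⟩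
    have hdeg : charDegree θ.1 = charDegree θb.1 := by
      unfold charDegree
      rw [hθ 1, map_one]
    have hθp : ¬ p ∣ charDegree θ.1 := by
      rw [hdeg]
      intro hdvd
      have h1 := charDegree_dvd_card θb
      have h2 : Nat.card (N ⧸ (PN : Subgroup N)) = (PN : Subgroup N).index := rfl
      rw [h2] at h1
      exact PN.not_dvd_index (hdvd.trans h1)
    have h5 := hD₁ker θ hθp (by
      intro y hy
      have e : (QuotientGroup.mk' (PN : Subgroup N) y) = 1 := by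
        rw [QuotientGroup.mk'_apply, QuotientGroup.eq_one_iff, hmemP]
        exact hy
      rw [hθ, hθ, map_one, e]) ⟨x, hxN⟩ hxD
    rw [hθ, hθ, map_one] at h5
    exact hθb h5
  have hII : ∀ (x : G) (hxP : x ∈ (P : Subgroup G)), x ∈ D →
      ∀ f : ↥(P : Subgroup G) →* ℂˣ, f ⟨x, hxP⟩ = 1 := by
    intro x hxP hxD f
    obtain ⟨j, hj⟩ : ∃ j : ↥(PN : Subgroup N) →* ↥(P : Subgroup G),
        ∀ y, ((j y : (P : Subgroup G)) : G) = ((y : N) : G) :=
      ⟨MonoidHom.mk' (fun y => ⟨((y : N) : G), (hmemP y).mp y.2⟩) (fun a b => rfl), fun y => rfl⟩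
    have h1 := hom_eq_one_of_ker p (PN : Subgroup N) PN.not_dvd_index (f.comp j)
      ⟨⟨x, hPN hxP⟩, (hmemP _).mpr hxP⟩ (fun θ hθ => hDker θ hθ ⟨x, hPN hxP⟩ hxD)
    rw [MonoidHom.comp_apply] at h1
    have e : j ⟨⟨x, hPN hxP⟩, (hmemP _).mpr hxP⟩ = ⟨x, hxP⟩ := Subtype.ext (hj _)
    rw [e] at h1
    exact h1
  have hFS : ∀ (f : ↥(P : Subgroup G) →* ℂˣ) (y z : G) (hy : y ∈ (P : Subgroup G))
      (hz : z ∈ (P : Subgroup G)) (g : G), g ∈ D₁ → z = g * y * g⁻¹ →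
      f ⟨z, hz⟩ = f ⟨y, hy⟩ := by
    intro f y z hy hz g hg hzy
    obtain ⟨C, hC⟩ : ∃ C : Subgroup G, C = (Subgroup.centralizer
        {(QuotientGroup.mk' D z)}).comap (QuotientGroup.mk' D) ⊓ D₁ := ⟨_, rfl⟩
    have hmemC : ∀ c, c ∈ C ↔ ((z * c)⁻¹ * (c * z) ∈ D ∧ c ∈ D₁) := by
      intro c
      rw [hC, Subgroup.mem_inf, Subgroup.mem_comap, Subgroup.mem_centralizer_iff]
      simp only [Set.mem_singleton_iff, forall_eq, QuotientGroup.mk'_apply]
      rw [← QuotientGroup.mk_mul, ← QuotientGroup.mk_mul, QuotientGroup.eq]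
    have hPC : (P : Subgroup G) ≤ C := by
      intro a ha
      rw [hmemC]
      refine ⟨?_, hPD₁ ha⟩
      have e : (z * a)⁻¹ * (a * z) = ⁅a⁻¹, z⁻¹⁆ := by
        rw [commutatorElement_def]
        group
      rw [e]
      exact hcommD _ (inv_mem ha) _ (inv_mem hz)
    have hQC : ((g • P : Sylow p G) : Subgroup G) ≤ C := by
      rintro - ⟨a, ha, rfl⟩
      show g * a * g⁻¹ ∈ C
      rw [hmemC]
      refine ⟨?_, hD₁n.conj_mem a (hPD₁ ha) g⟩
      have e : (z * (g * a * g⁻¹))⁻¹ * (g * a * g⁻¹ * z) = g * ⁅a⁻¹, y⁻¹⁆ * g⁻¹ := by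
        rw [hzy, commutatorElement_def]
        group
      rw [e]
      exact hDn.conj_mem _ (hcommD _ (inv_mem ha) _ (inv_mem hy)) g
    obtain ⟨c, hc⟩ := MulAction.exists_smul_eq C (P.subtype hPC) ((g • P).subtype hQC)
    rw [Sylow.smul_subtype] at hc
    have hc' : (c : G) • P = g • P := Sylow.subtype_injective hc
    have hn : (g⁻¹ * (c : G)) • P = P := by
      rw [mul_smul, hc', inv_smul_smul]
    have hnN : g⁻¹ * (c : G) ∈ N := by
      rw [hN]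
      exact Sylow.smul_eq_iff_mem_normalizer.mp hn
    have hcC := (hmemC c).mp c.2
    have hnD₁ : g⁻¹ * (c : G) ∈ D₁ := D₁.mul_mem (D₁.inv_mem hg) hcC.2
    have hnP : g⁻¹ * (c : G) ∈ (P : Subgroup G) := hI _ hnD₁ hnN
    have hwP : ((g⁻¹ * (c : G))⁻¹ * y * (g⁻¹ * (c : G)))⁻¹ * z ∈ (P : Subgroup G) :=
      mul_mem (inv_mem (mul_mem (mul_mem (inv_mem hnP) hy) hnP)) hz
    have hwD : ((g⁻¹ * (c : G))⁻¹ * y * (g⁻¹ * (c : G)))⁻¹ * z ∈ D := by
      have e : ((g⁻¹ * (c : G))⁻¹ * y * (g⁻¹ * (c : G)))⁻¹ * z = (z * (c : G))⁻¹ * ((c : G) * z) := by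
        rw [hzy]
        group
      rw [e]
      exact hcC.1
    have h1 := hII _ hwP hwD f
    have e1 : (⟨z, hz⟩ : (P : Subgroup G)) = (⟨g⁻¹ * (c : G), hnP⟩ : (P : Subgroup G))⁻¹ * ⟨y, hy⟩ *
        ⟨g⁻¹ * (c : G), hnP⟩ * ⟨_, hwP⟩ := by
      apply Subtype.ext
      show z = (g⁻¹ * (c : G))⁻¹ * y * (g⁻¹ * (c : G)) *
        (((g⁻¹ * (c : G))⁻¹ * y * (g⁻¹ * (c : G)))⁻¹ * z)
      group
    rw [e1, map_mul, map_mul, map_mul, map_inv, h1, mul_one,
      mul_comm ((f ⟨g⁻¹ * (c : G), hnP⟩)⁻¹), inv_mul_cancel_right]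
  obtain ⟨PD, hPD⟩ : ∃ PD : Sylow p D₁, (PD : Subgroup D₁) = (P : Subgroup G).subgroupOf D₁ :=
    ⟨P.subtype hPD₁, rfl⟩
  have hmemPD : ∀ y : D₁, y ∈ (PD : Subgroup D₁) ↔ (y : G) ∈ (P : Subgroup G) := by
    intro y
    rw [hPD]
    exact Subgroup.mem_subgroupOf
  have hnpc : HasNormalPComplement p D₁ := by
    apply Cfsg.Agent.S4888.npc_of_ext p PD
    intro lam hlam
    obtain ⟨i, hi⟩ : ∃ i : ↥(P : Subgroup G) →* ↥(PD : Subgroup D₁),
        ∀ y, (((i y : (PD : Subgroup D₁)) : D₁) : G) = (y : G) :=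
      ⟨MonoidHom.mk' (fun y => ⟨⟨(y : G), hPD₁ y.2⟩, (hmemPD _).mpr y.2⟩) (fun a b => rfl),
        fun y => rfl⟩
    have hlamf : ∀ (y : D₁) (hy : y ∈ (PD : Subgroup D₁)),
        lam ⟨y, hy⟩ = (lam.comp i) ⟨(y : G), (hmemPD y).mp hy⟩ := by
      intro y hy
      rw [MonoidHom.comp_apply]
      congr 1
      exact Subtype.ext (Subtype.ext (hi ⟨(y : G), (hmemPD y).mp hy⟩).symm)
    have htr : ∀ (u : D₁) (hu : u ∈ (PD : Subgroup D₁)),
        MonoidHom.transfer lam u = lam ⟨u, hu⟩ ^ (PD : Subgroup D₁).index := by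
      intro u hu
      apply transfer_fusion (PD : Subgroup D₁) lam
      intro x hx g₀ h
      rw [hlamf, hlamf]
      apply hFS (lam.comp i) (x : G) _ _ _ ((g₀ : G)⁻¹) (D₁.inv_mem g₀.2)
      simp
    have hcop : Nat.Coprime (PD : Subgroup D₁).index p :=
      ((Nat.Prime.coprime_iff_not_dvd hp).mpr PD.not_dvd_index).symm
    obtain ⟨t, -, ht⟩ := Nat.exists_mul_mod_eq_one_of_coprime hcop hp.one_lt
    refine ⟨(MonoidHom.transfer lam) ^ t, ?_⟩
    intro x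
    rw [MonoidHom.pow_apply, htr (x : D₁) x.2, ← pow_mul, pow_eq_pow_mod _ (hlam x), ht, pow_one]
  obtain ⟨Q, R, hRn, hRc⟩ := hnpc
  have hRmem : ∀ n : D₁, n ∈ R ↔ Nat.Coprime (orderOf n) p := fun n =>
    Cfsg.Agent.S0086.result Q R hRc n
  obtain ⟨R', hR'⟩ : ∃ R' : Subgroup G, R' = R.map D₁.subtype := ⟨_, rfl⟩
  have hR'n : R'.Normal := by
    constructor
    intro k hk g
    rw [hR', Subgroup.mem_map] at hk ⊢
    obtain ⟨n, hn, rfl⟩ := hk
    refine ⟨⟨g * (n : G) * g⁻¹, hD₁n.conj_mem (n : G) n.2 g⟩, ?_, rfl⟩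
    rw [hRmem] at hn ⊢
    have e : orderOf (⟨g * (n : G) * g⁻¹, hD₁n.conj_mem (n : G) n.2 g⟩ : D₁) = orderOf n := by
      rw [← Subgroup.orderOf_coe, ← Subgroup.orderOf_coe n]
      exact orderOf_injective (MulAut.conj g).toMonoidHom (MulAut.conj g).injective (n : G)
    rw [e]
    exact hn
  refine ⟨R', hR'n, ?_, ?_⟩
  · have hNs : Subgroup.normalizer ((P : Subgroup G) : Set G) ⊔ D₁ = ⊤ :=
      Sylow.normalizer_sup_eq_top' P hPD₁
    rw [eq_top_iff, ← hNs, ← hN]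
    apply sup_le le_sup_right
    intro x hx
    obtain ⟨t, ht⟩ := MulAction.exists_smul_eq D₁ Q PD
    have hconj : ∀ y ∈ (Q : Subgroup D₁), t * y * t⁻¹ ∈ (PD : Subgroup D₁) := by
      intro y hy
      have h1 : t * y * t⁻¹ ∈ MulAut.conj t • (Q : Subgroup D₁) :=
        Subgroup.smul_mem_pointwise_smul y (MulAut.conj t) (Q : Subgroup D₁) hy
      have h2 : ((t • Q : Sylow p D₁) : Subgroup D₁) = MulAut.conj t • (Q : Subgroup D₁) := by
        rw [Sylow.smul_def]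
        rfl
      rw [← ht]
      show t * y * t⁻¹ ∈ ((t • Q : Sylow p D₁) : Subgroup D₁)
      rw [h2]
      exact h1
    obtain ⟨⟨k, q⟩, hkq⟩ := hRc.2 (t⁻¹ * ⟨x, hx⟩ * t)
    have h3 : (k : D₁) * (q : D₁) = t⁻¹ * ⟨x, hx⟩ * t := hkq
    have hx_eq : x = ((t * (k : D₁) * t⁻¹ : D₁) : G) * ((t * (q : D₁) * t⁻¹ : D₁) : G) := by
      have h4 : (⟨x, hx⟩ : D₁) = (t * (k : D₁) * t⁻¹) * (t * (q : D₁) * t⁻¹) := by
        have h5 : (⟨x, hx⟩ : D₁) = t * (t⁻¹ * ⟨x, hx⟩ * t) * t⁻¹ := by group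
        rw [h5, ← h3]
        group
      have h6 := congrArg Subtype.val h4
      exact h6
    rw [hx_eq]
    refine Subgroup.mul_mem_sup ?_ ?_
    · rw [hR']
      exact Subgroup.mem_map_of_mem D₁.subtype (hRn.conj_mem _ k.2 t)
    · exact hPN ((hmemPD _).mp (hconj _ q.2))
  · rw [eq_bot_iff]
    intro x hx
    obtain ⟨hxR, hxN⟩ := Subgroup.mem_inf.mp hx
    rw [Subgroup.mem_bot]
    rw [hR', Subgroup.mem_map] at hxR
    obtain ⟨n, hn, rfl⟩ := hxR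
    have hcop : Nat.Coprime (orderOf (n : G)) p := by
      have h3 := (hRmem n).mp hn
      rwa [← Subgroup.orderOf_coe] at h3
    have hnP : (n : G) ∈ (P : Subgroup G) := hI _ n.2 hxN
    obtain ⟨k, hk⟩ := P.isPGroup' ⟨(n : G), hnP⟩
    have hk' : (n : G) ^ p ^ k = 1 := congrArg Subtype.val hk
    have hdvd : orderOf (n : G) ∣ p ^ k := orderOf_dvd_of_pow_eq_one hk'
    have h1 : orderOf (n : G) = 1 := Nat.Coprime.eq_one_of_dvd (Nat.Coprime.pow_right k hcop) hdvd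
    exact orderOf_eq_one_iff.mp h1

theorem result {G : Type*} [Group G] [Finite G] (p : ℕ) [Fact p.Prime] (P : Sylow p G) :
    (∀ θ : Cfsg.IrrCharacter ↥(Subgroup.normalizer ((P : Subgroup G) : Set G)), ¬ p ∣ Cfsg.charDegree (θ : ↥(Subgroup.normalizer ((P : Subgroup G) : Set G)) → ℂ) →
        ∃ χ : Cfsg.IrrCharacter G, ∀ x : ↥(Subgroup.normalizer ((P : Subgroup G) : Set G)), (χ : G → ℂ) x = (θ : ↥(Subgroup.normalizer ((P : Subgroup G) : Set G)) → ℂ) x) ↔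
      ∃ K : Subgroup G, K.Normal ∧ K ⊔ Subgroup.normalizer ((P : Subgroup G) : Set G) = ⊤ ∧ K ⊓ Subgroup.normalizer ((P : Subgroup G) : Set G) = ⊥ := by
  constructor
  · intro h
    exact complement_of_ext p P _ rfl h
  · rintro ⟨K, hKn, hsup, hinf⟩ θ _
    exact ext_of_complement _ K hsup hinf θ

end Cfsg.Agent.S4931
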