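import Cfsg.Statements.S5001
import Mathlib
import Cfsg.Agent.Lib.helper5.SepBlocks
import Cfsg.Agent.Lib.helper5.CharCongr
import Cfsg.Agent.Lib.helper23.CenterIndex
import Cfsg.Agent.Lib.helper23.LinChar
import Cfsg.Agent.Lib.helper24.CharKer

set_option autoImplicit false
open Cfsg
open Cfsg.Agent.Lib.helper5 Cfsg.Agent.Lib.helper23 Cfsg.Agent.Lib.helper24

namespace Cfsg.Agent.S5001


open scoped ComplexConjugate

/-- the value of a height-zero character at a defect class is a unit of the local ring -/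
theorem val_not_mem {G : Type*} [Group G] [Finite G] (p : ℕ) [Fact p.Prime]
    (M : Ideal Cfsg.AlgInt) (hM : Cfsg.IsPModular p M) (χ₀ : Cfsg.IrrCharacter G) (g₀ : G)
    (hg₀ : Cfsg.IsDefectClass M (Cfsg.blockOf M χ₀.1) g₀) (χ : Cfsg.IrrCharacter G)
    (hχ : χ ∈ Cfsg.blockOf M χ₀.1)
    (h0 : Cfsg.blockHeight p (Cfsg.blockOf M χ₀.1) χ.1 = 0) :
    ¬ Cfsg.MemLocalIdeal M (χ.1 g₀) := by
  classical
  have := Fintype.ofFinite G
  have := Fintype.ofFinite (Cfsg.IrrCharacter G)
  have hMp := isPModular_isPrime hM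
  intro hI
  apply hg₀.2.2 χ hχ
  have h1 := degree_add_defect_of_height_zero (p := p) _ χ hχ h0
  have h2 := defect_class_factorization hM χ₀ g₀ hg₀
  have h3 := index_centralizer_factorization (p := p) g₀
  have h4 : (Cfsg.charDegree χ.1).factorization p
      ≤ ((Subgroup.centralizer ({g₀} : Set G)).index).factorization p := by omega
  have h5 := memLocalRing_natCast_div hM (a := (Subgroup.centralizer ({g₀} : Set G)).index)
    (b := Cfsg.charDegree χ.1) Subgroup.index_ne_zero_of_finite (charDegree_pos χ).ne' h4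
  unfold Cfsg.centralChar
  rw [← charDegree_cast χ]
  have e : ((Subgroup.centralizer ({g₀} : Set G)).index : ℂ) * χ.1 g₀ / (Cfsg.charDegree χ.1 : ℂ)
      = ((Subgroup.centralizer ({g₀} : Set G)).index : ℂ) / (Cfsg.charDegree χ.1 : ℂ) * χ.1 g₀ := by
    ring
  rw [e]
  exact memLocalIdeal_mul_left hMp h5 hI


/-- a character of `H` whose value at a central element is a unit of the local ring, `H` having
centre of `p`-power index, has a linear constituent; on elements where the character is a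
scalar of norm one, the constituent takes that scalar value -/
theorem exists_linear {H : Type*} [Group H] [Finite H] (p : ℕ) [Fact p.Prime]
    (M : Ideal Cfsg.AlgInt) (hM : Cfsg.IsPModular p M) (θ : H → ℂ) (hθ : Cfsg.IsCharacter H θ)
    (g : H) (hg : ∀ x : H, x * g = g * x) (hval : ¬ Cfsg.MemLocalIdeal M (θ g))
    (hidx : ∃ k : ℕ, (Subgroup.center H).index = p ^ k) :
    ∃ ψ : Cfsg.IrrCharacter H, ψ.1 1 = 1 ∧
      ∀ (z : H) (c : ℂ), ‖c‖ = 1 → θ z = θ 1 * c → ψ.1 z = c := by
  classical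
  have hp : p.Prime := Fact.out
  have hMp := isPModular_isPrime hM
  obtain ⟨n, ρ, rfl⟩ := hθ
  obtain ⟨l, hl⟩ := exists_irr_list (Fin n → ℂ) ρ
  have E1 : ∀ h : H, ρ.character h = ∑ ψ' ∈ l.toFinset, (l.count ψ' : ℂ) * ψ'.1 h := by
    intro h
    rw [hl, Finset.sum_list_map_count, Finset.sum_apply]
    apply Finset.sum_congr rfl
    intro ψ' _
    rw [Pi.smul_apply, nsmul_eq_mul]
    congr!
  have hren : ∀ (m : ℕ) (w : ℂ), ((m : ℂ) * w).re = (m : ℝ) * w.re := by
    intro m w
    simp
  -- a constituent of degree prime to p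
  have hex : ∃ ψ ∈ l, ¬ p ∣ Cfsg.charDegree ψ.1 := by
    by_contra hcon
    push Not at hcon
    apply hval
    rw [E1 g]
    apply memLocalIdeal_sum hMp
    intro ψ' hψ'
    have hdvd := hcon ψ' (List.mem_toFinset.mp hψ')
    obtain ⟨k, hk⟩ := hdvd
    have hcent : Subgroup.centralizer ({g} : Set H) = ⊤ := by
      rw [eq_top_iff]
      intro x _
      rw [Subgroup.mem_centralizer_iff]
      intro y hy
      rw [Set.mem_singleton_iff] at hy
      rw [hy]
      exact (hg x).symm
    have hint := centralChar_isIntegral ψ'.2 g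
    unfold Cfsg.centralChar at hint
    rw [hcent, Subgroup.index_top, Nat.cast_one, one_mul] at hint
    have h1 : ψ'.1 g = (p : ℂ) * ((k : ℂ) * (ψ'.1 g / ψ'.1 1)) := by
      have h2 := charDegree_cast ψ'
      rw [hk] at h2
      push_cast at h2
      have h3 := irr_one_ne_zero ψ'
      rw [← h2]
      rw [← h2] at h3
      have hp0 : (p : ℂ) ≠ 0 := left_ne_zero_of_mul h3
      have hk0 : (k : ℂ) ≠ 0 := right_ne_zero_of_mul h3
      field_simp
    rw [h1]
    apply memLocalIdeal_mul_left hMp (memLocalRing_natCast hMp.ne_top _)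
    apply memLocalIdeal_mul_right hMp ((memLocalIdeal_natCast_iff hM p).mpr dvd_rfl)
    exact memLocalRing_mul hMp (memLocalRing_natCast hMp.ne_top _)
      (memLocalRing_of_isIntegral hMp.ne_top hint)
  obtain ⟨ψ, hψl, hψp⟩ := hex
  -- its degree is one
  have hψ1 : ψ.1 1 = 1 := by
    obtain ⟨m, σ, hirr, hσ⟩ := ψ.2
    have hdeg : Cfsg.charDegree ψ.1 = m := by rw [← hσ]; exact charDegree_rep m σ
    have := hirr
    have hdvd := genrep_finrank_dvd_index_center σ
    obtain ⟨k, hk⟩ := hidx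
    rw [hk, Module.finrank_fin_fun] at hdvd
    have hcop : Nat.Coprime m (p ^ k) := by
      apply Nat.Coprime.pow_right
      rw [Nat.coprime_comm]
      rw [hdeg] at hψp
      exact (Nat.Prime.coprime_iff_not_dvd hp).mpr hψp
    have hm1 : m = 1 := Nat.Coprime.eq_one_of_dvd hcop hdvd
    rw [← charDegree_cast ψ, hdeg, hm1, Nat.cast_one]
  refine ⟨ψ, hψ1, ?_⟩
  intro z c hc hz
  have hcc : c * conj c = 1 := by
    rw [Complex.mul_conj, Complex.normSq_eq_norm_sq, hc]
    simp
  have hA := E1 1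
  have hB := E1 z
  have hsum : ∑ ψ' ∈ l.toFinset, ((l.count ψ' : ℂ) * (ψ'.1 z * conj c)).re
      = ∑ ψ' ∈ l.toFinset, ((l.count ψ' : ℂ) * ψ'.1 1).re := by
    rw [← Complex.re_sum, ← Complex.re_sum, ← hA]
    have e : ∑ ψ' ∈ l.toFinset, (l.count ψ' : ℂ) * (ψ'.1 z * conj c)
        = ρ.character z * conj c := by
      rw [hB, Finset.sum_mul]
      apply Finset.sum_congr rfl
      intro ψ' _
      ring
    rw [e, hz, mul_assoc, hcc, mul_one]
  have hle : ∀ ψ' ∈ l.toFinset, ((l.count ψ' : ℂ) * (ψ'.1 z * conj c)).re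
      ≤ ((l.count ψ' : ℂ) * ψ'.1 1).re := by
    intro ψ' _
    rw [hren, hren]
    apply mul_le_mul_of_nonneg_left _ (Nat.cast_nonneg _)
    calc (ψ'.1 z * conj c).re ≤ ‖ψ'.1 z * conj c‖ := Complex.re_le_norm _
      _ = ‖ψ'.1 z‖ := by rw [norm_mul, Complex.norm_conj, hc, mul_one]
      _ ≤ (ψ'.1 1).re := isCharacter_norm_le (isCharacter_of_isIrrCharacter ψ'.2) z
  have heq := (Finset.sum_eq_sum_iff_of_le hle).mp hsum ψ (List.mem_toFinset.mpr hψl)
  rw [hren, hren] at heq
  have hcnt : (0 : ℝ) < (l.count ψ : ℝ) := by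
    exact_mod_cast List.count_pos_iff.mpr hψl
  have hre : (ψ.1 z * conj c).re = 1 := by
    have := mul_left_cancel₀ hcnt.ne' heq
    rw [this, hψ1]
    simp
  have hnorm : ‖ψ.1 z * conj c‖ ≤ 1 := by
    rw [norm_mul, Complex.norm_conj, hc, mul_one]
    have := isCharacter_norm_le (isCharacter_of_isIrrCharacter ψ.2) z
    rw [hψ1] at this
    simpa using this
  have hw : ψ.1 z * conj c = 1 := by
    apply Complex.ext
    · rw [hre]; rfl
    · have h1 : ‖ψ.1 z * conj c‖ ^ 2 ≤ 1 := by
        have h0 := norm_nonneg (ψ.1 z * conj c)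
        nlinarith
      rw [← Complex.normSq_eq_norm_sq, Complex.normSq_apply, hre] at h1
      have h2 : (ψ.1 z * conj c).im * (ψ.1 z * conj c).im ≤ 0 := by linarith
      have h3 : (ψ.1 z * conj c).im = 0 := by nlinarith [mul_self_nonneg (ψ.1 z * conj c).im]
      rw [h3]; rfl
  calc ψ.1 z = ψ.1 z * (conj c * c) := by rw [mul_comm (conj c) c, hcc, mul_one]
    _ = (ψ.1 z * conj c) * c := by ring
    _ = c := by rw [hw, one_mul]

/-- Let p be a prime, G a finite group and B a p-block of G (relative to a maximal ideal M of the algebraic integers containing p) with defect group D. Let Z be a central p-subgroup of G contained in D and λ a linear character of Z (a homomorphism to the nonzero complex numbers). Say an irreducible character χ of G lies over λ when χ(z) = χ(1)λ(z) for all z ∈ Z. If some irreducible character in B lying over λ has height zero, then λ extends to a linear character of D. -/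
theorem result {G : Type*} [Group G] [Finite G] (p : ℕ) [Fact p.Prime] (M : Ideal Cfsg.AlgInt) (hM : Cfsg.IsPModular p M) (B : Set (Cfsg.IrrCharacter G)) (hB : Cfsg.IsPBlock M B) (D : Subgroup G) (hD : Cfsg.IsDefectGroup p M B D) (Z : Subgroup G) (hZc : Z ≤ Subgroup.center G) (hZp : IsPGroup p ↥Z) (hZD : Z ≤ D) (lam : ↥Z →* ℂˣ) (χ : Cfsg.IrrCharacter G) (hχ : χ ∈ B) (hover : (∀ z : ↥Z, (χ : G → ℂ) z = (χ : G → ℂ) 1 * (lam z : ℂ))) (h0 : Cfsg.blockHeight p B (χ : G → ℂ) = 0) : (∃ μ : ↥D →* ℂˣ, ∀ z : ↥Z, μ ⟨(z : G), hZD z.2⟩ = lam z) := by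
  classical
  have := Fintype.ofFinite G
  have := Fintype.ofFinite (Cfsg.IrrCharacter G)
  have hp : p.Prime := Fact.out
  have hMp := isPModular_isPrime hM
  obtain ⟨χ₀, rfl⟩ := hB
  obtain ⟨g₀, hg₀, P₀, hDeq⟩ := hD
  have hval := val_not_mem p M hM χ₀ g₀ hg₀ χ hχ h0
  have hDp : IsPGroup p D := by rw [hDeq]; exact sylow_map_isPGroup _ P₀
  have hDg : D ≤ Subgroup.centralizer ({g₀} : Set G) := by rw [hDeq]; exact sylow_map_le _ P₀
  obtain ⟨H, hH⟩ : ∃ H : Subgroup G, H = D ⊔ Subgroup.zpowers g₀ := ⟨_, rfl⟩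
  have hDH : D ≤ H := by rw [hH]; exact le_sup_left
  have hgH : g₀ ∈ H := by rw [hH]; exact (le_sup_right : Subgroup.zpowers g₀ ≤ _) (Subgroup.mem_zpowers g₀)
  have hHle : H ≤ Subgroup.centralizer ({g₀} : Set G) := by
    rw [hH]
    refine sup_le hDg ?_
    rw [Subgroup.zpowers_le]
    rw [mem_centralizer_singleton_comm]
  have hcen : ∀ x : H, x * (⟨g₀, hgH⟩ : H) = ⟨g₀, hgH⟩ * x := by
    intro x
    apply Subtype.ext
    have := mem_centralizer_singleton_comm.mp (hHle x.2)
    exact this.symm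
  -- the centre of H has p-power index
  have hidx : ∃ k : ℕ, (Subgroup.center H).index = p ^ k := by
    have htop : Subgroup.center H ⊔ D.subgroupOf H = ⊤ := by
      rw [eq_top_iff]
      intro x _
      have hx : (x : G) ∈ ((Subgroup.center H ⊔ D.subgroupOf H).map H.subtype) := by
        have hle : D ⊔ Subgroup.zpowers g₀
            ≤ (Subgroup.center H ⊔ D.subgroupOf H).map H.subtype := by
          refine sup_le ?_ ?_
          · intro d hd
            exact ⟨⟨d, hDH hd⟩, (le_sup_right : D.subgroupOf H ≤ _)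
              (by rw [Subgroup.mem_subgroupOf]; exact hd), rfl⟩
          · rw [Subgroup.zpowers_le]
            refine ⟨⟨g₀, hgH⟩, (le_sup_left : Subgroup.center H ≤ _) ?_, rfl⟩
            rw [Subgroup.mem_center_iff]
            intro y
            exact hcen y
        exact hle (by rw [← hH]; exact x.2)
      obtain ⟨y, hy, hyx⟩ := hx
      have : y = x := Subtype.ext hyx
      rw [← this]
      exact hy
    have h1 : (Subgroup.center H).relIndex (Subgroup.center H ⊔ D.subgroupOf H)
        = (Subgroup.center H).relIndex (D.subgroupOf H) := Subgroup.relIndex_sup_left _ _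
    rw [htop, Subgroup.relIndex_top_right] at h1
    have h2 : (Subgroup.center H).relIndex (D.subgroupOf H) ∣ Nat.card (D.subgroupOf H) :=
      Subgroup.relIndex_dvd_card _ _
    obtain ⟨d, hd⟩ := (IsPGroup.iff_card.mp (hDp.comap_subtype (K := H)))
    have h3 : Nat.card (D.subgroupOf H) = p ^ d := hd
    rw [h3, ← h1] at h2
    obtain ⟨k, -, hk⟩ := (Nat.dvd_prime_pow hp).mp h2
    exact ⟨k, hk⟩
  obtain ⟨ψ, hψ1, hψz⟩ := exists_linear p M hM (fun x : H => χ.1 x)
    (isCharacter_restrict (isCharacter_of_isIrrCharacter χ.2) H) ⟨g₀, hgH⟩ hcen hval hidx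
  refine ⟨(linHom ψ hψ1).toHomUnits.comp (Subgroup.inclusion hDH), ?_⟩
  intro z
  apply Units.ext
  rw [MonoidHom.comp_apply, MonoidHom.coe_toHomUnits]
  show ψ.1 (Subgroup.inclusion hDH ⟨(z : G), hZD z.2⟩) = (lam z : ℂ)
  apply hψz
  · have h1 : (lam z) ^ orderOf z = 1 := by rw [← map_pow, pow_orderOf_eq_one, map_one]
    have h2 : ((lam z : ℂˣ) : ℂ) ^ orderOf z = 1 := by
      rw [← Units.val_pow_eq_pow_val, h1, Units.val_one]
    exact Complex.norm_eq_one_of_pow_eq_one h2 (orderOf_pos z).ne'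
  · exact hover z

end Cfsg.Agent.S5001
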