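import Cfsg.Statements.S5088
import Cfsg.Agent.Lib.helper25.FusionStab

set_option autoImplicit false
open Cfsg

namespace Cfsg.Agent.S5088

open Cfsg.FusionSystem
open scoped commutatorElement

/-- In a saturated fusion system over a finite p-group, a subgroup Q is normal in the system if and only if there is a chain of subgroups 1 = Q₀ ≤ Q₁ ≤ ⋯ ≤ Qₙ = Q such that each Qᵢ with i ≥ 1 is strongly closed in the system and [Q, Qᵢ] ≤ Qᵢ₋₁. -/
theorem result {Ω : Type*} [Group Ω] {S : Subgroup Ω} [Finite S] (p : ℕ) [Fact p.Prime] (hS : IsPGroup p S) (F : Cfsg.FusionSystem S) (hF : F.IsSaturated p) (Q : Subgroup Ω) : F.IsNormal Q ↔ ∃ (n : ℕ) (Qs : Fin (n + 1) → Subgroup Ω), Qs 0 = ⊥ ∧ Qs (Fin.last n) = Q ∧ Monotone Qs ∧ ∀ i : Fin n, F.StronglyClosed (Qs i.succ) ∧ ⁅Q, Qs i.succ⁆ ≤ Qs (Fin.castSucc i) := by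
  constructor
  · intro hQ
    have hQS : Q ≤ S := hQ.1
    have hfin : Finite Q := Cfsg.Agent.Lib.helper26.finite_of_le hQS
    have hnil : Group.IsNilpotent Q := (hS.to_le hQS).isNilpotent
    obtain ⟨n, hn⟩ := hnil.nilpotent'
    refine ⟨n, fun i => (Subgroup.upperCentralSeries Q (i : ℕ)).map Q.subtype, ?_, ?_, ?_, ?_⟩
    · simp
    · show (Subgroup.upperCentralSeries Q ((Fin.last n : Fin (n + 1)) : ℕ)).map Q.subtype = Q
      rw [Fin.val_last, hn, ← MonoidHom.range_eq_map, Subgroup.range_subtype]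
    · intro i j hij
      exact Subgroup.map_mono (Subgroup.upperCentralSeries_mono Q hij)
    · intro i
      refine ⟨Cfsg.Agent.Lib.helper25.stronglyClosed_of_characteristic F hQ _, ?_⟩
      rw [Subgroup.commutator_le]
      rintro g₁ hg₁ _ ⟨z, hz, rfl⟩
      have h1 : ⁅z, (⟨g₁, hg₁⟩ : Q)⁆ ∈ Subgroup.upperCentralSeries Q (i : ℕ) :=
        (Subgroup.mem_upperCentralSeries_succ_iff).1 hz ⟨g₁, hg₁⟩
      have h2 : ⁅(⟨g₁, hg₁⟩ : Q), z⁆ ∈ Subgroup.upperCentralSeries Q (i : ℕ) := by
        rw [← commutatorElement_inv]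
        exact Subgroup.inv_mem _ h1
      exact ⟨_, h2, rfl⟩
  · rintro ⟨n, Qs, h0, hlast, -, hstep⟩
    rcases Nat.eq_zero_or_pos n with hn0 | hnpos
    · subst hn0
      have : Q = ⊥ := by
        rw [← hlast, ← h0]
        rfl
      rw [this]
      exact Cfsg.Agent.Lib.helper25.isNormal_bot F
    have hsc : F.StronglyClosed Q := by
      have h1 := (hstep ⟨n - 1, by omega⟩).1
      have h2 : (⟨n - 1, by omega⟩ : Fin n).succ = Fin.last n := by
        apply Fin.ext
        simp only [Fin.val_succ, Fin.val_last]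
        omega
      rw [h2, hlast] at h1
      exact h1
    apply Cfsg.Agent.Lib.helper25.isNormal_of_stronglyClosed_of_mem hS F hF hsc
    intro P hcen hrad t htQ htN
    have hPS : P ≤ S := hcen.1
    apply Cfsg.Agent.Lib.helper25.mem_of_stab_chain hS F hcen hrad (n + 1)
      (fun i => if h : i < n + 1 then Qs ⟨i, h⟩ else ⊤) ⊤ inferInstance (t := t) (ht := htN)
    · intro a _ m _ _ x hx
      have hx' : (x : Ω) ∈ Qs ⟨0, by omega⟩ := by simpa using hx
      have hx1 : (x : Ω) ∈ (⊥ : Subgroup Ω) := by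
        rw [← h0]
        exact hx'
      have hx2 : x = 1 := Subtype.ext (Subgroup.mem_bot.1 hx1)
      rw [hx2, map_one]
    · intro x
      simp
    · intro i β hβ x hx
      by_cases hi : i < n + 1
      · simp only [dif_pos hi] at hx ⊢
        rcases Nat.eq_zero_or_pos i with hi0 | hipos
        · subst hi0
          have hx1 : (x : Ω) ∈ (⊥ : Subgroup Ω) := by
            rw [← h0]
            exact hx
          have hx2 : x = 1 := Subtype.ext (Subgroup.mem_bot.1 hx1)
          rw [hx2, map_one]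
          exact Subgroup.one_mem _
        · have h1 := (hstep ⟨i - 1, by omega⟩).1
          have h2 : (⟨i - 1, by omega⟩ : Fin n).succ = ⟨i, hi⟩ := by
            apply Fin.ext
            simp only [Fin.val_succ]
            omega
          rw [h2] at h1
          exact Cfsg.Agent.Lib.helper26.stronglyClosed_aut_mem F h1
            ((Cfsg.Agent.Lib.helper26.mem_autGroup_iff F hPS β).1 hβ) hx
      · simp only [dif_neg hi]
        exact Subgroup.mem_top _
    · intro _
      exact Subgroup.mem_top _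
    · intro i hi x hx
      by_cases hin : i < n
      · have hi1 : i + 1 < n + 1 := by omega
        simp only [dif_pos hi1] at hx
        simp only [dif_pos hi]
        have h1 := (hstep ⟨i, hin⟩).2
        have h2 : ⁅(x : Ω)⁻¹, t⁆ ∈ ⁅Qs (⟨i, hin⟩ : Fin n).succ, Q⁆ :=
          Subgroup.commutator_mem_commutator (Subgroup.inv_mem _ hx) htQ
        rw [Subgroup.commutator_comm] at h2
        have h3 := h1 h2
        have h4 : ⁅(x : Ω)⁻¹, t⁆ = (x : Ω)⁻¹ * (t * x * t⁻¹) := by
          rw [commutatorElement_def]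
          group
        rw [h4] at h3
        exact h3
      · have hin' : i = n := by omega
        subst hin'
        simp only [dif_pos hi]
        have h1 : Qs ⟨i, hi⟩ = Q := hlast
        rw [h1]
        have h2 := Cfsg.Agent.Lib.helper26.stronglyClosed_conj_mem F hsc
          (S.inv_mem (hPS x.2)) htQ
        have h3 : (x : Ω)⁻¹ * (t * x * t⁻¹) = ((x : Ω)⁻¹ * t * (x : Ω)⁻¹⁻¹) * t⁻¹ := by group
        rw [h3]
        exact Q.mul_mem h2 (Q.inv_mem htQ)

end Cfsg.Agent.S5088
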