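import Cfsg.Statements.S5185
-- import your own Cfsg.Agent.* helpers here
import Cfsg.Agent.Lib.helper26.SL2
import Cfsg.Agent.Lib.helper25.FusionRadical

set_option autoImplicit false
universe u
open Cfsg

namespace Cfsg.Agent.S5185

section
open Cfsg.Agent.Lib.helper26 Cfsg Cfsg.FusionSystem

theorem main {Ω : Type u} [Group Ω] {S : Subgroup Ω} [Finite S] (p : ℕ) [Fact p.Prime] (hS : IsPGroup p S)
    (F : Cfsg.FusionSystem S) (H : Subgroup Ω) (hH : F.IsEssential p H) (hcard : Nat.card H = p ^ 2) :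
    Cfsg.IsElementaryAbelian p H ∧
      ∃ K : Subgroup ↥(F.autGroup H), Nonempty (↥K ≃* Matrix.SpecialLinearGroup (Fin 2) (ZMod p)) := by
  have hrad := Cfsg.Agent.Lib.helper25.isRadical_of_isEssential hS F hH
  obtain ⟨hcen, hfn, hInn, E, hdvd, hEtop, T, hT⟩ := hH
  have hHS : H ≤ S := hfn.1
  haveI : Finite H := finite_of_le hHS
  have hcomm : ∀ a b : H, a * b = b * a :=
    (IsPGroup.isMulCommutative_of_card_eq_prime_sq hcard).is_comm.comm
  have hInnbot : Inn H = ⊥ := by
    rw [eq_bot_iff]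
    rintro _ ⟨g, rfl⟩
    rw [Subgroup.mem_bot]
    ext x
    simp [MulAut.conj_apply, hcomm g x]
  have hcore : pCore p (F.autGroup H) = ⊥ := by
    have := hrad.2
    rw [hInnbot] at this
    exact (Subgroup.map_eq_bot_iff_of_injective _ (Subgroup.subtype_injective _)).1 this
  have hdvd' : p ∣ Nat.card (F.autGroup H) := by
    rw [Subgroup.card_eq_card_quotient_mul_card_subgroup ((Inn H).subgroupOf (F.autGroup H))]
    exact Dvd.dvd.mul_right hdvd _
  obtain ⟨h1, h2, h3⟩ := sl2_of_aut p hcard (F.autGroup H) hdvd' hcore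
  refine ⟨⟨⟨⟨fun a b => h1 a b⟩⟩, fun a ha => ?_⟩, h3⟩
  have := h2 ⟨a, ha⟩
  exact congrArg Subtype.val this

end

/-- Let F be a saturated fusion system over a finite p-group S and H an essential subgroup of order p². Then H is elementary abelian (isomorphic to C_p × C_p) and its F-automorphism group contains a subgroup isomorphic to SL(2,p). -/
theorem result {Ω : Type u} [Group Ω] {S : Subgroup Ω} [Finite S] (p : ℕ) [Fact p.Prime] (hS : IsPGroup p S)
    (F : Cfsg.FusionSystem S) (hF : F.IsSaturated p) (H : Subgroup Ω) (hH : F.IsEssential p H) (hcard : Nat.card H = p ^ 2) :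
    Cfsg.IsElementaryAbelian p H ∧
      ∃ K : Subgroup ↥(F.autGroup H), Nonempty (↥K ≃* Matrix.SpecialLinearGroup (Fin 2) (ZMod p)) := by
  exact main p hS F H hH hcard

end Cfsg.Agent.S5185
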