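import Cfsg.Statements.S5186
-- import your own Cfsg.Agent.* helpers here
import Cfsg.Agent.Lib.helper26.PChain
import Cfsg.Agent.Lib.helper26.OrderP3
import Cfsg.Agent.Lib.helper25.FusionRadical

set_option autoImplicit false
universe u
open Cfsg

namespace Cfsg.Agent.S5186

section
open Cfsg.Agent.Lib.helper26 Cfsg Cfsg.FusionSystem

theorem main {Ω : Type u} [Group Ω] {S : Subgroup Ω} [Finite S] (p : ℕ) [Fact p.Prime]
    (hS : IsPGroup p S)
    (F : Cfsg.FusionSystem S) (hF : F.IsSaturated p) (H : Subgroup Ω) (hH : F.IsEssential p H)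
    (hcard : Nat.card H = p ^ 3) :
    Cfsg.IsElementaryAbelian p H ∨ (Odd p ∧ Cfsg.IsExtraspecial p ↥H ∧ ∀ x ∈ H, x ^ p = 1) ∨
      (p = 2 ∧ Nonempty (↥H ≃* QuaternionGroup 2)) := by
  obtain ⟨hHS, hrad⟩ := Cfsg.Agent.Lib.helper25.isRadical_of_isEssential hS F hH
  obtain ⟨hcen, hfn, hInn, E, hdvd, hEtop, T, hT⟩ := hH
  haveI : Finite H := finite_of_le hHS
  haveI := hInn
  obtain ⟨a, k, hak, haN⟩ := exists_pelt_not_mem ((Inn H).subgroupOf (F.autGroup H)) hdvd
  rcases order_p3 hcard with h1 | h2 | h3 | ⟨L1, L2, hc1, hc2, h12, hcard1, hcard2⟩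
  · left
    exact ⟨⟨⟨h1.1⟩⟩, fun x hx => congrArg Subtype.val (h1.2 ⟨x, hx⟩)⟩
  · right; left
    exact ⟨h2.1, h2.2.1, fun x hx => congrArg Subtype.val (h2.2.2 ⟨x, hx⟩)⟩
  · right; right
    exact h3
  · exfalso
    haveI := hc1
    haveI := hc2
    have hA1 : ∀ b ∈ F.autGroup H, ∀ x ∈ L1, b x ∈ L1 := by
      intro b _ x hx
      have h := Subgroup.characteristic_iff_map_eq.1 hc1 b
      rw [← h]
      exact ⟨x, hx, rfl⟩
    have hA2 : ∀ b ∈ F.autGroup H, ∀ x ∈ L2, b x ∈ L2 := by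
      intro b _ x hx
      have h := Subgroup.characteristic_iff_map_eq.1 hc2 b
      rw [← h]
      exact ⟨x, hx, rfl⟩
    have hak' : (a : MulAut H) ^ p ^ k = 1 := by
      have := congrArg Subtype.val hak
      simpa using this
    have hmem := pelt_mem_pCore3 hcard (F.autGroup H) L1 L2 h12 hcard1 hcard2 hA1 hA2 a k hak'
    apply haN
    rw [Subgroup.mem_subgroupOf, ← hrad]
    exact ⟨a, hmem, rfl⟩
end

/-- Let F be a saturated fusion system over a finite p-group S and H an essential subgroup of order p³. Then H is elementary abelian, or p is odd and H is extraspecial of exponent p, or p = 2 and H is the quaternion group of order 8. -/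
theorem result {Ω : Type u} [Group Ω] {S : Subgroup Ω} [Finite S] (p : ℕ) [Fact p.Prime] (hS : IsPGroup p S)
    (F : Cfsg.FusionSystem S) (hF : F.IsSaturated p) (H : Subgroup Ω) (hH : F.IsEssential p H) (hcard : Nat.card H = p ^ 3) :
    Cfsg.IsElementaryAbelian p H ∨ (Odd p ∧ Cfsg.IsExtraspecial p ↥H ∧ ∀ x ∈ H, x ^ p = 1) ∨
      (p = 2 ∧ Nonempty (↥H ≃* QuaternionGroup 2)) := by
  exact main p hS F hF H hH hcard

end Cfsg.Agent.S5186
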