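import Cfsg.Statements.S5191
-- import your own Cfsg.Agent.* helpers here

set_option autoImplicit false
open Cfsg

namespace Cfsg.Agent.S5191

open scoped Pointwise in
theorem sylow_conj_aux {G : Type*} [Group G] [Finite G] {p : ℕ} [Fact p.Prime]
    (N : Subgroup G) [N.Normal] (S : Sylow p G) (P' : Subgroup G) (hP' : IsPGroup p P')
    (hle : P' ≤ (S : Subgroup G) ⊔ N) :
    ∃ n ∈ N, ∀ y ∈ P', n * y * n⁻¹ ∈ (S : Subgroup G) := by
  classical
  have hSK : (S : Subgroup G) ≤ (S : Subgroup G) ⊔ N := le_sup_left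
  let P'' : Subgroup ((S : Subgroup G) ⊔ N : Subgroup G) := P'.subgroupOf _
  have hP'' : IsPGroup p P'' := hP'.comap_subtype
  obtain ⟨Q, hQ⟩ := hP''.exists_le_sylow
  obtain ⟨k, hk⟩ := MulAction.exists_smul_eq ((S : Subgroup G) ⊔ N : Subgroup G) Q (S.subtype hSK)
  have hkey : ∀ y ∈ P', (k : G) * y * (k : G)⁻¹ ∈ (S : Subgroup G) := by
    intro y hy
    have hyK : y ∈ (S : Subgroup G) ⊔ N := hle hy
    have h1 : (⟨y, hyK⟩ : ((S : Subgroup G) ⊔ N : Subgroup G)) ∈ P'' := by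
      rw [Subgroup.mem_subgroupOf]
      exact hy
    have h2 := hQ h1
    have h3 : MulAut.conj k • (⟨y, hyK⟩ : ((S : Subgroup G) ⊔ N : Subgroup G)) ∈
        MulAut.conj k • (Q : Subgroup ((S : Subgroup G) ⊔ N : Subgroup G)) :=
      Subgroup.smul_mem_pointwise_smul _ _ _ h2
    have h4 : MulAut.conj k • (Q : Subgroup ((S : Subgroup G) ⊔ N : Subgroup G)) =
        ((S.subtype hSK : Sylow p ((S : Subgroup G) ⊔ N : Subgroup G)) : Subgroup _) := by
      rw [← hk]; rfl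
    rw [h4, Sylow.coe_subtype, Subgroup.mem_subgroupOf] at h3
    simpa using h3
  obtain ⟨s, hs, n, hn, hsn⟩ := Subgroup.mem_sup_of_normal_right.mp k.2
  refine ⟨n, hn, fun y hy => ?_⟩
  have h1 := hkey y hy
  rw [← hsn] at h1
  have h2 : n * y * n⁻¹ = s⁻¹ * (s * n * y * (s * n)⁻¹) * s := by group
  rw [h2]
  exact (S : Subgroup G).mul_mem ((S : Subgroup G).mul_mem ((S : Subgroup G).inv_mem hs) h1) hs

/-- Fusion in a finite group G and in its quotient by O_{p'}(G) agree. Let S be a Sylow p-subgroup of G, N = O_{p'}(G) and P ≤ S. If an element of G/N conjugates the image of P into the image of S, then some element g of G conjugates P into S and induces the same map on P modulo N. (Together with the injectivity of S → G/N this says that g ↦ gN induces an isomorphism of the fusion system of G on S with that of G/N on SN/N.) -/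
theorem result {G : Type*} [Group G] [Finite G] {p : ℕ} [Fact p.Prime]
    [hN : (Cfsg.pPrimeCore p G).Normal] (S : Sylow p G) (P : Subgroup G) (hP : P ≤ (S : Subgroup G))
    (γ : G ⧸ Cfsg.pPrimeCore p G)
    (hγ : ∀ x ∈ P, γ * QuotientGroup.mk x * γ⁻¹ ∈ ((S : Subgroup G).map (QuotientGroup.mk' (Cfsg.pPrimeCore p G)))) :
    ∃ g : G, ∀ x ∈ P, g * x * g⁻¹ ∈ S ∧
      (QuotientGroup.mk (g * x * g⁻¹) : G ⧸ Cfsg.pPrimeCore p G) = γ * QuotientGroup.mk x * γ⁻¹ := by
  obtain ⟨h, rfl⟩ := QuotientGroup.mk_surjective γ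
  have hSK : (S : Subgroup G) ≤ (S : Subgroup G) ⊔ Cfsg.pPrimeCore p G := le_sup_left
  have hNK : Cfsg.pPrimeCore p G ≤ (S : Subgroup G) ⊔ Cfsg.pPrimeCore p G := le_sup_right
  have hle : P.map (MulAut.conj h).toMonoidHom ≤ (S : Subgroup G) ⊔ Cfsg.pPrimeCore p G := by
    rintro _ ⟨x, hx, rfl⟩
    obtain ⟨s, hs, hsx⟩ := hγ x hx
    have h2 : (QuotientGroup.mk s : G ⧸ Cfsg.pPrimeCore p G) =
        QuotientGroup.mk h * QuotientGroup.mk x * (QuotientGroup.mk h)⁻¹ := hsx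
    have h1 : (QuotientGroup.mk (s⁻¹ * (h * x * h⁻¹)) : G ⧸ Cfsg.pPrimeCore p G) = 1 := by
      rw [QuotientGroup.mk_mul, QuotientGroup.mk_inv, h2]
      simp [mul_assoc]
    have h3 : s⁻¹ * (h * x * h⁻¹) ∈ Cfsg.pPrimeCore p G := (QuotientGroup.eq_one_iff _).mp h1
    have h4 : h * x * h⁻¹ = s * (s⁻¹ * (h * x * h⁻¹)) := by group
    show h * x * h⁻¹ ∈ _
    rw [h4]
    exact Subgroup.mul_mem _ (hSK hs) (hNK h3)
  have hPp : IsPGroup p (P.map (MulAut.conj h).toMonoidHom) := (S.isPGroup'.to_le hP).map _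
  obtain ⟨n, hn, hkey⟩ := sylow_conj_aux (Cfsg.pPrimeCore p G) S _ hPp hle
  refine ⟨n * h, fun x hx => ⟨?_, ?_⟩⟩
  · have h1 := hkey (h * x * h⁻¹) ⟨x, hx, rfl⟩
    have h2 : n * h * x * (n * h)⁻¹ = n * (h * x * h⁻¹) * n⁻¹ := by group
    rw [h2]; exact h1
  · have hn1 : (QuotientGroup.mk n : G ⧸ Cfsg.pPrimeCore p G) = 1 := (QuotientGroup.eq_one_iff _).mpr hn
    simp [QuotientGroup.mk_mul, hn1, mul_assoc]

end Cfsg.Agent.S5191
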