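import Cfsg.Statements.S5192
import Cfsg.Agent.Lib.helper7.FusTransfer
import Cfsg.Agent.Lib.helper25.FusionSat

set_option autoImplicit false
open Cfsg

namespace Cfsg.Agent.S5192

open Cfsg.FusionSystem Cfsg.Agent.Lib.helper25 Cfsg.Agent.Lib.helper7.Marks
open Cfsg.Agent.Lib.helper7.Biset Cfsg.Agent.Lib.helper7.CharBiset Cfsg.Agent.Lib.helper7.Yoshida

section Gen

variable {H : Type*} [Group H] {X : Type*} [MulAction (H × H) X]

theorem sg_conj (hfree : ∀ (s : H) (ω : X), ((1 : H), s) • ω = ω → s = 1) (u c : H) (y : Yq H X)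
    (hcu : c * u = u * c) (h : u • y = y) :
    u • (c • y) = c • y ∧
      (sg u (c • y))⁻¹ = (sg c y)⁻¹ * (sg u y)⁻¹ * ((sg c y)⁻¹)⁻¹ := by
  have h1 := sg_spec c y
  have h2 : rho (c • y) = ((c, (sg c y)⁻¹) : H × H) • rho y := by
    have h3 : ((c, (sg c y)⁻¹) : H × H) = ((1 : H), (sg c y)⁻¹) * ((c, (1 : H)) : H × H) := by
      ext <;> simp
    rw [h3, mul_smul, ← h1, smul_r_mul, inv_mul_cancel, smul_r_one]
  have h4 := sg_stab u y h
  have h6 := sg_unique hfree u ((sg c y)⁻¹ * (sg u y)⁻¹ * ((sg c y)⁻¹)⁻¹) (c • y) (by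
    rw [h2, smul_smul]
    have h5 : ((u, (sg c y)⁻¹ * (sg u y)⁻¹ * ((sg c y)⁻¹)⁻¹) : H × H) * (c, (sg c y)⁻¹) =
        (c, (sg c y)⁻¹) * (u, (sg u y)⁻¹) := by
      ext
      · exact hcu.symm
      · simp
    rw [h5, mul_smul, h4])
  exact ⟨h6.1, h6.2.symm⟩

theorem card_centralizer_le [Finite H]
    (hfree : ∀ (s : H) (ω : X), ((1 : H), s) • ω = ω → s = 1)
    (hlfree : ∀ (u : H) (ω : X), ((u, (1 : H)) : H × H) • ω = ω → u = 1) (u : H) (y : Yq H X)
    (hall : ∀ c ∈ Subgroup.centralizer ({u} : Set H), c • y = y) :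
    Nat.card (Subgroup.centralizer ({u} : Set H)) ≤
      Nat.card (Subgroup.centralizer ({(sg u y)⁻¹} : Set H)) := by
  have hu : u ∈ Subgroup.centralizer ({u} : Set H) := by
    rw [Subgroup.mem_centralizer_iff]
    intro h hh
    rw [Set.mem_singleton_iff.mp hh]
  have hst : ∀ c ∈ Subgroup.centralizer ({u} : Set H),
      ((c, (sg c y)⁻¹) : H × H) • rho y = rho y :=
    fun c hc => sg_stab c y (hall c hc)
  have hmem : ∀ c ∈ Subgroup.centralizer ({u} : Set H),
      (sg c y)⁻¹ ∈ Subgroup.centralizer ({(sg u y)⁻¹} : Set H) := by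
    intro c hc
    rw [Subgroup.mem_centralizer_iff]
    intro h hh
    rw [Set.mem_singleton_iff.mp hh]
    have hcu : u * c = c * u := (Subgroup.mem_centralizer_iff.mp hc) u rfl
    have h1 : ((c * u, (sg c y)⁻¹ * (sg u y)⁻¹) : H × H) • rho y = rho y := by
      have : ((c * u, (sg c y)⁻¹ * (sg u y)⁻¹) : H × H) = (c, (sg c y)⁻¹) * (u, (sg u y)⁻¹) := rfl
      rw [this, mul_smul, hst u hu, hst c hc]
    have h2 : ((c * u, (sg u y)⁻¹ * (sg c y)⁻¹) : H × H) • rho y = rho y := by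
      have : ((c * u, (sg u y)⁻¹ * (sg c y)⁻¹) : H × H) = (u, (sg u y)⁻¹) * (c, (sg c y)⁻¹) := by
        ext
        · exact hcu.symm
        · rfl
      rw [this, mul_smul, hst c hc, hst u hu]
    rw [(sg_unique hfree _ _ y h1).2, (sg_unique hfree _ _ y h2).2]
  apply Nat.card_le_card_of_injective (fun c : Subgroup.centralizer ({u} : Set H) =>
    (⟨(sg (c : H) y)⁻¹, hmem c c.2⟩ : Subgroup.centralizer ({(sg u y)⁻¹} : Set H)))
  intro c c' hcc
  have h1 : (sg (c : H) y)⁻¹ = (sg (c' : H) y)⁻¹ := congrArg Subtype.val hcc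
  have h2 := hst c c.2
  have h3 := hst c' c'.2
  rw [← h1] at h3
  have h4 : (((c : H)⁻¹ * (c' : H), (1 : H)) : H × H) • rho y = rho y := by
    have : (((c : H)⁻¹ * (c' : H), (1 : H)) : H × H) =
        ((c : H), (sg (c : H) y)⁻¹)⁻¹ * ((c' : H), (sg (c : H) y)⁻¹) := by
      ext <;> simp
    rw [this, mul_smul, h3, inv_smul_eq_iff, h2]
  have h5 := hlfree _ _ h4
  exact Subtype.ext (inv_mul_eq_one.mp h5)

end Gen

theorem even_card_of_no_fixed {C : Type*} [Group C] (hC : IsPGroup 2 C) {Y : Type*}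
    [MulAction C Y] [Fintype Y] (P : Y → Prop) [DecidablePred P]
    (hinv : ∀ (c : C) (y : Y), P y → P (c • y))
    (hno : ∀ y, P y → ∃ c : C, c • y ≠ y) : 2 ∣ (Finset.univ.filter P).card := by
  haveI : Fact (Nat.Prime 2) := ⟨Nat.prime_two⟩
  let M : SubMulAction C Y := ⟨{y | P y}, fun c {y} hy => hinv c y hy⟩
  have h1 := hC.card_modEq_card_fixedPoints (α := M)
  haveI : IsEmpty (MulAction.fixedPoints C M) := ⟨fun ⟨⟨y, hy⟩, hfix⟩ => by
    obtain ⟨c, hc⟩ := hno y hy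
    exact hc (congrArg Subtype.val (hfix c))⟩
  have h0 : Nat.card (MulAction.fixedPoints C M) = 0 := Nat.card_of_isEmpty
  rw [h0] at h1
  have h2 : Nat.card M = (Finset.univ.filter P).card := by
    rw [← Fintype.card_subtype, ← Nat.card_eq_fintype_card]
    rfl
  rw [← h2]
  exact (Nat.modEq_zero_iff_dvd).mp h1

open Classical in
/-- the sign homomorphism of a subgroup of index two -/
noncomputable def sgn {H : Type*} [Group H] (N : Subgroup H) (hN : N.index = 2) : H →* ℤˣ where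
  toFun u := if u ∈ N then 1 else -1
  map_one' := by simp [N.one_mem]
  map_mul' a b := by
    have h1 := Subgroup.mul_mem_iff_of_index_two hN (a := a) (b := b)
    by_cases ha : a ∈ N <;> by_cases hb : b ∈ N <;> simp [ha, hb, h1]

open Classical in
theorem sgn_of_mem {H : Type*} [Group H] (N : Subgroup H) (hN : N.index = 2) {u : H}
    (hu : u ∈ N) : sgn N hN u = 1 := by
  show (if u ∈ N then (1 : ℤˣ) else -1) = 1
  rw [if_pos hu]

open Classical in
theorem sgn_of_not_mem {H : Type*} [Group H] (N : Subgroup H) (hN : N.index = 2) {u : H}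
    (hu : u ∉ N) : sgn N hN u = -1 := by
  show (if u ∈ N then (1 : ℤˣ) else -1) = -1
  rw [if_neg hu]

section Fus

variable {Ω : Type*} [Group Ω] {S : Subgroup Ω}

theorem hyperfocal_le_focal (F : FusionSystem S) (p : ℕ) :
    F.hyperfocalSubgroup p ≤ F.focalSubgroup := by
  unfold FusionSystem.hyperfocalSubgroup FusionSystem.focalSubgroup
  apply Subgroup.closure_mono
  rintro y ⟨P, α, x, hP, -, rfl⟩
  exact ⟨P, P.subtype.comp (α : MulAut P).toMonoidHom, x,
    (Cfsg.Agent.Lib.helper26.mem_autGroup_iff F hP α).mp α.2, rfl⟩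

theorem range_zpowers {x : Ω} (φ : Subgroup.zpowers x →* Ω) :
    φ.range = Subgroup.zpowers (φ ⟨x, Subgroup.mem_zpowers x⟩) := by
  apply le_antisymm
  · rintro _ ⟨⟨a, ha⟩, rfl⟩
    obtain ⟨k, rfl⟩ := Subgroup.mem_zpowers_iff.mp ha
    have h1 : (⟨x ^ k, ha⟩ : Subgroup.zpowers x) =
        (⟨x, Subgroup.mem_zpowers x⟩ : Subgroup.zpowers x) ^ k := Subtype.ext rfl
    rw [h1, map_zpow]
    exact Subgroup.zpow_mem_zpowers _ k
  · exact Subgroup.zpowers_le.mpr ⟨_, rfl⟩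

theorem isConj_of_ce (F : FusionSystem S) {x y : Ω} (h : F.IsConjElt x y) :
    F.IsConj (Subgroup.zpowers x) (Subgroup.zpowers y) := by
  obtain ⟨φ, hφ, rfl⟩ := h
  exact ⟨φ, hφ, range_zpowers φ⟩

theorem card_normalizerIn_le [Finite S] (j : ↥S) (hj2 : orderOf (j : Ω) = 2) :
    Nat.card (normalizerIn S (Subgroup.zpowers (j : Ω))) ≤
      Nat.card (Subgroup.centralizer ({j} : Set ↥S)) := by
  have hmem : ∀ x : normalizerIn S (Subgroup.zpowers (j : Ω)), (x : Ω) ∈ S :=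
    fun x => (Subgroup.mem_inf.mp x.2).1
  have hcomm : ∀ x : normalizerIn S (Subgroup.zpowers (j : Ω)),
      (⟨(x : Ω), hmem x⟩ : ↥S) ∈ Subgroup.centralizer ({j} : Set ↥S) := by
    intro x
    rw [Subgroup.mem_centralizer_iff]
    intro h hh
    rw [Set.mem_singleton_iff.mp hh]
    apply Subtype.ext
    show (j : Ω) * (x : Ω) = (x : Ω) * (j : Ω)
    have hx := (Subgroup.mem_inf.mp x.2).2
    have h1 : (x : Ω) * (j : Ω) * (x : Ω)⁻¹ ∈ Subgroup.zpowers (j : Ω) :=
      (Subgroup.mem_normalizer_iff.mp hx _).mp (Subgroup.mem_zpowers _)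
    obtain ⟨k, hk⟩ := Subgroup.mem_zpowers_iff.mp h1
    have h2 : (j : Ω) ^ k = (j : Ω) ^ (k % 2) := by
      have := zpow_mod_orderOf (j : Ω) k
      rw [hj2] at this
      exact this.symm
    rcases Int.emod_two_eq_zero_or_one k with h3 | h3
    · rw [h2, h3, zpow_zero] at hk
      exfalso
      have h4 : (j : Ω) = 1 := by
        have h5 := hk.symm
        simpa using h5
      rw [h4, orderOf_one] at hj2
      exact absurd hj2 (by norm_num)
    · rw [h2, h3, zpow_one] at hk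
      calc (j : Ω) * (x : Ω) = (x : Ω) * (j : Ω) * (x : Ω)⁻¹ * (x : Ω) := by rw [← hk]
        _ = (x : Ω) * (j : Ω) := by group
  exact Nat.card_le_card_of_injective
    (fun x => (⟨⟨(x : Ω), hmem x⟩, hcomm x⟩ : Subgroup.centralizer ({j} : Set ↥S)))
    (fun x x' hxx => by
      have h1 := congrArg (fun z : Subgroup.centralizer ({j} : Set ↥S) => ((z : ↥S) : Ω)) hxx
      exact Subtype.ext h1)

theorem card_centralizer_le_normalizerIn [Finite S] (w : ↥S) :
    Nat.card (Subgroup.centralizer ({w} : Set ↥S)) ≤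
      Nat.card (normalizerIn S (Subgroup.zpowers (w : Ω))) := by
  have hmem : ∀ c : Subgroup.centralizer ({w} : Set ↥S),
      ((c : ↥S) : Ω) ∈ normalizerIn S (Subgroup.zpowers (w : Ω)) := by
    intro c
    refine Subgroup.mem_inf.mpr ⟨(c : ↥S).2, ?_⟩
    have hcw : (w : Ω) * ((c : ↥S) : Ω) = ((c : ↥S) : Ω) * (w : Ω) :=
      congrArg Subtype.val ((Subgroup.mem_centralizer_iff.mp c.2) w rfl)
    have hall : ∀ h ∈ Subgroup.zpowers (w : Ω), ((c : ↥S) : Ω) * h * ((c : ↥S) : Ω)⁻¹ = h := by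
      intro h hh
      obtain ⟨k, rfl⟩ := Subgroup.mem_zpowers_iff.mp hh
      have hco : Commute ((c : ↥S) : Ω) ((w : Ω) ^ k) := Commute.zpow_right hcw.symm k
      rw [hco.eq, mul_inv_cancel_right]
    rw [Subgroup.mem_normalizer_iff]
    intro h
    constructor
    · intro hh
      rw [hall h hh]
      exact hh
    · intro hh
      have h1 := hall _ hh
      have h2 : ((c : ↥S) : Ω) * h * ((c : ↥S) : Ω)⁻¹ = h := by
        have h3 : ((c : ↥S) : Ω)⁻¹ * (((c : ↥S) : Ω) * (((c : ↥S) : Ω) * h * ((c : ↥S) : Ω)⁻¹) *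
            ((c : ↥S) : Ω)⁻¹) * ((c : ↥S) : Ω) =
            ((c : ↥S) : Ω)⁻¹ * (((c : ↥S) : Ω) * h * ((c : ↥S) : Ω)⁻¹) * ((c : ↥S) : Ω) := by
          rw [h1]
        have h4 : ((c : ↥S) : Ω)⁻¹ * (((c : ↥S) : Ω) * (((c : ↥S) : Ω) * h * ((c : ↥S) : Ω)⁻¹) *
            ((c : ↥S) : Ω)⁻¹) * ((c : ↥S) : Ω) = ((c : ↥S) : Ω) * h * ((c : ↥S) : Ω)⁻¹ := by group
        have h5 : ((c : ↥S) : Ω)⁻¹ * (((c : ↥S) : Ω) * h * ((c : ↥S) : Ω)⁻¹) * ((c : ↥S) : Ω) = h := by
          group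
        rw [h4, h5] at h3
        exact h3
      rw [← h2]
      exact hh
  exact Nat.card_le_card_of_injective
    (fun c => (⟨((c : ↥S) : Ω), hmem c⟩ : normalizerIn S (Subgroup.zpowers (w : Ω))))
    (fun c c' hcc => by
      have h1 := congrArg
        (fun z : normalizerIn S (Subgroup.zpowers (w : Ω)) => (z : Ω)) hcc
      exact Subtype.ext (Subtype.ext h1))

end Fus

/-- A Thompson-type transfer for saturated fusion systems. Let F be a saturated fusion system on a finite 2-group S, T a subgroup of S of index 2, and i an involution of S such that every fully normalized F-conjugate of i lies in S but outside T. Then i does not lie in the hyperfocal subgroup of F (the Sylow group of the 2-residual subsystem). -/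
theorem result {Ω : Type*} [Group Ω] [Finite Ω] {S : Subgroup Ω}
    (hS : IsPGroup 2 ↥S) (F : Cfsg.FusionSystem S) (hF : F.IsSaturated 2)
    (T : Subgroup Ω) (hTS : T ≤ S) (hT : T.relIndex S = 2)
    (i : Ω) (hi : i ∈ S) (hi2 : orderOf i = 2)
    (h : ∀ j : Ω, F.IsConjElt i j → F.IsFullyNormalized (Subgroup.zpowers j) → j ∉ T) :
    i ∉ F.hyperfocalSubgroup 2 := by
  classical
  haveI : Fact (Nat.Prime 2) := ⟨Nat.prime_two⟩
  intro hi_hyp
  have hi_foc : i ∈ F.focalSubgroup := hyperfocal_le_focal F 2 hi_hyp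
  obtain ⟨Q, ⟨φ, hφ, hφQ⟩, hQfn⟩ :=
    exists_fullyNormalized_isConj F (Subgroup.zpowers_le.mpr hi)
  obtain ⟨j, hj⟩ : ∃ j : Ω, j = φ ⟨i, Subgroup.mem_zpowers i⟩ := ⟨_, rfl⟩
  have hij : F.IsConjElt i j := ⟨φ, hφ, hj.symm⟩
  have hQ : Q = Subgroup.zpowers j := by
    rw [← hφQ, hj]
    exact range_zpowers φ
  rw [hQ] at hQfn
  have hjT : j ∉ T := h j hij hQfn
  have hjS : j ∈ S := (ce_mem F hij).2
  have hj2 : orderOf j = 2 := by rw [ce_order F hij, hi2]
  have hj_foc : j ∈ F.focalSubgroup := by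
    have h1 : i⁻¹ * j ∈ F.focalSubgroup :=
      Subgroup.subset_closure ⟨Subgroup.zpowers i, φ, ⟨i, Subgroup.mem_zpowers i⟩, hφ, by rw [hj]⟩
    have h2 := F.focalSubgroup.mul_mem hi_foc h1
    rwa [mul_inv_cancel_left] at h2
  have hlt : ∀ w : Ω, F.IsConjElt j w → w ∈ T →
      Nat.card (normalizerIn S (Subgroup.zpowers w)) <
        Nat.card (normalizerIn S (Subgroup.zpowers j)) := by
    intro w hjw hwT
    have hconj : F.IsConj (Subgroup.zpowers j) (Subgroup.zpowers w) := isConj_of_ce F hjw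
    have hle := hQfn.2 _ hconj
    rcases lt_or_eq_of_le hle with h1 | h1
    · exact h1
    · exfalso
      apply h w (ce_trans F hij hjw) _ hwT
      refine ⟨(isConj_le F hconj).2, fun Q' hQ' => ?_⟩
      rw [h1]
      exact hQfn.2 _ (isConj_trans F hconj hQ')
  obtain ⟨n, ha, ⟨m, hm, hpm⟩, hc, hd⟩ := exists_char_biset hS F hF
  have hfree := free_of_elt F n ha
  have hlfree : ∀ (u : ↥S) (ω : XS n), ((u, (1 : ↥S)) : ↥S × ↥S) • ω = ω → u = 1 := by
    intro u ω h1
    exact Subtype.ext (ce_one_right F (ha ω _ h1))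
  haveI : Fintype (Yq ↥S (XS n)) := Fintype.ofFinite _
  have hidx : (T.subgroupOf S).index = 2 := hT
  have hnorm : (T.subgroupOf S).Normal := Subgroup.normal_of_index_eq_two hidx
  obtain ⟨lam, hlam⟩ : ∃ lam : ↥S →* ℤˣ, lam = sgn (T.subgroupOf S) hidx := ⟨_, rfl⟩
  obtain ⟨j₀, hj₀⟩ : ∃ j₀ : ↥S, (j₀ : Ω) = j := ⟨⟨j, hjS⟩, rfl⟩
  have hj₀2 : j₀ ^ 2 = 1 := by
    apply Subtype.ext
    rw [Subgroup.coe_pow, hj₀, ← hj2]
    exact pow_orderOf_eq_one j
  have hV : tr hfree lam j₀ = 1 := tr_focal F n hfree hc lam j₀ (hj₀ ▸ hj_foc)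
  have hj₀C : j₀ ∈ Subgroup.centralizer ({j₀} : Set ↥S) := by
    rw [Subgroup.mem_centralizer_iff]
    intro h hh
    rw [Set.mem_singleton_iff.mp hh]
  obtain ⟨P2, hP2⟩ : ∃ P2 : Yq ↥S (XS n) → Prop,
      P2 = fun y => j₀ • y = y ∧ (sg j₀ y)⁻¹ ∉ T.subgroupOf S := ⟨_, rfl⟩
  have hinv : ∀ c ∈ Subgroup.centralizer ({j₀} : Set ↥S), ∀ y, P2 y → P2 (c • y) := by
    intro c hc y hy
    rw [hP2] at hy ⊢
    obtain ⟨hy1, hy2⟩ := hy
    have hcu : c * j₀ = j₀ * c := ((Subgroup.mem_centralizer_iff.mp hc) j₀ rfl).symm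
    obtain ⟨h1, h2⟩ := sg_conj hfree j₀ c y hcu hy1
    refine ⟨h1, ?_⟩
    rw [h2]
    intro h3
    apply hy2
    have h4 := hnorm.conj_mem _ h3 ((sg c y)⁻¹)⁻¹
    have h5 : ((sg c y)⁻¹)⁻¹ * ((sg c y)⁻¹ * (sg j₀ y)⁻¹ * ((sg c y)⁻¹)⁻¹) * (((sg c y)⁻¹)⁻¹)⁻¹ =
        (sg j₀ y)⁻¹ := by group
    rw [h5] at h4
    exact h4
  have hcoc : IsCoc (bc (X := XS n) lam) := bc_isCoc hfree lam
  have hprod2 : ∏ y ∈ Finset.univ.filter P2, bc lam j₀ y =
      (-1 : ℤˣ) ^ (Finset.univ.filter P2).card := by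
    apply Finset.prod_eq_pow_card
    intro y hy
    have hy2 := (Finset.mem_filter.mp hy).2
    rw [hP2] at hy2
    show (lam (sg j₀ y))⁻¹ = -1
    rw [← map_inv, hlam]
    exact sgn_of_not_mem _ hidx hy2.2
  have hprod1 : ∏ y ∈ Finset.univ.filter (fun y => ¬ P2 y), bc lam j₀ y = 1 := by
    apply pt_eval0 hcoc j₀ _ _ le_rfl
    · intro y hy
      rw [Finset.mem_filter] at hy ⊢
      refine ⟨Finset.mem_univ _, fun h1 => hy.2 ?_⟩
      have h2 := hinv j₀ hj₀C _ h1
      rwa [smul_smul, ← pow_two, hj₀2, one_smul] at h2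
    · intro y hy k hk hfix
      have hy' := (Finset.mem_filter.mp hy).2
      rcases Nat.even_or_odd k with ⟨r, hr⟩ | ⟨r, hr⟩
      · have h1 : j₀ ^ k = 1 := by rw [hr, ← two_mul, pow_mul, hj₀2, one_pow]
        rw [h1]
        exact coc_one hcoc y
      · have h1 : j₀ ^ k = j₀ := by rw [hr, pow_succ, pow_mul, hj₀2, one_pow, one_mul]
        rw [h1] at hfix ⊢
        have h2 : (sg j₀ y)⁻¹ ∈ T.subgroupOf S := by
          by_contra h3
          apply hy'
          rw [hP2]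
          exact ⟨hfix, h3⟩
        show (lam (sg j₀ y))⁻¹ = 1
        rw [← map_inv, hlam]
        exact sgn_of_mem _ hidx h2
  have hC2 : IsPGroup 2 (Subgroup.centralizer ({j₀} : Set ↥S)) := hS.to_subgroup _
  have heven : 2 ∣ (Finset.univ.filter (fun y : Yq ↥S (XS n) => ¬ P2 y)).card := by
    apply even_card_of_no_fixed hC2 (fun y : Yq ↥S (XS n) => ¬ P2 y)
    · intro c y hy h1
      apply hy
      have h2 := hinv (c : ↥S)⁻¹ (inv_mem c.2) _ h1
      rwa [Subgroup.smul_def, inv_smul_smul] at h2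
    · intro y hy
      by_contra hcon
      push Not at hcon
      have hall : ∀ c ∈ Subgroup.centralizer ({j₀} : Set ↥S), c • y = y :=
        fun c hc => hcon ⟨c, hc⟩
      have hfix : j₀ • y = y := hall j₀ hj₀C
      have hwT : (sg j₀ y)⁻¹ ∈ T.subgroupOf S := by
        by_contra h3
        apply hy
        rw [hP2]
        exact ⟨hfix, h3⟩
      have h1 := card_centralizer_le hfree hlfree j₀ y hall
      have hce : F.IsConjElt j (((sg j₀ y)⁻¹ : ↥S) : Ω) := by
        have := ha _ _ (sg_stab j₀ y hfix)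
        rw [← hj₀]
        exact this
      have h2 := hlt _ hce (Subgroup.mem_subgroupOf.mp hwT)
      have h3 := card_normalizerIn_le j₀ (hj₀ ▸ hj2)
      have h4 := card_centralizer_le_normalizerIn ((sg j₀ y)⁻¹ : ↥S)
      rw [hj₀] at h3
      omega
  have hY : Fintype.card (Yq ↥S (XS n)) = m := by
    have h1 := card_eq hfree
    rw [hm, mul_comm, Nat.card_eq_fintype_card (α := Yq ↥S (XS n))] at h1
    exact (Nat.eq_of_mul_eq_mul_right Nat.card_pos h1).symm
  have hsplit := Finset.card_filter_add_card_filter_not (s := (Finset.univ : Finset (Yq ↥S (XS n)))) P2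
  rw [Finset.card_univ, hY] at hsplit
  have hodd : Odd (Finset.univ.filter P2).card := by
    rw [Nat.odd_iff]
    omega
  have htr : tr hfree lam j₀ = -1 := by
    rw [tr_apply, ← Finset.prod_filter_mul_prod_filter_not Finset.univ P2, hprod1, hprod2,
      mul_one, hodd.neg_one_pow]
  rw [hV] at htr
  exact absurd htr (by decide)

end Cfsg.Agent.S5192
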