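import Cfsg.Statements.S5196
-- import your own Cfsg.Agent.* helpers here
import Cfsg.Agent.S5253

set_option autoImplicit false
universe u
open Cfsg

namespace Cfsg.Agent.S5196

section fus6

open Cfsg.FusionSystem
open Cfsg.Agent.Lib.helper26 (finite_of_le restrict_mem exists_iso_of_mem IsIso isConj_symm
  isConj_refl isConj_le_right isConj_card mem_autGroup_iff exists_extension_centralizer
  mem_normalizer_of_two_sided conjAut exists_fullyNormalized_conj isCentric_of_isConj
  exists_normalizerIn_not_mem le_extender centralizerIn_le_extender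
  centralizerIn_le_normalizerIn pCore_le_sylow)
open Cfsg.Agent.Lib.helper25 (alperin_goldschmidt_induction isNormal_of_essential_invariant
  isCentral_center le_normalizerIn_self normalizerSystem isNormalizerSystem_normalizerSystem
  normalizerSystem_saturated isNormal_of_isNormalizerSystem isCentric_of_isNormalizerSystem)
open Cfsg.Agent.S5253 (range_eq_of_into range_aut self_normalizerHom isCentric_self
  fix_of_normalizes W_normalizer normalizerIn_le_sup centric_sup_centralizer transport_fix)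

variable {Ω : Type u} [Group Ω] {S : Subgroup Ω}

theorem center_mem_comm [Finite S] (F : FusionSystem S) {z : Ω} (hz : z ∈ F.center) :
    z ∈ S ∧ ∀ s ∈ S, s * z = z * s := by
  have hc := isCentral_center F
  have hzS : z ∈ S := hc.1 hz
  refine ⟨hzS, fun s hs => ?_⟩
  have hφ : Cfsg.conjHom S s ∈ F.Hom S := F.conj_mem (P := S) (g := s) le_rfl hs
  obtain ⟨ψ, -, h1, h2⟩ := hc.2 S _ hφ
  have e1 := h1 ⟨z, hzS⟩
  have e2 := h2 ⟨z, hz⟩
  have e12 : (Subgroup.inclusion (le_sup_left : S ≤ S ⊔ F.center) ⟨z, hzS⟩) =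
      Subgroup.inclusion (le_sup_right : F.center ≤ S ⊔ F.center) ⟨z, hz⟩ := Subtype.ext rfl
  rw [e12, e2] at e1
  have e3 : z = s * z * s⁻¹ := by
    exact e1
  calc s * z = (s * z * s⁻¹) * s := by group
    _ = z * s := by rw [← e3]

theorem center_le_normalizer_center [Finite S] (F : FusionSystem S) {Q : Subgroup Ω}
    (hQS : Q ≤ S) (N : FusionSystem (normalizerIn S Q)) (hN : F.IsNormalizerSystem Q N) :
    F.center ≤ N.center := by
  have hc := isCentral_center F
  have hZN : F.center ≤ normalizerIn S Q := by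
    intro z hz
    obtain ⟨hzS, hzc⟩ := center_mem_comm F hz
    apply centralizerIn_le_normalizerIn S Q
    refine ⟨hzS, ?_⟩
    show z ∈ Subgroup.centralizer (Q : Set Ω)
    rw [Subgroup.mem_centralizer_iff]
    intro q hq
    exact hzc q (hQS hq)
  have hcen : N.IsCentral F.center := by
    refine ⟨hZN, fun P φ hφ => ?_⟩
    rw [hN P] at hφ
    obtain ⟨hφF, hPN, hφN, ψ₁, hψ₁, hagree₁, hmap₁⟩ := hφ
    obtain ⟨ψ₂, hψ₂, hagree₂, hfix₂⟩ := hc.2 (P ⊔ Q) ψ₁ hψ₁
    have hPle : P ≤ P ⊔ Q := le_sup_left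
    have hQle : Q ≤ P ⊔ Q := le_sup_right
    have hPQle : P ⊔ Q ≤ (P ⊔ Q) ⊔ F.center := le_sup_left
    have hZle : F.center ≤ (P ⊔ Q) ⊔ F.center := le_sup_right
    have hle1 : P ⊔ F.center ≤ (P ⊔ Q) ⊔ F.center := sup_le (hPle.trans hPQle) hZle
    have hle2 : (P ⊔ F.center) ⊔ Q ≤ (P ⊔ Q) ⊔ F.center := sup_le hle1 (hQle.trans hPQle)
    have hvP : ∀ (x : Ω) (hx : x ∈ P), ψ₂ ⟨x, hPQle (hPle hx)⟩ = φ ⟨x, hx⟩ := by
      intro x hx
      have h1 := hagree₂ ⟨x, hPle hx⟩
      have h2 := hagree₁ ⟨x, hx⟩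
      exact h1.trans h2
    have hvQ : ∀ (x : Ω) (hx : x ∈ Q), ψ₂ ⟨x, hPQle (hQle hx)⟩ = ψ₁ ⟨x, hQle hx⟩ := by
      intro x hx
      exact hagree₂ ⟨x, hQle hx⟩
    have hvZ : ∀ (x : Ω) (hx : x ∈ F.center), ψ₂ ⟨x, hZle hx⟩ = x := by
      intro x hx
      exact hfix₂ ⟨x, hx⟩
    refine ⟨ψ₂.comp (Subgroup.inclusion hle1), ?_, ?_, ?_⟩
    · rw [hN (P ⊔ F.center)]
      refine ⟨restrict_mem F hψ₂ hle1, sup_le hPN hZN, ?_, ψ₂.comp (Subgroup.inclusion hle2),
        restrict_mem F hψ₂ hle2, fun x => rfl, ?_⟩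
      · have hle : P ⊔ F.center ≤ ((normalizerIn S Q).comap
            (ψ₂.comp (Subgroup.inclusion hle1))).map (P ⊔ F.center).subtype := by
          apply sup_le
          · intro x hx
            refine ⟨⟨x, (le_sup_left : P ≤ P ⊔ F.center) hx⟩, Subgroup.mem_comap.2 ?_, rfl⟩
            show ψ₂ ⟨x, hPQle (hPle hx)⟩ ∈ _
            rw [hvP x hx]; exact hφN ⟨x, hx⟩
          · intro x hx
            refine ⟨⟨x, (le_sup_right : F.center ≤ P ⊔ F.center) hx⟩, Subgroup.mem_comap.2 ?_, rfl⟩
            show ψ₂ ⟨x, hZle hx⟩ ∈ _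
            rw [hvZ x hx]; exact hZN hx
        intro x
        obtain ⟨x', hx', hxx'⟩ := hle x.2
        have e1 : x = x' := Subtype.ext hxx'.symm
        rw [e1]; exact Subgroup.mem_comap.1 hx'
      · ext w
        constructor
        · rintro ⟨x, hx, rfl⟩
          have hxQ : (x : Ω) ∈ Q := Subgroup.mem_subgroupOf.1 hx
          have h2' : ψ₁ ⟨x, hQle hxQ⟩ ∈ (Q.subgroupOf (P ⊔ Q)).map ψ₁ :=
            ⟨⟨x, hQle hxQ⟩, Subgroup.mem_subgroupOf.2 hxQ, rfl⟩
          have h2 : ψ₁ ⟨x, hQle hxQ⟩ ∈ Q := by rw [hmap₁] at h2'; exact h2'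
          show ψ₂ ⟨x, hPQle (hQle hxQ)⟩ ∈ Q
          rw [hvQ x hxQ]; exact h2
        · intro hw
          rw [← hmap₁] at hw
          obtain ⟨x, hx, rfl⟩ := hw
          have hxQ : (x : Ω) ∈ Q := Subgroup.mem_subgroupOf.1 hx
          refine ⟨⟨x, (le_sup_right : Q ≤ (P ⊔ F.center) ⊔ Q) hxQ⟩,
            Subgroup.mem_subgroupOf.2 hxQ, ?_⟩
          exact hvQ x hxQ
    · intro x
      exact hvP x x.2
    · intro x
      exact hvZ x x.2
  exact le_sSup hcen

theorem main_fix2 {p : ℕ} [Fact p.Prime] (W : ∀ (Q : Type u) [Group Q], Subgroup Q)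
    (hW2 : ∀ (Q R : Type u) [Group Q] [Group R] [Finite Q], IsPGroup p Q →
      ∀ φ : Q ≃* R, (W Q).map φ.toMonoidHom = W R)
    (hWZ : ∀ (Q : Type u) [Group Q] [Finite Q], IsPGroup p Q → Subgroup.center Q ≤ W Q)
    (z : Ω)
    (GH : ∀ (G : Type u) [Group G] [Finite G] (T : Subgroup G),
      (∃ T' : Sylow p G, (T' : Subgroup G) = T) →
      Subgroup.centralizer ((Cfsg.pCore p G : Subgroup G) : Set G) ≤ Cfsg.pCore p G →
      ∀ y : G, y ∈ T → (∀ t ∈ T, t * y = y * t) →
      (∀ g : G, g ∈ Subgroup.normalizer (((W ↥T).map T.subtype : Subgroup G) : Set G) →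
        g * y = y * g) →
      ∀ g : G, g * y = y * g)
    [Finite S] (hS : IsPGroup p S) (F : FusionSystem S) (hF : F.IsSaturated p)
    (N : FusionSystem (normalizerIn S ((W ↥S).map S.subtype)))
    (hN : F.IsNormalizerSystem ((W ↥S).map S.subtype) N)
    (hzS : z ∈ S) (hzc : ∀ s ∈ S, s * z = z * s) (hzN : z ∈ N.center) :
    z ∈ F.center := by
  classical
  have hWSle : (W ↥S).map S.subtype ≤ S := by rintro _ ⟨a, -, rfl⟩; exact a.2
  have hzWS : z ∈ (W ↥S).map S.subtype := by
    refine ⟨⟨z, hzS⟩, ?_, rfl⟩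
    apply hWZ ↥S hS
    rw [Subgroup.mem_center_iff]
    intro t
    exact Subtype.ext (hzc t t.2)
  -- every morphism on a subgroup containing W(S), mapping W(S) into itself, fixes z
  have hfixN : ∀ (X : Subgroup Ω) (ψ : X →* Ω), ψ ∈ F.Hom X →
      ∀ hWX : (W ↥S).map S.subtype ≤ X,
      (∀ (w : Ω) (hw : w ∈ (W ↥S).map S.subtype), ψ ⟨w, hWX hw⟩ ∈ (W ↥S).map S.subtype) →
      ∀ hzX : z ∈ X, ψ ⟨z, hzX⟩ = z := by
    intro X ψ hψ hWX hinto hzX
    exact fix_of_normalizes F _ hWSle N hN z hzN hzWS X ψ hψ hWX hinto hzX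
  have hcS : ∀ T : Subgroup Ω, T = S → ∀ ψ ∈ F.Hom ((W ↥T).map T.subtype),
      (∀ x, ψ x ∈ (W ↥T).map T.subtype) → ∀ hzU : z ∈ (W ↥T).map T.subtype,
      ψ ⟨z, hzU⟩ = z := by
    intro T hT ψ hψ hinto hzU
    subst hT
    exact hfixN _ ψ hψ le_rfl (fun w hw => hinto ⟨w, hw⟩) hzU
  have hbase : ∀ T : Subgroup Ω, T = S → ∀ ψ ∈ F.Hom T, ψ.range = T →
      ∀ hz' : z ∈ T, ψ ⟨z, hz'⟩ = z := by
    intro T hT ψ hψ hr hz'
    subst hT
    obtain ⟨e, he, hex⟩ := exists_iso_of_mem F hψ hr
    have hWe := hW2 _ _ hS e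
    refine hfixN _ ψ hψ hWSle ?_ hz'
    rintro w ⟨a, ha, rfl⟩
    refine ⟨e a, ?_, hex a⟩
    rw [← hWe]; exact ⟨a, ha, rfl⟩
  have main : ∀ (k : ℕ) (R : Subgroup Ω), F.IsCentric R →
      Nat.card S - Nat.card ↥(normalizerIn S R) = k →
      ∀ φ ∈ F.Hom R, φ.range = R → ∀ hzR : z ∈ R, φ ⟨z, hzR⟩ = z := by
    intro k
    induction k using Nat.strong_induction_on with
    | _ k IH =>
    have star : ∀ (X : Subgroup Ω) (ψ : X →* Ω), ψ ∈ F.Hom X →
        Nat.card S - k ≤ Nat.card X → ∀ hzX : z ∈ X, ψ ⟨z, hzX⟩ = z := by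
      apply alperin_goldschmidt_induction hS F hF
        (fun U ψ => Nat.card S - k ≤ Nat.card U → ∀ hzU : z ∈ U, ψ ⟨z, hzU⟩ = z)
      · intro U V φ h hφ hPr hcard hzU
        haveI : Finite V := finite_of_le (F.le_of_mem hφ).1
        exact hPr (hcard.trans (Subgroup.card_le_of_le h)) (h hzU)
      · intro U V φ ψ' hval hφ hψ' hPrφ hPrψ hcard hzU
        haveI : Finite V := finite_of_le (F.le_of_mem hψ').1
        have h1 := hPrφ hcard hzU
        have hzV : z ∈ V := by
          have h := hval ⟨z, hzU⟩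
          rw [h1] at h; exact h
        have hinj : Function.Injective (φ.codRestrict V hval) := by
          intro a b hab
          exact F.injective_of_mem hφ (congrArg Subtype.val hab)
        have hcard' : Nat.card S - k ≤ Nat.card V :=
          hcard.trans (Nat.card_le_card_of_injective _ hinj)
        have h2 := hPrψ hcard' hzV
        have e1 : (φ.codRestrict V hval) ⟨z, hzU⟩ = ⟨z, hzV⟩ := Subtype.ext h1
        show ψ' ((φ.codRestrict V hval) ⟨z, hzU⟩) = z
        rw [e1]; exact h2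
      · intro W' hW' α hα hcard hzW
        have hW'S : W' ≤ S := (F.le_of_mem hα).1
        have hrα : (W'.subtype.comp α.toMonoidHom).range = W' := range_aut α
        by_cases hW'eq : W' = S
        · exact hbase W' hW'eq _ hα hrα hzW
        · have hess : F.IsEssential p W' := hW'.resolve_left hW'eq
          obtain ⟨g₀, hg₀N, hg₀W⟩ := exists_normalizerIn_not_mem hS hW'S hW'eq
          have hlt : Nat.card W' < Nat.card ↥(normalizerIn S W') := by
            by_contra hcon
            have h := Subgroup.eq_of_le_of_card_ge (le_normalizerIn_self hW'S) (not_lt.1 hcon)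
            rw [← h] at hg₀N
            exact hg₀W hg₀N
          have hle : Nat.card ↥(normalizerIn S W') ≤ Nat.card S :=
            Subgroup.card_le_of_le inf_le_left
          exact IH (Nat.card S - Nat.card ↥(normalizerIn S W')) (by omega) W' hess.1 rfl _ hα
            hrα hzW
    -- the fully normalized case
    have hfn : ∀ R : Subgroup Ω, F.IsCentric R → F.IsFullyNormalized R →
        Nat.card S - Nat.card ↥(normalizerIn S R) = k →
        ∀ φ ∈ F.Hom R, φ.range = R → ∀ hzR : z ∈ R, φ ⟨z, hzR⟩ = z := by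
      intro R hRc hRfn hk φ hφ hrange hzR
      have hRS : R ≤ S := hRc.1
      have hTS : normalizerIn S R ≤ S := inf_le_left
      have hRT : R ≤ normalizerIn S R := le_normalizerIn_self hRS
      have hpT : IsPGroup p ↥(normalizerIn S R) := hS.to_le hTS
      have hcardT : Nat.card ↥(normalizerIn S R) ≤ Nat.card S := Subgroup.card_le_of_le hTS
      have hzT : z ∈ normalizerIn S R := by
        apply centralizerIn_le_normalizerIn S R
        refine ⟨hzS, ?_⟩
        show z ∈ Subgroup.centralizer (R : Set Ω)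
        rw [Subgroup.mem_centralizer_iff]
        intro r hr
        exact hzc r (hRS hr)
      obtain ⟨U, hU⟩ : ∃ U, U = (W ↥(normalizerIn S R)).map (normalizerIn S R).subtype :=
        ⟨_, rfl⟩
      have hUmem : ∀ u : Ω, u ∈ U ↔ ∃ a ∈ W ↥(normalizerIn S R), ((a : ↥(normalizerIn S R)) : Ω) = u := by
        intro u; rw [hU]; exact Subgroup.mem_map
      have hUT : U ≤ normalizerIn S R := by
        intro u hu
        obtain ⟨a, -, rfl⟩ := (hUmem u).1 hu
        exact a.2
      have hUS : U ≤ S := hUT.trans hTS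
      haveI : Finite ↥U := finite_of_le hUS
      have hzU : z ∈ U := by
        rw [hUmem]
        refine ⟨⟨z, hzT⟩, ?_, rfl⟩
        apply hWZ ↥(normalizerIn S R) hpT
        rw [Subgroup.mem_center_iff]
        intro t
        apply Subtype.ext
        exact hzc t (hTS t.2)
      -- every map of the system from `U` into itself fixes `z`
      have hclaim : ∀ ψ ∈ F.Hom U, (∀ x : U, ψ x ∈ U) → ψ ⟨z, hzU⟩ = z := by
        intro ψ hψ hinto
        by_cases hTeq : normalizerIn S R = S
        · subst hU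
          exact hcS (normalizerIn S R) hTeq ψ hψ hinto hzU
        · obtain ⟨s, hsN, hsT⟩ := exists_normalizerIn_not_mem hS hTS hTeq
          have hTK : normalizerIn S R ≤ normalizerIn S U := by
            intro t ht
            refine ⟨hTS ht, ?_⟩
            rw [hU]
            exact W_normalizer W hW2 S (normalizerIn S R) hpT t ⟨hTS ht, Subgroup.le_normalizer ht⟩
          have hsK : s ∈ normalizerIn S U := by
            refine ⟨hsN.1, ?_⟩
            rw [hU]
            exact W_normalizer W hW2 S (normalizerIn S R) hpT s hsN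
          have hlt : Nat.card ↥(normalizerIn S R) < Nat.card ↥(normalizerIn S U) := by
            by_contra hcon
            have h := Subgroup.eq_of_le_of_card_ge hTK (not_lt.1 hcon)
            rw [← h] at hsK
            exact hsT hsK
          obtain ⟨U', hconj, hU'fn, -, hU'rec, χ, hχ, e, he, hχe⟩ :=
            exists_fullyNormalized_conj hS F hF hUS
          have hzK : z ∈ normalizerIn S U := hTK hzT
          have hχz : χ ⟨z, hzK⟩ = z := star _ χ hχ (by omega) hzK
          have hez : ((e ⟨z, hzU⟩ : U') : Ω) = z := by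
            rw [← hχe ⟨z, hzU⟩ hzK]; exact hχz
          have hrψ : ψ.range = U := range_eq_of_into F ψ hψ hinto
          apply transport_fix F he z hzU hez ψ hψ hrψ
          intro φ₀ hφ₀ hrφ₀ hzU'
          have hU'S : U' ≤ S := hU'rec.1
          obtain ⟨Ψ, hΨ, hΨx⟩ := hU'rec.2 U' φ₀ hφ₀ hrφ₀
          have hφ₀S : ∀ x, φ₀ x ∈ S := (F.le_of_mem hφ₀).2
          have hU'ext : U' ≤ extender S U' φ₀ := le_extender hU'S hφ₀S
          have hCext : centralizerIn S U' ≤ extender S U' φ₀ := centralizerIn_le_extender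
          have hUle : U' ≤ U' ⊔ centralizerIn S U' := le_sup_left
          have hCle : centralizerIn S U' ≤ U' ⊔ centralizerIn S U' := le_sup_right
          have hR₁ext : U' ⊔ centralizerIn S U' ≤ extender S U' φ₀ := sup_le hU'ext hCext
          have hR₁S : U' ⊔ centralizerIn S U' ≤ S := sup_le hU'S inf_le_left
          haveI : Finite ↥(U' ⊔ centralizerIn S U') := finite_of_le hR₁S
          have hΨ₁ := restrict_mem F hΨ hR₁ext
          have hΨU : ∀ (u : Ω) (hu : u ∈ U'), Ψ ⟨u, hU'ext hu⟩ ∈ U' := by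
            intro u hu
            rw [hΨx u hu]
            have h : φ₀ ⟨u, hu⟩ ∈ φ₀.range := ⟨_, rfl⟩
            rw [hrφ₀] at h; exact h
          have hΨC : ∀ (c : Ω) (hc : c ∈ centralizerIn S U'),
              Ψ ⟨c, hCext hc⟩ ∈ centralizerIn S U' := by
            intro c hc
            refine ⟨(F.le_of_mem hΨ).2 _, ?_⟩
            show _ ∈ Subgroup.centralizer (U' : Set Ω)
            rw [Subgroup.mem_centralizer_iff]
            intro u hu
            have hu' : u ∈ φ₀.range := by rw [hrφ₀]; exact hu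
            obtain ⟨u₀, rfl⟩ := hu'
            have h1 := hΨx u₀ u₀.2 (hU'ext u₀.2)
            have hcc : c ∈ Subgroup.centralizer (U' : Set Ω) := hc.2
            have h2 := Subgroup.mem_centralizer_iff.1 hcc u₀ u₀.2
            have h3 : φ₀ u₀ = Ψ ⟨(u₀ : Ω), hU'ext u₀.2⟩ := h1.symm
            rw [h3, ← map_mul, ← map_mul]
            congr 1
            exact Subtype.ext h2
          have hinto₁ : ∀ x : ↥(U' ⊔ centralizerIn S U'),
              (Ψ.comp (Subgroup.inclusion hR₁ext)) x ∈ U' ⊔ centralizerIn S U' := by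
            have hle : U' ⊔ centralizerIn S U' ≤
                ((U' ⊔ centralizerIn S U').comap Ψ).map (extender S U' φ₀).subtype := by
              apply sup_le
              · intro u hu
                exact ⟨⟨u, hU'ext hu⟩, Subgroup.mem_comap.2 (hUle (hΨU u hu)), rfl⟩
              · intro c hc
                exact ⟨⟨c, hCext hc⟩, Subgroup.mem_comap.2 (hCle (hΨC c hc)), rfl⟩
            intro x
            obtain ⟨x', hx', hxx'⟩ := hle x.2
            have e1 : Subgroup.inclusion hR₁ext x = x' := Subtype.ext hxx'.symm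
            show Ψ (Subgroup.inclusion hR₁ext x) ∈ _
            rw [e1]; exact Subgroup.mem_comap.1 hx'
          have hrΨ₁ := range_eq_of_into F _ hΨ₁ hinto₁
          have hR₁c : F.IsCentric (U' ⊔ centralizerIn S U') := centric_sup_centralizer F hU'rec
          have hcard1 : Nat.card ↥(normalizerIn S U) ≤ Nat.card ↥(normalizerIn S U') :=
            hU'fn.2 U (isConj_symm F hconj)
          have hcard2 : Nat.card ↥(normalizerIn S U') ≤
              Nat.card ↥(normalizerIn S (U' ⊔ centralizerIn S U')) :=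
            Subgroup.card_le_of_le (normalizerIn_le_sup S U')
          have hcard3 : Nat.card ↥(normalizerIn S (U' ⊔ centralizerIn S U')) ≤ Nat.card S :=
            Subgroup.card_le_of_le inf_le_left
          have hzR₁ : z ∈ U' ⊔ centralizerIn S U' := hUle hzU'
          have h5 := IH (Nat.card S - Nat.card ↥(normalizerIn S (U' ⊔ centralizerIn S U')))
            (by omega) _ hR₁c rfl _ hΨ₁ hrΨ₁ hzR₁
          have h6 := hΨx z hzU' (hU'ext hzU')
          rw [← h6]; exact h5
      -- the model of `N_F(R)`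
      have hNR := isNormalizerSystem_normalizerSystem F R hRS
      have hsat := normalizerSystem_saturated hS F hF R hRfn _ hNR
      have hn := isNormal_of_isNormalizerSystem F hRS _ hNR
      have hcN := isCentric_of_isNormalizerSystem F hRc _ hNR
      obtain ⟨G, _, ι, hG⟩ := Cfsg.Agent.Lib.helper7.Model.exists_model_of hpT
        (normalizerSystem F R hRS) hsat R hn hcN
      obtain ⟨hGfin, ⟨hιinj, hreal⟩, ⟨TG, hTG⟩, hGcen⟩ := hG
      haveI := hGfin
      obtain ⟨eι, heι⟩ : ∃ eι : ↥(normalizerIn S R) ≃* ↥ι.range,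
          ∀ t, ((eι t : ι.range) : G) = ι t := ⟨MonoidHom.ofInjective hιinj, fun t => rfl⟩
      have hWι := hW2 ↥(normalizerIn S R) ↥ι.range hpT eι
      have hWG1 : ∀ (u : Ω) (hu : u ∈ U),
          ι ⟨u, hUT hu⟩ ∈ (W ↥ι.range).map ι.range.subtype := by
        intro u hu
        obtain ⟨a, ha, rfl⟩ := (hUmem u).1 hu
        refine ⟨eι a, ?_, heι a⟩
        rw [← hWι]; exact ⟨a, ha, rfl⟩
      have hWG2 : ∀ w ∈ (W ↥ι.range).map ι.range.subtype,
          ∃ (u : Ω) (hu : u ∈ U), ι ⟨u, hUT hu⟩ = w := by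
        rintro _ ⟨b, hb, rfl⟩
        rw [← hWι] at hb
        obtain ⟨a, ha, rfl⟩ := hb
        exact ⟨a, (hUmem _).2 ⟨a, ha, rfl⟩, (heι a).symm⟩
      have hcomm : ∀ g : G, g * ι ⟨z, hzT⟩ = ι ⟨z, hzT⟩ * g := by
        refine GH G ι.range ⟨TG, hTG⟩ hGcen (ι ⟨z, hzT⟩) ⟨_, rfl⟩ ?_ ?_
        · rintro _ ⟨t, rfl⟩
          rw [← map_mul, ← map_mul]
          congr 1
          exact Subtype.ext (hzc t (hTS t.2))
        · intro g hg
          have hgU : ∀ x : U, g * ι ⟨x, hUT x.2⟩ * g⁻¹ ∈ ι.range := fun x => by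
            have h := (Subgroup.mem_normalizer_iff.1 hg _).1 (hWG1 x x.2)
            obtain ⟨b, -, hb⟩ := h
            rw [← hb]; exact b.2
          obtain ⟨φg, hφg⟩ : ∃ φg : U →* Ω, ∀ x : U, ∃ h : φg x ∈ normalizerIn S R,
              ι ⟨φg x, h⟩ = g * ι ⟨x, hUT x.2⟩ * g⁻¹ := by
            obtain ⟨c, hc⟩ : ∃ c : U →* G, ∀ x : U, c x = g * ι ⟨x, hUT x.2⟩ * g⁻¹ :=
              ⟨(MulAut.conj g).toMonoidHom.comp (ι.comp (Subgroup.inclusion hUT)), fun x => rfl⟩
            have hcr : ∀ x, c x ∈ ι.range := fun x => by rw [hc]; exact hgU x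
            refine ⟨(normalizerIn S R).subtype.comp
              (eι.symm.toMonoidHom.comp (c.codRestrict ι.range hcr)),
              fun x => ⟨(eι.symm _).2, ?_⟩⟩
            have h := heι (eι.symm ⟨c x, hcr x⟩)
            rw [MulEquiv.apply_symm_apply] at h
            rw [← hc x]
            exact h.symm
          have hval : ∀ x : U, φg x ∈ normalizerIn S R := fun x => (hφg x).1
          have hφgN : φg ∈ (normalizerSystem F R hRS).Hom U :=
            (hreal U hUT φg hval).2 ⟨g, fun x => (hφg x).2⟩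
          have hφgF : φg ∈ F.Hom U := by
            rw [hNR U] at hφgN; exact hφgN.1
          have hinto : ∀ x : U, φg x ∈ U := by
            intro x
            obtain ⟨h, hx⟩ := hφg x
            have h1 : g * ι ⟨x, hUT x.2⟩ * g⁻¹ ∈ (W ↥ι.range).map ι.range.subtype :=
              (Subgroup.mem_normalizer_iff.1 hg _).1 (hWG1 x x.2)
            obtain ⟨u, hu, hu'⟩ := hWG2 _ h1
            have h2 : (⟨φg x, h⟩ : ↥(normalizerIn S R)) = ⟨u, hUT hu⟩ :=
              hιinj (hx.trans hu'.symm)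
            have h3 : φg x = u := congrArg Subtype.val h2
            rw [h3]; exact hu
          have hfix := hclaim φg hφgF hinto
          obtain ⟨h, hx⟩ := hφg ⟨z, hzU⟩
          have e1 : (⟨φg ⟨z, hzU⟩, h⟩ : ↥(normalizerIn S R)) = ⟨z, hzT⟩ := Subtype.ext hfix
          rw [e1] at hx
          have hx' : ι ⟨z, hzT⟩ = g * ι ⟨z, hzT⟩ * g⁻¹ := hx
          calc g * ι ⟨z, hzT⟩ = (g * ι ⟨z, hzT⟩ * g⁻¹) * g := by group
            _ = ι ⟨z, hzT⟩ * g := by rw [← hx']
      have hvalφ : ∀ x : R, φ x ∈ normalizerIn S R := fun x => by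
        have h : φ x ∈ φ.range := ⟨x, rfl⟩
        rw [hrange] at h; exact hRT h
      have hφN : φ ∈ (normalizerSystem F R hRS).Hom R := by
        rw [hNR R]; exact self_normalizerHom F hRS φ hφ hrange
      obtain ⟨g, hg⟩ := (hreal R hRT φ hvalφ).1 hφN
      have h1 := hg ⟨z, hzR⟩
      have h2 : g * ι ⟨z, hzT⟩ * g⁻¹ = ι ⟨z, hzT⟩ := by
        rw [hcomm g]; group
      have h3 : (⟨φ ⟨z, hzR⟩, hvalφ _⟩ : ↥(normalizerIn S R)) = ⟨z, hzT⟩ :=
        hιinj (h1.trans h2)
      exact congrArg Subtype.val h3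
    -- the general case
    intro R hRc hk φ hφ hrange hzR
    have hRS : R ≤ S := hRc.1
    obtain ⟨R', hconj, hR'fn, -, -, χ, hχ, e, he, hχe⟩ := exists_fullyNormalized_conj hS F hF hRS
    have hR'c : F.IsCentric R' := isCentric_of_isConj F hRc hconj
    have hcard0 : Nat.card ↥(normalizerIn S R) ≤ Nat.card S := Subgroup.card_le_of_le inf_le_left
    have hcard1 : Nat.card ↥(normalizerIn S R) ≤ Nat.card ↥(normalizerIn S R') :=
      hR'fn.2 R (isConj_symm F hconj)
    have hcard2 : Nat.card ↥(normalizerIn S R') ≤ Nat.card S := Subgroup.card_le_of_le inf_le_left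
    have hzNR : z ∈ normalizerIn S R := le_normalizerIn_self hRS hzR
    have hχz : χ ⟨z, hzNR⟩ = z := star _ χ hχ (by omega) hzNR
    have hez : ((e ⟨z, hzR⟩ : R') : Ω) = z := by
      rw [← hχe ⟨z, hzR⟩ hzNR]; exact hχz
    apply transport_fix F he z hzR hez φ hφ hrange
    intro φ₀ hφ₀ hrφ₀ hzR'
    by_cases hlt : Nat.card S - Nat.card ↥(normalizerIn S R') < k
    · exact IH _ hlt R' hR'c rfl φ₀ hφ₀ hrφ₀ hzR'
    · exact hfn R' hR'c hR'fn (by omega) φ₀ hφ₀ hrφ₀ hzR'
  -- all maps of the system fix `z`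
  have all : ∀ (X : Subgroup Ω) (ψ : X →* Ω), ψ ∈ F.Hom X → ∀ hzX : z ∈ X, ψ ⟨z, hzX⟩ = z := by
    apply alperin_goldschmidt_induction hS F hF (fun U ψ => ∀ hzU : z ∈ U, ψ ⟨z, hzU⟩ = z)
    · intro U V φ h hφ hPr hzU
      exact hPr (h hzU)
    · intro U V φ ψ' hval hφ hψ' hPrφ hPrψ hzU
      have h1 := hPrφ hzU
      have hzV : z ∈ V := by
        have h := hval ⟨z, hzU⟩
        rw [h1] at h; exact h
      have h2 := hPrψ hzV
      have e1 : (φ.codRestrict V hval) ⟨z, hzU⟩ = ⟨z, hzV⟩ := Subtype.ext h1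
      show ψ' ((φ.codRestrict V hval) ⟨z, hzU⟩) = z
      rw [e1]; exact h2
    · intro W' hW' α hα hzW
      have hWc : F.IsCentric W' := by
        rcases hW' with h | h
        · rw [h]; exact isCentric_self F
        · exact h.1
      exact main _ W' hWc rfl _ hα (range_aut α) hzW
  have hzP : ∀ P : Subgroup Ω, (P = S ∨ F.IsEssential p P) → z ∈ P := by
    intro P hP
    have hPc : F.IsCentric P := by
      rcases hP with h | h
      · rw [h]; exact isCentric_self F
      · exact h.1
    apply hPc.2 P (isConj_refl F hPc.1)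
    refine ⟨hzS, ?_⟩
    show z ∈ Subgroup.centralizer (P : Set Ω)
    rw [Subgroup.mem_centralizer_iff]
    intro x hx
    exact hzc x (hPc.1 hx)
  have hnormal : F.IsNormal (Subgroup.zpowers z) := by
    apply isNormal_of_essential_invariant hS F hF
    intro P hP
    have hz' := hzP P hP
    have hPS : P ≤ S := by
      rcases hP with h | h
      · rw [h]
      · exact h.1.1
    refine ⟨(Subgroup.zpowers_le).2 hz', fun α hα => ?_⟩
    have hαz : α ⟨z, hz'⟩ = ⟨z, hz'⟩ :=
      Subtype.ext (all P _ ((mem_autGroup_iff F hPS α).1 hα) hz')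
    have hfix : ∀ x : P, x ∈ (Subgroup.zpowers z).subgroupOf P → α x = x := by
      intro x hx
      rw [Subgroup.mem_subgroupOf] at hx
      obtain ⟨k, hk⟩ := Subgroup.mem_zpowers_iff.1 hx
      have e1 : x = (⟨z, hz'⟩ : P) ^ k := by
        apply Subtype.ext; rw [Subgroup.coe_zpow]; exact hk.symm
      rw [e1, map_zpow, hαz]
    ext w
    constructor
    · rintro ⟨x, hx, rfl⟩
      show α x ∈ _
      rw [hfix x hx]; exact hx
    · intro hw
      exact ⟨w, hw, hfix w hw⟩
  exact Cfsg.Agent.S5294.mem_center_of_fixed F hnormal (Subgroup.mem_zpowers z)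
    (fun α hα => all _ _ ((mem_autGroup_iff F ((Subgroup.zpowers_le).2 hzS) α).1 hα) _)


end fus6

/-- Let p be an odd prime and W a positive characteristic p-functor: W assigns to every finite p-group Q (in a fixed universe) a subgroup W(Q), nontrivial when Q is, carried to W(R) by every isomorphism Q ≅ R; assume also Z(Q) ≤ W(Q) for every finite p-group Q. Suppose W satisfies the local condition: for every finite group G with Sylow p-subgroup P, O_p(G) ∩ Z(G) = O_p(G) ∩ Z(N_G(W(P))). Then W controls weak closure of elements in every saturated fusion system F over a finite p-group S: the centre of the normalizer fusion system of W(S) in F equals the centre of F. (For p = 2 no functor satisfies the local condition, so p is taken odd.) -/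
theorem result {p : ℕ} [Fact p.Prime] (hp : p ≠ 2) (W : ∀ (Q : Type u) [Group Q], Subgroup Q) (hW1 : ∀ (Q : Type u) [Group Q] [Finite Q], IsPGroup p Q → Nontrivial Q → W Q ≠ ⊥) (hW2 : ∀ (Q R : Type u) [Group Q] [Group R] [Finite Q], IsPGroup p Q → ∀ φ : Q ≃* R, (W Q).map φ.toMonoidHom = W R) (hWZ : ∀ (Q : Type u) [Group Q] [Finite Q], IsPGroup p Q → Subgroup.center Q ≤ W Q) (hC : ∀ (G : Type u) [Group G] [Finite G] (P : Sylow p G), Cfsg.pCore p G ⊓ Subgroup.center G = Cfsg.pCore p G ⊓ (Subgroup.center ↥(Subgroup.normalizer (((W ↥(P : Subgroup G)).map (P : Subgroup G).subtype : Subgroup G) : Set G))).map (Subgroup.normalizer (((W ↥(P : Subgroup G)).map (P : Subgroup G).subtype : Subgroup G) : Set G)).subtype) {Ω : Type u} [Group Ω] {S : Subgroup Ω} [Finite S] (hS : IsPGroup p S) (F : Cfsg.FusionSystem S) (hF : F.IsSaturated p) (N : Cfsg.FusionSystem (Cfsg.FusionSystem.normalizerIn S ((W ↥S).map S.subtype))) (hN : F.IsNormalizerSystem ((W ↥S).map S.subtype) N) : N.center = F.center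 := by
  have GH : ∀ (G : Type u) [Group G] [Finite G] (T : Subgroup G),
      (∃ T' : Sylow p G, (T' : Subgroup G) = T) →
      Subgroup.centralizer ((Cfsg.pCore p G : Subgroup G) : Set G) ≤ Cfsg.pCore p G →
      ∀ y : G, y ∈ T → (∀ t ∈ T, t * y = y * t) →
      (∀ g : G, g ∈ Subgroup.normalizer (((W ↥T).map T.subtype : Subgroup G) : Set G) →
        g * y = y * g) →
      ∀ g : G, g * y = y * g := by
    intro G _ _ T hT hcen y hyT hyc hWn g
    obtain ⟨T', rfl⟩ := hT
    have h := hC G T'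
    have hyO : y ∈ Cfsg.pCore p G := by
      apply hcen
      rw [Subgroup.mem_centralizer_iff]
      intro r hr
      exact hyc r (Cfsg.Agent.Lib.helper26.pCore_le_sylow T' hr)
    have key : ∀ w ∈ (W ↥(T' : Subgroup G)).map (T' : Subgroup G).subtype, y * w * y⁻¹ = w := by
      rintro _ ⟨a, -, rfl⟩
      have h1 := hyc a a.2
      show y * (a : G) * y⁻¹ = a
      rw [← h1]; group
    have hyNr : y ∈ Subgroup.normalizer
        (((W ↥(T' : Subgroup G)).map (T' : Subgroup G).subtype : Subgroup G) : Set G) := by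
      rw [Subgroup.mem_normalizer_iff]
      intro w
      constructor
      · intro hw; rw [key w hw]; exact hw
      · intro hw
        have e := key _ hw
        have e' : y * w * y⁻¹ = w := by
          calc y * w * y⁻¹ = y⁻¹ * (y * (y * w * y⁻¹) * y⁻¹) * y := by group
            _ = y⁻¹ * (y * w * y⁻¹) * y := by rw [e]
            _ = w := by group
        rw [e'] at hw; exact hw
    have hmem : y ∈ (Subgroup.center ↥(Subgroup.normalizer
        (((W ↥(T' : Subgroup G)).map (T' : Subgroup G).subtype : Subgroup G) : Set G))).map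
        (Subgroup.normalizer
          (((W ↥(T' : Subgroup G)).map (T' : Subgroup G).subtype : Subgroup G) : Set G)).subtype := by
      refine ⟨⟨y, hyNr⟩, ?_, rfl⟩
      rw [SetLike.mem_coe, Subgroup.mem_center_iff]
      intro g'
      exact Subtype.ext (hWn g' g'.2)
    have h3 : y ∈ Cfsg.pCore p G ⊓ Subgroup.center G := by rw [h]; exact ⟨hyO, hmem⟩
    exact Subgroup.mem_center_iff.1 h3.2 g
  have hWSle : (W ↥S).map S.subtype ≤ S := by rintro _ ⟨a, -, rfl⟩; exact a.2
  apply le_antisymm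
  · intro z hz
    haveI : Finite ↥(Cfsg.FusionSystem.normalizerIn S ((W ↥S).map S.subtype)) :=
      Cfsg.Agent.Lib.helper26.finite_of_le inf_le_left
    obtain ⟨hzS', hzc'⟩ := center_mem_comm N hz
    have hzS : z ∈ S := hzS'.1
    have hzc : ∀ s ∈ S, s * z = z * s := fun s hs =>
      hzc' s ⟨hs, Cfsg.Agent.S5253.W_normalizer W hW2 S S hS s ⟨hs, Subgroup.le_normalizer hs⟩⟩
    exact main_fix2 W hW2 hWZ z GH hS F hF N hN hzS hzc hz
  · exact center_le_normalizer_center F hWSle N hN

end Cfsg.Agent.S5196
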