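import Cfsg.Statements.S5198
-- import your own Cfsg.Agent.* helpers here
import Cfsg.Agent.Lib.helper25.FusionQuot

set_option autoImplicit false
open Cfsg

namespace Cfsg.Agent.S5198

section

open Cfsg.Agent.Lib.helper26 Cfsg.FusionSystem
open Cfsg.Agent.Lib.helper25 (ModExt modExt_of_stronglyClosed stronglyClosed_map_mem forall_mem_of_sup)

variable {Ω : Type*} [Group Ω] {S : Subgroup Ω}

theorem pow_modT (T P : Subgroup Ω) (a : MulAut P) (σ : MulAut ↥(P ⊔ T))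
    (hσT : ∀ y : ↥(P ⊔ T), (y : Ω) ∈ T → ((σ y : ↥(P ⊔ T)) : Ω) ∈ T)
    (hmod : ∀ u : P, ((a u : P) : Ω)⁻¹ *
      ((σ (Subgroup.inclusion le_sup_left u) : ↥(P ⊔ T)) : Ω) ∈ T) :
    ∀ (j : ℕ) (u : P), (((a ^ j) u : P) : Ω)⁻¹ *
      (((σ ^ j) (Subgroup.inclusion le_sup_left u) : ↥(P ⊔ T)) : Ω) ∈ T := by
  intro j
  induction j with
  | zero =>
    intro u
    simp
  | succ j ih =>
    intro u
    have h1 := ih u
    rw [pow_succ', pow_succ', MulAut.mul_apply, MulAut.mul_apply]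
    have hz : (σ ^ j) (Subgroup.inclusion le_sup_left u) =
        Subgroup.inclusion le_sup_left ((a ^ j) u) * ⟨_, (le_sup_right : T ≤ P ⊔ T) h1⟩ := by
      apply Subtype.ext
      show _ = (((a ^ j) u : P) : Ω) * ((((a ^ j) u : P) : Ω)⁻¹ * _)
      group
    rw [hz, map_mul]
    have h2 := hmod ((a ^ j) u)
    have h3 := hσT ⟨_, (le_sup_right : T ≤ P ⊔ T) h1⟩ h1
    have h4 := T.mul_mem h2 h3
    rw [Subgroup.coe_mul, ← mul_assoc]
    exact h4

theorem exists_restrict_aut (F : Cfsg.FusionSystem S) {T Y : Subgroup Ω} (hT : F.StronglyClosed T)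
    (hTY : T ≤ Y) (hY : Y ≤ S) (σ : MulAut Y) (hσ : σ ∈ F.autGroup Y) :
    ∃ β : MulAut T, β ∈ F.autGroup T ∧ ∀ t : T, ((β t : T) : Ω) = (σ ⟨t, hTY t.2⟩ : Y) := by
  have hσ' := (mem_autGroup_iff F hY σ).1 hσ
  have hσi := (mem_autGroup_iff F hY σ⁻¹).1 (inv_mem hσ)
  have h1 : ∀ y : Y, (y : Ω) ∈ T → ((σ y : Y) : Ω) ∈ T :=
    fun y hy => stronglyClosed_map_mem F hT hσ' y hy
  have h2 : ∀ y : Y, (y : Ω) ∈ T → ((σ⁻¹ y : Y) : Ω) ∈ T :=
    fun y hy => stronglyClosed_map_mem F hT hσi y hy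
  refine ⟨{ toFun := fun t => ⟨σ ⟨t, hTY t.2⟩, h1 _ t.2⟩
            invFun := fun t => ⟨σ⁻¹ ⟨t, hTY t.2⟩, h2 _ t.2⟩
            left_inv := ?_
            right_inv := ?_
            map_mul' := ?_ }, ?_, fun t => rfl⟩
  · intro t
    apply Subtype.ext
    show ((σ⁻¹ (σ ⟨t, hTY t.2⟩) : Y) : Ω) = t
    simp
  · intro t
    apply Subtype.ext
    show ((σ (σ⁻¹ ⟨t, hTY t.2⟩) : Y) : Ω) = t
    simp
  · intro s t
    apply Subtype.ext
    show ((σ (⟨s, hTY s.2⟩ * ⟨t, hTY t.2⟩) : Y) : Ω) = (σ ⟨s, hTY s.2⟩ : Y) * (σ ⟨t, hTY t.2⟩ : Y)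
    rw [map_mul]
    rfl
  · rw [mem_autGroup_iff F hT.1]
    exact restrict_mem' F hσ' hTY _ (fun t => rfl)

theorem restrict_pow {T Y : Subgroup Ω} (hTY : T ≤ Y) (σ : MulAut Y) (β : MulAut T)
    (h : ∀ t : T, ((β t : T) : Ω) = (σ ⟨t, hTY t.2⟩ : Y)) :
    ∀ (n : ℕ) (t : T), (((β ^ n) t : T) : Ω) = ((σ ^ n) ⟨t, hTY t.2⟩ : Y) := by
  intro n
  induction n with
  | zero =>
    intro t
    rfl
  | succ n ih =>
    intro t
    rw [pow_succ', pow_succ', MulAut.mul_apply, MulAut.mul_apply, h]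
    congr 2
    exact Subtype.ext (ih t)

theorem mem_pResidual_map {p : ℕ} (F : Cfsg.FusionSystem S) {T : Subgroup Ω}
    {β : MulAut T} (hβ : β ∈ F.autGroup T) {n : ℕ} (hn : n.Coprime p) (hβn : β ^ n = 1) :
    β ∈ (pResidual p (F.autGroup T)).map (F.autGroup T).subtype := by
  refine ⟨⟨β, hβ⟩, Subgroup.subset_closure ?_, rfl⟩
  show Nat.Coprime (orderOf (⟨β, hβ⟩ : F.autGroup T)) p
  have h1 : (⟨β, hβ⟩ : F.autGroup T) ^ n = 1 := Subtype.ext hβn
  exact Nat.Coprime.coprime_dvd_left (orderOf_dvd_of_pow_eq_one h1) hn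

/-- the elements of `S` acting on `T` as elements of `O^p(Aut_F(T)) Inn(T)` -/
def KT (F : Cfsg.FusionSystem S) (p : ℕ) (T : Subgroup Ω) (hT : F.StronglyClosed T) :
    Subgroup Ω where
  carrier := {x | x ∈ S ∧ ∃ α ∈ ((pResidual p (F.autGroup T)).map (F.autGroup T).subtype ⊔
    Inn T : Subgroup (MulAut T)), ∀ t : T, ((α t : T) : Ω) = x * t * x⁻¹}
  one_mem' := ⟨S.one_mem, 1, one_mem _, fun t => by simp⟩
  mul_mem' := by
    rintro x y ⟨hx, α, hα, hαx⟩ ⟨hy, β, hβ, hβy⟩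
    refine ⟨S.mul_mem hx hy, α * β, mul_mem hα hβ, fun t => ?_⟩
    rw [MulAut.mul_apply, hαx, hβy]
    group
  inv_mem' := by
    rintro x ⟨hx, α, hα, hαx⟩
    refine ⟨S.inv_mem hx, α⁻¹, inv_mem hα, fun t => ?_⟩
    have ht' : x⁻¹ * t * x ∈ T := by
      have := stronglyClosed_conj_mem F hT (S.inv_mem hx) t.2
      rwa [inv_inv] at this
    have h1 : α ⟨x⁻¹ * t * x, ht'⟩ = t := by
      apply Subtype.ext
      rw [hαx]
      show x * (x⁻¹ * t * x) * x⁻¹ = t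
      group
    have h2 : α⁻¹ t = ⟨x⁻¹ * t * x, ht'⟩ := (MulEquiv.symm_apply_eq α).2 h1.symm
    rw [h2, inv_inv]

theorem gen_mem [Finite S] {p : ℕ} [Fact p.Prime] (hS : IsPGroup p S) (F : Cfsg.FusionSystem S)
    (hF : F.IsSaturated p) (T : Subgroup Ω) (hT : F.StronglyClosed T) {P : Subgroup Ω}
    (hPS : P ≤ S) (α : F.autGroup P) (hα : Nat.Coprime (orderOf α) p) (x : P) :
    (x : Ω)⁻¹ * (((α : MulAut P) x : P) : Ω) ∈ KT F p T hT := by
  have hYS : P ⊔ T ≤ S := sup_le hPS hT.1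
  haveI : Finite ↥(P ⊔ T) := finite_of_le hYS
  haveI : Finite P := finite_of_le hPS
  have haF := (mem_autGroup_iff F hPS (α : MulAut P)).1 α.2
  obtain ⟨ψ, hψ, hmod⟩ := modExt_of_stronglyClosed hS F hF hT P _ haF
  have hval : ∀ y : ↥(P ⊔ T), ψ y ∈ P ⊔ T := by
    apply forall_mem_of_sup
    · intro u
      have h3 : ψ (Subgroup.inclusion le_sup_left u) = (((α : MulAut P) u : P) : Ω) *
          ((((α : MulAut P) u : P) : Ω)⁻¹ * ψ (Subgroup.inclusion le_sup_left u)) := by group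
      rw [h3]
      exact Subgroup.mul_mem _ (Subgroup.mem_sup_left ((α : MulAut P) u).2)
        (Subgroup.mem_sup_right (hmod u))
    · intro t
      exact Subgroup.mem_sup_right (stronglyClosed_map_mem F hT hψ _ t.2)
  have hinj : Function.Injective (ψ.codRestrict (P ⊔ T) hval) := by
    intro y z hyz
    exact F.injective_of_mem hψ (congrArg Subtype.val hyz)
  have hbij : Function.Bijective (ψ.codRestrict (P ⊔ T) hval) :=
    ⟨hinj, Finite.injective_iff_surjective.1 hinj⟩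
  obtain ⟨σ, hσdef⟩ : ∃ σ : MulAut ↥(P ⊔ T), ∀ y, ((σ y : ↥(P ⊔ T)) : Ω) = ψ y :=
    ⟨MulEquiv.ofBijective _ hbij, fun y => rfl⟩
  have hσF : (P ⊔ T).subtype.comp σ.toMonoidHom ∈ F.Hom (P ⊔ T) := by
    have h5 : (P ⊔ T).subtype.comp σ.toMonoidHom = ψ := by
      ext y
      exact hσdef y
    rw [h5]
    exact hψ
  have hσA : σ ∈ F.autGroup (P ⊔ T) := (mem_autGroup_iff F hYS σ).2 hσF
  have hσT : ∀ y : ↥(P ⊔ T), (y : Ω) ∈ T → ((σ y : ↥(P ⊔ T)) : Ω) ∈ T :=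
    fun y hy => stronglyClosed_map_mem F hT hσF y hy
  have hmod' : ∀ u : P, (((α : MulAut P) u : P) : Ω)⁻¹ *
      ((σ (Subgroup.inclusion le_sup_left u) : ↥(P ⊔ T)) : Ω) ∈ T := by
    intro u
    rw [hσdef]
    exact hmod u
  have hpowmod := pow_modT T P (α : MulAut P) σ hσT hmod'
  obtain ⟨k, n', hn', hN⟩ := Nat.exists_eq_pow_mul_and_not_dvd (orderOf_pos σ).ne' p
    (Fact.out : p.Prime).ne_one
  have hn'cop : n'.Coprime p := ((Nat.Prime.coprime_iff_not_dvd Fact.out).2 hn').symm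
  have hmcop : (p ^ k).Coprime (orderOf α) := Nat.Coprime.pow_left k hα.symm
  obtain ⟨e, he1, he2⟩ : ∃ e : ℕ, α ^ e = α ∧ (σ ^ e) ^ n' = 1 := by
    rcases Nat.lt_or_ge 1 (orderOf α) with h1 | h1
    · obtain ⟨c, -, hc⟩ := Nat.exists_mul_mod_eq_one_of_coprime hmcop h1
      refine ⟨p ^ k * c, ?_, ?_⟩
      · rw [← pow_mod_orderOf, hc, pow_one]
      · rw [← pow_mul, mul_right_comm, ← hN, pow_mul, pow_orderOf_eq_one, one_pow]
    · have h2 : orderOf α = 1 := by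
        have := orderOf_pos α
        omega
      rw [orderOf_eq_one_iff] at h2
      refine ⟨orderOf σ, ?_, ?_⟩
      · rw [h2, one_pow]
      · rw [pow_orderOf_eq_one, one_pow]
  obtain ⟨β, hβA, hβ⟩ := exists_restrict_aut F hT le_sup_right hYS (σ ^ e) (pow_mem hσA e)
  have hβn : β ^ n' = 1 := by
    ext t
    rw [restrict_pow le_sup_right (σ ^ e) β hβ n' t, he2]
    rfl
  have hβR := mem_pResidual_map (p := p) F hβA hn'cop hβn
  have hu := hpowmod e x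
  have hαe : (α : MulAut P) ^ e = α := by rw [← Subgroup.coe_pow, he1]
  rw [hαe] at hu
  have ht₁ : (((σ ^ e) (Subgroup.inclusion le_sup_left x) : ↥(P ⊔ T)) : Ω)⁻¹ *
      (((α : MulAut P) x : P) : Ω) ∈ T := by
    have := T.inv_mem hu
    rwa [mul_inv_rev, inv_inv] at this
  have hxN : (x : Ω) ∈ normalizerIn S T := ⟨hPS x.2, mem_normalizer_of_two_sided
    (fun y hy => stronglyClosed_conj_mem F hT (hPS x.2) hy)
    (fun y hy => by
      have := stronglyClosed_conj_mem F hT (S.inv_mem (hPS x.2)) hy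
      rwa [inv_inv] at this)⟩
  have hγA : conjAut S T ⟨x, hxN⟩ ∈ F.autGroup T :=
    autInducedBy_le_autGroup F hT.1 (conjAut_mem_autInducedBy S T _)
  refine ⟨S.mul_mem (S.inv_mem (hPS x.2)) (hPS ((α : MulAut P) x).2),
    ((conjAut S T ⟨x, hxN⟩)⁻¹ * β * conjAut S T ⟨x, hxN⟩) * β⁻¹ * MulAut.conj ⟨_, ht₁⟩, ?_, ?_⟩
  · apply mul_mem (mul_mem (Subgroup.mem_sup_left ?_) (Subgroup.mem_sup_left (inv_mem hβR)))
      (Subgroup.mem_sup_right (MonoidHom.mem_range.2 ⟨_, rfl⟩))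
    apply mem_pResidual_map F (mul_mem (mul_mem (inv_mem hγA) hβA) hγA) hn'cop
    have h6 : (conjAut S T ⟨x, hxN⟩)⁻¹ * β * conjAut S T ⟨x, hxN⟩ =
        (conjAut S T ⟨x, hxN⟩)⁻¹ * β * ((conjAut S T ⟨x, hxN⟩)⁻¹)⁻¹ := by rw [inv_inv]
    rw [h6, conj_pow, hβn]
    group
  · intro t
    have hTY : T ≤ P ⊔ T := le_sup_right
    have hkey : ∀ s : T, ((β (conjAut S T ⟨x, hxN⟩ (β⁻¹ s)) : T) : Ω) =
        (((σ ^ e) (Subgroup.inclusion le_sup_left x) : ↥(P ⊔ T)) : Ω) * s *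
          (((σ ^ e) (Subgroup.inclusion le_sup_left x) : ↥(P ⊔ T)) : Ω)⁻¹ := by
      intro s
      rw [hβ]
      have h1 : (⟨((conjAut S T ⟨x, hxN⟩ (β⁻¹ s) : T) : Ω),
          hTY (conjAut S T ⟨x, hxN⟩ (β⁻¹ s)).2⟩ : ↥(P ⊔ T)) =
          Subgroup.inclusion le_sup_left x * ⟨(β⁻¹ s : T), hTY (β⁻¹ s).2⟩ *
            (Subgroup.inclusion le_sup_left x)⁻¹ := by
        apply Subtype.ext
        rw [conjAut_apply]
        rfl
      rw [h1, map_mul, map_mul, map_inv]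
      have h2 : (((σ ^ e) ⟨(β⁻¹ s : T), hTY (β⁻¹ s).2⟩ : ↥(P ⊔ T)) : Ω) = s := by
        rw [← hβ]
        simp
      show (((σ ^ e) (Subgroup.inclusion le_sup_left x) : ↥(P ⊔ T)) : Ω) *
        ((σ ^ e) ⟨(β⁻¹ s : T), _⟩ : ↥(P ⊔ T)) *
        (((σ ^ e) (Subgroup.inclusion le_sup_left x) : ↥(P ⊔ T)) : Ω)⁻¹ = _
      rw [h2]
    have hγinv : ∀ w : T, (((conjAut S T ⟨x, hxN⟩)⁻¹ w : T) : Ω) = (x : Ω)⁻¹ * w * x := by
      intro w
      rw [← map_inv, conjAut_apply]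
      show (x : Ω)⁻¹ * w * ((x : Ω)⁻¹)⁻¹ = _
      rw [inv_inv]
    show (((conjAut S T ⟨x, hxN⟩)⁻¹ (β (conjAut S T ⟨x, hxN⟩
      (β⁻¹ (MulAut.conj (⟨_, ht₁⟩ : T) t)))) : T) : Ω) = _
    rw [hγinv, hkey]
    show (x : Ω)⁻¹ * (_ * (_ * (t : Ω) * _⁻¹) * _) * x = _
    group

theorem main [Finite S] (p : ℕ) [Fact p.Prime] (hS : IsPGroup p S) (F : Cfsg.FusionSystem S)
    (hF : F.IsSaturated p) (T : Subgroup Ω) (hT : F.StronglyClosed T) :
    ∀ x ∈ F.hyperfocalSubgroup p, ∃ α ∈ ((pResidual p (F.autGroup T)).map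
      (F.autGroup T).subtype ⊔ Inn T : Subgroup (MulAut T)),
      ∀ t : T, ((α t : T) : Ω) = x * (t : Ω) * x⁻¹ := by
  have hle : F.hyperfocalSubgroup p ≤ KT F p T hT := by
    apply (Subgroup.closure_le _).2
    rintro y ⟨P, α, x, hPS, hα, rfl⟩
    have key : ∀ α : F.autGroup P, α ∈ pResidual p (F.autGroup P) → ∀ x : P,
        (x : Ω)⁻¹ * (((α : MulAut P) x : P) : Ω) ∈ KT F p T hT := by
      intro α hα
      induction hα using Subgroup.closure_induction with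
      | mem α hα => exact gen_mem hS F hF T hT hPS α hα
      | one =>
        intro x
        simp
      | mul α β _ _ ihα ihβ =>
        intro x
        have h1 := ihβ x
        have h2 := ihα ((β : MulAut P) x)
        have h3 : (x : Ω)⁻¹ * ((((α * β : F.autGroup P) : MulAut P) x : P) : Ω) =
            ((x : Ω)⁻¹ * (((β : MulAut P) x : P) : Ω)) *
            ((((β : MulAut P) x : P) : Ω)⁻¹ * (((α : MulAut P) ((β : MulAut P) x) : P) : Ω)) := by
          rw [Subgroup.coe_mul, MulAut.mul_apply]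
          group
        rw [h3]
        exact mul_mem h1 h2
      | inv α _ ih =>
        intro x
        have h1 := ih (((α⁻¹ : F.autGroup P) : MulAut P) x)
        have h2 := inv_mem h1
        have h3 : ((((α⁻¹ : F.autGroup P) : MulAut P) x : P) : Ω)⁻¹ *
            (((α : MulAut P) (((α⁻¹ : F.autGroup P) : MulAut P) x) : P) : Ω) =
            ((x : Ω)⁻¹ * ((((α⁻¹ : F.autGroup P) : MulAut P) x : P) : Ω))⁻¹ := by
          rw [Subgroup.coe_inv, MulAut.apply_inv_self]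
          group
        rw [h3, inv_inv] at h2
        exact h2
    exact key α hα x
  intro x hx
  exact (hle hx).2

end

/-- Let F be a saturated fusion system over a finite p-group S and T a subgroup of S strongly closed in F (so T is normal in S). Then every element x of the hyperfocal subgroup of F acts on T by conjugation as an element of O^p(Aut_F(T))·Inn(T): there is an automorphism of T in the subgroup generated by the elements of Aut_F(T) of order prime to p together with the inner automorphisms of T that agrees with conjugation by x. -/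
theorem result {Ω : Type*} [Group Ω] {S : Subgroup Ω} [Finite S] (p : ℕ) [Fact p.Prime] (hS : IsPGroup p S) (F : Cfsg.FusionSystem S) (hF : F.IsSaturated p) (T : Subgroup Ω) (hT : F.StronglyClosed T) : ∀ x ∈ F.hyperfocalSubgroup p, ∃ α ∈ ((Cfsg.pResidual p ↥(F.autGroup T)).map (F.autGroup T).subtype ⊔ Cfsg.Inn ↥T : Subgroup (MulAut ↥T)), ∀ t : ↥T, ((α t : ↥T) : Ω) = x * (t : Ω) * x⁻¹ := by
  exact main p hS F hF T hT

end Cfsg.Agent.S5198
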