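import Cfsg.Statements.S5206
-- import your own Cfsg.Agent.* helpers here
import Cfsg.Agent.Lib.helper15.QdFusA
import Cfsg.Agent.Lib.helper15.QdFusB
import Cfsg.Agent.Lib.helper15.QdFusC
import Cfsg.Agent.Lib.helper25.ModelCore
import Cfsg.Agent.Lib.helper25.FusionLocal

set_option autoImplicit false
universe u
open Cfsg

namespace Cfsg.Agent.S5206

/-- Let p be an odd prime, G a finite group and P a Sylow p-subgroup of G. Then the fusion system of G on P is Qd(p)-free (Qd(p), the natural semidirect product of an elementary abelian group of order p² by SL₂(p), is not involved in any model of the normalizer system of a fully normalized centric subgroup) if and only if Qd(p) is not involved in G. -/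
theorem result {G : Type u} [Group G] [Finite G] {p : ℕ} [Fact p.Prime] (hp : p ≠ 2) (P : Sylow p G) : (Cfsg.groupFusionSystem (P : Subgroup G)).IsSectionFree p ↥(Cfsg.qd p) ↔ ¬ Cfsg.Involves ↥(Cfsg.qd p) G := by
  classical
  have hpp : p.Prime := Fact.out
  constructor
  · -- a section of G gives a model
    intro hfree h
    obtain ⟨E, hEP, hcard, hcentric, hinv⟩ :=
      Cfsg.Agent.Lib.helper15.QdS.exists_centric_of_involves hp P h
    have hFN : (Cfsg.groupFusionSystem (P : Subgroup G)).IsFullyNormalized E := by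
      refine ⟨hEP, ?_⟩
      rintro Q' ⟨φ, ⟨-, hval, g, hg⟩, rfl⟩
      have hrange : φ.range = E.map (MulAut.conj g).toMonoidHom := by
        ext y
        constructor
        · rintro ⟨x, rfl⟩
          exact ⟨x, x.2, (hg x).symm⟩
        · rintro ⟨x, hx, rfl⟩
          exact ⟨⟨x, hx⟩, hg ⟨x, hx⟩⟩
      rw [hrange]
      have h1 : Nat.card ↥(Cfsg.FusionSystem.normalizerIn (P : Subgroup G)
          (E.map (MulAut.conj g).toMonoidHom)) ≤
          p ^ (Nat.card ↥(Subgroup.normalizer
            ((E.map (MulAut.conj g).toMonoidHom : Subgroup G) : Set G))).factorization p :=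
        Cfsg.Agent.Lib.helper25.card_le_of_isPGroup (P.isPGroup'.to_le inf_le_left) inf_le_right
      rw [Cfsg.Agent.Lib.helper25.normalizer_map_cj, Cfsg.Agent.Lib.helper25.card_map_cj,
        ← hcard] at h1
      exact h1
    have hFC : (Cfsg.groupFusionSystem (P : Subgroup G)).IsCentric E := by
      refine ⟨hEP, ?_⟩
      rintro Q' ⟨φ, ⟨-, hval, g, hg⟩, rfl⟩
      have hrange : φ.range = E.map (MulAut.conj g).toMonoidHom := by
        ext y
        constructor
        · rintro ⟨x, rfl⟩
          exact ⟨x, x.2, (hg x).symm⟩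
        · rintro ⟨x, hx, rfl⟩
          exact ⟨⟨x, hx⟩, hg ⟨x, hx⟩⟩
      rw [hrange]
      apply hcentric g
      rw [← hrange]
      rintro _ ⟨x, rfl⟩
      exact hval x
    have hcen : (P : Subgroup G) ⊓ Subgroup.centralizer (E : Set G) ≤ E := by
      have h1 := hcentric 1
      rw [Cfsg.Agent.Lib.helper25.map_cj_one] at h1
      exact h1 hEP
    obtain ⟨O, hOn, hOc, hOd⟩ := Cfsg.Agent.Lib.helper15.QdS.exists_pprime_compl P E hcard hcen
    haveI := hOn
    have hN := Cfsg.Agent.Lib.helper25.isNormalizerSystem_normalizerSystem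
      (Cfsg.groupFusionSystem (P : Subgroup G)) E hEP
    have hmodel := Cfsg.Agent.Lib.helper15.QdS.isModel_of_compl P E hEP hcard _ hN O hOc hOd
    exact hfree E hFN hFC _ hN _ _ hmodel
      (Cfsg.Agent.Lib.helper15.QdS.involves_qd_quot_pprime O hOc hinv)
  · -- a model is a section of G, up to the centre of Q
    intro hG Q hFN hFC N hN L _ ι hmodel hinvL
    apply hG
    have hQP : Q ≤ (P : Subgroup G) := hFN.1
    have hQN : Q ≤ Cfsg.FusionSystem.normalizerIn (P : Subgroup G) Q :=
      Cfsg.Agent.Lib.helper25.le_normalizerIn_self hQP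
    have hNQ := Cfsg.Agent.Lib.helper25.isNormal_of_isNormalizerSystem
      (Cfsg.groupFusionSystem (P : Subgroup G)) hQP N hN
    have hnorm := Cfsg.Agent.Lib.helper25.map_normal_of_isNormal_of_isModel N ι hmodel hNQ
    obtain ⟨hfin, hr, ⟨T, hT⟩, hC⟩ := hmodel
    haveI := hfin
    have hιinj := hr.1
    obtain ⟨j, hjdef⟩ : ∃ j : Q →* L, j = ι.comp (Subgroup.inclusion hQN) := ⟨_, rfl⟩
    have hj : Function.Injective j := by
      rw [hjdef]
      exact hιinj.comp (Subgroup.inclusion_injective hQN)
    have hjι : ∀ x : Q, j x = ι ⟨(x : G), hQN x.2⟩ := by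
      intro x; rw [hjdef]; rfl
    have hjrange : j.range = (Q.subgroupOf (Cfsg.FusionSystem.normalizerIn (P : Subgroup G) Q)).map ι := by
      rw [hjdef, MonoidHom.range_comp, Subgroup.inclusion_range]
    haveI hjn : j.range.Normal := by rw [hjrange]; exact hnorm
    have hconjmem : ∀ (l : L) (y : L), y ∈ j.range → l * y * l⁻¹ ∈ j.range :=
      fun l y hy => hjn.conj_mem y hy l
    apply Cfsg.Agent.Lib.helper15.QdS.involves_of_model_rel hp Q j hj ?_ ?_ hinvL
    · -- every element of L acts on Q as an element of G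
      intro l
      obtain ⟨cl, hcl⟩ : ∃ cl : j.range →* j.range, ∀ y : j.range, ((cl y : j.range) : L) =
          l * (y : L) * l⁻¹ :=
        ⟨((MulAut.conj l).toMonoidHom.comp j.range.subtype).codRestrict j.range
          (fun y => hconjmem l y y.2), fun y => rfl⟩
      obtain ⟨ψ, hψdef⟩ : ∃ ψ : Q →* Q, ψ = (MonoidHom.ofInjective hj).symm.toMonoidHom.comp
          (cl.comp (MonoidHom.ofInjective hj).toMonoidHom) := ⟨_, rfl⟩
      have hψ : ∀ x : Q, j (ψ x) = l * j x * l⁻¹ := by
        intro x
        rw [hψdef]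
        show j ((MonoidHom.ofInjective hj).symm (cl (MonoidHom.ofInjective hj x))) = _
        rw [MonoidHom.apply_ofInjective_symm, hcl]
        rfl
      have hφN : ∀ x : Q, (Q.subtype.comp ψ) x ∈
          Cfsg.FusionSystem.normalizerIn (P : Subgroup G) Q := fun x => hQN (ψ x).2
      have hmem : Q.subtype.comp ψ ∈ N.Hom Q := by
        refine (hr.2 Q hQN (Q.subtype.comp ψ) hφN).2 ⟨l, fun x => ?_⟩
        have h1 := hψ x
        rw [hjι, hjι] at h1
        exact h1
      rw [hN Q] at hmem
      obtain ⟨⟨-, -, g, hg⟩, -⟩ := hmem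
      refine ⟨g, fun q => ?_⟩
      have h1 : g * (q : G) * g⁻¹ = (ψ q : G) := (hg q).symm
      have h2 : g * (q : G) * g⁻¹ ∈ Q := by rw [h1]; exact (ψ q).2
      refine ⟨h2, ?_⟩
      have h3 : (⟨g * (q : G) * g⁻¹, h2⟩ : Q) = ψ q := Subtype.ext h1
      rw [h3, hψ q]
    · -- p-elements centralizing Q come from the centre of Q
      intro l ⟨k, hk⟩ hcen
      have hpl : IsPGroup p ↥(Subgroup.zpowers l) := by
        have h1 : orderOf l ∣ p ^ k := orderOf_dvd_of_pow_eq_one hk
        obtain ⟨i, -, hi⟩ := (Nat.dvd_prime_pow hpp).1 h1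
        apply IsPGroup.of_card (n := i)
        rw [Nat.card_zpowers, hi]
      obtain ⟨c, hc⟩ := Cfsg.Agent.Lib.helper16.exists_conj_mem_sylow' T (Subgroup.zpowers l) hpl
      have h1 : c * l * c⁻¹ ∈ (T : Subgroup L) := hc l (Subgroup.mem_zpowers l)
      rw [hT] at h1
      obtain ⟨s, hs⟩ := h1
      -- s centralizes Q
      have hsC : ∀ x : Q, (s : G) * (x : G) * (s : G)⁻¹ = x := by
        intro x
        have hxN : (x : G) ∈ Cfsg.FusionSystem.normalizerIn (P : Subgroup G) Q := hQN x.2
        obtain ⟨x', hx'⟩ := hconjmem c⁻¹ (j x) ⟨x, rfl⟩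
        have h2 : c⁻¹ * j x * c = j x' := by
          rw [hx']; simp
        have h3 : ι s * j x * (ι s)⁻¹ = j x := by
          rw [hs]
          have e : c * l * c⁻¹ * j x * (c * l * c⁻¹)⁻¹ = c * (l * (c⁻¹ * j x * c) * l⁻¹) * c⁻¹ := by
            group
          rw [e, h2, hcen x', ← h2]
          group
        rw [hjι] at h3
        rw [← map_inv, ← map_mul, ← map_mul] at h3
        have h4 := hιinj h3
        exact congrArg Subtype.val h4
      have hsQ : (s : G) ∈ Q := by
        apply hFC.2 Q (Cfsg.Agent.Lib.helper25.isConj_refl _ hQP)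
        refine ⟨s.2.1, ?_⟩
        show (s : G) ∈ Subgroup.centralizer (Q : Set G)
        rw [Subgroup.mem_centralizer_iff]
        intro x hx
        have := hsC ⟨x, hx⟩
        have e : x * (s : G) = ((s : G) * x * (s : G)⁻¹) * (s : G) := by rw [this]
        rw [e]; group
      have hl : l ∈ j.range := by
        have h5 : c * l * c⁻¹ ∈ j.range := by
          rw [← hs]
          exact ⟨⟨(s : G), hsQ⟩, hjι _⟩
        have h6 := hconjmem c⁻¹ _ h5
        have e : c⁻¹ * (c * l * c⁻¹) * c⁻¹⁻¹ = l := by group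
        rwa [e] at h6
      obtain ⟨z, hz⟩ := hl
      refine ⟨z, ?_, hz⟩
      rw [Subgroup.mem_center_iff]
      intro x
      apply hj
      have h7 := hcen x
      rw [← hz] at h7
      rw [map_mul, map_mul]
      have e : j x * j z = (j z * j x * (j z)⁻¹) * j z := by rw [h7]
      rw [e]; group


end Cfsg.Agent.S5206
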