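import Cfsg.Statements.S5224
import Cfsg.Agent.Lib.helper7.TateFus

set_option autoImplicit false
open Cfsg

namespace Cfsg.Agent.S5224

open scoped commutatorElement
open Cfsg.FusionSystem Cfsg.Agent.Lib.helper25 Cfsg.Agent.Lib.helper7.TateFus

/-- Tate's Theorem for fusion systems. Let F be a saturated fusion system over a finite p-group S and H a saturated fusion system over S contained in F. Then the following are equivalent: the elementary focal subgroups Φ(S)·foc agree for F and H; the focal subgroups of F and H agree; the hyperfocal subgroups of F and H agree. -/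
theorem result {Ω : Type*} [Group Ω] {S : Subgroup Ω} [Finite S] (p : ℕ) [Fact p.Prime] (hS : IsPGroup p S) (F : Cfsg.FusionSystem S) (hF : F.IsSaturated p) (H : Cfsg.FusionSystem S) (hH : H.IsSaturated p) (hHF : H.IsSubsystemOf F) : (((frattini ↥S).map S.subtype ⊔ F.focalSubgroup) = ((frattini ↥S).map S.subtype ⊔ H.focalSubgroup) ↔ F.focalSubgroup = H.focalSubgroup) ∧ (F.focalSubgroup = H.focalSubgroup ↔ F.hyperfocalSubgroup p = H.hyperfocalSubgroup p) := by
  have hfm := focal_mono F H hHF
  have hhm := hyperfocal_mono F H p hHF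
  refine ⟨⟨fun h => ?_, fun h => by rw [h]⟩, ⟨fun h => ?_, fun h => ?_⟩⟩
  · apply le_antisymm _ hfm
    apply focal_le_of_frattini hS F hF H.focalSubgroup (comm_le_focal H) hfm
    rw [← h]
    exact le_sup_right
  · apply le_antisymm _ hhm
    apply hyp_le_of_focal_le hS F hF (H.hyperfocalSubgroup p) hhm
      (fun s hs n hn => hyperfocal_conj_mem H p hs hn)
    rw [h, focal_eq_hyperfocal_sup hS H hH]
  · rw [focal_eq_hyperfocal_sup hS F hF, focal_eq_hyperfocal_sup hS H hH, h]

end Cfsg.Agent.S5224
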