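import Cfsg.Statements.S5249
-- import your own Cfsg.Agent.* helpers here
import Cfsg.Agent.Lib.helper15.FusFac
import Cfsg.Agent.Lib.helper15.QdZJ
import Cfsg.Agent.Lib.helper15.Inv

set_option autoImplicit false
open Cfsg

namespace Cfsg.Agent.S5249

/-- Let p be an odd prime, G a finite group in which Qd(p) (the natural semidirect product of an elementary abelian group of order p² by SL₂(p)) is not involved, and P a Sylow p-subgroup of G. Then the fusion system of G on P is a solvable fusion system. -/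
theorem result {G : Type*} [Group G] [Finite G] {p : ℕ} [Fact p.Prime] (hp : p ≠ 2) (hqd : ¬ Cfsg.Involves ↥(Cfsg.qd p) G) (P : Sylow p G) : (Cfsg.groupFusionSystem (P : Subgroup G)).IsSolvableSystem := by
  classical
  intro R hR hRP hRn E hE
  have hRle : R ≤ (P : Subgroup G) := hR.1
  haveI : Finite R := inferInstance
  have hPN : (P : Subgroup G) ≤ Subgroup.normalizer (R : Set G) := by
    intro s hs
    apply Cfsg.Agent.Lib.helper14.mem_normalizer_of_forall_conj_mem R s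
    intro x hx
    exact hR.2 R le_rfl (Cfsg.conjHom R s)
      ((Cfsg.groupFusionSystem (P : Subgroup G)).conj_mem hRle hs) ⟨x, hx⟩
  haveI hRnN : (R.subgroupOf (Subgroup.normalizer (R : Set G))).Normal :=
    Subgroup.normal_in_normalizer
  have hfreeX : ¬ Cfsg.Involves ↥(Cfsg.qd p)
      (↥(Subgroup.normalizer (R : Set G)) ⧸ R.subgroupOf (Subgroup.normalizer (R : Set G))) :=
    fun h => hqd (Cfsg.Agent.Lib.helper15.inv_trans h
      ⟨Subgroup.normalizer (R : Set G), R, hRnN, ⟨MulEquiv.refl _⟩⟩)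
  obtain ⟨S₁, hS₁c⟩ : ∃ S₁ : Sylow p (↥(Subgroup.normalizer (R : Set G)) ⧸
      R.subgroupOf (Subgroup.normalizer (R : Set G))), (S₁ : Subgroup _) =
      Subgroup.map (QuotientGroup.mk' (R.subgroupOf (Subgroup.normalizer (R : Set G))))
        ((P : Subgroup G).subgroupOf (Subgroup.normalizer (R : Set G))) :=
    ⟨(P.subtype hPN).mapSurjective (QuotientGroup.mk'_surjective _), rfl⟩
  have hS₁ : ∀ (s : G) (hs : s ∈ (P : Subgroup G)),
      QuotientGroup.mk' (R.subgroupOf (Subgroup.normalizer (R : Set G))) ⟨s, hPN hs⟩ ∈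
        (S₁ : Subgroup _) := by
    intro s hs
    rw [hS₁c]
    exact ⟨⟨s, hPN hs⟩, Subgroup.mem_subgroupOf.2 hs, rfl⟩
  have mkP : ∀ n : ↥(Subgroup.normalizer (R : Set G)),
      QuotientGroup.mk' (R.subgroupOf (Subgroup.normalizer (R : Set G))) n ∈ (S₁ : Subgroup _) →
        (n : G) ∈ (P : Subgroup G) := by
    intro n hn
    rw [hS₁c] at hn
    obtain ⟨s, hs, hsn⟩ := hn
    have h3 : s⁻¹ * n ∈ R.subgroupOf (Subgroup.normalizer (R : Set G)) := QuotientGroup.eq.1 hsn
    have h4 : (s : G)⁻¹ * n ∈ R := Subgroup.mem_subgroupOf.1 h3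
    have h5 : (n : G) = (s : G) * ((s : G)⁻¹ * n) := by group
    rw [h5]
    exact Subgroup.mul_mem _ (Subgroup.mem_subgroupOf.1 hs) (hRle h4)
  -- the embedding of P/R into N/R
  obtain ⟨ι, hι⟩ : ∃ ι : (↥(P : Subgroup G) ⧸ R.subgroupOf (P : Subgroup G)) →*
      (↥(Subgroup.normalizer (R : Set G)) ⧸ R.subgroupOf (Subgroup.normalizer (R : Set G))),
      ∀ (s : G) (hs : s ∈ (P : Subgroup G)),
        ι (QuotientGroup.mk' (R.subgroupOf (P : Subgroup G)) ⟨s, hs⟩) =
          QuotientGroup.mk' (R.subgroupOf (Subgroup.normalizer (R : Set G))) ⟨s, hPN hs⟩ :=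
    ⟨QuotientGroup.map (R.subgroupOf (P : Subgroup G))
      (R.subgroupOf (Subgroup.normalizer (R : Set G))) (Subgroup.inclusion hPN)
      (fun x hx => hx), fun s hs => rfl⟩
  have hnorm : E.IsNormal ((Cfsg.centerThompsonAOf (S₁ : Subgroup _)).comap ι) := by
    apply Cfsg.Agent.Lib.helper15.factor_normal_of_ctl (P : Subgroup G) R hR E hE
    intro T hRT hTP g hg
    have hgN : g ∈ Subgroup.normalizer (R : Set G) :=
      Cfsg.Agent.Lib.helper14.mem_normalizer_of_forall_conj_mem R g (fun x hx =>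
        hR.2 R le_rfl (Cfsg.conjHom R g) ⟨hRle, fun x => hg _ (hRT x.2), g, fun x => rfl⟩ ⟨x, hx⟩)
    obtain ⟨c', hcN, hc⟩ := Cfsg.Agent.Lib.helper15.Qd.zj_strong_fusion_of_qd_free hp hfreeX S₁
      ((fun x : ↥(Subgroup.normalizer (R : Set G)) =>
        QuotientGroup.mk' (R.subgroupOf (Subgroup.normalizer (R : Set G))) x) ''
          {x : ↥(Subgroup.normalizer (R : Set G)) | (x : G) ∈ T})
      (QuotientGroup.mk' (R.subgroupOf (Subgroup.normalizer (R : Set G))) ⟨g, hgN⟩)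
      (by
        rintro _ ⟨x, hx, rfl⟩
        exact hS₁ x (hTP hx))
      (by
        rintro _ ⟨x, hx, rfl⟩
        have h1 := hS₁ (g * x * g⁻¹) (hg x hx)
        have e : (⟨g * x * g⁻¹, hPN (hg x hx)⟩ : ↥(Subgroup.normalizer (R : Set G))) =
            ⟨g, hgN⟩ * x * ⟨g, hgN⟩⁻¹ := Subtype.ext rfl
        rw [e, map_mul, map_mul, map_inv] at h1
        exact h1)
    obtain ⟨c, rfl⟩ := QuotientGroup.mk'_surjective _ c'
    refine ⟨(c : G), ?_, ?_, ?_⟩
    · intro x hx
      have hxN : x ∈ Subgroup.normalizer (R : Set G) := hPN (hTP hx)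
      have h1 := hc (QuotientGroup.mk' (R.subgroupOf (Subgroup.normalizer (R : Set G))) ⟨x, hxN⟩)
        ⟨⟨x, hxN⟩, hx, rfl⟩
      rw [← map_inv, ← map_mul, ← map_mul, ← map_inv, ← map_mul, ← map_mul] at h1
      have hgx : g * x * g⁻¹ ∈ (P : Subgroup G) := hg x hx
      have hcx : (c : G) * x * (c : G)⁻¹ ∈ (P : Subgroup G) := by
        have := mkP (c * ⟨x, hxN⟩ * c⁻¹) (by
          rw [h1]
          exact hS₁ (g * x * g⁻¹) hgx)
        exact this
      refine ⟨hcx, hgx, ?_⟩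
      have h2 : (c * ⟨x, hxN⟩ * c⁻¹)⁻¹ * (⟨g, hgN⟩ * ⟨x, hxN⟩ * ⟨g, hgN⟩⁻¹) ∈
          R.subgroupOf (Subgroup.normalizer (R : Set G)) := QuotientGroup.eq.1 h1
      have h3 : ((c : G) * x * (c : G)⁻¹)⁻¹ * (g * x * g⁻¹) ∈ R := Subgroup.mem_subgroupOf.1 h2
      exact QuotientGroup.eq.2 (Subgroup.mem_subgroupOf.2 h3)
    · intro x hx hxW
      have h1 : QuotientGroup.mk' (R.subgroupOf (Subgroup.normalizer (R : Set G))) ⟨x, hPN hx⟩ ∈
          Cfsg.centerThompsonAOf (S₁ : Subgroup _) := by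
        rw [← hι x hx]; exact hxW
      have h2 := (Subgroup.mem_normalizer_iff.1 hcN _).1 h1
      rw [← map_inv, ← map_mul, ← map_mul] at h2
      have h3 : (c : G) * x * (c : G)⁻¹ ∈ (P : Subgroup G) :=
        mkP (c * ⟨x, hPN hx⟩ * c⁻¹)
          (Cfsg.Agent.Lib.helper15.centerThompsonAOf_le _ h2)
      refine ⟨h3, ?_⟩
      refine Subgroup.mem_comap.2 ?_
      rw [hι _ h3]
      exact h2
    · intro x hx hxW
      have h1 : QuotientGroup.mk' (R.subgroupOf (Subgroup.normalizer (R : Set G))) ⟨x, hPN hx⟩ ∈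
          Cfsg.centerThompsonAOf (S₁ : Subgroup _) := by
        rw [← hι x hx]; exact hxW
      have h2 := (Subgroup.mem_normalizer_iff.1 (Subgroup.inv_mem _ hcN) _).1 h1
      rw [inv_inv, ← map_inv, ← map_mul, ← map_mul] at h2
      have h3 : (c : G)⁻¹ * x * (c : G) ∈ (P : Subgroup G) :=
        mkP (c⁻¹ * ⟨x, hPN hx⟩ * c)
          (Cfsg.Agent.Lib.helper15.centerThompsonAOf_le _ h2)
      refine ⟨h3, ?_⟩
      refine Subgroup.mem_comap.2 ?_
      rw [hι _ h3]
      exact h2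
  -- nontriviality
  have hS₁ne : (S₁ : Subgroup (↥(Subgroup.normalizer (R : Set G)) ⧸
      R.subgroupOf (Subgroup.normalizer (R : Set G)))) ≠ ⊥ := by
    intro hbot
    apply hRP
    apply le_antisymm hRle
    intro s hs
    have h1 := hS₁ s hs
    rw [hbot, Subgroup.mem_bot] at h1
    have h2 : (⟨s, hPN hs⟩ : ↥(Subgroup.normalizer (R : Set G))) ∈
        R.subgroupOf (Subgroup.normalizer (R : Set G)) :=
      (QuotientGroup.eq_one_iff _).1 h1
    exact Subgroup.mem_subgroupOf.1 h2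
  have hZ := Cfsg.Agent.Lib.helper15.centerThompsonAOf_ne_bot (p := p) _ S₁.isPGroup' hS₁ne
  rw [Ne, Subgroup.eq_bot_iff_forall] at hZ
  push Not at hZ
  obtain ⟨z, hz, hz1⟩ := hZ
  have hzS := Cfsg.Agent.Lib.helper15.centerThompsonAOf_le _ hz
  rw [hS₁c] at hzS
  obtain ⟨s, hs, rfl⟩ := hzS
  intro hcore
  have hle : (Cfsg.centerThompsonAOf (S₁ : Subgroup _)).comap ι ≤ E.core := le_sSup hnorm
  rw [hcore] at hle
  have h1 : QuotientGroup.mk' (R.subgroupOf (P : Subgroup G))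
      ⟨(s : G), Subgroup.mem_subgroupOf.1 hs⟩ ∈
      (Cfsg.centerThompsonAOf (S₁ : Subgroup _)).comap ι := by
    refine Subgroup.mem_comap.2 ?_
    rw [hι]
    exact hz
  have h2 := hle h1
  rw [Subgroup.mem_bot] at h2
  apply hz1
  have h3 := hι (s : G) (Subgroup.mem_subgroupOf.1 hs)
  rw [h2, map_one] at h3
  exact h3.symm


end Cfsg.Agent.S5249
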