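import Cfsg.Statements.S5256
-- import your own Cfsg.Agent.* helpers here
import Cfsg.Agent.S5198

set_option autoImplicit false
open Cfsg

namespace Cfsg.Agent.S5256

section

open Cfsg.Agent.Lib.helper26 Cfsg.FusionSystem
open Cfsg.Agent.Lib.helper25 (ModExt modExt_of_stronglyClosed stronglyClosed_map_mem forall_mem_of_sup)

variable {Ω : Type*} [Group Ω] {S : Subgroup Ω}

theorem exists_exp {G H : Type*} [Group G] [Group H] {p : ℕ} [Fact p.Prime] (a : G) (b : H)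
    (ha : (orderOf a).Coprime p) (hb : 0 < orderOf b) :
    ∃ e n : ℕ, n.Coprime p ∧ a ^ e = a ∧ (b ^ e) ^ n = 1 := by
  obtain ⟨k, n', hn', hN⟩ := Nat.exists_eq_pow_mul_and_not_dvd hb.ne' p
    (Fact.out : p.Prime).ne_one
  have hn'cop : n'.Coprime p := ((Nat.Prime.coprime_iff_not_dvd Fact.out).2 hn').symm
  have hmcop : (p ^ k).Coprime (orderOf a) := Nat.Coprime.pow_left k ha.symm
  rcases Nat.lt_or_ge 1 (orderOf a) with h1 | h1
  · obtain ⟨c, -, hc⟩ := Nat.exists_mul_mod_eq_one_of_coprime hmcop h1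
    refine ⟨p ^ k * c, n', hn'cop, ?_, ?_⟩
    · rw [← pow_mod_orderOf, hc, pow_one]
    · rw [← pow_mul, mul_right_comm, ← hN, pow_mul, pow_orderOf_eq_one, one_pow]
  · have h2 : orderOf a = 1 := by
      rcases Nat.eq_zero_or_pos (orderOf a) with h0 | h0
      · rw [h0] at ha
        have := (Nat.coprime_zero_left p).1 ha
        exact absurd this (Fact.out : p.Prime).ne_one
      · omega
    rw [orderOf_eq_one_iff] at h2
    refine ⟨orderOf b, n', hn'cop, ?_, ?_⟩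
    · rw [h2, one_pow]
    · rw [pow_orderOf_eq_one, one_pow]

theorem resid_induction {p : ℕ} (F : Cfsg.FusionSystem S) (K : Subgroup Ω) (P : Subgroup Ω)
    (h : ∀ α : F.autGroup P, Nat.Coprime (orderOf α) p → ∀ x : P,
      (x : Ω)⁻¹ * (((α : MulAut P) x : P) : Ω) ∈ K) :
    ∀ α : F.autGroup P, α ∈ pResidual p (F.autGroup P) → ∀ x : P,
      (x : Ω)⁻¹ * (((α : MulAut P) x : P) : Ω) ∈ K := by
  intro α hα
  induction hα using Subgroup.closure_induction with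
  | mem α hα => exact h α hα
  | one =>
    intro x
    simp
  | mul α β _ _ ihα ihβ =>
    intro x
    have h1 := ihβ x
    have h2 := ihα ((β : MulAut P) x)
    have h3 : (x : Ω)⁻¹ * ((((α * β : F.autGroup P) : MulAut P) x : P) : Ω) =
        ((x : Ω)⁻¹ * (((β : MulAut P) x : P) : Ω)) *
        ((((β : MulAut P) x : P) : Ω)⁻¹ * (((α : MulAut P) ((β : MulAut P) x) : P) : Ω)) := by
      rw [Subgroup.coe_mul, MulAut.mul_apply]
      group
    rw [h3]
    exact mul_mem h1 h2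
  | inv α _ ih =>
    intro x
    have h1 := ih (((α⁻¹ : F.autGroup P) : MulAut P) x)
    have h2 := inv_mem h1
    have h3 : ((((α⁻¹ : F.autGroup P) : MulAut P) x : P) : Ω)⁻¹ *
        (((α : MulAut P) (((α⁻¹ : F.autGroup P) : MulAut P) x) : P) : Ω) =
        ((x : Ω)⁻¹ * ((((α⁻¹ : F.autGroup P) : MulAut P) x : P) : Ω))⁻¹ := by
      rw [Subgroup.coe_inv, MulAut.apply_inv_self]
      group
    rw [h3, inv_inv] at h2
    exact h2

theorem induced_aut {A B : Type*} [Group A] [Group B] (f : A →* B) (hf : Function.Surjective f)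
    (τ : MulAut A) (hτ : ∀ a, f a = 1 → f (τ a) = 1) (hτi : ∀ a, f a = 1 → f (τ⁻¹ a) = 1) :
    ∃ τ' : MulAut B, ∀ a, τ' (f a) = f (τ a) := by
  let g₁ : B →* B := f.liftOfSurjective hf ⟨f.comp τ.toMonoidHom, fun a ha => by
    rw [MonoidHom.mem_ker] at ha ⊢
    exact hτ a ha⟩
  let g₂ : B →* B := f.liftOfSurjective hf ⟨f.comp (τ⁻¹).toMonoidHom, fun a ha => by
    rw [MonoidHom.mem_ker] at ha ⊢
    exact hτi a ha⟩
  have h₁ : ∀ a, g₁ (f a) = f (τ a) := fun a =>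
    MonoidHom.liftOfRightInverse_comp_apply _ _ _ _ a
  have h₂ : ∀ a, g₂ (f a) = f (τ⁻¹ a) := fun a =>
    MonoidHom.liftOfRightInverse_comp_apply _ _ _ _ a
  refine ⟨MonoidHom.toMulEquiv g₁ g₂ ?_ ?_, fun a => h₁ a⟩
  · ext b
    obtain ⟨a, rfl⟩ := hf b
    show g₂ (g₁ (f a)) = f a
    rw [h₁, h₂]
    simp
  · ext b
    obtain ⟨a, rfl⟩ := hf b
    show g₁ (g₂ (f a)) = f a
    rw [h₂, h₁]
    simp

variable {Ω' : Type*} [Group Ω'] {S' : Subgroup Ω'}

theorem preimageAlong_le (θ : ↥S →* Ω') (P' : Subgroup Ω') : preimageAlong θ P' ≤ S := by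
  rintro _ ⟨s, -, rfl⟩
  exact s.2

theorem map_mem_of_mem (θ : ↥S →* Ω') (P' : Subgroup Ω') (y : Ω)
    (hy : y ∈ preimageAlong θ P') : θ ⟨y, preimageAlong_le θ P' hy⟩ ∈ P' := by
  obtain ⟨s, hs, rfl⟩ := hy
  exact hs

/-- the map from the full preimage onto the image -/
def toImage (θ : ↥S →* Ω') (P' : Subgroup Ω') : ↥(preimageAlong θ P') →* ↥P' :=
  (θ.comp (Subgroup.inclusion (preimageAlong_le θ P'))).codRestrict P'
    (fun y => map_mem_of_mem θ P' y y.2)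

theorem toImage_surj (θ : ↥S →* Ω') (P' : Subgroup Ω') (hP' : P' ≤ θ.range) :
    Function.Surjective (toImage θ P') := by
  intro x'
  obtain ⟨s, hs⟩ := hP' x'.2
  have hmem : (s : Ω) ∈ preimageAlong θ P' := ⟨s, by
    show θ s ∈ P'
    rw [hs]
    exact x'.2, rfl⟩
  exact ⟨⟨s, hmem⟩, Subtype.ext hs⟩

theorem gen2 {p : ℕ} (F : Cfsg.FusionSystem S) (T : Subgroup Ω)
    (hT : F.StronglyClosed T) (θ : ↥S →* Ω') (E : Cfsg.FusionSystem S')
    (hE : F.IsFactorSystem T θ E) (P' : Subgroup Ω') (hP' : P' ≤ S') (Y : Subgroup Ω)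
    (hY : Y = preimageAlong θ P') (τ : MulAut Y) (hτ : τ ∈ F.autGroup Y) (n : ℕ)
    (hn : n.Coprime p) (hτn : τ ^ n = 1) (y : Y) (hyS : (y : Ω)⁻¹ * ((τ y : Y) : Ω) ∈ S) :
    θ ⟨(y : Ω)⁻¹ * ((τ y : Y) : Ω), hyS⟩ ∈ E.hyperfocalSubgroup p := by
  subst hY
  have hYS := preimageAlong_le θ P'
  have hτF := (mem_autGroup_iff F hYS τ).1 hτ
  have hτiF := (mem_autGroup_iff F hYS τ⁻¹).1 (inv_mem hτ)
  have hker : ∀ a : ↥(preimageAlong θ P'), toImage θ P' a = 1 ↔ (a : Ω) ∈ T := by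
    intro a
    rw [← hE.2.1 ⟨a, hYS a.2⟩]
    constructor
    · intro h
      exact congrArg Subtype.val h
    · intro h
      exact Subtype.ext h
  have hsurj := toImage_surj θ P' (hE.2.2.1 ▸ hP')
  obtain ⟨τ', hτ'⟩ := induced_aut (toImage θ P') hsurj τ
    (fun a ha => (hker _).2 (stronglyClosed_map_mem F hT hτF a ((hker a).1 ha)))
    (fun a ha => (hker _).2 (stronglyClosed_map_mem F hT hτiF a ((hker a).1 ha)))
  have hτ'A : τ' ∈ E.autGroup P' := by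
    rw [mem_autGroup_iff E hP' τ']
    refine (hE.2.2.2 P' _).2 ⟨hP', _, hτF, hYS, fun x => hYS (τ x).2,
      fun x => map_mem_of_mem θ P' x x.2, fun x => ?_⟩
    exact congrArg Subtype.val (hτ' x)
  have hpow : ∀ (j : ℕ) (a : ↥(preimageAlong θ P')),
      (τ' ^ j) (toImage θ P' a) = toImage θ P' ((τ ^ j) a) := by
    intro j
    induction j with
    | zero =>
      intro a
      rfl
    | succ j ih =>
      intro a
      rw [pow_succ', pow_succ', MulAut.mul_apply, MulAut.mul_apply, ih, hτ']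
  have hτ'n : τ' ^ n = 1 := by
    ext b
    obtain ⟨a, rfl⟩ := hsurj b
    rw [hpow, hτn]
    rfl
  have hres : (⟨τ', hτ'A⟩ : E.autGroup P') ∈ pResidual p (E.autGroup P') := by
    refine Subgroup.subset_closure ?_
    show Nat.Coprime (orderOf (⟨τ', hτ'A⟩ : E.autGroup P')) p
    have h1 : (⟨τ', hτ'A⟩ : E.autGroup P') ^ n = 1 := Subtype.ext hτ'n
    exact Nat.Coprime.coprime_dvd_left (orderOf_dvd_of_pow_eq_one h1) hn
  refine Subgroup.subset_closure ⟨P', ⟨τ', hτ'A⟩, toImage θ P' y, hP', hres, ?_⟩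
  show _ = ((toImage θ P' y : P') : Ω')⁻¹ * ((τ' (toImage θ P' y) : P') : Ω')
  rw [hτ']
  show _ = (θ ⟨y, hYS y.2⟩)⁻¹ * θ ⟨(τ y : ↥(preimageAlong θ P')), hYS (τ y).2⟩
  rw [← map_inv, ← map_mul]
  rfl

theorem exists_lift [Finite S] {p : ℕ} [Fact p.Prime] (hS : IsPGroup p S)
    (F : Cfsg.FusionSystem S) (hF : F.IsSaturated p) (T : Subgroup Ω)
    (hT : F.StronglyClosed T) {P : Subgroup Ω} (hPS : P ≤ S) (α : F.autGroup P)
    (hα : Nat.Coprime (orderOf α) p) :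
    ∃ (τ : MulAut ↥(P ⊔ T)) (n : ℕ), τ ∈ F.autGroup (P ⊔ T) ∧ n.Coprime p ∧ τ ^ n = 1 ∧
      ∀ u : P, (((α : MulAut P) u : P) : Ω)⁻¹ *
        ((τ (Subgroup.inclusion le_sup_left u) : ↥(P ⊔ T)) : Ω) ∈ T := by
  have hYS : P ⊔ T ≤ S := sup_le hPS hT.1
  haveI : Finite ↥(P ⊔ T) := finite_of_le hYS
  haveI : Finite P := finite_of_le hPS
  have haF := (mem_autGroup_iff F hPS (α : MulAut P)).1 α.2
  obtain ⟨ψ, hψ, hmod⟩ := modExt_of_stronglyClosed hS F hF hT P _ haF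
  have hval : ∀ y : ↥(P ⊔ T), ψ y ∈ P ⊔ T := by
    apply forall_mem_of_sup
    · intro u
      have h3 : ψ (Subgroup.inclusion le_sup_left u) = (((α : MulAut P) u : P) : Ω) *
          ((((α : MulAut P) u : P) : Ω)⁻¹ * ψ (Subgroup.inclusion le_sup_left u)) := by group
      rw [h3]
      exact Subgroup.mul_mem _ (Subgroup.mem_sup_left ((α : MulAut P) u).2)
        (Subgroup.mem_sup_right (hmod u))
    · intro t
      exact Subgroup.mem_sup_right (stronglyClosed_map_mem F hT hψ _ t.2)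
  have hinj : Function.Injective (ψ.codRestrict (P ⊔ T) hval) := by
    intro y z hyz
    exact F.injective_of_mem hψ (congrArg Subtype.val hyz)
  have hbij : Function.Bijective (ψ.codRestrict (P ⊔ T) hval) :=
    ⟨hinj, Finite.injective_iff_surjective.1 hinj⟩
  obtain ⟨σ, hσdef⟩ : ∃ σ : MulAut ↥(P ⊔ T), ∀ y, ((σ y : ↥(P ⊔ T)) : Ω) = ψ y :=
    ⟨MulEquiv.ofBijective _ hbij, fun y => rfl⟩
  have hσF : (P ⊔ T).subtype.comp σ.toMonoidHom ∈ F.Hom (P ⊔ T) := by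
    have h5 : (P ⊔ T).subtype.comp σ.toMonoidHom = ψ := by
      ext y
      exact hσdef y
    rw [h5]
    exact hψ
  have hσA : σ ∈ F.autGroup (P ⊔ T) := (mem_autGroup_iff F hYS σ).2 hσF
  have hσT : ∀ y : ↥(P ⊔ T), (y : Ω) ∈ T → ((σ y : ↥(P ⊔ T)) : Ω) ∈ T :=
    fun y hy => stronglyClosed_map_mem F hT hσF y hy
  have hmod' : ∀ u : P, (((α : MulAut P) u : P) : Ω)⁻¹ *
      ((σ (Subgroup.inclusion le_sup_left u) : ↥(P ⊔ T)) : Ω) ∈ T := by
    intro u
    rw [hσdef]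
    exact hmod u
  have hpowmod := Cfsg.Agent.S5198.pow_modT T P (α : MulAut P) σ hσT hmod'
  obtain ⟨e, n, hn, he1, he2⟩ := exists_exp (p := p) α σ hα (orderOf_pos σ)
  refine ⟨σ ^ e, n, pow_mem hσA e, hn, he2, fun u => ?_⟩
  have hu := hpowmod e u
  have hαe : (α : MulAut P) ^ e = α := by rw [← Subgroup.coe_pow, he1]
  rw [hαe] at hu
  exact hu

theorem gen [Finite S] {p : ℕ} [Fact p.Prime] (hS : IsPGroup p S)
    (F : Cfsg.FusionSystem S) (hF : F.IsSaturated p) (T : Subgroup Ω)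
    (hT : F.StronglyClosed T) (θ : ↥S →* Ω') (E : Cfsg.FusionSystem S')
    (hE : F.IsFactorSystem T θ E) {P : Subgroup Ω} (hPS : P ≤ S) (α : F.autGroup P)
    (hα : Nat.Coprime (orderOf α) p) (x : P) :
    (x : Ω)⁻¹ * (((α : MulAut P) x : P) : Ω) ∈ preimageAlong θ (E.hyperfocalSubgroup p) := by
  have hYS : P ⊔ T ≤ S := sup_le hPS hT.1
  obtain ⟨τ, n, hτA, hn, hτn, hmod⟩ := exists_lift hS F hF T hT hPS α hα
  have hTY : T ≤ P ⊔ T := le_sup_right
  have hY : P ⊔ T = preimageAlong θ (imageAlong θ (P ⊔ T)) := by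
    apply le_antisymm
    · intro y hy
      exact ⟨⟨y, hYS hy⟩, ⟨⟨y, hYS hy⟩, Subgroup.mem_subgroupOf.2 hy, rfl⟩, rfl⟩
    · rintro _ ⟨s, ⟨s₂, hs₂, hs₂s⟩, rfl⟩
      have h1 : θ (s₂⁻¹ * s) = 1 := by
        rw [map_mul, map_inv, hs₂s]
        simp
      have h2 : ((s₂⁻¹ * s : S) : Ω) ∈ T := (hE.2.1 _).1 h1
      have h3 : (s : Ω) = (s₂ : Ω) * ((s₂⁻¹ * s : S) : Ω) := by
        push_cast
        group
      show (s : Ω) ∈ P ⊔ T
      rw [h3]
      exact mul_mem (Subgroup.mem_subgroupOf.1 hs₂) (hTY h2)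
  have hP' : imageAlong θ (P ⊔ T) ≤ S' := by
    rw [← hE.2.2.1]
    rintro _ ⟨s, -, rfl⟩
    exact ⟨s, rfl⟩
  have hxS : (x : Ω) ∈ S := hPS x.2
  have hαxS : (((α : MulAut P) x : P) : Ω) ∈ S := hPS ((α : MulAut P) x).2
  have hτxS : ((τ (Subgroup.inclusion le_sup_left x) : ↥(P ⊔ T)) : Ω) ∈ S := hYS (τ _).2
  have hyS : ((Subgroup.inclusion (le_sup_left : P ≤ P ⊔ T) x : ↥(P ⊔ T)) : Ω)⁻¹ *
      ((τ (Subgroup.inclusion le_sup_left x) : ↥(P ⊔ T)) : Ω) ∈ S :=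
    S.mul_mem (S.inv_mem hxS) hτxS
  have h1 := gen2 (p := p) F T hT θ E hE _ hP' (P ⊔ T) hY τ hτA n hn hτn
    (Subgroup.inclusion le_sup_left x) hyS
  have hmem : (x : Ω)⁻¹ * (((α : MulAut P) x : P) : Ω) ∈ S := S.mul_mem (S.inv_mem hxS) hαxS
  refine ⟨⟨_, hmem⟩, ?_, rfl⟩
  show θ ⟨_, hmem⟩ ∈ E.hyperfocalSubgroup p
  have ht : ((τ (Subgroup.inclusion le_sup_left x) : ↥(P ⊔ T)) : Ω)⁻¹ *
      (((α : MulAut P) x : P) : Ω) ∈ T := by
    have := T.inv_mem (hmod x)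
    rwa [mul_inv_rev, inv_inv] at this
  have h2 : θ ⟨_, hT.1 ht⟩ = 1 := (hE.2.1 ⟨_, hT.1 ht⟩).2 ht
  have h3 : (⟨_, hmem⟩ : S) = ⟨_, hyS⟩ * ⟨_, hT.1 ht⟩ := by
    apply Subtype.ext
    show (x : Ω)⁻¹ * (((α : MulAut P) x : P) : Ω) = ((x : Ω)⁻¹ *
      ((τ (Subgroup.inclusion le_sup_left x) : ↥(P ⊔ T)) : Ω)) *
      (((τ (Subgroup.inclusion le_sup_left x) : ↥(P ⊔ T)) : Ω)⁻¹ *
      (((α : MulAut P) x : P) : Ω))
    group
  rw [h3, map_mul, h2, mul_one]
  exact h1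

theorem gen3 [Finite S] {p : ℕ} [Fact p.Prime]
    (F : Cfsg.FusionSystem S) (T : Subgroup Ω) (θ : ↥S →* Ω') (E : Cfsg.FusionSystem S')
    (hE : F.IsFactorSystem T θ E) {P' : Subgroup Ω'} (hP' : P' ≤ S') (α' : E.autGroup P')
    (hα' : Nat.Coprime (orderOf α') p) (x' : P') :
    (x' : Ω')⁻¹ * (((α' : MulAut P') x' : P') : Ω') ∈
      ((F.hyperfocalSubgroup p).subgroupOf S).map θ := by
  have hYS := preimageAlong_le θ P'
  haveI : Finite ↥(preimageAlong θ P') := finite_of_le hYS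
  have hα'E := (mem_autGroup_iff E hP' (α' : MulAut P')).1 α'.2
  obtain ⟨-, φ, hφF, hYS', hφS, hP'mem, hind⟩ := (hE.2.2.2 P' _).1 hα'E
  have hval : ∀ y : ↥(preimageAlong θ P'), φ y ∈ preimageAlong θ P' := by
    intro y
    refine ⟨⟨φ y, hφS y⟩, ?_, rfl⟩
    show θ ⟨φ y, hφS y⟩ ∈ P'
    rw [← hind y]
    exact ((α' : MulAut P') _).2
  have hinj : Function.Injective (φ.codRestrict (preimageAlong θ P') hval) := by
    intro y z hyz
    exact F.injective_of_mem hφF (congrArg Subtype.val hyz)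
  have hbij : Function.Bijective (φ.codRestrict (preimageAlong θ P') hval) :=
    ⟨hinj, Finite.injective_iff_surjective.1 hinj⟩
  obtain ⟨σ, hσdef⟩ : ∃ σ : MulAut ↥(preimageAlong θ P'),
      ∀ y, ((σ y : ↥(preimageAlong θ P')) : Ω) = φ y :=
    ⟨MulEquiv.ofBijective _ hbij, fun y => rfl⟩
  have hσF : (preimageAlong θ P').subtype.comp σ.toMonoidHom ∈ F.Hom (preimageAlong θ P') := by
    have h5 : (preimageAlong θ P').subtype.comp σ.toMonoidHom = φ := by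
      ext y
      exact hσdef y
    rw [h5]
    exact hφF
  have hσA : σ ∈ F.autGroup (preimageAlong θ P') := (mem_autGroup_iff F hYS σ).2 hσF
  have hfσ : ∀ y, toImage θ P' (σ y) = (α' : MulAut P') (toImage θ P' y) := by
    intro y
    apply Subtype.ext
    have h1 := hind y
    show θ ⟨((σ y : ↥(preimageAlong θ P')) : Ω), _⟩ = _
    have h2 : (⟨((σ y : ↥(preimageAlong θ P')) : Ω), hYS (σ y).2⟩ : S) = ⟨φ y, hφS y⟩ :=
      Subtype.ext (hσdef y)
    rw [h2, ← h1]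
    rfl
  have hpow : ∀ (j : ℕ) (a : ↥(preimageAlong θ P')),
      toImage θ P' ((σ ^ j) a) = ((α' : MulAut P') ^ j) (toImage θ P' a) := by
    intro j
    induction j with
    | zero =>
      intro a
      rfl
    | succ j ih =>
      intro a
      rw [pow_succ', pow_succ', MulAut.mul_apply, MulAut.mul_apply, hfσ, ih]
  obtain ⟨e, n, hn, he1, he2⟩ := exists_exp (p := p) α' σ hα' (orderOf_pos σ)
  have hα'e : (α' : MulAut P') ^ e = α' := by rw [← Subgroup.coe_pow, he1]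
  have hsurj := toImage_surj θ P' (hE.2.2.1 ▸ hP')
  obtain ⟨y, rfl⟩ := hsurj x'
  have hτA : σ ^ e ∈ F.autGroup (preimageAlong θ P') := pow_mem hσA e
  have hres : (⟨σ ^ e, hτA⟩ : F.autGroup (preimageAlong θ P')) ∈
      pResidual p (F.autGroup (preimageAlong θ P')) := by
    refine Subgroup.subset_closure ?_
    show Nat.Coprime (orderOf (⟨σ ^ e, hτA⟩ : F.autGroup (preimageAlong θ P'))) p
    have h1 : (⟨σ ^ e, hτA⟩ : F.autGroup (preimageAlong θ P')) ^ n = 1 := Subtype.ext he2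
    exact Nat.Coprime.coprime_dvd_left (orderOf_dvd_of_pow_eq_one h1) hn
  have hgen : (y : Ω)⁻¹ * (((σ ^ e) y : ↥(preimageAlong θ P')) : Ω) ∈ F.hyperfocalSubgroup p :=
    Subgroup.subset_closure ⟨_, ⟨σ ^ e, hτA⟩, y, hYS, hres, rfl⟩
  have hmemS : (y : Ω)⁻¹ * (((σ ^ e) y : ↥(preimageAlong θ P')) : Ω) ∈ S :=
    S.mul_mem (S.inv_mem (hYS y.2)) (hYS ((σ ^ e) y).2)
  refine ⟨⟨_, hmemS⟩, Subgroup.mem_subgroupOf.2 hgen, ?_⟩
  have h4 : (α' : MulAut P') (toImage θ P' y) = toImage θ P' ((σ ^ e) y) := by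
    rw [hpow, hα'e]
  rw [h4]
  show _ = (θ ⟨y, hYS y.2⟩)⁻¹ * θ ⟨((σ ^ e) y : ↥(preimageAlong θ P')), hYS ((σ ^ e) y).2⟩
  rw [← map_inv, ← map_mul]
  rfl

theorem main [Finite S] (p : ℕ) [Fact p.Prime] (hS : IsPGroup p S)
    (F : Cfsg.FusionSystem S) (hF : F.IsSaturated p) (T : Subgroup Ω)
    (hT : F.StronglyClosed T) (θ : ↥S →* Ω') (E : Cfsg.FusionSystem S')
    (hE : F.IsFactorSystem T θ E) :
    E.hyperfocalSubgroup p = ((F.hyperfocalSubgroup p).subgroupOf S).map θ := by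
  apply le_antisymm
  · apply (Subgroup.closure_le _).2
    rintro y ⟨P', α', x', hP', hα', rfl⟩
    exact resid_induction E _ P' (fun α hα x => gen3 F T θ E hE hP' α hα x) α' hα' x'
  · have hle : F.hyperfocalSubgroup p ≤ preimageAlong θ (E.hyperfocalSubgroup p) := by
      apply (Subgroup.closure_le _).2
      rintro y ⟨P, α, x, hPS, hα, rfl⟩
      exact resid_induction F _ P (fun α hα x => gen hS F hF T hT θ E hE hPS α hα x) α hα x
    rw [Subgroup.map_le_iff_le_comap]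
    intro s hs
    have h1 : (s : Ω) ∈ preimageAlong θ (E.hyperfocalSubgroup p) :=
      hle (Subgroup.mem_subgroupOf.1 hs)
    obtain ⟨s₂, hs₂, heq⟩ := h1
    have h2 : s₂ = s := Subtype.ext heq
    rw [h2] at hs₂
    exact hs₂

end

/-- Let F be a saturated fusion system over a finite p-group S, T a subgroup of S strongly closed in F, and E a factor system F/T realised along a homomorphism θ of S with kernel T. Then the hyperfocal subgroup of E is the image under θ of the hyperfocal subgroup of F (hyp(F/T) = T·hyp(F)/T). -/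
theorem result {Ω : Type*} [Group Ω] {S : Subgroup Ω} [Finite S] (p : ℕ) [Fact p.Prime] (hS : IsPGroup p S) (F : Cfsg.FusionSystem S) (hF : F.IsSaturated p) (T : Subgroup Ω) (hT : F.StronglyClosed T) {Ω' : Type*} [Group Ω'] {S' : Subgroup Ω'} (θ : ↥S →* Ω') (E : Cfsg.FusionSystem S') (hE : F.IsFactorSystem T θ E) : E.hyperfocalSubgroup p = ((F.hyperfocalSubgroup p).subgroupOf S).map θ := by
  exact main p hS F hF T hT θ E hE

end Cfsg.Agent.S5256
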