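import Cfsg.Statements.S5272
import Cfsg.Agent.Lib.helper7.AxZJ3
import Cfsg.Agent.Lib.helper7.ZJInnB

set_option autoImplicit false
open Cfsg

namespace Cfsg.Agent.S5272

/-- An axiomatic Glauberman–Thompson nilpotency criterion for fusion systems. Let p be an odd prime, F a saturated fusion system over a finite p-group S, and 𝒜 a nonempty family of abelian subgroups of S. For Q ≤ S write I(Q) for the intersection of the members of 𝒜 contained in Q. Assume (invariance) that for every Q ≤ S containing a member of 𝒜, every F-automorphism of Q maps I(Q) into itself, and (replacement) that for every subgroup B of S of nilpotency class at most 2, if some member of 𝒜 contains [B,B] but not B, then B normalizes some member of 𝒜 that contains [B,B] but not B. Then F is the inner fusion system of S if and only if the normalizer fusion system of I(S) in F is the inner fusion system of N_S(I(S)).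 -/
theorem result {Ω : Type*} [Group Ω] {S : Subgroup Ω} [Finite S] (p : ℕ) [Fact p.Prime] (hS : IsPGroup p ↥S) (F : Cfsg.FusionSystem S) (hF : F.IsSaturated p) (hp : p ≠ 2) (𝒜 : Set (Subgroup Ω)) (h𝒜 : ∀ A ∈ 𝒜, A ≤ S ∧ IsMulCommutative ↥A) (hne : 𝒜.Nonempty) (hinv : ∀ Q : Subgroup Ω, Q ≤ S → (∃ A ∈ 𝒜, A ≤ Q) → ∀ α ∈ F.autGroup Q, ∀ x : ↥Q, (x : Ω) ∈ (⨅ A ∈ {A : Subgroup Ω | A ∈ 𝒜 ∧ A ≤ Q}, A) → (((α : MulAut ↥Q) x : ↥Q) : Ω) ∈ (⨅ A ∈ {A : Subgroup Ω | A ∈ 𝒜 ∧ A ≤ Q}, A)) (hrep : ∀ B : Subgroup Ω, B ≤ S → ⁅⁅B, B⁆, B⁆ = ⊥ → (∃ A ∈ 𝒜, ⁅B, B⁆ ≤ A ∧ ¬ B ≤ A) → ∃ A ∈ 𝒜, ⁅B, B⁆ ≤ A ∧ ¬ B ≤ A ∧ B ≤ Subgroup.normalizer (A : Set Ω)) : (∀ P : Subgroup Ω, F.Hom P = (Cfsg.innerFusionSystem S).Hom P) ↔ ∀ N : Cfsg.FusionSystem (Cfsg.FusionSystem.normalizerIn S (⨅ A ∈ 𝒜, A)), F.IsNormalizerSystem (⨅ A ∈ 𝒜, A) N → ∀ P : Subgroup Ω, N.Hom P = (Cfsg.innerFusionSystem (Cfsg.FusionSystem.normalizerIn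 S (⨅ A ∈ 𝒜, A))).Hom P := by
  classical
  have hI : ∀ 𝒞 : Set (Subgroup Ω), (⨅ A ∈ 𝒞, A) = sInf 𝒞 := fun 𝒞 => sInf_eq_iInf.symm
  have h𝒜' : ∀ A ∈ 𝒜, A ≤ S ∧ ∀ a ∈ A, ∀ b ∈ A, a * b = b * a := by
    intro A hA
    refine ⟨(h𝒜 A hA).1, fun a ha b hb => ?_⟩
    haveI := (h𝒜 A hA).2
    exact setLike_mul_comm ha hb
  have hinv' : ∀ Q : Subgroup Ω, Q ≤ S → (∃ A ∈ 𝒜, A ≤ Q) → ∀ α ∈ F.autGroup Q, ∀ x : ↥Q,
      (x : Ω) ∈ sInf {A : Subgroup Ω | A ∈ 𝒜 ∧ A ≤ Q} →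
      (((α : MulAut ↥Q) x : ↥Q) : Ω) ∈ sInf {A : Subgroup Ω | A ∈ 𝒜 ∧ A ≤ Q} := by
    intro Q hQ hex α hα x hx
    rw [← hI] at hx ⊢
    exact hinv Q hQ hex α hα x hx
  rw [hI 𝒜]
  have hJS : sInf 𝒜 ≤ S := by
    obtain ⟨A₀, hA₀⟩ := hne
    exact (sInf_le hA₀).trans (h𝒜 A₀ hA₀).1
  have hSN := Cfsg.Agent.Lib.helper7.AxZJ.le_normalizerIn_sInf F 𝒜 hne (fun A hA => (h𝒜 A hA).1)
    hinv'
  have hNmem : ∀ x, x ∈ Cfsg.FusionSystem.normalizerIn S (sInf 𝒜) →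
      x ∈ S ∧ x ∈ Subgroup.normalizer ((sInf 𝒜 : Subgroup Ω) : Set Ω) :=
    fun x hx => hx
  constructor
  · intro hin N hN P
    ext φ
    rw [hN P]
    constructor
    · rintro ⟨hφF, hPN, hφN, ψ, hψ, hagree, hmap⟩
      rw [hin] at hψ
      obtain ⟨hle, g, hg, hgx⟩ := hψ
      refine ⟨hPN, g, hSN hg, fun x => ?_⟩
      rw [← hagree x]
      exact hgx _
    · rintro ⟨hPN, g, hg, hgx⟩
      have hgS : g ∈ S := (hNmem g hg).1
      have hgN := (hNmem g hg).2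
      have hPS : P ≤ S := hPN.trans inf_le_left
      have hφF : φ ∈ F.Hom P := by rw [hin]; exact ⟨hPS, g, hgS, hgx⟩
      refine ⟨hφF, hPN, fun x => ?_, ?_⟩
      · rw [hgx x]
        exact Subgroup.mul_mem _ (Subgroup.mul_mem _ hg (hPN x.2)) (Subgroup.inv_mem _ hg)
      · have hle : P ⊔ sInf 𝒜 ≤ S := sup_le hPS hJS
        refine ⟨Cfsg.conjHom (P ⊔ sInf 𝒜) g, ?_, fun x => ?_, ?_⟩
        · rw [hin]; exact ⟨hle, g, hgS, fun x => rfl⟩
        · rw [hgx x]; rfl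
        · ext w
          rw [Cfsg.Agent.Lib.helper25.mem_map_subgroupOf]
          constructor
          · rintro ⟨x, hx, rfl⟩
            exact (Subgroup.mem_normalizer_iff.1 hgN _).1 hx
          · intro hw
            have hw' : g⁻¹ * w * g ∈ sInf 𝒜 := by
              apply (Subgroup.mem_normalizer_iff.1 hgN _).2
              have e : g * (g⁻¹ * w * g) * g⁻¹ = w := by group
              rw [e]; exact hw
            refine ⟨⟨g⁻¹ * w * g,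
              (le_sup_right : _ ≤ P ⊔ sInf 𝒜) hw'⟩, hw', ?_⟩
            show g * (g⁻¹ * w * g) * g⁻¹ = w
            group
  · intro hN
    have hNi : Cfsg.Agent.Lib.helper7.ZJInn.NInn F (sInf 𝒜) := by
      intro X δ hδ hJX hXN hinto
      have hmem := Cfsg.Agent.Lib.helper7.ZJInn.mem_normalizerSystem_of_into F hJS hδ hJX hXN
        hinto
      have h1 := hN (Cfsg.Agent.Lib.helper25.normalizerSystem F _ hJS)
        (Cfsg.Agent.Lib.helper25.isNormalizerSystem_normalizerSystem F _ hJS) X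
      rw [h1] at hmem
      obtain ⟨-, g, hg, hgx⟩ := hmem
      exact ⟨g, (hNmem g hg).1, hgx⟩
    have key := Cfsg.Agent.Lib.helper7.AxZJ.inn_ax hS hp 𝒜 hne h𝒜' hrep _ F rfl hF hinv' hNi
    intro P
    ext φ
    constructor
    · intro hφ
      obtain ⟨s, hs, hsx⟩ := key P φ hφ
      exact ⟨(F.le_of_mem hφ).1, s, hs, hsx⟩
    · rintro ⟨hP, g, hg, hgx⟩
      exact Cfsg.Agent.Lib.helper25.hom_congr F (F.conj_mem hP hg) (fun x => hgx x)

end Cfsg.Agent.S5272
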