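import Cfsg.Statements.S5275
import Cfsg.Agent.Lib.helper7.ZJD2

set_option autoImplicit false
open Cfsg

namespace Cfsg.Agent.S5275

/-- A Glauberman–Thompson nilpotency criterion for fusion systems relative to a strongly closed subgroup. Let p be an odd prime, F a saturated fusion system over a finite p-group S, and D a subgroup of S that is strongly closed in F. Let Z(J(D)) be the centre of the subgroup of D generated by the abelian subgroups of D of largest order. Then F is the inner fusion system of S if and only if the normalizer fusion system of Z(J(D)) in F is the inner fusion system of N_S(Z(J(D))) = S. -/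
theorem result {Ω : Type*} [Group Ω] {S : Subgroup Ω} [Finite S] (p : ℕ) [Fact p.Prime] (hS : IsPGroup p ↥S) (F : Cfsg.FusionSystem S) (hF : F.IsSaturated p) (hp : p ≠ 2) (D : Subgroup Ω) (hD : F.StronglyClosed D) : (∀ P : Subgroup Ω, F.Hom P = (Cfsg.innerFusionSystem S).Hom P) ↔ ∀ N : Cfsg.FusionSystem (Cfsg.FusionSystem.normalizerIn S (Cfsg.centerThompsonAOf D)), F.IsNormalizerSystem (Cfsg.centerThompsonAOf D) N → ∀ P : Subgroup Ω, N.Hom P = (Cfsg.innerFusionSystem (Cfsg.FusionSystem.normalizerIn S (Cfsg.centerThompsonAOf D))).Hom P := by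
  have hJS : Cfsg.centerThompsonAOf D ≤ S := (Cfsg.Agent.S0659.zjA_le D).trans hD.1
  have hNmem : ∀ x, x ∈ Cfsg.FusionSystem.normalizerIn S (Cfsg.centerThompsonAOf D) →
      x ∈ S ∧ x ∈ Subgroup.normalizer ((Cfsg.centerThompsonAOf D : Subgroup Ω) : Set Ω) :=
    fun x hx => hx
  constructor
  · intro hin N hN P
    ext φ
    rw [hN P]
    constructor
    · rintro ⟨hφF, hPN, hφN, ψ, hψ, hagree, hmap⟩
      rw [hin] at hψ
      obtain ⟨hle, g, hg, hgx⟩ := hψ
      refine ⟨hPN, g, ⟨hg, Cfsg.Agent.Lib.helper7.ZJInn.sc_zj_normalizer F hD hg⟩, fun x => ?_⟩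
      rw [← hagree x]
      exact hgx _
    · rintro ⟨hPN, g, hg, hgx⟩
      have hgS : g ∈ S := (hNmem g hg).1
      have hgN := (hNmem g hg).2
      have hPS : P ≤ S := hPN.trans inf_le_left
      have hφF : φ ∈ F.Hom P := by rw [hin]; exact ⟨hPS, g, hgS, hgx⟩
      refine ⟨hφF, hPN, fun x => ?_, ?_⟩
      · rw [hgx x]
        exact Subgroup.mul_mem _ (Subgroup.mul_mem _ hg (hPN x.2)) (Subgroup.inv_mem _ hg)
      · have hle : P ⊔ Cfsg.centerThompsonAOf D ≤ S := sup_le hPS hJS
        refine ⟨Cfsg.conjHom (P ⊔ Cfsg.centerThompsonAOf D) g, ?_, fun x => ?_, ?_⟩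
        · rw [hin]; exact ⟨hle, g, hgS, fun x => rfl⟩
        · rw [hgx x]; rfl
        · ext w
          rw [Cfsg.Agent.Lib.helper25.mem_map_subgroupOf]
          constructor
          · rintro ⟨x, hx, rfl⟩
            exact (Subgroup.mem_normalizer_iff.1 hgN _).1 hx
          · intro hw
            have hw' : g⁻¹ * w * g ∈ Cfsg.centerThompsonAOf D := by
              apply (Subgroup.mem_normalizer_iff.1 hgN _).2
              have e : g * (g⁻¹ * w * g) * g⁻¹ = w := by group
              rw [e]; exact hw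
            refine ⟨⟨g⁻¹ * w * g,
              (le_sup_right : _ ≤ P ⊔ Cfsg.centerThompsonAOf D) hw'⟩, hw', ?_⟩
            show g * (g⁻¹ * w * g) * g⁻¹ = w
            group
  · intro hN
    have hNi : Cfsg.Agent.Lib.helper7.ZJInn.NInn F (Cfsg.centerThompsonAOf D) := by
      intro X δ hδ hJX hXN hinto
      have hmem := Cfsg.Agent.Lib.helper7.ZJInn.mem_normalizerSystem_of_into F hJS hδ hJX hXN
        hinto
      have h1 := hN (Cfsg.Agent.Lib.helper25.normalizerSystem F _ hJS)
        (Cfsg.Agent.Lib.helper25.isNormalizerSystem_normalizerSystem F _ hJS) X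
      rw [h1] at hmem
      obtain ⟨-, g, hg, hgx⟩ := hmem
      exact ⟨g, (hNmem g hg).1, hgx⟩
    have key := Cfsg.Agent.Lib.helper7.ZJInn.inn_allD hp (Nat.card S) (Nat.card S) S hS F D hF
      hD le_rfl (Nat.le_add_left _ _) hNi
    intro P
    ext φ
    constructor
    · intro hφ
      obtain ⟨s, hs, hsx⟩ := key P φ hφ
      exact ⟨(F.le_of_mem hφ).1, s, hs, hsx⟩
    · rintro ⟨hP, g, hg, hgx⟩
      exact Cfsg.Agent.Lib.helper25.hom_congr F (F.conj_mem hP hg) (fun x => hgx x)

end Cfsg.Agent.S5275
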