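import Cfsg.Statements.S5276
import Cfsg.Agent.S5224
import Cfsg.Agent.Lib.helper26.Alperin
import Cfsg.Agent.Lib.helper26.Abelian
import Cfsg.Agent.Lib.helper26.Frattini
import Cfsg.Agent.Lib.helper25.FusionLocal
import Cfsg.Agent.Lib.helper1.PGroup
import Cfsg.Agent.Lib.lead.Tate
import Cfsg.Agent.Lib.helper7.TateFus

set_option autoImplicit false
open Cfsg

namespace Cfsg.Agent.S5276

open scoped commutatorElement
open Cfsg.FusionSystem Cfsg.Agent.Lib.helper25 Cfsg.Agent.Lib.helper26 Cfsg.Agent.Lib.helper7.TateFus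

section aux

variable {Ω : Type*} [Group Ω] {S : Subgroup Ω}

theorem comm_mem_frat [Finite S] {p : ℕ} [Fact p.Prime] (hS : IsPGroup p S) {x g : Ω}
    (hx : x ∈ S) (hg : g ∈ S) :
    x⁻¹ * (g * x * g⁻¹) ∈ (frattini ↥S).map S.subtype := by
  have h1 : ⁅(⟨x, hx⟩ : ↥S)⁻¹, ⟨g, hg⟩⁆ ∈ commutator ↥S :=
    Subgroup.commutator_mem_commutator (Subgroup.mem_top _) (Subgroup.mem_top _)
  have h2 := Cfsg.Agent.Lib.helper1.commutator_le_frattini p hS h1
  refine ⟨_, h2, ?_⟩
  simp [commutatorElement_def, mul_assoc]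

/-- automorphisms of `W` acting trivially modulo the subgroup `N` -/
def trivMod (W N : Subgroup Ω) : Subgroup (MulAut W) where
  carrier := {β | ∀ x : W, (x : Ω)⁻¹ * (β x : W) ∈ N}
  mul_mem' := by
    intro a b ha hb x
    have h : (x : Ω)⁻¹ * ((a * b) x : W) =
        ((x : Ω)⁻¹ * (b x : W)) * (((b x : W) : Ω)⁻¹ * (a (b x) : W)) := by
      rw [MulAut.mul_apply]; group
    rw [h]; exact N.mul_mem (hb x) (ha (b x))
  one_mem' := by intro x; simp
  inv_mem' := by
    intro a ha x
    have h := ha (a⁻¹ x)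
    have h2 : (x : Ω)⁻¹ * ((a⁻¹ x : W) : Ω) =
        (((a⁻¹ x : W) : Ω)⁻¹ * (a (a⁻¹ x) : W))⁻¹ := by
      rw [MulAut.apply_inv_self]; group
    rw [h2]; exact N.inv_mem h

theorem focal_frat [Finite S] {p : ℕ} [Fact p.Prime] (hS : IsPGroup p S)
    (F : FusionSystem S) (hF : F.IsSaturated p)
    (hsc : F.StronglyClosed ((frattini ↥S).map S.subtype))
    (hinn : ∀ α : MulAut S, S.subtype.comp α.toMonoidHom ∈ F.Hom S →
      ∃ g ∈ S, ∀ x : S, ((α x : S) : Ω) = g * x * g⁻¹) :
    ∀ (U : Subgroup Ω) (φ : U →* Ω), φ ∈ F.Hom U →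
      ∀ x : U, (x : Ω)⁻¹ * φ x ∈ (frattini ↥S).map S.subtype := by
  classical
  apply alperin_induction hS F hF
    (fun U φ => ∀ x : U, (x : Ω)⁻¹ * φ x ∈ (frattini ↥S).map S.subtype)
  · rintro U V φ h _ hPr x
    exact hPr (Subgroup.inclusion h x)
  · rintro U V φ ψ h _ _ h1 h2 x
    have h3 : (x : Ω)⁻¹ * (ψ.comp (φ.codRestrict V h)) x =
        ((x : Ω)⁻¹ * φ x) * ((φ x)⁻¹ * ψ ⟨φ x, h x⟩) := by
      show (x : Ω)⁻¹ * ψ ⟨φ x, h x⟩ = _
      group
    rw [h3]
    exact Subgroup.mul_mem _ (h1 x) (h2 ⟨φ x, h x⟩)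
  · intro W hW IH α hα
    by_cases hWS : W = S
    · subst hWS
      obtain ⟨g, hg, hgx⟩ := hinn α hα
      intro x
      show (x : Ω)⁻¹ * ((α x : W) : Ω) ∈ _
      rw [hgx]
      exact comm_mem_frat hS x.2 hg
    · have hfa := fullyAutomized_of_fullyNormalized hS F hF hW
      have hrec := receptive_of_fullyNormalized hS F hF hW
      obtain ⟨-, R, hR⟩ := hfa
      have hαA : α ∈ F.autGroup W := (mem_autGroup_iff F hW.1 α).2 hα
      obtain ⟨Φ, hΦ⟩ : ∃ Φ : Subgroup Ω, Φ = (frattini ↥S).map S.subtype := ⟨_, rfl⟩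
      rw [← hΦ] at hsc IH ⊢
      let K : Subgroup (F.autGroup W) := (trivMod W Φ).subgroupOf (F.autGroup W)
      haveI hKn : K.Normal := by
        constructor
        intro β hβ γ
        show ((γ * β * γ⁻¹ : F.autGroup W) : MulAut W) ∈ trivMod W Φ
        intro x
        have hβ' : ∀ y : W, (y : Ω)⁻¹ * ((β : MulAut W) y : W) ∈ Φ := hβ
        obtain ⟨y, hy⟩ : ∃ y : W, y = (γ : MulAut W)⁻¹ x := ⟨_, rfl⟩
        have hz := hβ' y
        have hzW : (y : Ω)⁻¹ * ((β : MulAut W) y : W) ∈ W ⊓ Φ :=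
          ⟨W.mul_mem (W.inv_mem y.2) (Subtype.mem _), hz⟩
        have hγ : W.subtype.comp (γ : MulAut W).toMonoidHom ∈ F.Hom W :=
          (mem_autGroup_iff F hW.1 _).1 γ.2
        have h5 := hsc.2 (W ⊓ Φ) inf_le_right _ (restrict_mem F hγ inf_le_left) ⟨_, hzW⟩
        have h6 : (x : Ω)⁻¹ * (((γ * β * γ⁻¹ : F.autGroup W) : MulAut W) x : W) =
            (((γ : MulAut W) (y⁻¹ * (β : MulAut W) y) : W) : Ω) := by
          rw [map_mul, map_inv, hy, MulAut.apply_inv_self]
          rfl
        rw [h6]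
        exact h5
      have hAS : (autInducedBy S W).subgroupOf (F.autGroup W) ≤ K := by
        intro β hβ
        show (β : MulAut W) ∈ trivMod W Φ
        have hβ' : (β : MulAut W) ∈ autInducedBy S W := hβ
        obtain ⟨g, hg, hgx⟩ := (mem_autInducedBy_iff _ _ _).1 hβ'
        intro x
        rw [hgx, hΦ]
        exact comm_mem_frat hS (hW.1 x.2) hg
      have hRK : (R : Subgroup (F.autGroup W)) ≤ K := hR ▸ hAS
      haveI : Finite W := Finite.of_injective (Subgroup.inclusion hW.1)
        (Subgroup.inclusion_injective hW.1)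
      haveI : Finite (MulAut W) := Finite.of_injective (fun e : MulAut W => (e : W → W))
        (fun a b hab => MulEquiv.ext (congrFun hab))
      have hfr := Sylow.normalizer_sup_eq_top (R.subtype hRK)
      have hmap : ((R.subtype hRK : Sylow p K) : Subgroup K).map K.subtype =
          (R : Subgroup _) := by
        rw [Sylow.coe_subtype, Subgroup.subgroupOf_map_subtype]; exact inf_eq_left.2 hRK
      rw [hmap] at hfr
      have hαtop : (⟨α, hαA⟩ : F.autGroup W) ∈
          Subgroup.normalizer ((R : Subgroup (F.autGroup W)) : Set (F.autGroup W)) ⊔ K := by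
        rw [hfr]; trivial
      rw [Subgroup.mem_sup_of_normal_right] at hαtop
      obtain ⟨ν, hν, κ, hκ, hνκ⟩ := hαtop
      have hνX : ∀ (g : Ω) (hg : g ∈ normalizerIn S W),
          (ν : MulAut W) * conjAut S W ⟨g, (le_refl (normalizerIn S W)) hg⟩ * (ν : MulAut W)⁻¹ ∈
            autInducedBy S W := by
        intro g hg
        have h1 : (⟨conjAut S W ⟨g, hg⟩, autInducedBy_le_autGroup F hW.1
            (conjAut_mem_autInducedBy S W _)⟩ : F.autGroup W) ∈
            (R : Subgroup (F.autGroup W)) := by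
          rw [hR]; exact conjAut_mem_autInducedBy S W _
        have h2 := (Subgroup.mem_normalizer_iff.1 hν _).1 h1
        rw [hR] at h2
        exact h2
      obtain ⟨Y, hWY, hXY, hYN, ψ, hψ, hψx⟩ :=
        exists_extension_of_normalizes F hrec ν ν.2 (normalizerIn S W) le_rfl hνX
      haveI : Finite Y := Finite.of_injective (Subgroup.inclusion (hYN.trans inf_le_left))
        (Subgroup.inclusion_injective _)
      have hcard : Nat.card W < Nat.card Y :=
        lt_of_lt_of_le (card_lt_card_normalizerIn hS hW.1 hWS) (Subgroup.card_le_of_le hXY)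
      have hPν := IH Y ψ hψ hcard
      intro x
      have hκ' : ∀ y : W, (y : Ω)⁻¹ * ((κ : MulAut W) y : W) ∈ Φ := hκ
      have hακ : α = (ν : MulAut W) * (κ : MulAut W) := by
        rw [← Subgroup.coe_mul, hνκ]
      have h7 : (x : Ω)⁻¹ * (W.subtype.comp α.toMonoidHom) x =
          ((x : Ω)⁻¹ * ((κ : MulAut W) x : W)) *
            ((((κ : MulAut W) x : W) : Ω)⁻¹ *
              ψ ⟨((κ : MulAut W) x : W), hWY (Subtype.mem _)⟩) := by
        rw [hψx, hακ]
        show _ * ((ν : MulAut W) ((κ : MulAut W) x) : Ω) = _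
        group
      rw [h7]
      exact Subgroup.mul_mem _ (hκ' x) (hPν ⟨_, _⟩)

end aux

/-- Let p be a prime and F a saturated fusion system over a finite p-group S. Then F is the inner fusion system of S if and only if the normalizer fusion system of S itself in F is the inner fusion system (equivalently, Aut_F(S) is induced by S) and the Frattini subgroup Φ(S) is strongly closed in F. -/
theorem result {Ω : Type*} [Group Ω] {S : Subgroup Ω} [Finite S] (p : ℕ) [Fact p.Prime] (hS : IsPGroup p ↥S) (F : Cfsg.FusionSystem S) (hF : F.IsSaturated p) : (∀ P : Subgroup Ω, F.Hom P = (Cfsg.innerFusionSystem S).Hom P) ↔ (∀ N : Cfsg.FusionSystem (Cfsg.FusionSystem.normalizerIn S S), F.IsNormalizerSystem S N → ∀ P : Subgroup Ω, N.Hom P = (Cfsg.innerFusionSystem (Cfsg.FusionSystem.normalizerIn S S)).Hom P) ∧ F.StronglyClosed ((frattini ↥S).map S.subtype) := by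
  classical
  constructor
  · intro h
    refine ⟨fun N hN P => ?_, ?_, ?_⟩
    · ext φ
      rw [hN P]
      constructor
      · rintro ⟨hφ, hP, hφN, -⟩
        rw [h P] at hφ
        obtain ⟨hPS, g, hg, hgx⟩ := hφ
        exact ⟨hP, g, ⟨hg, Subgroup.le_normalizer hg⟩, hgx⟩
      · rintro ⟨hP, g, hg, hgx⟩
        have h1 : φ = conjHom P g := by ext x; exact hgx x
        rw [h1, ← hN P]
        exact N.conj_mem hP hg
    · exact Subgroup.map_subtype_le _
    · intro R hR φ hφ x
      rw [h R] at hφ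
      obtain ⟨hRS, g, hg, hgx⟩ := hφ
      rw [hgx]
      obtain ⟨y, hy, hyx⟩ := hR x.2
      refine ⟨⟨g, hg⟩ * y * ⟨g, hg⟩⁻¹,
        (inferInstance : (frattini ↥S).Normal).conj_mem y hy ⟨g, hg⟩, ?_⟩
      rw [← hyx]; rfl
  · rintro ⟨hN, hsc⟩
    have hinn : ∀ α : MulAut S, S.subtype.comp α.toMonoidHom ∈ F.Hom S →
        ∃ g ∈ S, ∀ x : S, ((α x : S) : Ω) = g * x * g⁻¹ := by
      intro α hα
      have hNS := hN (normalizerSystem F S le_rfl) (isNormalizerSystem_normalizerSystem F S le_rfl) S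
      have hmem : S.subtype.comp α.toMonoidHom ∈ F.normalizerHom S S := by
        have hSN : S ≤ normalizerIn S S := le_inf le_rfl Subgroup.le_normalizer
        refine ⟨hα, hSN, fun x => hSN (α x).2,
          (S.subtype.comp α.toMonoidHom).comp (Subgroup.inclusion (sup_le le_rfl le_rfl)),
          restrict_mem F hα _, fun x => rfl, ?_⟩
        ext y
        rw [mem_map_subgroupOf]
        constructor
        · rintro ⟨x, hx, rfl⟩
          exact (α _).2
        · intro hy
          refine ⟨⟨(α.symm ⟨y, hy⟩ : S), Subgroup.mem_sup_left (Subtype.mem _)⟩, Subtype.mem _, ?_⟩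
          show ((α (α.symm ⟨y, hy⟩) : S) : Ω) = y
          rw [MulEquiv.apply_symm_apply]
      have h2 : S.subtype.comp α.toMonoidHom ∈ (normalizerSystem F S le_rfl).Hom S := hmem
      rw [hNS] at h2
      obtain ⟨-, g, hg, hgx⟩ := h2
      exact ⟨g, hg.1, hgx⟩
    have hA := focal_frat hS F hF hsc hinn
    have hfocF : F.focalSubgroup ≤ (frattini ↥S).map S.subtype := by
      unfold FusionSystem.focalSubgroup
      rw [Subgroup.closure_le]
      rintro _ ⟨P, φ, x, hφ, rfl⟩
      exact hA P φ hφ x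
    have hle : (innerFusionSystem S).IsSubsystemOf F := by
      rintro P φ ⟨hP, g, hg, hgx⟩
      have h1 : φ = conjHom P g := by ext x; exact hgx x
      rw [h1]; exact F.conj_mem hP hg
    have hT := Cfsg.Agent.S5224.result p hS F hF (innerFusionSystem S) (inner_saturated hS) hle
    have hfoc : F.focalSubgroup = (innerFusionSystem S).focalSubgroup := hT.1.1 (by
      rw [sup_eq_left.2 hfocF, sup_eq_left.2 ((focal_mono F _ hle).trans hfocF)])
    have hhyp := hT.2.1 hfoc
    have hbot : (innerFusionSystem S).hyperfocalSubgroup p = ⊥ := by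
      unfold FusionSystem.hyperfocalSubgroup
      rw [Subgroup.closure_eq_bot_iff]
      rintro _ ⟨P, α, x, hP, hα, rfl⟩
      have hpg : IsPGroup p ((innerFusionSystem S).autGroup P) := by
        rw [inner_autGroup_eq hP]; exact Cfsg.Agent.Lib.helper26.isPGroup_autInducedBy hS P
      rw [Cfsg.Agent.Lib.lead.pResidual_eq_bot_of_isPGroup hpg, Subgroup.mem_bot] at hα
      rw [hα]; simp
    intro P
    ext φ
    constructor
    · intro hφ
      obtain ⟨t, ht, h⟩ := fp_mod_hyp hS F hF P φ hφ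
      refine ⟨(F.le_of_mem hφ).1, t, ht, fun x => ?_⟩
      have h1 := h x
      rw [hhyp, hbot, Subgroup.mem_bot, mul_inv_eq_one] at h1
      exact h1
    · intro hφ
      exact hle P hφ

end Cfsg.Agent.S5276
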