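import Cfsg.Statements.S5301
-- import your own Cfsg.Agent.* helpers here
import Cfsg.Agent.Lib.helper26.Centric

set_option autoImplicit false
universe u
open Cfsg

namespace Cfsg.Agent.S5301

open Cfsg.Agent.Lib.helper26 in
theorem extends_to_top {Ω : Type*} [Group Ω] {S : Subgroup Ω} [Finite S] (p : ℕ) [Fact p.Prime]
    (hS : IsPGroup p S) (F : Cfsg.FusionSystem S) (hF : F.IsSaturated p)
    (hcl : ∀ P : Subgroup Ω, F.IsFullyNormalized P → F.IsCentric P → F.IsRadical p P →
      ∃ R : Sylow p ↥(F.autGroup P), (R : Subgroup ↥(F.autGroup P)).Normal) :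
    ∀ (U : Subgroup Ω) (φ : U →* Ω), φ ∈ F.Hom U →
      ∃ ψ₀ ∈ F.Hom S, ∀ x : U, ∃ h : (x : Ω) ∈ S, ψ₀ ⟨x, h⟩ = φ x := by
  apply alperin_induction hS F hF
    (fun U φ => ∃ ψ₀ ∈ F.Hom S, ∀ x : U, ∃ h : (x : Ω) ∈ S, ψ₀ ⟨x, h⟩ = φ x)
  · rintro U V φ h hφ ⟨ψ₀, hψ₀, hx⟩
    exact ⟨ψ₀, hψ₀, fun x => hx (Subgroup.inclusion h x)⟩
  · rintro U V φ ψ h hφ hψ ⟨ψ₁, hψ₁, hx₁⟩ ⟨ψ₂, hψ₂, hx₂⟩
    refine ⟨ψ₂.comp (ψ₁.codRestrict S (F.le_of_mem hψ₁).2), F.comp_mem hψ₁ hψ₂ _, fun x => ?_⟩
    obtain ⟨h1, e1⟩ := hx₁ x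
    obtain ⟨h2, e2⟩ := hx₂ ⟨φ x, h x⟩
    refine ⟨h1, ?_⟩
    show ψ₂ ⟨ψ₁ ⟨x, h1⟩, _⟩ = ψ ⟨φ x, h x⟩
    rw [← e2]
    congr 1
    exact Subtype.ext e1
  · intro W hfn IH α hα
    have hW := hfn.1
    by_cases hWS : W = S
    · subst hWS
      exact ⟨_, hα, fun x => ⟨x.2, rfl⟩⟩
    · have hfa := fullyAutomized_of_fullyNormalized hS F hF hfn
      have hrec := receptive_of_fullyNormalized hS F hF hfn
      have hfc := fullyCentralized_of_receptive F hrec
      have hαA : α ∈ F.autGroup W := (mem_autGroup_iff F hW α).2 hα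
      have hKS : (Cfsg.pCore p (F.autGroup W)).map (F.autGroup W).subtype ≤ Cfsg.autInducedBy S W :=
        pCore_autGroup_le F hfa
      have hXN : (((Cfsg.pCore p (F.autGroup W)).map (F.autGroup W).subtype).comap (conjAut S W)).map
          (Cfsg.FusionSystem.normalizerIn S W).subtype ≤ Cfsg.FusionSystem.normalizerIn S W :=
        Subgroup.map_subtype_le _
      have hXmem : ∀ (g : Ω) (hg : g ∈ (((Cfsg.pCore p (F.autGroup W)).map
          (F.autGroup W).subtype).comap (conjAut S W)).map (Cfsg.FusionSystem.normalizerIn S W).subtype),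
          conjAut S W ⟨g, hXN hg⟩ ∈ (Cfsg.pCore p (F.autGroup W)).map (F.autGroup W).subtype := by
        rintro _ ⟨n, hn, rfl⟩
        exact hn
      have hmemX : ∀ n : Cfsg.FusionSystem.normalizerIn S W,
          conjAut S W n ∈ (Cfsg.pCore p (F.autGroup W)).map (F.autGroup W).subtype →
          (n : Ω) ∈ (((Cfsg.pCore p (F.autGroup W)).map (F.autGroup W).subtype).comap
            (conjAut S W)).map (Cfsg.FusionSystem.normalizerIn S W).subtype :=
        fun n hn => ⟨n, hn, rfl⟩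
      have hXW : ¬ (((Cfsg.pCore p (F.autGroup W)).map (F.autGroup W).subtype).comap
          (conjAut S W)).map (Cfsg.FusionSystem.normalizerIn S W).subtype ≤ W := by
        intro hXW
        have hC : Cfsg.FusionSystem.centralizerIn S W ≤ W := by
          intro c hc
          apply hXW
          have hcN := centralizerIn_le_normalizerIn S W hc
          apply hmemX ⟨c, hcN⟩
          have : conjAut S W ⟨c, hcN⟩ = 1 := by
            ext x
            have hcc : c ∈ Subgroup.centralizer (W : Set Ω) := hc.2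
            rw [Subgroup.mem_centralizer_iff] at hcc
            rw [conjAut_apply]
            show c * (x : Ω) * c⁻¹ = x
            rw [← hcc x x.2]; simp
          rw [this]; exact Subgroup.one_mem _
        have hcen : F.IsCentric W := isCentric_of_fullyCentralized F hfc hC
        have hrad : F.IsRadical p W := by
          refine ⟨hW, le_antisymm ?_ (inn_le_pCore_autGroup hS F hW)⟩
          intro k hk
          obtain ⟨g, rfl⟩ := (mem_autInducedBy_iff_conjAut k).1 (hKS hk)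
          have hgW : (g : Ω) ∈ W := hXW (hmemX g hk)
          refine ⟨⟨g, hgW⟩, ?_⟩
          ext x
          rfl
        obtain ⟨R₁, hR₁⟩ := hcl W hfn hcen hrad
        obtain ⟨-, R, hR⟩ := hfa
        have hfinW : Finite W := finite_of_le hW
        obtain ⟨a, ha⟩ := MulAction.exists_smul_eq (F.autGroup W) R₁ R
        rw [Sylow.smul_eq_of_normal] at ha
        have hRle : (R : Subgroup (F.autGroup W)) ≤ Cfsg.pCore p (F.autGroup W) := by
          rw [← ha]
          exact le_pCore hR₁ R₁.isPGroup'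
        obtain ⟨g, hgN, hgW⟩ := exists_normalizerIn_not_mem hS hW hWS
        apply hgW
        apply hXW
        apply hmemX ⟨g, hgN⟩
        have h1 : conjAut S W ⟨g, hgN⟩ ∈ F.autGroup W :=
          autInducedBy_le_autGroup F hW (conjAut_mem_autInducedBy S W _)
        have h2 : (⟨conjAut S W ⟨g, hgN⟩, h1⟩ : F.autGroup W) ∈ (R : Subgroup (F.autGroup W)) := by
          rw [hR]
          exact Subgroup.mem_subgroupOf.2 (conjAut_mem_autInducedBy S W _)
        exact ⟨_, hRle h2, rfl⟩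
      obtain ⟨Y, hWY, hXY, hYN, ψ, hψ, hψx⟩ := exists_extension_of_normalizes F hrec α hαA _ hXN
        (fun g hg => hKS (pCore_autGroup_conj F hαA (hXmem g hg)))
      have hfinY : Finite Y := finite_of_le (hYN.trans inf_le_left)
      have hcard : Nat.card W < Nat.card Y := by
        by_contra hcon
        have := Subgroup.eq_of_le_of_card_ge hWY (not_lt.1 hcon)
        rw [← this] at hXY
        exact hXW hXY
      obtain ⟨ψ₀, hψ₀, hx⟩ := IH Y ψ hψ hcard
      refine ⟨ψ₀, hψ₀, fun x => ?_⟩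
      obtain ⟨h1, e1⟩ := hx ⟨x, hWY x.2⟩
      exact ⟨h1, e1.trans (hψx x (hWY x.2))⟩

/-- Let F be a saturated fusion system over a finite p-group S. If for every subgroup P of S that is fully normalized, centric and radical in F the automorphism group that F induces on P has a normal Sylow p-subgroup, then S is normal in F. -/
theorem result {Ω : Type u} [Group Ω] {S : Subgroup Ω} [Finite S] (p : ℕ) [Fact p.Prime] (hS : IsPGroup p S)
    (F : Cfsg.FusionSystem S) (hF : F.IsSaturated p)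
    (hcl : ∀ P : Subgroup Ω, F.IsFullyNormalized P → F.IsCentric P → F.IsRadical p P →
      ∃ R : Sylow p ↥(F.autGroup P), (R : Subgroup ↥(F.autGroup P)).Normal) :
    F.IsNormal S := by
  refine ⟨le_rfl, fun P φ hφ => ?_⟩
  obtain ⟨ψ₀, hψ₀, hx⟩ := extends_to_top p hS F hF hcl P φ hφ
  have hP : P ≤ S := (F.le_of_mem hφ).1
  have hle : P ⊔ S ≤ S := sup_le hP le_rfl
  refine ⟨ψ₀.comp (Subgroup.inclusion hle), Cfsg.Agent.Lib.helper26.restrict_mem F hψ₀ hle,
    fun x => ?_, ?_⟩
  · obtain ⟨h1, e1⟩ := hx x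
    exact e1
  · obtain ⟨α, hα⟩ := Cfsg.Agent.Lib.helper26.exists_aut_of_mem_top F hψ₀
    ext y
    constructor
    · rintro ⟨z, hz, rfl⟩
      exact (F.le_of_mem hψ₀).2 _
    · intro hy
      have hSle : S ≤ P ⊔ S := le_sup_right
      refine ⟨⟨(α.symm ⟨y, hy⟩ : Ω), hSle (α.symm ⟨y, hy⟩).2⟩, ?_, ?_⟩
      · exact Subgroup.mem_subgroupOf.2 (α.symm ⟨y, hy⟩).2
      · show ψ₀ ⟨(α.symm ⟨y, hy⟩ : Ω), _⟩ = y
        rw [hα]
        simp

end Cfsg.Agent.S5301
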