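import Cfsg.Statements.S5299
-- import your own Cfsg.Agent.* helpers here
import Cfsg.Agent.Lib.helper26.FusionBasic

set_option autoImplicit false
universe u
open Cfsg

namespace Cfsg.Agent.S5299

section
open Cfsg.Agent.Lib.helper26 Cfsg Cfsg.FusionSystem

universe v w

theorem involves_iff {H : Type v} [Group H] {G : Type w} [Group G] :
    Cfsg.Involves H G ↔ ∃ (K : Subgroup G) (f : K →* H), Function.Surjective f := by
  constructor
  · rintro ⟨K, R, hn, ⟨e⟩⟩
    haveI := hn
    refine ⟨K, e.toMonoidHom.comp (QuotientGroup.mk' (R.subgroupOf K)), ?_⟩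
    exact e.surjective.comp (QuotientGroup.mk'_surjective _)
  · rintro ⟨K, f, hf⟩
    have h1 : (f.ker.map K.subtype).subgroupOf K = f.ker :=
      Subgroup.comap_map_eq_self_of_injective (Subgroup.subtype_injective K) f.ker
    have hn : ((f.ker.map K.subtype).subgroupOf K).Normal := by rw [h1]; infer_instance
    refine ⟨K, f.ker.map K.subtype, hn, ⟨?_⟩⟩
    exact (QuotientGroup.quotientMulEquivOfEq h1).trans
      (QuotientGroup.quotientKerEquivOfSurjective f hf)

theorem involves_of_surj {H : Type v} [Group H] {G : Type w} [Group G] (f : G →* H)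
    (hf : Function.Surjective f) : Cfsg.Involves H G := by
  rw [involves_iff]
  refine ⟨⊤, f.comp (⊤ : Subgroup G).subtype, ?_⟩
  intro y
  obtain ⟨x, rfl⟩ := hf y
  exact ⟨⟨x, Subgroup.mem_top x⟩, rfl⟩

theorem involves_of_inj {H : Type v} [Group H] {A : Type w} [Group A] {B : Type*} [Group B]
    (ι : A →* B) (hι : Function.Injective ι) (h : Cfsg.Involves H A) : Cfsg.Involves H B := by
  rw [involves_iff] at h ⊢
  obtain ⟨K, f, hf⟩ := h
  refine ⟨K.map ι, f.comp (K.equivMapOfInjective ι hι).symm.toMonoidHom, ?_⟩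
  exact hf.comp (K.equivMapOfInjective ι hι).symm.surjective

theorem involves_subgroup {H : Type v} [Group H] {G : Type w} [Group G] (Q : Subgroup H)
    (h : Cfsg.Involves H G) : Cfsg.Involves Q G := by
  rw [involves_iff] at h
  obtain ⟨K, f, hf⟩ := h
  have h1 : Cfsg.Involves Q (Q.comap f) :=
    involves_of_surj (f.subgroupComap Q) (f.subgroupComap_surjective_of_surjective Q hf)
  have h2 : Cfsg.Involves Q K := involves_of_inj (Q.comap f).subtype (Subgroup.subtype_injective _) h1
  exact involves_of_inj K.subtype (Subgroup.subtype_injective _) h2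

theorem involves_sylow {Q : Type v} [Group Q] [Finite Q] {L : Type w} [Group L] [Finite L] {p : ℕ}
    [Fact p.Prime] (hQ : IsPGroup p Q) (P : Sylow p L) (h : Cfsg.Involves Q L) :
    Cfsg.Involves Q (P : Subgroup L) := by
  rw [involves_iff] at h
  obtain ⟨K, f, hf⟩ := h
  obtain ⟨P₁⟩ : Nonempty (Sylow p K) := inferInstance
  -- the image of `P₁` is all of `Q`
  have himg : (P₁ : Subgroup K).map f = ⊤ := by
    have h1 : ((P₁.mapSurjective hf : Sylow p Q) : Subgroup Q) = (P₁ : Subgroup K).map f :=
      Sylow.coe_mapSurjective hf P₁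
    rw [← h1]
    have hQtop : IsPGroup p (⊤ : Subgroup Q) := hQ.to_subgroup _
    exact ((P₁.mapSurjective hf).is_maximal' hQtop le_top).symm
  have h1 : Cfsg.Involves Q (P₁ : Subgroup K) := by
    apply involves_of_surj (f.comp (P₁ : Subgroup K).subtype)
    intro y
    have hy : y ∈ (P₁ : Subgroup K).map f := himg ▸ Subgroup.mem_top y
    obtain ⟨x, hx, rfl⟩ := hy
    exact ⟨⟨x, hx⟩, rfl⟩
  -- conjugate `P₁` into `P`
  have hp1 : IsPGroup p ((P₁ : Subgroup K).map K.subtype) := P₁.isPGroup'.map _
  obtain ⟨P', hP'⟩ := hp1.exists_le_sylow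
  obtain ⟨l, hl⟩ := MulAction.exists_smul_eq L P' P
  have hmem : ∀ x : (P₁ : Subgroup K), l * ((x : K) : L) * l⁻¹ ∈ (P : Subgroup L) := by
    intro x
    have hx : ((x : K) : L) ∈ (P' : Subgroup L) := hP' ⟨x, x.2, rfl⟩
    have h3 := Subgroup.smul_mem_pointwise_smul _ (MulAut.conj l) _ hx
    rw [← Sylow.pointwise_smul_def, ← Sylow.smul_def, hl] at h3
    exact h3
  let j : (P₁ : Subgroup K) →* (P : Subgroup L) :=
    { toFun := fun x => ⟨l * ((x : K) : L) * l⁻¹, hmem x⟩
      map_one' := by apply Subtype.ext; simp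
      map_mul' := by intro a b; apply Subtype.ext; simp }
  have hj : Function.Injective j := by
    intro a b hab
    have h2 : l * ((a : K) : L) * l⁻¹ = l * ((b : K) : L) * l⁻¹ := congrArg Subtype.val hab
    have h3 : ((a : K) : L) = ((b : K) : L) := mul_left_cancel (mul_right_cancel h2)
    exact Subtype.ext (Subtype.ext h3)
  exact involves_of_inj j hj h1

theorem main {Ω : Type u} [Group Ω] {S : Subgroup Ω} [Finite S] (p : ℕ) [Fact p.Prime]
    (F : Cfsg.FusionSystem S) (H : Type*) [Group H] [Finite H] (Q : Subgroup H)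
    (hQ : IsPGroup p Q)
    (hfree : ¬ Cfsg.Involves (↥Q) (↥S)) : F.IsSectionFree p H := by
  intro Q₀ hfn hcen N hN L _ ι hmodel hinv
  obtain ⟨hfin, hreal, ⟨T, hT⟩, -⟩ := hmodel
  haveI := hfin
  apply hfree
  have h1 : Cfsg.Involves Q L := involves_subgroup Q hinv
  have h2 : Cfsg.Involves Q (T : Subgroup L) := involves_sylow hQ T h1
  have hι := hreal.1
  let e : (T : Subgroup L) ≃* ↥(normalizerIn S Q₀) :=
    (MulEquiv.subgroupCongr hT).trans (MonoidHom.ofInjective hι).symm
  let k : (T : Subgroup L) →* S :=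
    (Subgroup.inclusion (inf_le_left : normalizerIn S Q₀ ≤ S)).comp e.toMonoidHom
  have hk : Function.Injective k :=
    (Subgroup.inclusion_injective (inf_le_left : normalizerIn S Q₀ ≤ S)).comp e.injective
  exact involves_of_inj k hk h2

end

/-- Let F be a saturated fusion system over a finite p-group S, H a finite group and Q a p-subgroup of H. If Q is not involved in S (no section of S is isomorphic to Q), then F is H-free: H is involved in no model of the normalizer system of a fully normalized centric subgroup. -/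
theorem result {Ω : Type u} [Group Ω] {S : Subgroup Ω} [Finite S] (p : ℕ) [Fact p.Prime] (hS : IsPGroup p S)
    (F : Cfsg.FusionSystem S) (hF : F.IsSaturated p) (H : Type*) [Group H] [Finite H] (Q : Subgroup H) (hQ : IsPGroup p Q)
    (hfree : ¬ Cfsg.Involves (↥Q) (↥S)) : F.IsSectionFree p H := by
  exact main p F H Q hQ hfree

end Cfsg.Agent.S5299
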