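import Cfsg.Statements.S5315
-- import your own Cfsg.Agent.* helpers here
import Cfsg.Agent.S5256
import Cfsg.Agent.Lib.helper25.FusionNormal

set_option autoImplicit false
open Cfsg

namespace Cfsg.Agent.S5315

section

open Cfsg.Agent.Lib.helper26 Cfsg.FusionSystem
open Cfsg.Agent.Lib.helper25 (isCentral_center forall_mem_of_sup)
open Cfsg.Agent.S5256 (preimageAlong_le map_mem_of_mem toImage toImage_surj)

variable {Ω : Type*} [Group Ω] {S : Subgroup Ω} {Ω' : Type*} [Group Ω'] {S' : Subgroup Ω'}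

theorem center_fixed_hom [Finite S] (F : Cfsg.FusionSystem S) {P : Subgroup Ω} {φ : P →* Ω}
    (hφ : φ ∈ F.Hom P) (z : P) (hz : (z : Ω) ∈ F.center) : φ z = z := by
  obtain ⟨ψ, -, hψ1, hψ2⟩ := (isCentral_center F).2 P φ hφ
  have h1 := hψ1 z
  have h2 := hψ2 ⟨z, hz⟩
  have h12 : Subgroup.inclusion (le_sup_left : P ≤ P ⊔ F.center) z =
      Subgroup.inclusion le_sup_right ⟨(z : Ω), hz⟩ := Subtype.ext rfl
  rw [← h1, h12, h2]

theorem induced_hom {A B C : Type*} [Group A] [Group B] [Group C] (f : A →* B)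
    (hf : Function.Surjective f) (g : A →* C) (hg : ∀ a, f a = 1 → g a = 1) :
    ∃ g' : B →* C, ∀ a, g' (f a) = g a :=
  ⟨f.liftOfSurjective hf ⟨g, fun a ha => by
    rw [MonoidHom.mem_ker] at ha ⊢
    exact hg a ha⟩, fun a => MonoidHom.liftOfRightInverse_comp_apply _ _ _ _ a⟩

theorem preimage_image_eq (F : Cfsg.FusionSystem S) (T : Subgroup Ω) (θ : ↥S →* Ω')
    (E : Cfsg.FusionSystem S') (hE : F.IsFactorSystem T θ E) {Y : Subgroup Ω} (hTY : T ≤ Y)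
    (hYS : Y ≤ S) : Y = preimageAlong θ (imageAlong θ Y) := by
  apply le_antisymm
  · intro y hy
    exact ⟨⟨y, hYS hy⟩, ⟨⟨y, hYS hy⟩, Subgroup.mem_subgroupOf.2 hy, rfl⟩, rfl⟩
  · rintro _ ⟨s, ⟨s₂, hs₂, hs₂s⟩, rfl⟩
    have h1 : θ (s₂⁻¹ * s) = 1 := by
      rw [map_mul, map_inv, hs₂s]
      simp
    have h2 : ((s₂⁻¹ * s : S) : Ω) ∈ T := (hE.2.1 _).1 h1
    have h3 : (s : Ω) = (s₂ : Ω) * ((s₂⁻¹ * s : S) : Ω) := by
      push_cast
      group
    show (s : Ω) ∈ Y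
    rw [h3]
    exact mul_mem (Subgroup.mem_subgroupOf.1 hs₂) (hTY h2)

theorem image_le (F : Cfsg.FusionSystem S) (T : Subgroup Ω) (θ : ↥S →* Ω')
    (E : Cfsg.FusionSystem S') (hE : F.IsFactorSystem T θ E) (Y : Subgroup Ω) :
    imageAlong θ Y ≤ S' := by
  rw [← hE.2.2.1]
  rintro _ ⟨s, -, rfl⟩
  exact ⟨s, rfl⟩

theorem induced_aux [Finite S] (F : Cfsg.FusionSystem S) (θ : ↥S →* Ω')
    (E : Cfsg.FusionSystem S') (hE : F.IsFactorSystem F.center θ E) (P' : Subgroup Ω')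
    (hP' : P' ≤ S') (Y : Subgroup Ω) (hY : Y = preimageAlong θ P') (ψ : Y →* Ω)
    (hψ : ψ ∈ F.Hom Y) :
    ∃ φ' ∈ E.Hom P', ∀ (y : Y) (hyS : (y : Ω) ∈ S) (hψS : ψ y ∈ S),
      ∃ hy' : θ ⟨y, hyS⟩ ∈ P', φ' ⟨θ ⟨y, hyS⟩, hy'⟩ = θ ⟨ψ y, hψS⟩ := by
  subst hY
  have hYS := preimageAlong_le θ P'
  have hψS := (F.le_of_mem hψ).2
  have hsurj := toImage_surj θ P' (hE.2.2.1 ▸ hP')
  obtain ⟨φ', hφ'⟩ := induced_hom (toImage θ P') hsurj (θ.comp (ψ.codRestrict S hψS)) (by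
    intro a ha
    have h1 : θ ⟨a, hYS a.2⟩ = 1 := congrArg Subtype.val ha
    have h2 : (a : Ω) ∈ F.center := (hE.2.1 _).1 h1
    have h3 := center_fixed_hom F hψ a h2
    show θ ⟨ψ a, hψS a⟩ = 1
    have h4 : (⟨ψ a, hψS a⟩ : S) = ⟨a, hYS a.2⟩ := Subtype.ext h3
    rw [h4, h1])
  refine ⟨φ', (hE.2.2.2 P' φ').2 ⟨hP', ψ, hψ, hYS, hψS,
    fun x => map_mem_of_mem θ P' x x.2, fun x => hφ' x⟩, ?_⟩
  intro y hyS hψS'
  exact ⟨map_mem_of_mem θ P' y y.2, hφ' y⟩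

theorem exists_induced [Finite S] (F : Cfsg.FusionSystem S) (θ : ↥S →* Ω')
    (E : Cfsg.FusionSystem S') (hE : F.IsFactorSystem F.center θ E) {P : Subgroup Ω}
    {φ : P →* Ω} (hφ : φ ∈ F.Hom P) :
    ∃ (P' : Subgroup Ω') (φ' : P' →* Ω'), φ' ∈ E.Hom P' ∧
      ∀ (u : P) (huS : (u : Ω) ∈ S) (hφS : φ u ∈ S),
        ∃ hu' : θ ⟨u, huS⟩ ∈ P', φ' ⟨θ ⟨u, huS⟩, hu'⟩ = θ ⟨φ u, hφS⟩ := by
  have hPS := (F.le_of_mem hφ).1
  obtain ⟨ψ, hψ, hψ1, -⟩ := (isCentral_center F).2 P φ hφ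
  have hYS : P ⊔ F.center ≤ S := sup_le hPS hE.1
  have hY := preimage_image_eq F F.center θ E hE (le_sup_right : F.center ≤ P ⊔ F.center) hYS
  obtain ⟨φ', hφ', hind⟩ := induced_aux F θ E hE _ (image_le F F.center θ E hE _) _ hY ψ hψ
  refine ⟨_, φ', hφ', fun u huS hφS => ?_⟩
  obtain ⟨hu', h⟩ := hind (Subgroup.inclusion le_sup_left u) huS (by rw [hψ1]; exact hφS)
  exact ⟨hu', h.trans (congrArg θ (Subtype.ext (hψ1 u)))⟩

theorem stepA [Finite S] (F : Cfsg.FusionSystem S) (θ : ↥S →* Ω')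
    (E : Cfsg.FusionSystem S') (hE : F.IsFactorSystem F.center θ E) (Q' : Subgroup Ω')
    (hQ' : E.IsCentral Q') {P : Subgroup Ω} {φ : P →* Ω} (hφ : φ ∈ F.Hom P) (x : P)
    (hxS : (x : Ω) ∈ S) (hx : θ ⟨x, hxS⟩ ∈ Q') : (x : Ω)⁻¹ * φ x ∈ F.center := by
  have hφS := (F.le_of_mem hφ).2 x
  obtain ⟨P', φ', hφ', hind⟩ := exists_induced F θ E hE hφ
  obtain ⟨hx', h1⟩ := hind x hxS hφS
  obtain ⟨ψ', -, hψ'1, hψ'2⟩ := hQ'.2 P' φ' hφ'
  have h2 := hψ'1 ⟨_, hx'⟩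
  have h3 := hψ'2 ⟨_, hx⟩
  have h23 : Subgroup.inclusion (le_sup_left : P' ≤ P' ⊔ Q') ⟨θ ⟨x, hxS⟩, hx'⟩ =
      Subgroup.inclusion le_sup_right ⟨θ ⟨x, hxS⟩, hx⟩ := Subtype.ext rfl
  have h4 : θ ⟨φ x, hφS⟩ = θ ⟨x, hxS⟩ := by
    rw [← h1, ← h2, h23, h3]
  have h5 : θ (⟨x, hxS⟩⁻¹ * ⟨φ x, hφS⟩) = 1 := by
    rw [map_mul, map_inv, h4]
    simp
  exact (hE.2.1 _).1 h5

theorem stepM [Finite S] (F : Cfsg.FusionSystem S) (θ : ↥S →* Ω')
    (E : Cfsg.FusionSystem S') (hE : F.IsFactorSystem F.center θ E) (Q' : Subgroup Ω')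
    (hQ' : E.IsCentral Q') {P : Subgroup Ω} {φ : P →* Ω} (hφ : φ ∈ F.Hom P) (t : Ω)
    (htS : t ∈ S) (ht : θ ⟨t, htS⟩ ∈ Q') :
    ∃ (Y : Subgroup Ω) (hPY : P ≤ Y) (χ : Y →* Ω), t ∈ Y ∧ χ ∈ F.Hom Y ∧
      ∀ u : P, (φ u)⁻¹ * χ (Subgroup.inclusion hPY u) ∈ F.center := by
  have hPS := (F.le_of_mem hφ).1
  have hφS := (F.le_of_mem hφ).2
  obtain ⟨P', φ', hφ', hind⟩ := exists_induced F θ E hE hφ
  obtain ⟨ψ', hψ', hψ'1, -⟩ := hQ'.2 P' φ' hφ'
  obtain ⟨-, χ, hχF, hY₂S, hχS, hmem, hχind⟩ := (hE.2.2.2 (P' ⊔ Q') ψ').1 hψ'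
  have hPY : P ≤ preimageAlong θ (P' ⊔ Q') := by
    intro u hu
    obtain ⟨hu', -⟩ := hind ⟨u, hu⟩ (hPS hu) (hφS _)
    exact ⟨⟨u, hPS hu⟩, Subgroup.mem_sup_left hu', rfl⟩
  refine ⟨_, hPY, χ, ⟨⟨t, htS⟩, Subgroup.mem_sup_right ht, rfl⟩, hχF, fun u => ?_⟩
  obtain ⟨hu', h1⟩ := hind u (hPS u.2) (hφS u)
  have h2 := hχind (Subgroup.inclusion hPY u)
  have h3 := hψ'1 ⟨_, hu'⟩
  have h4 : θ ⟨χ (Subgroup.inclusion hPY u), hχS _⟩ = θ ⟨φ u, hφS u⟩ := by
    rw [← h2, ← h1, ← h3]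
    rfl
  have h5 : θ (⟨φ u, hφS u⟩⁻¹ * ⟨χ (Subgroup.inclusion hPY u), hχS _⟩) = 1 := by
    rw [map_mul, map_inv, h4]
    simp
  exact (hE.2.1 _).1 h5

theorem comm_calc {G : Type*} [Group G] (t f z1 z2 : G) (c1t : Commute z1 t)
    (c1f : Commute z1 f) (c2t : Commute z2 t) (c21 : Commute z2 z1) :
    (t * z1)⁻¹ * (f * z2 * (t * z1) * (f * z2)⁻¹) = t⁻¹ * (f * t * f⁻¹) := by
  have c2 : Commute z2 (t * z1) := c2t.mul_right c21
  have step1 : f * z2 * (t * z1) * (f * z2)⁻¹ = f * (t * z1) * f⁻¹ := by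
    rw [mul_inv_rev, mul_assoc f z2, c2.eq]
    group
  have step2 : f * (t * z1) * f⁻¹ = f * t * f⁻¹ * z1 := by
    have h : z1 * f⁻¹ = f⁻¹ * z1 := (c1f.inv_right).eq
    calc f * (t * z1) * f⁻¹ = f * t * (z1 * f⁻¹) := by group
      _ = f * t * (f⁻¹ * z1) := by rw [h]
      _ = f * t * f⁻¹ * z1 := by group
  have c1 : Commute z1 (t⁻¹ * (f * t * f⁻¹)) :=
    c1t.inv_right.mul_right ((c1f.mul_right c1t).mul_right c1f.inv_right)
  rw [step1, step2]
  calc (t * z1)⁻¹ * (f * t * f⁻¹ * z1) = z1⁻¹ * ((t⁻¹ * (f * t * f⁻¹)) * z1) := by group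
    _ = z1⁻¹ * (z1 * (t⁻¹ * (f * t * f⁻¹))) := by rw [c1.eq]
    _ = _ := by group

theorem stepC [Finite S] {p : ℕ} (F : Cfsg.FusionSystem S) (θ : ↥S →* Ω')
    (E : Cfsg.FusionSystem S') (hE : F.IsFactorSystem F.center θ E) (Q' : Subgroup Ω')
    (hQ' : E.IsCentral Q') (hperf : F.hyperfocalSubgroup p = S) (t : Ω)
    (htS : t ∈ S) (ht : θ ⟨t, htS⟩ ∈ Q') : t ∈ Subgroup.centralizer (S : Set Ω) := by
  have hZc := F.center_le_centralizer
  have hκ : ∀ g ∈ S, t⁻¹ * (g * t * g⁻¹) ∈ F.center := by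
    intro g hg
    exact stepA F θ E hE Q' hQ' (F.conj_mem (P := Subgroup.zpowers t)
      (Subgroup.zpowers_le.2 htS) hg) ⟨t, Subgroup.mem_zpowers t⟩ htS ht
  have hkey : ∀ (P : Subgroup Ω) (φ : P →* Ω), φ ∈ F.Hom P → ∀ s : P,
      (s : Ω)⁻¹ * φ s * t = t * ((s : Ω)⁻¹ * φ s) := by
    intro P φ hφ s
    have hPS := (F.le_of_mem hφ).1
    have hφS := (F.le_of_mem hφ).2
    obtain ⟨Y, hPY, χ, htY, hχF, hmod⟩ := stepM F θ E hE Q' hQ' hφ t htS ht
    have hsS : (s : Ω) ∈ S := hPS s.2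
    have hκs := hκ s hsS
    have hκY : t⁻¹ * ((s : Ω) * t * (s : Ω)⁻¹) ∈ Y :=
      Y.mul_mem (Y.inv_mem htY) (Y.mul_mem (Y.mul_mem (hPY s.2) htY) (Y.inv_mem (hPY s.2)))
    have h1 := center_fixed_hom F hχF ⟨_, hκY⟩ hκs
    have h2 : χ ⟨_, hκY⟩ = (χ ⟨t, htY⟩)⁻¹ * (χ (Subgroup.inclusion hPY s) * χ ⟨t, htY⟩ *
        (χ (Subgroup.inclusion hPY s))⁻¹) := by
      rw [← map_inv, ← map_inv, ← map_mul, ← map_mul, ← map_mul]
      rfl
    have hz1 : t⁻¹ * χ ⟨t, htY⟩ ∈ F.center := stepA F θ E hE Q' hQ' hχF ⟨t, htY⟩ htS ht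
    have hz2 := hmod s
    have hc1 := hZc hz1
    have hc2 := hZc hz2
    have ha : χ ⟨t, htY⟩ = t * (t⁻¹ * χ ⟨t, htY⟩) := by group
    have hb : χ (Subgroup.inclusion hPY s) = φ s * ((φ s)⁻¹ * χ (Subgroup.inclusion hPY s)) := by
      group
    have e1 : ∀ g ∈ S, Commute (t⁻¹ * χ ⟨t, htY⟩) g :=
      fun g hg => (Subgroup.mem_centralizer_iff.1 hc1 g hg).symm
    have e2 : ∀ g ∈ S, Commute ((φ s)⁻¹ * χ (Subgroup.inclusion hPY s)) g :=
      fun g hg => (Subgroup.mem_centralizer_iff.1 hc2 g hg).symm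
    have h3 := comm_calc t (φ s) _ _ (e1 t htS) (e1 _ (hφS s)) (e2 t htS)
      (e2 _ (hE.1 hz1))
    rw [← ha, ← hb, ← h2, h1] at h3
    have h6 : φ s * t * (φ s)⁻¹ = (s : Ω) * t * (s : Ω)⁻¹ := (mul_left_cancel h3).symm
    calc (s : Ω)⁻¹ * φ s * t = (s : Ω)⁻¹ * (φ s * t * (φ s)⁻¹) * φ s := by group
      _ = (s : Ω)⁻¹ * ((s : Ω) * t * (s : Ω)⁻¹) * φ s := by rw [h6]
      _ = t * ((s : Ω)⁻¹ * φ s) := by group
  have hle : F.hyperfocalSubgroup p ≤ Subgroup.centralizer {t} := by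
    apply (Subgroup.closure_le _).2
    rintro y ⟨P, α, x, hPS, -, rfl⟩
    have hα := (mem_autGroup_iff F hPS (α : MulAut P)).1 α.2
    have := hkey P _ hα x
    exact Subgroup.mem_centralizer_singleton_iff.2 this
  rw [hperf] at hle
  rw [Subgroup.mem_centralizer_iff]
  intro g hg
  exact Subgroup.mem_centralizer_singleton_iff.1 (hle hg)

theorem stepD [Finite S] {p : ℕ} [Fact p.Prime] (hS : IsPGroup p S) (F : Cfsg.FusionSystem S)
    (hF : F.IsSaturated p) (θ : ↥S →* Ω')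
    (E : Cfsg.FusionSystem S') (hE : F.IsFactorSystem F.center θ E) (Q' : Subgroup Ω')
    (hQ' : E.IsCentral Q') (t : Ω) (htS : t ∈ S) (ht : θ ⟨t, htS⟩ ∈ Q')
    (htZ : t ∈ Subgroup.centralizer (S : Set Ω)) {W : Subgroup Ω}
    (hW : F.IsFullyNormalized W) (htW : t ∈ W) (α : MulAut W) (hα : α ∈ F.autGroup W) :
    ((α ⟨t, htW⟩ : W) : Ω) = t := by
  have hWS := hW.1
  haveI : Finite W := finite_of_le hWS
  haveI : Finite ↥(F.center) := finite_of_le hE.1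
  have hA : ∀ a : F.autGroup W, t⁻¹ * (((a : MulAut W) ⟨t, htW⟩ : W) : Ω) ∈ F.center :=
    fun a => stepA F θ E hE Q' hQ' ((mem_autGroup_iff F hWS (a : MulAut W)).1 a.2)
      ⟨t, htW⟩ htS ht
  let c : F.autGroup W →* ↥(F.center) :=
    { toFun := fun a => ⟨_, hA a⟩
      map_one' := Subtype.ext (by
        show t⁻¹ * t = 1
        simp)
      map_mul' := fun a b => Subtype.ext (by
        show t⁻¹ * (((a : MulAut W) ((b : MulAut W) ⟨t, htW⟩) : W) : Ω) =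
          (t⁻¹ * (((a : MulAut W) ⟨t, htW⟩ : W) : Ω)) *
          (t⁻¹ * (((b : MulAut W) ⟨t, htW⟩ : W) : Ω))
        have hzb : (((⟨t, htW⟩ : W)⁻¹ * (b : MulAut W) ⟨t, htW⟩ : W) : Ω) ∈ F.center := hA b
        have h1 : (((a : MulAut W) ((⟨t, htW⟩ : W)⁻¹ * (b : MulAut W) ⟨t, htW⟩) : W) : Ω) =
            (((⟨t, htW⟩ : W)⁻¹ * (b : MulAut W) ⟨t, htW⟩ : W) : Ω) :=
          center_fixed_hom F ((mem_autGroup_iff F hWS (a : MulAut W)).1 a.2) _ hzb
        have h2 : (b : MulAut W) ⟨t, htW⟩ =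
            ⟨t, htW⟩ * ((⟨t, htW⟩ : W)⁻¹ * (b : MulAut W) ⟨t, htW⟩) := by group
        have h3 : (((a : MulAut W) ((b : MulAut W) ⟨t, htW⟩) : W) : Ω) =
            (((a : MulAut W) ⟨t, htW⟩ : W) : Ω) *
            (t⁻¹ * (((b : MulAut W) ⟨t, htW⟩ : W) : Ω)) := by
          calc (((a : MulAut W) ((b : MulAut W) ⟨t, htW⟩) : W) : Ω)
              = (((a : MulAut W) (⟨t, htW⟩ *
                  ((⟨t, htW⟩ : W)⁻¹ * (b : MulAut W) ⟨t, htW⟩)) : W) : Ω) := by rw [← h2]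
            _ = (((a : MulAut W) ⟨t, htW⟩ : W) : Ω) *
                (((a : MulAut W) ((⟨t, htW⟩ : W)⁻¹ * (b : MulAut W) ⟨t, htW⟩) : W) : Ω) := by
              rw [map_mul]
              rfl
            _ = _ := by
              rw [h1]
              rfl
        rw [h3]
        group) }
  obtain ⟨-, R, hR⟩ := fullyAutomized_of_fullyNormalized hS F hF hW
  have hRker : (R : Subgroup (F.autGroup W)) ≤ c.ker := by
    intro a ha
    rw [hR, Subgroup.mem_subgroupOf] at ha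
    obtain ⟨g, hg, hga⟩ := (mem_autInducedBy_iff S W _).1 ha
    rw [MonoidHom.mem_ker]
    apply Subtype.ext
    show t⁻¹ * (((a : MulAut W) ⟨t, htW⟩ : W) : Ω) = 1
    rw [hga]
    have := Subgroup.mem_centralizer_iff.1 htZ g hg
    show t⁻¹ * (g * t * g⁻¹) = 1
    rw [this]
    group
  have hdvd : c.ker.index ∣ (R : Subgroup (F.autGroup W)).index := Subgroup.index_dvd_of_le hRker
  have hnot : ¬ p ∣ (R : Subgroup (F.autGroup W)).index := R.not_dvd_index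
  have hZp : IsPGroup p ↥(F.center) := hS.to_le hE.1
  have hrange : IsPGroup p c.range := hZp.to_subgroup c.range
  obtain ⟨k, hk⟩ := hrange.exists_card_eq
  have hidx : c.ker.index = Nat.card c.range := Subgroup.index_ker c
  have hk0 : k = 0 := by
    by_contra hk0
    apply hnot
    have : p ∣ c.ker.index := by
      rw [hidx, hk]
      exact dvd_pow_self p hk0
    exact this.trans hdvd
  have hker : c.ker = ⊤ := by
    apply Subgroup.index_eq_one.1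
    rw [hidx, hk, hk0, pow_zero]
  have hmem : (⟨α, hα⟩ : F.autGroup W) ∈ c.ker := hker ▸ Subgroup.mem_top _
  have h := congrArg Subtype.val (MonoidHom.mem_ker.1 hmem)
  exact (inv_mul_eq_one.1 h).symm

theorem central_of_fixed [Finite S] {p : ℕ} [Fact p.Prime] (hS : IsPGroup p S)
    (F : Cfsg.FusionSystem S) (hF : F.IsSaturated p) (t : Ω) (htS : t ∈ S)
    (htZ : t ∈ Subgroup.centralizer (S : Set Ω))
    (hfix : ∀ W : Subgroup Ω, F.IsFullyNormalized W → ∀ htW : t ∈ W, ∀ α : MulAut W,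
      α ∈ F.autGroup W → ((α ⟨t, htW⟩ : W) : Ω) = t) :
    F.IsCentral (Subgroup.zpowers t) := by
  have htC : t ∈ Subgroup.zpowers t := Subgroup.mem_zpowers t
  have hCS : Subgroup.zpowers t ≤ S := Subgroup.zpowers_le.2 htS
  have hzp : ∀ (V : Subgroup Ω) (ψ : V →* Ω) (htV : t ∈ V), ψ ⟨t, htV⟩ = t →
      ∀ (x : Ω) (hxV : x ∈ V), x ∈ Subgroup.zpowers t → ψ ⟨x, hxV⟩ = x := by
    intro V ψ htV h x hxV hx
    obtain ⟨k, rfl⟩ := Subgroup.mem_zpowers_iff.1 hx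
    have h' : (⟨t ^ k, hxV⟩ : V) = ⟨t, htV⟩ ^ k := Subtype.ext (by simp)
    rw [h', map_zpow, h]
  have key : ∀ (U : Subgroup Ω) (φ : U →* Ω), φ ∈ F.Hom U →
      ∃ ψ ∈ F.Hom (U ⊔ Subgroup.zpowers t),
        (∀ x : U, ψ (Subgroup.inclusion le_sup_left x) = φ x) ∧
        ψ ⟨t, Subgroup.mem_sup_right htC⟩ = t := by
    apply alperin_induction hS F hF (fun U φ => ∃ ψ ∈ F.Hom (U ⊔ Subgroup.zpowers t),
        (∀ x : U, ψ (Subgroup.inclusion le_sup_left x) = φ x) ∧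
        ψ ⟨t, Subgroup.mem_sup_right htC⟩ = t)
    · rintro U V φ h hφ ⟨ψ, hψ, h1, h2⟩
      have hle : U ⊔ Subgroup.zpowers t ≤ V ⊔ Subgroup.zpowers t := sup_le_sup_right h _
      exact ⟨ψ.comp (Subgroup.inclusion hle), restrict_mem F hψ hle, fun x => h1 ⟨x, h x.2⟩, h2⟩
    · rintro U V φ ψ h hφ hψ ⟨φ₁, hφ₁, h1, h2⟩ ⟨ψ₁, hψ₁, h3, h4⟩
      have hval : ∀ y : ↥(U ⊔ Subgroup.zpowers t), φ₁ y ∈ V ⊔ Subgroup.zpowers t := by
        apply forall_mem_of_sup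
        · intro u
          rw [h1]
          exact Subgroup.mem_sup_left (h u)
        · intro x
          have h5 : φ₁ (Subgroup.inclusion le_sup_right x) = x :=
            hzp _ φ₁ (Subgroup.mem_sup_right htC) h2 x (Subgroup.mem_sup_right x.2) x.2
          rw [h5]
          exact Subgroup.mem_sup_right x.2
      refine ⟨ψ₁.comp (φ₁.codRestrict _ hval), F.comp_mem hφ₁ hψ₁ hval, fun x => ?_, ?_⟩
      · show ψ₁ ⟨φ₁ (Subgroup.inclusion le_sup_left x), _⟩ = ψ ⟨φ x, h x⟩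
        have h6 : (⟨φ₁ (Subgroup.inclusion le_sup_left x), hval _⟩ :
            ↥(V ⊔ Subgroup.zpowers t)) = Subgroup.inclusion le_sup_left ⟨φ x, h x⟩ :=
          Subtype.ext (h1 x)
        rw [h6, h3]
      · show ψ₁ ⟨φ₁ ⟨t, _⟩, _⟩ = t
        have h6 : (⟨φ₁ ⟨t, Subgroup.mem_sup_right htC⟩, hval _⟩ :
            ↥(V ⊔ Subgroup.zpowers t)) = ⟨t, Subgroup.mem_sup_right htC⟩ := Subtype.ext h2
        rw [h6, h4]
    · intro W hW IH α hα
      have hWS := hW.1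
      have hαA : α ∈ F.autGroup W := (mem_autGroup_iff F hWS α).2 hα
      by_cases htW : t ∈ W
      · have hle : W ⊔ Subgroup.zpowers t ≤ W := sup_le le_rfl (Subgroup.zpowers_le.2 htW)
        refine ⟨(W.subtype.comp α.toMonoidHom).comp (Subgroup.inclusion hle),
          restrict_mem F hα hle, fun x => rfl, ?_⟩
        exact hfix W hW htW α hαA
      · have hrec := receptive_of_fullyNormalized hS F hF hW
        have hcomm : ∀ g ∈ Subgroup.zpowers t, ∀ y ∈ W, g * y * g⁻¹ = y := by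
          intro g hg y hy
          have hgZ : g ∈ Subgroup.centralizer (S : Set Ω) := (Subgroup.zpowers_le.2 htZ) hg
          have := Subgroup.mem_centralizer_iff.1 hgZ y (hWS hy)
          rw [← this]
          group
        have hX : Subgroup.zpowers t ≤ normalizerIn S W := by
          intro g hg
          refine ⟨hCS hg, mem_normalizer_of_two_sided (fun y hy => ?_) (fun y hy => ?_)⟩
          · rw [hcomm g hg y hy]
            exact hy
          · have := hcomm g⁻¹ (inv_mem hg) y hy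
            rw [inv_inv] at this
            rw [this]
            exact hy
        have hνX : ∀ (g : Ω) (hg : g ∈ Subgroup.zpowers t),
            α * conjAut S W ⟨g, hX hg⟩ * α⁻¹ ∈ autInducedBy S W := by
          intro g hg
          have h1 : conjAut S W ⟨g, hX hg⟩ = 1 := by
            ext x
            rw [conjAut_apply]
            exact hcomm g hg x x.2
          rw [h1, mul_one, mul_inv_cancel]
          exact one_mem _
        obtain ⟨Y, hWY, hXY, hYN, ψ, hψ, hψν⟩ :=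
          exists_extension_of_normalizes F hrec α hαA _ hX hνX
        have htY : t ∈ Y := hXY htC
        haveI : Finite Y := finite_of_le (hYN.trans inf_le_left)
        have hlt : Nat.card W < Nat.card Y := by
          by_contra hcon
          have := Subgroup.eq_of_le_of_card_ge hWY (not_lt.1 hcon)
          rw [← this] at htY
          exact htW htY
        obtain ⟨ψ', hψ', h1, h2⟩ := IH Y ψ hψ hlt
        have hle : W ⊔ Subgroup.zpowers t ≤ Y ⊔ Subgroup.zpowers t := sup_le_sup_right hWY _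
        refine ⟨ψ'.comp (Subgroup.inclusion hle), restrict_mem F hψ' hle, fun x => ?_, h2⟩
        have h3 := h1 ⟨x, hWY x.2⟩
        rw [hψν x (hWY x.2)] at h3
        exact h3
  refine ⟨hCS, fun P φ hφ => ?_⟩
  obtain ⟨ψ, hψ, h1, h2⟩ := key P φ hφ
  exact ⟨ψ, hψ, h1, fun x => hzp _ ψ _ h2 x (Subgroup.mem_sup_right x.2) x.2⟩

theorem main [Finite S] (p : ℕ) [Fact p.Prime] (hS : IsPGroup p S) (F : Cfsg.FusionSystem S)
    (hF : F.IsSaturated p) (hperf : F.hyperfocalSubgroup p = S) (θ : ↥S →* Ω')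
    (E : Cfsg.FusionSystem S') (hE : F.IsFactorSystem F.center θ E) : E.center = ⊥ := by
  rw [eq_bot_iff]
  apply sSup_le
  intro Q' hQ' q hq
  have hqS' : q ∈ S' := hQ'.1 hq
  rw [← hE.2.2.1] at hqS'
  obtain ⟨s, rfl⟩ := hqS'
  have htS : (s : Ω) ∈ S := s.2
  have ht : θ ⟨s, htS⟩ ∈ Q' := hq
  have hC := stepC F θ E hE Q' hQ' hperf s htS ht
  have hcen := central_of_fixed hS F hF s htS hC (fun W hW htW α hα =>
    stepD hS F hF θ E hE Q' hQ' s htS ht hC hW htW α hα)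
  have hmem : (s : Ω) ∈ F.center := by
    have h : Subgroup.zpowers (s : Ω) ≤ F.center := le_sSup hcen
    exact h (Subgroup.mem_zpowers _)
  rw [Subgroup.mem_bot]
  exact (hE.2.1 s).2 hmem

end

/-- An analogue of Grün's lemma for fusion systems. Let F be a saturated fusion system over a finite p-group S that is perfect in the sense that its hyperfocal subgroup is all of S (F coincides with its p-residual subsystem). Then the second centre of F equals its centre: every fusion system over S/(Z(F) ∩ S) that is the factor system of F modulo its centre Z(F), read through the quotient map, has trivial centre. -/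
theorem result {Ω : Type*} [Group Ω] {S : Subgroup Ω} [Finite S] (p : ℕ) [Fact p.Prime] (hS : IsPGroup p S) (F : Cfsg.FusionSystem S) (hF : F.IsSaturated p)
    (hperf : F.hyperfocalSubgroup p = S)
    (E : Cfsg.FusionSystem (⊤ : Subgroup (↥S ⧸ (F.center).subgroupOf S)))
    (hE : F.IsFactorSystem F.center (QuotientGroup.mk' ((F.center).subgroupOf S)) E) : E.center = ⊥ := by
  exact main p hS F hF hperf _ E hE

end Cfsg.Agent.S5315
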