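import Cfsg.Statements.S5343
-- import your own Cfsg.Agent.* helpers here
import Cfsg.Agent.Lib.helper26.RealNormal

set_option autoImplicit false
universe u
open Cfsg

namespace Cfsg.Agent.S5343

section
open Cfsg.Agent.Lib.helper26 Cfsg Cfsg.FusionSystem

theorem exists_simple_realizer {Ω : Type u} [Group Ω] {S : Subgroup Ω} [Finite S] (p : ℕ)
    [Fact p.Prime] (F : FusionSystem S) (hsimple : F.IsSimple p) :
    ∀ (n : ℕ) (G : Type u) [Group G] [Finite G] (ι : S →* G), Nat.card G ≤ n →
      F.IsRealizedBy ι → (∃ T : Sylow p G, (T : Subgroup G) = ι.range) →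
      ∃ (G' : Type u) (_ : Group G') (_ : Finite G') (_ : IsSimpleGroup G') (ι' : S →* G'),
        F.IsRealizedBy ι' ∧ ∃ T : Sylow p G', (T : Subgroup G') = ι'.range := by
  intro n
  induction n with
  | zero =>
    intro G _ _ ι hcard _ _
    have := Nat.card_pos (α := G)
    omega
  | succ n ih =>
    intro G _ _ ι hcard hr hSyl
    obtain ⟨P₀, hP₀⟩ := hSyl
    by_cases hsG : IsSimpleGroup G
    · exact ⟨G, inferInstance, inferInstance, hsG, ι, hr, P₀, hP₀⟩
    have hι := hr.1
    have hntG : Nontrivial G := by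
      obtain ⟨s, hs⟩ : ∃ s : S, s ≠ 1 := by
        by_contra hall
        push Not at hall
        apply hsimple.2.1
        rw [Subgroup.eq_bot_iff_forall]
        intro x hx
        exact congrArg Subtype.val (hall ⟨x, hx⟩)
      exact ⟨⟨ι s, 1, fun h => hs (hι (h.trans (map_one ι).symm))⟩⟩
    obtain ⟨N, hNn, hNbot, hNtop⟩ : ∃ N : Subgroup G, N.Normal ∧ N ≠ ⊥ ∧ N ≠ ⊤ := by
      by_contra hall
      push Not at hall
      apply hsG
      exact { exists_pair_ne := hntG.exists_pair_ne
              eq_bot_or_eq_top_of_normal := fun N hN => by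
                by_cases h : N = ⊥
                · exact Or.inl h
                · exact Or.inr (hall N hN h) }
    haveI := hNn
    have hmemP₀ : ∀ s : S, ι s ∈ (P₀ : Subgroup G) := by
      intro s
      rw [hP₀]
      exact ⟨s, rfl⟩
    have hEn := subE_isNormalIn F hsimple.1 ι hr P₀ hP₀ N
    rcases hsimple.2.2 _ _ hEn with hT | ⟨hT, hEF⟩
    · -- the preimage of `N` is trivial: pass to `G ⧸ N`
      have hinf : ∀ y ∈ (P₀ : Subgroup G), y ∈ N → y = 1 := by
        intro y hy hyN
        have hy' : y ∈ ι.range := by rw [← hP₀]; exact hy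
        obtain ⟨s, rfl⟩ := hy'
        have h1 : (s : Ω) ∈ subT ι N := (mem_subT ι N s).2 hyN
        rw [hT, Subgroup.mem_bot] at h1
        have h2 : s = 1 := Subtype.ext h1
        rw [h2, map_one]
      have hinj2 : Function.Injective ((QuotientGroup.mk' N).comp ι) := by
        rw [injective_iff_map_eq_one]
        intro s hs
        have h1 : ι s ∈ N := (QuotientGroup.eq_one_iff _).1 hs
        have h2 := hinf _ (hmemP₀ s) h1
        exact hι (h2.trans (map_one ι).symm)
      have hScard : Nat.card (P₀ : Subgroup G) =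
          p ^ (Nat.card (⊤ : Subgroup G)).factorization p := by
        rw [Subgroup.card_top]
        exact P₀.card_eq_multiplicity
      have hr2 : F.IsRealizedBy ((QuotientGroup.mk' N).comp ι) := by
        refine ⟨hinj2, fun P hP φ hφ => ⟨?_, ?_⟩⟩
        · intro h
          obtain ⟨g, hg⟩ := (hr.2 P hP φ hφ).1 h
          refine ⟨QuotientGroup.mk' N g, fun x => ?_⟩
          show QuotientGroup.mk' N (ι ⟨φ x, hφ x⟩) = _
          rw [hg x, map_mul, map_mul, map_inv]
          rfl
        · rintro ⟨gb, hgb⟩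
          obtain ⟨g, rfl⟩ := QuotientGroup.mk'_surjective N gb
          have hcong : ∀ x : P, (g * ι ⟨x, hP x.2⟩ * g⁻¹)⁻¹ * ι ⟨φ x, hφ x⟩ ∈ N := by
            intro x
            have h1 : QuotientGroup.mk' N (ι ⟨φ x, hφ x⟩) =
                QuotientGroup.mk' N (g * ι ⟨x, hP x.2⟩ * g⁻¹) := by
              rw [map_mul, map_mul, map_inv]
              exact hgb x
            exact QuotientGroup.eq.1 h1.symm
          obtain ⟨X, hXdef⟩ : ∃ X : Subgroup G,
              X = ((P.subgroupOf S).map ι).map (MulAut.conj g).toMonoidHom := ⟨_, rfl⟩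
          have hXp : IsPGroup p X := by
            rw [hXdef]
            refine (P₀.isPGroup'.to_le ?_).map _
            rintro _ ⟨s, -, rfl⟩
            exact hmemP₀ s
          have hXmem : ∀ x : P, g * ι ⟨x, hP x.2⟩ * g⁻¹ ∈ X := by
            intro x
            rw [hXdef]
            exact ⟨ι ⟨x, hP x.2⟩, ⟨⟨x, hP x.2⟩, Subgroup.mem_subgroupOf.2 x.2, rfl⟩, rfl⟩
          have hXle : X ≤ (P₀ : Subgroup G) ⊔ N := by
            rw [hXdef]
            rintro _ ⟨_, ⟨s, hs, rfl⟩, rfl⟩
            have hsP : (s : Ω) ∈ P := Subgroup.mem_subgroupOf.1 hs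
            have h1 := hcong ⟨s, hsP⟩
            have h2 : (MulAut.conj g).toMonoidHom (ι s) =
                ι ⟨φ ⟨s, hsP⟩, hφ ⟨s, hsP⟩⟩ *
                  ((g * ι s * g⁻¹)⁻¹ * ι ⟨φ ⟨s, hsP⟩, hφ ⟨s, hsP⟩⟩)⁻¹ := by
              show g * ι s * g⁻¹ = _
              group
            rw [h2]
            exact Subgroup.mul_mem_sup (hmemP₀ _) (N.inv_mem h1)
          have hPnN : (P₀ : Subgroup G) ≤ Subgroup.normalizer (N : Set G) := by
            rw [Subgroup.normalizer_eq_top]
            exact le_top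
          obtain ⟨c, hcN, hle⟩ := Cfsg.Agent.Lib.helper25.exists_conj_le_of_sylCard_sup
            (le_top : (P₀ : Subgroup G) ≤ ⊤) (le_top : N ≤ ⊤) hScard hPnN X hXp hXle
          refine (hr.2 P hP φ hφ).2 ⟨c * g, fun x => ?_⟩
          have hu : c * (g * ι ⟨x, hP x.2⟩ * g⁻¹) * c⁻¹ ∈ (P₀ : Subgroup G) :=
            hle ⟨_, hXmem x, rfl⟩
          have h1 := hcong x
          have h3 : (c * (g * ι ⟨x, hP x.2⟩ * g⁻¹) * c⁻¹)⁻¹ * ι ⟨φ x, hφ x⟩ ∈ N := by
            have e : (c * (g * ι ⟨x, hP x.2⟩ * g⁻¹) * c⁻¹)⁻¹ * ι ⟨φ x, hφ x⟩ =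
                c * ((g * ι ⟨x, hP x.2⟩ * g⁻¹)⁻¹ * c⁻¹ * (g * ι ⟨x, hP x.2⟩ * g⁻¹)⁻¹⁻¹) *
                  ((g * ι ⟨x, hP x.2⟩ * g⁻¹)⁻¹ * ι ⟨φ x, hφ x⟩) := by group
            rw [e]
            exact N.mul_mem (N.mul_mem hcN (hNn.conj_mem _ (N.inv_mem hcN) _)) h1
          have h4 := hinf _ ((P₀ : Subgroup G).mul_mem ((P₀ : Subgroup G).inv_mem hu)
            (hmemP₀ _)) h3
          have h5 : ι ⟨φ x, hφ x⟩ = c * (g * ι ⟨x, hP x.2⟩ * g⁻¹) * c⁻¹ :=
            (inv_mul_eq_one.1 h4).symm
          rw [h5]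
          group
      have hcardQ : Nat.card (G ⧸ N) ≤ n := by
        have h1 := Subgroup.card_eq_card_quotient_mul_card_subgroup N
        have h2 : 1 < Nat.card N := (Subgroup.one_lt_card_iff_ne_bot N).2 hNbot
        have h3 : 0 < Nat.card (G ⧸ N) := Nat.card_pos
        nlinarith
      refine ih (G ⧸ N) ((QuotientGroup.mk' N).comp ι) hcardQ hr2
        ⟨P₀.mapSurjective (QuotientGroup.mk'_surjective N), ?_⟩
      rw [Sylow.coe_mapSurjective, hP₀, MonoidHom.range_comp]
    · -- the preimage of `N` is all of `S`: pass to `N`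
      have hall : ∀ s : S, ι s ∈ N := fun s => (mem_subT ι N s).1 (by rw [hT]; exact s.2)
      have hr1 : F.IsRealizedBy (ι.codRestrict N hall) := by
        refine ⟨fun a b hab => hι (congrArg Subtype.val hab), fun P hP φ hφ => ?_⟩
        rw [← hEF P, mem_subE_iff]
        constructor
        · rintro ⟨_, _, m, hmN, hm⟩
          exact ⟨⟨m, hmN⟩, fun x => Subtype.ext (hm x)⟩
        · rintro ⟨m, hm⟩
          exact ⟨hP.trans hT.ge, fun x => hT.ge (hφ x), m.1, m.2,
            fun x => congrArg Subtype.val (hm x)⟩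
      have hP₀N : (P₀ : Subgroup G) ≤ N := by
        rw [hP₀]
        rintro _ ⟨s, rfl⟩
        exact hall s
      have hcardN : Nat.card N ≤ n := by
        have h1 : Nat.card N < Nat.card G := by
          refine lt_of_le_of_ne (Subgroup.card_le_card_group N) ?_
          intro h
          exact hNtop ((Subgroup.card_eq_iff_eq_top N).1 h)
        omega
      refine ih N (ι.codRestrict N hall) hcardN hr1 ⟨P₀.subtype hP₀N, ?_⟩
      rw [Sylow.coe_subtype]
      ext m
      rw [Subgroup.mem_subgroupOf, hP₀]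
      constructor
      · rintro ⟨s, hs⟩
        exact ⟨s, Subtype.ext hs⟩
      · rintro ⟨s, rfl⟩
        exact ⟨s, rfl⟩

theorem main {Ω : Type u} [Group Ω] {S : Subgroup Ω} [Finite S] (p : ℕ) [Fact p.Prime]
    (F : Cfsg.FusionSystem S) (hsimple : F.IsSimple p) (hreal : F.IsRealizable p) :
    ∃ (G : Type u) (_ : Group G) (_ : Finite G) (_ : IsSimpleGroup G) (ι : ↥S →* G),
      F.IsRealizedBy ι ∧ ∃ T : Sylow p G, (T : Subgroup G) = ι.range := by
  obtain ⟨G, _, _, ι, hr, hT⟩ := hreal
  exact exists_simple_realizer p F hsimple (Nat.card G) G ι le_rfl hr hT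
end

/-- Let F be a simple saturated fusion system over a finite p-group S that is realized by some finite group on a Sylow p-subgroup. Then F is realized by a finite simple group on a Sylow p-subgroup. -/
theorem result {Ω : Type u} [Group Ω] {S : Subgroup Ω} [Finite S] (p : ℕ) [Fact p.Prime] (hS : IsPGroup p S) (F : Cfsg.FusionSystem S) (hsimple : F.IsSimple p) (hreal : F.IsRealizable p) : ∃ (G : Type u) (_ : Group G) (_ : Finite G) (_ : IsSimpleGroup G) (ι : ↥S →* G), F.IsRealizedBy ι ∧ ∃ T : Sylow p G, (T : Subgroup G) = ι.range := by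
  exact main p F hsimple hreal

end Cfsg.Agent.S5343
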