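import Cfsg.Statements.S5522
import Cfsg.Agent.Lib.helper28.GolayM12

set_option autoImplicit false
open Cfsg

namespace Cfsg.Agent.S5522

open Cfsg.Agent.Lib.helper28
open scoped Pointwise

/-- The table fixes an index outside the dodecad of squares. -/
def hasFix (l : List ℕ) : Bool :=
  (List.range 24).any fun i => !(d0.testBit i) && l.getD i 0 == i

/-- The table is the identity table. -/
def isId (l : List ℕ) : Bool := allLt (fun i => l.getD i 0 == i) 24

/-- The check on one table: a fixed point outside the dodecad, or no small prime power is the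
identity. -/
def elusiveQ (l : List ℕ) : Bool :=
  hasFix l || !(isId (mulTab l l) || isId (mulTab (mulTab l l) l) ||
    isId (mulTab (mulTab (mulTab l l) l) (mulTab l l)) ||
    isId (mulTab (mulTab (mulTab (mulTab (mulTab l l) l) (mulTab l l))
      (mulTab (mulTab (mulTab l l) l) (mulTab l l))) l))

theorem allLt_of_forall {p : ℕ → Bool} {n : ℕ} (h : ∀ k, k < n → p k = true) :
    allLt p n = true := by
  induction n with
  | zero => rfl
  | succ n ih =>
    rw [allLt, Bool.and_eq_true]
    exact ⟨h n (Nat.lt_succ_self n), ih fun k hk => h k (Nat.lt_succ_of_lt hk)⟩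

theorem isId_of_eq_one {g : Equiv.Perm GolayPt} {l : List ℕ} (hl : IsTable g l) (hg : g = 1) :
    isId l = true := by
  apply allLt_of_forall
  intro k hk
  rw [beq_iff_eq]
  have := hl (pt k)
  rw [idx_pt hk, hg] at this
  rw [this]
  show idx (pt k) = k
  exact idx_pt hk

theorem m11_check : chainAll elusiveQ m12Chain.tail idTab = true := by decide +kernel

theorem m11_tail_ok : chainOK [2 ^ 0, d0] m12Chain.tail = true :=
  (chainOK_cons (Inv := [d0]) (b := 0) m12Chain_ok).2.2.2.2

theorem m11_tail_bot : stabM (chainInv [2 ^ 0, d0] m12Chain.tail) = ⊥ := m12_final_bot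

theorem prime_cases {p : ℕ} (hp : p.Prime) (h : p ∣ 7920) : p = 2 ∨ p = 3 ∨ p = 5 ∨ p = 11 := by
  have e : (7920 : ℕ) = 2 ^ 4 * 3 ^ 2 * 5 * 11 := by norm_num
  rw [e] at h
  rcases (Nat.Prime.dvd_mul hp).mp h with h | h
  · rcases (Nat.Prime.dvd_mul hp).mp h with h | h
    · rcases (Nat.Prime.dvd_mul hp).mp h with h | h
      · left
        exact (Nat.prime_dvd_prime_iff_eq hp Nat.prime_two).mp (hp.dvd_of_dvd_pow h)
      · right; left
        exact (Nat.prime_dvd_prime_iff_eq hp Nat.prime_three).mp (hp.dvd_of_dvd_pow h)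
    · right; right; left
      exact (Nat.prime_dvd_prime_iff_eq hp Nat.prime_five).mp h
  · right; right; right
    exact (Nat.prime_dvd_prime_iff_eq hp (by norm_num)).mp h


/-- The Mathieu group M₁₁, realised as the stabiliser of one point of the dodecad of squares inside the stabiliser M₁₂ of that dodecad in M₂₄, acts on the twelve coordinate positions outside the dodecad of squares (its 3-transitive action of degree 12); in this action every element of prime order fixes a point, i.e. the action is elusive. -/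
theorem result (g : Equiv.Perm Cfsg.GolayPt) (hg : g ∈ Cfsg.Spor.M11) (hord : (orderOf g).Prime) :
    ∃ x : Cfsg.GolayPt, x ∉ Cfsg.Spor.squareDodecad ∧ g x = x := by
  have hmem : g ∈ stabM [2 ^ 0, d0] := by
    rw [mem_stabM_cons_pt (by norm_num), mem_stabM]
    unfold Cfsg.Spor.M11 Cfsg.Spor.M12 at hg
    rw [Subgroup.mem_inf, Subgroup.mem_inf, MulAction.mem_stabilizer_iff,
      MulAction.mem_stabilizer_iff, squareDodecad_eq] at hg
    refine ⟨⟨hg.1.1, ?_⟩, hg.2⟩
    intro m hm
    rw [List.mem_singleton] at hm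
    rw [hm]
    exact hg.1.2
  obtain ⟨l, hl, hQ⟩ := chainAll_sound elusiveQ m12Chain.tail [2 ^ 0, d0] idTab 1 isTable_one
    m11_tail_ok m11_tail_bot m11_check g hmem
  rw [one_mul] at hl
  unfold elusiveQ at hQ
  rw [Bool.or_eq_true] at hQ
  rcases hQ with hQ | hQ
  · unfold hasFix at hQ
    rw [List.any_eq_true] at hQ
    obtain ⟨i, hi, hi2⟩ := hQ
    rw [List.mem_range] at hi
    rw [Bool.and_eq_true, beq_iff_eq] at hi2
    refine ⟨pt i, ?_, ?_⟩
    · rw [squareDodecad_eq, mem_setOf, idx_pt hi]
      intro h
      rw [h] at hi2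
      exact absurd hi2.1 (by decide)
    · apply idx_injective
      rw [← hl (pt i), idx_pt hi]
      exact hi2.2
  · exfalso
    have hdvd : orderOf g ∣ 7920 := by
      rw [← card_stabM_d0_pt]
      exact Subgroup.orderOf_dvd_natCard _ hmem
    have hpow : g ^ orderOf g = 1 := pow_orderOf_eq_one g
    have h2 : IsTable (g ^ 2) (mulTab l l) := by
      rw [pow_two]; exact isTable_mulTab hl hl
    have h3 : IsTable (g ^ 3) (mulTab (mulTab l l) l) := by
      rw [pow_succ]; exact isTable_mulTab h2 hl
    have h5 : IsTable (g ^ 5) (mulTab (mulTab (mulTab l l) l) (mulTab l l)) := by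
      have : g ^ 5 = g ^ 3 * g ^ 2 := by rw [← pow_add]
      rw [this]; exact isTable_mulTab h3 h2
    have h11 : IsTable (g ^ 11) (mulTab (mulTab (mulTab (mulTab (mulTab l l) l) (mulTab l l))
        (mulTab (mulTab (mulTab l l) l) (mulTab l l))) l) := by
      have : g ^ 11 = g ^ 5 * g ^ 5 * g := by rw [← pow_add, ← pow_succ]
      rw [this]; exact isTable_mulTab (isTable_mulTab h5 h5) hl
    rw [Bool.not_eq_true', Bool.or_eq_false_iff, Bool.or_eq_false_iff, Bool.or_eq_false_iff] at hQ
    obtain ⟨⟨⟨q2, q3⟩, q5⟩, q11⟩ := hQ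
    rcases prime_cases hord hdvd with h | h | h | h
    · rw [h] at hpow
      rw [isId_of_eq_one h2 hpow] at q2
      exact absurd q2 (by decide)
    · rw [h] at hpow
      rw [isId_of_eq_one h3 hpow] at q3
      exact absurd q3 (by decide)
    · rw [h] at hpow
      rw [isId_of_eq_one h5 hpow] at q5
      exact absurd q5 (by decide)
    · rw [h] at hpow
      rw [isId_of_eq_one h11 hpow] at q11
      exact absurd q11 (by decide)

end Cfsg.Agent.S5522
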