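import Cfsg.Statements.S5726
import Mathlib
import Cfsg.Agent.Lib.helper29.PermMod

set_option autoImplicit false
open Cfsg

namespace Cfsg.Agent.S5726

/-- If a finite group acts faithfully and transitively on a set with p^k elements, p a prime and k ≥ 1, then some element of order p fixes no point. -/
theorem result {G Ω : Type*} [Group G] [Finite G] [MulAction G Ω] [FaithfulSMul G Ω] [Fintype Ω] (htr : MulAction.IsPretransitive G Ω)
    (p k : ℕ) (hp : p.Prime) (hk : 1 ≤ k) (hΩ : Fintype.card Ω = p ^ k) :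
    ∃ g : G, orderOf g = p ∧ ∀ ω : Ω, g • ω ≠ ω := by
  haveI : Fact p.Prime := ⟨hp⟩
  classical
  obtain ⟨P⟩ : Nonempty (Sylow p G) := inferInstance
  haveI := htr
  have hPt := Cfsg.Agent.Lib.helper29.sylow_pretransitive hΩ P
  have hcardΩ : 1 < Fintype.card Ω := by
    rw [hΩ]; exact Nat.one_lt_pow (by omega) hp.one_lt
  obtain ⟨a, b, hab⟩ := Fintype.exists_pair_of_one_lt_card hcardΩ
  haveI : Nontrivial (P : Subgroup G) := by
    obtain ⟨g, hg⟩ := hPt.exists_smul_eq a b
    refine ⟨g, 1, fun h => hab ?_⟩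
    rw [← hg, h, one_smul]
  have hPp : IsPGroup p (P : Subgroup G) := P.isPGroup'
  haveI := hPp.center_nontrivial
  have hdvd : p ∣ Nat.card (Subgroup.center (P : Subgroup G)) := by
    obtain ⟨n, hn⟩ := (hPp.to_subgroup (Subgroup.center _)).exists_card_eq
    rw [hn]
    have hn0 : n ≠ 0 := by
      rintro rfl
      have h1 := Finite.one_lt_card (α := Subgroup.center (P : Subgroup G))
      rw [hn] at h1
      simp at h1
    exact dvd_pow_self p hn0
  obtain ⟨z, hz⟩ := exists_prime_orderOf_dvd_card' p hdvd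
  refine ⟨((z : (P : Subgroup G)) : G), ?_, ?_⟩
  · rw [Subgroup.orderOf_coe, Subgroup.orderOf_coe]; exact hz
  · intro ω hω
    have hall : ∀ ω' : Ω, ((z : (P : Subgroup G)) : G) • ω' = ω' := by
      intro ω'
      obtain ⟨g, rfl⟩ := hPt.exists_smul_eq ω ω'
      have hcomm : (z : (P : Subgroup G)) * g = g * z := (Subgroup.mem_center_iff.mp z.2 g).symm
      show ((z : (P : Subgroup G)) : G) • ((g : G) • ω) = (g : G) • ω
      rw [← mul_smul, ← Subgroup.coe_mul, hcomm, Subgroup.coe_mul, mul_smul, hω]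
    have h1 : ((z : (P : Subgroup G)) : G) = 1 := by
      apply FaithfulSMul.eq_of_smul_eq_smul (α := Ω)
      intro ω'; rw [hall, one_smul]
    have h2 : orderOf ((z : (P : Subgroup G)) : G) = 1 := by rw [h1, orderOf_one]
    rw [Subgroup.orderOf_coe, Subgroup.orderOf_coe, hz] at h2
    exact hp.one_lt.ne' h2

end Cfsg.Agent.S5726
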