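import Cfsg.Statements.S5727
import Mathlib
import Cfsg.Agent.Lib.helper29.PermMod
import Cfsg.Agent.S5726

set_option autoImplicit false
open Cfsg

namespace Cfsg.Agent.S5727

open MulAction in
theorem main_lt {G Ω : Type*} [Group G] [Finite G] [MulAction G Ω] [FaithfulSMul G Ω] [Fintype Ω]
    [MulAction.IsPretransitive G Ω]
    (p m : ℕ) [Fact p.Prime] (hm : 1 ≤ m) (hmp : m < p) (hΩ : Fintype.card Ω = m * p) :
    ∃ g : G, orderOf g = p ∧ ∀ ω : Ω, g • ω ≠ ω := by
  classical
  have hp : p.Prime := Fact.out
  obtain ⟨P⟩ : Nonempty (Sylow p G) := inferInstance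
  have hPp : IsPGroup p (P : Subgroup G) := P.isPGroup'
  have hne : Nonempty Ω := Fintype.card_pos_iff.mp (by rw [hΩ]; exact Nat.mul_pos (by omega) hp.pos)
  have hPcard : Nat.card (P : Subgroup G) = p ^ (Nat.card G).factorization p :=
    Sylow.card_eq_multiplicity P
  have hmfac : m.factorization p = 0 := by
    apply Nat.factorization_eq_zero_of_not_dvd
    intro h
    have := Nat.le_of_dvd (by omega) h
    omega
  have hidx : ∀ ω : Ω, (stabilizer (P : Subgroup G) ω).index = p := by
    intro α
    have h1 : (stabilizer G α).index = m * p := by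
      rw [MulAction.index_stabilizer_of_transitive, Nat.card_eq_fintype_card, hΩ]
    have h2 := Subgroup.card_mul_index (stabilizer G α)
    rw [h1] at h2
    have hfac : (Nat.card G).factorization p =
        (Nat.card (stabilizer G α)).factorization p + 1 := by
      rw [← h2, Nat.factorization_mul Nat.card_pos.ne' (Nat.mul_pos (by omega) hp.pos).ne',
        Finsupp.add_apply, Nat.factorization_mul (by omega) hp.pos.ne', Finsupp.add_apply,
        hp.factorization_self, hmfac]
    obtain ⟨k, hk⟩ := (P.isPGroup'.to_subgroup (stabilizer (P : Subgroup G) α)).exists_card_eq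
    have hkle : k ≤ (Nat.card (stabilizer G α)).factorization p := by
      have h3 : Nat.card (stabilizer (P : Subgroup G) α) ∣ Nat.card (stabilizer G α) := by
        apply Subgroup.card_dvd_of_injective
          (⟨⟨fun x => ⟨(x.1 : G), x.2⟩, rfl⟩, fun _ _ => rfl⟩ :
            stabilizer (P : Subgroup G) α →* stabilizer G α)
        intro x y hxy
        apply Subtype.ext
        apply Subtype.ext
        exact congrArg (fun z : stabilizer G α => (z : G)) hxy
      rw [hk] at h3
      exact (hp.pow_dvd_iff_le_factorization Nat.card_pos.ne').mp h3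
    have h4 := Subgroup.card_mul_index (stabilizer (P : Subgroup G) α)
    obtain ⟨n, hn⟩ := hPp.card_orbit α
    rw [Nat.card_coe_set_eq] at hn
    rw [MulAction.index_stabilizer] at h4 ⊢
    rw [hk, hPcard, hfac, hn, ← pow_add] at h4
    have h5 := Nat.pow_right_injective hp.two_le h4
    have hle : (orbit (P : Subgroup G) α).ncard ≤ m * p := by
      rw [← hΩ, ← Nat.card_eq_fintype_card, ← Set.ncard_univ]
      exact Set.ncard_le_ncard (Set.subset_univ _) Set.finite_univ
    rw [hn] at hle ⊢
    have hn1 : n < 2 := by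
      by_contra hcon
      have h6 : p ^ 2 ≤ p ^ n := Nat.pow_le_pow_right hp.pos (by omega)
      have h7 : m * p < p ^ 2 := by
        rw [pow_two]; exact Nat.mul_lt_mul_of_pos_right hmp hp.pos
      omega
    have hn2 : n = 1 := by omega
    rw [hn2, pow_one]
  have hPpos : 0 < (Nat.card G).factorization p := by
    obtain ⟨ω⟩ := hne
    have h1 := Subgroup.card_mul_index (stabilizer (P : Subgroup G) ω)
    rw [hidx, hPcard] at h1
    by_contra h0
    have h00 : (Nat.card G).factorization p = 0 := by omega
    rw [h00, pow_zero] at h1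
    have := Nat.eq_one_of_mul_eq_one_left h1
    exact hp.one_lt.ne' this
  have hnorm : ∀ ω : Ω, (stabilizer (P : Subgroup G) ω).Normal := by
    intro ω
    apply Subgroup.normal_of_index_eq_minFac_card
    rw [hidx, hPcard, Nat.pow_minFac hPpos.ne', hp.minFac_eq]
  by_contra hcon
  push Not at hcon
  have hfix : ∀ g : (P : Subgroup G), ∃ ω : Ω, g • ω = ω := by
    intro g
    by_contra hg
    push Not at hg
    have hgp : g ^ p = 1 := by
      apply Subtype.ext
      apply FaithfulSMul.eq_of_smul_eq_smul (α := Ω)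
      intro ω
      have h1 : g ^ p ∈ stabilizer (P : Subgroup G) ω := by
        haveI := hnorm ω
        have h2 := Subgroup.pow_index_mem (stabilizer (P : Subgroup G) ω) g
        rwa [hidx ω] at h2
      exact (show (g ^ p) • ω = ω from h1).trans (one_smul (P : Subgroup G) ω).symm
    have hg1 : g ≠ 1 := by
      rintro rfl
      obtain ⟨ω⟩ := hne
      exact hg ω (one_smul _ _)
    have hord : orderOf (g : G) = p := by
      rw [Subgroup.orderOf_coe]; exact orderOf_eq_prime hgp hg1
    obtain ⟨ω, hω⟩ := hcon (g : G) hord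
    exact hg ω hω
  letI : Fintype (P : Subgroup G) := Fintype.ofFinite _
  have hcount1 : ∀ g : (P : Subgroup G),
      p ≤ (Finset.univ.filter (fun ω : Ω => g • ω = ω)).card := by
    intro g
    obtain ⟨ω₀, hω₀⟩ := hfix g
    have hsub : (orbit (P : Subgroup G) ω₀) ⊆
        ((Finset.univ.filter (fun ω : Ω => g • ω = ω) : Finset Ω) : Set Ω) := by
      rintro _ ⟨h, rfl⟩
      simp only [Finset.coe_filter, Finset.mem_univ, true_and, Set.mem_setOf_eq]
      have h1 : h⁻¹ * g * h ∈ stabilizer (P : Subgroup G) ω₀ := by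
        have h0 := (hnorm ω₀).conj_mem g hω₀ h⁻¹
        simpa using h0
      have h2 : (h⁻¹ * g * h) • ω₀ = ω₀ := h1
      calc g • h • ω₀ = h • ((h⁻¹ * g * h) • ω₀) := by simp [mul_smul]
        _ = h • ω₀ := by rw [h2]
    have h3 := Set.ncard_le_ncard hsub (Finset.finite_toSet _)
    rw [Set.ncard_coe_finset] at h3
    have h4 : (orbit (P : Subgroup G) ω₀).ncard = p := by
      rw [← MulAction.index_stabilizer, hidx]
    omega
  have hcount0 : (Finset.univ.filter
      (fun ω : Ω => (1 : (P : Subgroup G)) • ω = ω)).card = m * p := by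
    rw [← hΩ]; simp
  have hcountω : ∀ ω : Ω, (Finset.univ.filter
      (fun g : (P : Subgroup G) => g • ω = ω)).card * p = Nat.card (P : Subgroup G) := by
    intro ω
    have h1 := Subgroup.card_mul_index (stabilizer (P : Subgroup G) ω)
    rw [hidx] at h1
    rw [← h1]
    congr 1
    exact (Nat.subtype_card (Finset.univ.filter (fun g : (P : Subgroup G) => g • ω = ω))
      (fun g => by simp [MulAction.mem_stabilizer_iff])).symm
  have hdc : ∑ g : (P : Subgroup G), (Finset.univ.filter (fun ω : Ω => g • ω = ω)).card =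
      ∑ ω : Ω, (Finset.univ.filter (fun g : (P : Subgroup G) => g • ω = ω)).card := by
    simp only [Finset.card_filter]
    exact Finset.sum_comm
  have hR : (∑ ω : Ω, (Finset.univ.filter (fun g : (P : Subgroup G) => g • ω = ω)).card) * p =
      m * p * Nat.card (P : Subgroup G) := by
    rw [Finset.sum_mul, Finset.sum_congr rfl (fun ω _ => hcountω ω), Finset.sum_const,
      Finset.card_univ, hΩ, smul_eq_mul]
  have hL : m * p + (Nat.card (P : Subgroup G) - 1) * p ≤
      ∑ g : (P : Subgroup G), (Finset.univ.filter (fun ω : Ω => g • ω = ω)).card := by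
    rw [← Finset.add_sum_erase Finset.univ _ (Finset.mem_univ (1 : (P : Subgroup G))), hcount0]
    apply Nat.add_le_add_left
    have h1 := Finset.card_nsmul_le_sum (Finset.univ.erase (1 : (P : Subgroup G)))
      (fun g => (Finset.univ.filter (fun ω : Ω => g • ω = ω)).card) p (fun g _ => hcount1 g)
    rw [Finset.card_erase_of_mem (Finset.mem_univ _), Finset.card_univ, smul_eq_mul,
      ← Nat.card_eq_fintype_card] at h1
    exact h1
  rw [hdc] at hL
  have hc : 1 ≤ Nat.card (P : Subgroup G) := Nat.card_pos
  obtain ⟨c, hc'⟩ : ∃ c, Nat.card (P : Subgroup G) = c + 1 := ⟨_, (Nat.sub_add_cancel hc).symm⟩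
  rw [hc'] at hL hR
  have h9 := Nat.mul_le_mul_right p hL
  rw [hR] at h9
  simp only [Nat.add_sub_cancel] at h9
  obtain ⟨d, rfl⟩ : ∃ d, p = m + 1 + d := ⟨p - (m + 1), by omega⟩
  obtain ⟨m', rfl⟩ : ∃ m', m = m' + 1 := ⟨m - 1, by omega⟩
  have h10 : (m' + 1) * (m' + 1 + 1 + d) * (c + 1) <
      ((m' + 1) * (m' + 1 + 1 + d) + c * (m' + 1 + 1 + d)) * (m' + 1 + 1 + d) := by
    nlinarith [Nat.zero_le (m' * c), Nat.zero_le (m' * d), Nat.zero_le (c * d),
      Nat.zero_le (m' * m'), Nat.zero_le (d * d), Nat.zero_le (m' * c * d),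
      Nat.zero_le (m' * m' * c), Nat.zero_le (c * d * d), Nat.zero_le (m' * d * d),
      Nat.zero_le (m' * m' * d), Nat.zero_le (m' * m' * m')]
  omega


/-- If a finite group acts faithfully and transitively on a set with m·p elements, where p is a prime and 1 ≤ m ≤ p, then some element of order p fixes no point. -/
theorem result {G Ω : Type*} [Group G] [Finite G] [MulAction G Ω] [FaithfulSMul G Ω] [Fintype Ω] (htr : MulAction.IsPretransitive G Ω)
    (p m : ℕ) (hp : p.Prime) (hm : 1 ≤ m) (hmp : m ≤ p) (hΩ : Fintype.card Ω = m * p) :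
    ∃ g : G, orderOf g = p ∧ ∀ ω : Ω, g • ω ≠ ω := by
  haveI : Fact p.Prime := ⟨hp⟩
  haveI := htr
  rcases lt_or_eq_of_le hmp with h | h
  · exact main_lt p m hm h hΩ
  · subst h
    exact Cfsg.Agent.S5726.result htr m 2 hp (by norm_num) (by rw [hΩ, pow_two])

end Cfsg.Agent.S5727
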