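import Cfsg.Statements.S5728
-- import your own Cfsg.Agent.* helpers here

set_option autoImplicit false
open Cfsg

namespace Cfsg.Agent.S5728

/-- An elusive transitive action. Let p = 2^s − 1 be a prime and let F be the field with p² elements. Inside the group of affine maps x ↦ a·x + b of F (a ≠ 0), consider the subgroup of maps with both coefficients in the prime field. Then every element of prime order of the affine group is conjugate, within the affine group, to an element of that subgroup; equivalently, in the transitive action of the affine group on the cosets of that subgroup (of degree p(p + 1)) every element of prime order fixes a point. -/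
theorem result (p s : ℕ) [Fact p.Prime] (hs : p = 2 ^ s - 1)
    (g : Equiv.Perm (GaloisField p 2)) (hg : g ∈ Cfsg.affineGroup (GaloisField p 2)) (hord : (orderOf g).Prime) :
    ∃ x ∈ Cfsg.affineGroup (GaloisField p 2), ∃ a b : ZMod p, a ≠ 0 ∧
      ∀ y : GaloisField p 2, (x * g * x⁻¹) y = algebraMap (ZMod p) (GaloisField p 2) a * y + algebraMap (ZMod p) (GaloisField p 2) b := by
  classical
  obtain ⟨a, b, hab⟩ := hg
  have hp : p.Prime := Fact.out
  have : Fintype (GaloisField p 2) := Fintype.ofFinite _
  have hcard : Fintype.card (GaloisField p 2) = p ^ 2 := by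
    rw [← Nat.card_eq_fintype_card]; exact GaloisField.card p 2 (by norm_num)
  by_cases ha : (a : GaloisField p 2) = 1
  · -- translation
    have hb : b ≠ 0 := by
      rintro rfl
      have : g = 1 := by
        apply Equiv.ext; intro y
        rw [hab, ha, one_mul, add_zero]; rfl
      rw [this, orderOf_one] at hord
      exact Nat.not_prime_one hord
    have hb' : b⁻¹ ≠ 0 := inv_ne_zero hb
    refine ⟨Equiv.mulLeft₀ b⁻¹ hb', ⟨Units.mk0 b⁻¹ hb', 0, fun y => by simp⟩, 1, 1, one_ne_zero, fun y => ?_⟩
    have h1 : (Equiv.mulLeft₀ b⁻¹ hb')⁻¹ y = b * y := by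
      apply (Equiv.mulLeft₀ b⁻¹ hb').injective
      rw [Equiv.Perm.inv_def, Equiv.apply_symm_apply]
      simp [hb]
    rw [Equiv.Perm.mul_apply, Equiv.Perm.mul_apply, h1, hab, ha, one_mul, map_one, one_mul]
    show b⁻¹ * (b * y + b) = y + 1
    field_simp
  · -- fixed point
    have h1a : (1 : GaloisField p 2) - a ≠ 0 := fun h => ha (sub_eq_zero.mp h).symm
    set y₀ : GaloisField p 2 := b / (1 - a) with hy₀
    have hfix : (a : GaloisField p 2) * y₀ + b = y₀ := by
      rw [hy₀]; field_simp; ring
    have hpow : ∀ (k : ℕ) (z : GaloisField p 2), (g ^ k) (y₀ + z) = y₀ + (a : GaloisField p 2) ^ k * z := by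
      intro k
      induction k with
      | zero => intro z; simp
      | succ k ih =>
        intro z
        rw [pow_succ, Equiv.Perm.mul_apply, hab, mul_add, add_right_comm, hfix, ih, pow_succ, mul_assoc]
    have har : (a : GaloisField p 2) ^ orderOf g = 1 := by
      have := hpow (orderOf g) 1
      rw [pow_orderOf_eq_one, mul_one] at this
      exact (add_left_cancel this).symm
    have ha0 : (a : GaloisField p 2) ≠ 0 := a.ne_zero
    have hq : (a : GaloisField p 2) ^ (p ^ 2 - 1) = 1 := by
      rw [← hcard]; exact FiniteField.pow_card_sub_one_eq_one _ ha0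
    have hdvd : orderOf g ∣ p ^ 2 - 1 := by
      by_contra hnd
      have hcop : Nat.Coprime (orderOf g) (p ^ 2 - 1) := (Nat.Prime.coprime_iff_not_dvd hord).mpr hnd
      have h1 : orderOf (a : GaloisField p 2) ∣ 1 := by
        rw [← Nat.Coprime.gcd_eq_one hcop]
        exact Nat.dvd_gcd (orderOf_dvd_of_pow_eq_one har) (orderOf_dvd_of_pow_eq_one hq)
      exact ha (orderOf_eq_one_iff.mp (Nat.dvd_one.mp h1))
    have hp3 : 3 ≤ p := by
      rcases Nat.lt_or_ge p 3 with h | h
      · have hp2 : p = 2 := by have := hp.two_le; omega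
        exfalso
        have hs2 : 2 ^ s = 3 := by
          have : 1 ≤ 2 ^ s := Nat.one_le_two_pow
          omega
        rcases s with _ | _ | s
        · simp at hs2
        · simp at hs2
        · have : 4 ≤ 2 ^ (s + 1 + 1) := by
            rw [pow_succ, pow_succ]
            have : 1 ≤ 2 ^ s := Nat.one_le_two_pow
            omega
          omega
      · exact h
    have hfac : p ^ 2 - 1 = (p - 1) * 2 ^ s := by
      have h1 : 2 ^ s = p + 1 := by
        have : 1 ≤ 2 ^ s := Nat.one_le_two_pow
        omega
      rw [h1]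
      obtain ⟨m, rfl⟩ : ∃ m, p = m + 1 := ⟨p - 1, by omega⟩
      simp only [Nat.add_sub_cancel]
      have : (m + 1) ^ 2 = m * (m + 1 + 1) + 1 := by ring
      rw [this, Nat.add_sub_cancel]
    have hdvd2 : orderOf g ∣ p - 1 := by
      rw [hfac] at hdvd
      rcases (Nat.Prime.dvd_mul hord).mp hdvd with h | h
      · exact h
      · have h2 : orderOf g = 2 := (Nat.prime_dvd_prime_iff_eq hord Nat.prime_two).mp (hord.dvd_of_dvd_pow h)
        rw [h2]
        have : Odd p := hp.odd_of_ne_two (by omega)
        obtain ⟨m, hm⟩ := this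
        exact ⟨m, by omega⟩
    have hap : (a : GaloisField p 2) ^ p = a := by
      obtain ⟨m, hm⟩ := hdvd2
      have h1 : (a : GaloisField p 2) ^ (p - 1) = 1 := by rw [hm, pow_mul, har, one_pow]
      have h2 : (a : GaloisField p 2) ^ p = (a : GaloisField p 2) ^ (p - 1) * a := by
        rw [← pow_succ]; congr 1; omega
      rw [h2, h1, one_mul]
    obtain ⟨z, hz⟩ := (mem_bot_iff_intCast p (GaloisField p 2)).mp
      ((Subfield.mem_bot_iff_pow_eq_self (GaloisField p 2) p).mpr hap)
    refine ⟨Equiv.addRight (-y₀), ⟨1, -y₀, fun y => by simp⟩, (z : ZMod p), 0, ?_, fun y => ?_⟩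
    · intro h0
      apply ha0
      rw [← hz]
      have := congrArg (algebraMap (ZMod p) (GaloisField p 2)) h0
      rwa [map_intCast, map_zero] at this
    · have h1 : (Equiv.addRight (-y₀))⁻¹ y = y₀ + y := by
        apply (Equiv.addRight (-y₀)).injective
        rw [Equiv.Perm.inv_def, Equiv.apply_symm_apply]
        simp
      rw [Equiv.Perm.mul_apply, Equiv.Perm.mul_apply, h1, map_intCast, hz, map_zero, add_zero]
      have := hpow 1 y
      rw [pow_one, pow_one] at this
      rw [this]
      simp

end Cfsg.Agent.S5728
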