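import Cfsg.Statements.S5885
-- import your own Cfsg.Agent.* helpers here

set_option autoImplicit false
open Cfsg

namespace Cfsg.Agent.S5885
open MulAction
open scoped Pointwise

section coatom
variable {G : Type*} [Group G]

theorem eq_of_coatom_subgroupOf {H M : Subgroup G} (hHM : H ≤ M) (hmax : IsCoatom (H.subgroupOf M))
    (T : Subgroup G) (hHT : H ≤ T) (hTM : T ≤ M) : T = H ∨ T = M := by
  by_cases h : H.subgroupOf M = T.subgroupOf M
  · left
    rw [Subgroup.subgroupOf_inj] at h
    rw [inf_of_le_left hHM, inf_of_le_left hTM] at h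
    exact h.symm
  · right
    have hlt : H.subgroupOf M < T.subgroupOf M :=
      lt_of_le_of_ne (Subgroup.comap_mono hHT) h
    have := hmax.2 _ hlt
    rw [Subgroup.subgroupOf_eq_top] at this
    exact le_antisymm hTM this

theorem map_subtype_subgroupOf {K : Subgroup G} (L' : Subgroup K) :
    (L'.map K.subtype).subgroupOf K = L' :=
  Subgroup.comap_map_eq_self_of_injective K.subtype_injective L'

theorem coatom_subgroupOf_of {H K : Subgroup G} (hHK : H ≤ K) (hne : H ≠ K)
    (h : ∀ L : Subgroup G, H ≤ L → L ≤ K → L ≠ H → L = K) : IsCoatom (H.subgroupOf K) := by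
  constructor
  · intro htop
    rw [Subgroup.subgroupOf_eq_top] at htop
    exact hne (le_antisymm hHK htop)
  · intro L' hlt
    have h1 : H ≤ L'.map K.subtype := by
      have : (H.subgroupOf K).map K.subtype ≤ L'.map K.subtype := Subgroup.map_mono hlt.le
      rwa [Subgroup.map_subgroupOf_eq_of_le hHK] at this
    have h2 : L'.map K.subtype ≤ K := Subgroup.map_subtype_le L'
    have h3 : L'.map K.subtype ≠ H := by
      intro heq
      have : (L'.map K.subtype).subgroupOf K = H.subgroupOf K := by rw [heq]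
      rw [map_subtype_subgroupOf] at this
      exact hlt.ne this.symm
    have h4 := h _ h1 h2 h3
    have : (L'.map K.subtype).subgroupOf K = K.subgroupOf K := by rw [h4]
    rw [map_subtype_subgroupOf] at this
    simpa using this

end coatom

section realize
variable {G : Type*} [Group G] {Ω : Type*} [MulAction G Ω] [Fintype Ω] [DecidableEq Ω]

theorem realize_of_hA (n : ℕ) (hcard : Nat.card Ω = n)
    (hA : ∀ P : Subgroup (Equiv.Perm (Fin n)), MulAction.IsPreprimitive P (Fin n) → alternatingGroup (Fin n) ≤ P)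
    [hprim : IsPreprimitive G Ω] (p q r s : Ω) (hpq : p ≠ q) (hrs : r ≠ s) :
    ∃ g : G, ∀ x : Ω, g • x = (Equiv.swap p q * Equiv.swap r s) x := by
  classical
  let e : Ω ≃ Fin n := Finite.equivFinOfCardEq hcard
  let φ : G →* Equiv.Perm (Fin n) := (e.permCongrHom.toMonoidHom).comp (MulAction.toPermHom G Ω)
  let P : Subgroup (Equiv.Perm (Fin n)) := φ.range
  let f : Ω →ₑ[φ.rangeRestrict] Fin n :=
    { toFun := e
      map_smul' := by
        intro g x
        change e (g • x) = (φ g) (e x)
        simp [φ, Equiv.permCongrHom, Equiv.permCongr] }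
  have hP : IsPreprimitive P (Fin n) := IsPreprimitive.of_surjective (f := f) e.surjective
  have hle := hA P hP
  have hmem : e.permCongrHom (Equiv.swap p q * Equiv.swap r s) ∈ alternatingGroup (Fin n) := by
    rw [Equiv.Perm.mem_alternatingGroup]
    rw [Equiv.permCongrHom_coe, Equiv.Perm.sign_permCongr]
    rw [map_mul, Equiv.Perm.sign_swap hpq, Equiv.Perm.sign_swap hrs]
    simp
  obtain ⟨g, hg⟩ := hle hmem
  refine ⟨g, fun x => ?_⟩
  have h1 : MulAction.toPermHom G Ω g = Equiv.swap p q * Equiv.swap r s := by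
    apply e.permCongrHom.injective
    exact hg
  have := congrArg (fun π : Equiv.Perm Ω => π x) h1
  simpa using this

end realize

section intrans
variable {G : Type*} [Group G] {Ω : Type*} [MulAction G Ω] [Fintype Ω] [DecidableEq Ω]

omit [Fintype Ω] in
theorem swap_mem_of_mem {Δ : Set Ω} {p q x : Ω} (hp : p ∈ Δ) (hq : q ∈ Δ) (hx : x ∈ Δ) :
    Equiv.swap p q x ∈ Δ := by
  rw [Equiv.swap_apply_def]
  split_ifs <;> assumption

theorem intrans_case [IsPretransitive G Ω] (hodd : Odd (Fintype.card Ω))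
    (hR : ∀ p q r s : Ω, p ≠ q → r ≠ s → ∃ g : G, ∀ x : Ω, g • x = (Equiv.swap p q * Equiv.swap r s) x)
    (a : Ω) (K : Subgroup G) (hK : IsCoatom K) (hnt : ¬ IsPretransitive K Ω)
    (L : Subgroup G) (hHL : K ⊓ stabilizer G a ≤ L) (hLK : L ≤ K) (hne : L ≠ K ⊓ stabilizer G a) :
    L = K := by
  set Δ : Set Ω := orbit K a with hΔ
  have haΔ : a ∈ Δ := mem_orbit_self a
  have hΔne : Δ ≠ Set.univ := by
    intro h
    exact hnt ((isPretransitive_iff_orbit_eq_univ a).mpr h)
  obtain ⟨w, hw⟩ : ∃ w, w ∉ Δ := by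
    by_contra hcon
    push Not at hcon
    exact hΔne (Set.eq_univ_of_forall hcon)
  have hKle : K ≤ stabilizer G Δ := by
    intro k hk
    rw [mem_stabilizer_iff]
    exact smul_orbit (⟨k, hk⟩ : K) a
  have hSne : stabilizer G Δ ≠ ⊤ := by
    intro htop
    obtain ⟨g, hg⟩ := exists_smul_eq G a w
    have hgm : g ∈ stabilizer G Δ := htop ▸ Subgroup.mem_top g
    rw [mem_stabilizer_iff] at hgm
    apply hw
    rw [← hgm, ← hg]
    exact Set.smul_mem_smul_set haΔ
  have hKeq : K = stabilizer G Δ := by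
    rcases eq_or_lt_of_le hKle with h | h
    · exact h
    · exact absurd (hK.2 _ h) hSne
  have hmemH : ∀ g : G, g • a = a → (∀ x ∈ Δ, g • x ∈ Δ) → g ∈ L := by
    intro g hga hgΔ
    apply hHL
    refine Subgroup.mem_inf.mpr ⟨?_, hga⟩
    rw [hKeq, mem_stabilizer_iff]
    apply Set.eq_of_subset_of_ncard_le ?_ ?_ (Set.toFinite _)
    · rintro _ ⟨x, hx, rfl⟩
      exact hgΔ x hx
    · rw [Set.ncard_smul_set]
  obtain ⟨l, hlL, hlH⟩ : ∃ l ∈ L, l ∉ K ⊓ stabilizer G a := by
    by_contra hcon
    push Not at hcon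
    exact hne (le_antisymm hcon hHL)
  have hlK : l ∈ K := hLK hlL
  have hla : l • a ≠ a := fun h => hlH (Subgroup.mem_inf.mpr ⟨hlK, h⟩)
  have hlΔ : l • a ∈ Δ := ⟨⟨l, hlK⟩, rfl⟩
  apply le_antisymm hLK
  intro k hk
  have hkΔ : k • a ∈ Δ := ⟨⟨k, hk⟩, rfl⟩
  by_cases hka : k • a = a
  · exact hHL (Subgroup.mem_inf.mpr ⟨hk, hka⟩)
  · obtain ⟨h, hhL, hh⟩ : ∃ h ∈ L, h • (l • a) = k • a := by
      by_cases hβγ : l • a = k • a
      · exact ⟨1, one_mem _, by simpa using hβγ⟩
      · by_cases hδ : ∃ δ ∈ Δ, δ ≠ a ∧ δ ≠ l • a ∧ δ ≠ k • a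
        · obtain ⟨δ, hδΔ, hδa, hδβ, hδγ⟩ := hδ
          obtain ⟨g, hg⟩ := hR (l • a) δ (l • a) (k • a) (Ne.symm hδβ) hβγ
          refine ⟨g, hmemH g ?_ ?_, ?_⟩
          · rw [hg, Equiv.Perm.mul_apply, Equiv.swap_apply_of_ne_of_ne (Ne.symm hla) (Ne.symm hka),
              Equiv.swap_apply_of_ne_of_ne (Ne.symm hla) (Ne.symm hδa)]
          · intro x hx
            rw [hg, Equiv.Perm.mul_apply]
            exact swap_mem_of_mem hlΔ hδΔ (swap_mem_of_mem hlΔ hkΔ hx)
          · rw [hg, Equiv.Perm.mul_apply, Equiv.swap_apply_left,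
              Equiv.swap_apply_of_ne_of_ne (Ne.symm hβγ) (Ne.symm hδγ)]
        · push Not at hδ
          obtain ⟨d, hdΔ, hdw⟩ : ∃ d, d ∉ Δ ∧ d ≠ w := by
            by_contra hcon
            push Not at hcon
            have huniv : (Finset.univ : Finset Ω) = {a, l • a, k • a, w} := by
              symm
              rw [Finset.eq_univ_iff_forall]
              intro x
              by_cases hx : x ∈ Δ
              · by_cases h1 : x = a
                · simp [h1]
                · by_cases h2 : x = l • a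
                  · simp [h2]
                  · have := hδ x hx h1 h2
                    simp [this]
              · simp [hcon x hx]
            have hcard : Fintype.card Ω = 4 := by
              rw [← Finset.card_univ, huniv]
              have h1 : a ≠ w := fun h => hw (h ▸ haΔ)
              have h2 : l • a ≠ w := fun h => hw (h ▸ hlΔ)
              have h3 : k • a ≠ w := fun h => hw (h ▸ hkΔ)
              rw [Finset.card_insert_of_notMem, Finset.card_insert_of_notMem,
                Finset.card_insert_of_notMem, Finset.card_singleton]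
              · simp [h3]
              · simp [hβγ, h2]
              · simp [Ne.symm hla, Ne.symm hka, h1]
            rw [hcard] at hodd
            exact absurd hodd (by decide)
          have hwΔ : ∀ x ∈ Δ, x ≠ w ∧ x ≠ d := fun x hx =>
            ⟨fun h => hw (h ▸ hx), fun h => hdΔ (h ▸ hx)⟩
          obtain ⟨g, hg⟩ := hR (l • a) (k • a) w d hβγ (Ne.symm hdw)
          refine ⟨g, hmemH g ?_ ?_, ?_⟩
          · rw [hg, Equiv.Perm.mul_apply, Equiv.swap_apply_of_ne_of_ne (hwΔ a haΔ).1 (hwΔ a haΔ).2,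
              Equiv.swap_apply_of_ne_of_ne (Ne.symm hla) (Ne.symm hka)]
          · intro x hx
            rw [hg, Equiv.Perm.mul_apply, Equiv.swap_apply_of_ne_of_ne (hwΔ x hx).1 (hwΔ x hx).2]
            exact swap_mem_of_mem hlΔ hkΔ hx
          · rw [hg, Equiv.Perm.mul_apply, Equiv.swap_apply_of_ne_of_ne (hwΔ _ hlΔ).1 (hwΔ _ hlΔ).2,
              Equiv.swap_apply_left]
    have hmem : (h * l)⁻¹ * k ∈ L := by
      apply hHL
      refine Subgroup.mem_inf.mpr ⟨mul_mem (inv_mem (mul_mem (hLK hhL) hlK)) hk, ?_⟩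
      rw [mem_stabilizer_iff, mul_smul, inv_smul_eq_iff, mul_smul, hh]
    have h2 : k = (h * l) * ((h * l)⁻¹ * k) := by group
    rw [h2]
    exact mul_mem (mul_mem hhL hlL) hmem

end intrans

section trans
variable {G : Type*} [Group G] {Ω : Type*} [MulAction G Ω] [Fintype Ω] [DecidableEq Ω]

theorem trans_case (hodd : Odd (Fintype.card Ω))
    (hR : ∀ p q r s : Ω, p ≠ q → r ≠ s → ∃ g : G, ∀ x : Ω, g • x = (Equiv.swap p q * Equiv.swap r s) x)
    (a : Ω) (K : Subgroup G) [hKt : IsPretransitive K Ω]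
    (hmax : ∀ T : Subgroup G, K ⊓ stabilizer G a ≤ T → T ≤ stabilizer G a →
      T = K ⊓ stabilizer G a ∨ T = stabilizer G a) :
    IsPreprimitive K Ω := by
  apply IsPreprimitive.of_isTrivialBlock_base a
  intro B haB hB
  by_contra hnt
  have hns : ¬ B.Subsingleton := fun h => hnt (Or.inl h)
  have hnu : B ≠ Set.univ := fun h => hnt (Or.inr h)
  have hdvd : B.ncard ∣ Nat.card Ω := hB.ncard_dvd_card ⟨a, haB⟩
  rw [Nat.card_eq_fintype_card] at hdvd
  have hBodd : Odd B.ncard := Odd.of_dvd_nat hodd hdvd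
  have h2 : 1 < B.ncard := by
    rw [Set.one_lt_ncard_iff_nontrivial]
    exact Set.not_subsingleton_iff.mp hns
  have h3 : 3 ≤ B.ncard := by
    obtain ⟨m, hm⟩ := hBodd
    omega
  obtain ⟨j, hj⟩ := hdvd
  have hjodd : Odd j := by
    rw [hj] at hodd
    exact (Nat.odd_mul.mp hodd).2
  have hj1 : j ≠ 1 := by
    intro h1
    apply hnu
    rw [Set.eq_univ_iff_ncard, Nat.card_eq_fintype_card, hj, h1, mul_one]
  have hj3 : 3 ≤ j := by
    obtain ⟨m, hm⟩ := hjodd
    omega
  have hcard : 3 * B.ncard ≤ Fintype.card Ω := by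
    rw [hj]
    nlinarith
  obtain ⟨w, hw⟩ : ∃ w, w ∉ B := by
    by_contra hcon
    push Not at hcon
    exact hnu (Set.eq_univ_of_forall hcon)
  obtain ⟨k, hk⟩ := exists_smul_eq K a w
  have hwB' : w ∈ k • B := hk ▸ Set.smul_mem_smul_set haB
  have hdisj : Disjoint (k • B) B :=
    (hB.smul_eq_or_disjoint k).resolve_left (fun h => hw (h ▸ hwB'))
  have hB'card : (k • B).ncard = B.ncard := Set.ncard_smul_set k B
  have hB'blk : IsBlock K (k • B) := hB.translate k
  obtain ⟨x, y, z, hx, hy, hz, hxy, hxz, hyz⟩ :=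
    (Set.two_lt_ncard_iff).mp (by omega : 2 < (k • B).ncard)
  obtain ⟨c, hcB, hcB'⟩ : ∃ c, c ∉ B ∧ c ∉ k • B := by
    by_contra hcon
    push Not at hcon
    have hun : B ∪ k • B = Set.univ :=
      Set.eq_univ_of_forall (fun t => by
        by_cases h : t ∈ B
        · exact Or.inl h
        · exact Or.inr (hcon t h))
    have h1 := Set.ncard_union_le B (k • B)
    rw [hun, Set.ncard_univ, Nat.card_eq_fintype_card] at h1
    omega
  obtain ⟨b, hbB, hba⟩ : ∃ b ∈ B, b ≠ a := by
    by_contra hcon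
    push Not at hcon
    exact hns (fun s hs t ht => (hcon s hs).trans (hcon t ht).symm)
  have hBB' : ∀ s ∈ B, ∀ t ∈ k • B, s ≠ t := fun s hs t ht hst =>
    Set.disjoint_left.mp hdisj ht (hst ▸ hs)
  have hcne : ∀ t ∈ B, t ≠ c := fun t ht h => hcB (h ▸ ht)
  have hcne' : ∀ t ∈ k • B, t ≠ c := fun t ht h => hcB' (h ▸ ht)
  have hTle : K ⊓ stabilizer G a ≤ stabilizer G a ⊓ stabilizer G B := by
    intro h hh
    obtain ⟨hhK, hha⟩ := Subgroup.mem_inf.mp hh
    refine Subgroup.mem_inf.mpr ⟨hha, ?_⟩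
    have hmem : (⟨h, hhK⟩ : K) ∈ stabilizer K a := by
      rw [mem_stabilizer_iff]
      exact hha
    exact hB.stabilizer_le haB hmem
  have hTne : stabilizer G a ⊓ stabilizer G B ≠ stabilizer G a := by
    obtain ⟨g, hg⟩ := hR b x b c (hBB' b hbB x hx) (hcne b hbB)
    intro heq
    have hga : g ∈ stabilizer G a := by
      rw [mem_stabilizer_iff, hg, Equiv.Perm.mul_apply,
        Equiv.swap_apply_of_ne_of_ne (Ne.symm hba) (hcne a haB),
        Equiv.swap_apply_of_ne_of_ne (Ne.symm hba) (hBB' a haB x hx)]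
    rw [← heq] at hga
    have hgB := (Subgroup.mem_inf.mp hga).2
    rw [mem_stabilizer_iff] at hgB
    have hgb : g • b ∈ B := by
      rw [← hgB]
      exact Set.smul_mem_smul_set hbB
    rw [hg, Equiv.Perm.mul_apply, Equiv.swap_apply_left,
      Equiv.swap_apply_of_ne_of_ne (Ne.symm (hcne b hbB)) (Ne.symm (hcne' x hx))] at hgb
    exact hcB hgb
  have hTeq := (hmax _ hTle inf_le_left).resolve_right hTne
  have hyc : y ≠ c := hcne' y hy
  have hzc : z ≠ c := hcne' z hz
  obtain ⟨g, hg⟩ := hR y z y c hyz hyc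
  have hfix : ∀ t ∈ B, g • t = t := by
    intro t ht
    rw [hg, Equiv.Perm.mul_apply,
      Equiv.swap_apply_of_ne_of_ne (hBB' t ht y hy) (hcne t ht),
      Equiv.swap_apply_of_ne_of_ne (hBB' t ht y hy) (hBB' t ht z hz)]
  have hgT : g ∈ stabilizer G a ⊓ stabilizer G B := by
    refine Subgroup.mem_inf.mpr ⟨hfix a haB, ?_⟩
    rw [mem_stabilizer_iff]
    ext t
    constructor
    · rintro ⟨s, hs, rfl⟩
      change g • s ∈ B
      rw [hfix s hs]
      exact hs
    · intro ht
      exact ⟨t, ht, hfix t ht⟩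
  rw [hTeq] at hgT
  have hgK : g ∈ K := (Subgroup.mem_inf.mp hgT).1
  have hgx : g • x = x := by
    rw [hg, Equiv.Perm.mul_apply,
      Equiv.swap_apply_of_ne_of_ne hxy (hcne' x hx),
      Equiv.swap_apply_of_ne_of_ne hxy hxz]
  have hgy : g • y = c := by
    rw [hg, Equiv.Perm.mul_apply, Equiv.swap_apply_left,
      Equiv.swap_apply_of_ne_of_ne (Ne.symm hyc) (Ne.symm hzc)]
  have hgx' : (⟨g, hgK⟩ : K) • x ∈ k • B := by
    change g • x ∈ k • B
    rw [hgx]
    exact hx
  have hsm := hB'blk.smul_eq_of_mem hx hgx'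
  have hc : c ∈ k • B := by
    rw [← hsm, ← hgy]
    exact Set.smul_mem_smul_set (a := (⟨g, hgK⟩ : K)) hy
  exact hcB' hc

end trans

section main
variable {G : Type*} [Group G] {Ω : Type*} [MulAction G Ω] [Fintype Ω] [DecidableEq Ω]

theorem main_aux [IsPretransitive G Ω] (hodd : Odd (Fintype.card Ω))
    (hR : ∀ p q r s : Ω, p ≠ q → r ≠ s → ∃ g : G, ∀ x : Ω, g • x = (Equiv.swap p q * Equiv.swap r s) x)
    (a : Ω) (M : Subgroup G) (hstab : stabilizer G a = M) (hM : IsCoatom M)
    (K : Subgroup G) (hK : IsCoatom K) (hKM : K ≠ M)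
    (hmax : ∀ T : Subgroup G, K ⊓ M ≤ T → T ≤ M → T = K ⊓ M ∨ T = M) :
    IsCoatom ((K ⊓ M).subgroupOf K) := by
  subst hstab
  by_cases ht : IsPretransitive K Ω
  · have hprim := trans_case hodd hR a K hmax
    have hnt : Nontrivial Ω := by
      by_contra hcon
      rw [not_nontrivial_iff_subsingleton] at hcon
      apply hM.1
      rw [eq_top_iff]
      intro g _
      rw [mem_stabilizer_iff]
      exact Subsingleton.elim _ _
    have hco : IsCoatom (stabilizer K a) := (isCoatom_stabilizer_iff_preprimitive K a).mpr hprim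
    have heq : (K ⊓ stabilizer G a).subgroupOf K = stabilizer K a := by
      ext ⟨k, hk⟩
      simp only [Subgroup.mem_subgroupOf, Subgroup.mem_inf, mem_stabilizer_iff, hk, true_and]
      rfl
    rw [heq]
    exact hco
  · apply coatom_subgroupOf_of inf_le_left
    · intro h
      have hle : K ≤ stabilizer G a := inf_eq_left.mp h
      rcases eq_or_lt_of_le hle with h1 | h1
      · exact hKM h1
      · exact hM.1 (hK.2 _ h1)
    · intro L hHL hLK hne
      exact intrans_case hodd hR a K hK ht L hHL hLK hne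

end main


/-- Let n be an odd positive integer such that every primitive permutation group of degree n contains the alternating group (so the symmetric and alternating groups are the only primitive groups of degree n). Let G be a finite group, M a maximal subgroup of G of index n, and H a maximal subgroup of M. Then H is a second maximal subgroup of G: H is maximal in every maximal subgroup K of G containing H. -/
theorem result {G : Type*} [Group G]
    [Finite G] (n : ℕ) (hodd : Odd n)
    (hA : ∀ P : Subgroup (Equiv.Perm (Fin n)), MulAction.IsPreprimitive P (Fin n) → alternatingGroup (Fin n) ≤ P)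
    (M : Subgroup G) (hM : IsCoatom M) (hn : M.index = n) (H : Subgroup G) (hHM : H ≤ M)
    (hmax : IsCoatom (H.subgroupOf M)) (K : Subgroup G) (hK : IsCoatom K) (hHK : H ≤ K) :
    IsCoatom (H.subgroupOf K) := by
  classical
  by_cases hKM : K = M
  · subst hKM
    exact hmax
  have hH : H = K ⊓ M := by
    rcases eq_of_coatom_subgroupOf hHM hmax (K ⊓ M) (le_inf hHK hHM) inf_le_right with h | h
    · exact h.symm
    · exfalso
      have hle : M ≤ K := inf_eq_right.mp h
      rcases eq_or_lt_of_le hle with h1 | h1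
      · exact hKM h1.symm
      · exact hK.1 (hM.2 _ h1)
  letI : Fintype (G ⧸ M) := Fintype.ofFinite _
  have hstab : stabilizer G ((1 : G) : G ⧸ M) = M := MulAction.stabilizer_quotient M
  have hcard : Nat.card (G ⧸ M) = n := hn
  have hoddΩ : Odd (Fintype.card (G ⧸ M)) := by
    rw [← Nat.card_eq_fintype_card, hcard]
    exact hodd
  have hnontriv : Nontrivial (G ⧸ M) := by
    by_contra hcon
    rw [not_nontrivial_iff_subsingleton] at hcon
    apply hM.1
    rw [eq_top_iff]
    intro g _
    rw [← hstab, mem_stabilizer_iff]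
    exact Subsingleton.elim _ _
  have hprim : IsPreprimitive G (G ⧸ M) :=
    (isCoatom_stabilizer_iff_preprimitive G ((1 : G) : G ⧸ M)).mp (by rw [hstab]; exact hM)
  have hR : ∀ p q r s : G ⧸ M, p ≠ q → r ≠ s →
      ∃ g : G, ∀ x : G ⧸ M, g • x = (Equiv.swap p q * Equiv.swap r s) x :=
    fun p q r s hpq hrs => realize_of_hA n hcard hA p q r s hpq hrs
  have hmax' : ∀ T : Subgroup G, K ⊓ M ≤ T → T ≤ M → T = K ⊓ M ∨ T = M := by
    intro T h1 h2
    rw [← hH] at h1 ⊢
    exact eq_of_coatom_subgroupOf hHM hmax T h1 h2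
  have key := main_aux hoddΩ hR ((1 : G) : G ⧸ M) M hstab hM K hK hKM hmax'
  rw [hH]
  exact key

end Cfsg.Agent.S5885
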