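import Cfsg.Statements.S5905
-- import your own Cfsg.Agent.* helpers here

set_option autoImplicit false
open Cfsg

namespace Cfsg.Agent.S5905

section
variable {Ω : Type*} [Fintype Ω] [DecidableEq Ω]

omit [Fintype Ω] [DecidableEq Ω] in
/-- The stabilizer of the partition of `Ω` into the fibres of `f`. -/
def W {b : ℕ} (f : Ω → Fin b) : Subgroup (Equiv.Perm Ω) where
  carrier := {g | ∀ x y : Ω, f x = f y ↔ f (g x) = f (g y)}
  mul_mem' := by
    intro g h hg hh x y
    rw [hh x y, hg (h x) (h y)]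
    rfl
  one_mem' := by
    intro x y
    rfl
  inv_mem' := by
    intro g hg x y
    have h := hg (g⁻¹ x) (g⁻¹ y)
    simp only [Equiv.Perm.inv_def, Equiv.apply_symm_apply] at h
    exact h.symm

omit [Fintype Ω] [DecidableEq Ω] in
theorem mem_W {b : ℕ} (f : Ω → Fin b) (g : Equiv.Perm Ω) :
    g ∈ W f ↔ ∀ x y : Ω, f x = f y ↔ f (g x) = f (g y) := Iff.rfl

omit [Fintype Ω] [DecidableEq Ω] in
theorem closure_eq_W {b : ℕ} (f : Ω → Fin b) :
    Subgroup.closure {g : Equiv.Perm Ω | ∀ x y : Ω, f x = f y ↔ f (g x) = f (g y)} = W f :=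
  Subgroup.closure_eq (W f)

omit [Fintype Ω] in
theorem swap_mem_W {b : ℕ} (f : Ω → Fin b) {x y : Ω} (hxy : f x = f y) : Equiv.swap x y ∈ W f := by
  have key : ∀ p : Ω, f (Equiv.swap x y p) = f p := by
    intro p
    rw [Equiv.swap_apply_def]
    split_ifs with h1 h2
    · rw [h1, hxy]
    · rw [h2, hxy]
    · rfl
  intro p q
  rw [key p, key q]

omit [DecidableEq Ω] in
theorem exists_equiv (a b : ℕ) (f : Ω → Fin b) (hf : ∀ i : Fin b, Nat.card {x : Ω // f x = i} = a) :
    ∃ e : Ω ≃ Fin b × Fin a, ∀ x, (e x).1 = f x := by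
  refine ⟨(Equiv.sigmaFiberEquiv f).symm.trans
    ((Equiv.sigmaCongrRight (fun i => Finite.equivFinOfCardEq (hf i))).trans
      (Equiv.sigmaEquivProd _ _)), fun x => ?_⟩
  rfl

theorem exists_mem_W_map (a b : ℕ) (f : Ω → Fin b) (hf : ∀ i : Fin b, Nat.card {x : Ω // f x = i} = a)
    (u v u' v' : Ω) (huv : f u ≠ f v) (hu'v' : f u' ≠ f v') :
    ∃ k ∈ W f, k u = u' ∧ k v = v' := by
  obtain ⟨e, he⟩ := exists_equiv a b f hf
  obtain ⟨τ, hτ1, hτ2⟩ : ∃ τ : Equiv.Perm (Fin b), τ (f u) = f u' ∧ τ (f v) = f v' := by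
    refine ⟨Equiv.swap (Equiv.swap (f u) (f u') (f v)) (f v') * Equiv.swap (f u) (f u'), ?_, ?_⟩
    · rw [Equiv.Perm.mul_apply, Equiv.swap_apply_left, Equiv.swap_apply_of_ne_of_ne _ hu'v']
      intro h
      have h2 : Equiv.swap (f u) (f u') (f u) = Equiv.swap (f u) (f u') (f v) := by
        rw [Equiv.swap_apply_left]
        exact h
      exact huv ((Equiv.swap _ _).injective h2)
    · rw [Equiv.Perm.mul_apply, Equiv.swap_apply_left]
  let ρ : Fin b → Equiv.Perm (Fin a) := fun i =>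
    if i = f u then Equiv.swap (e u).2 (e u').2 else Equiv.swap (e v).2 (e v').2
  let k : Equiv.Perm Ω := e.trans ((Equiv.prodShear τ ρ).trans e.symm)
  have hk : ∀ x, e (k x) = (τ (f x), ρ (f x) (e x).2) := by
    intro x
    simp only [k, Equiv.trans_apply, Equiv.apply_symm_apply, Equiv.prodShear_apply, he]
  refine ⟨k, ?_, ?_, ?_⟩
  · intro x y
    rw [← he (k x), ← he (k y), hk, hk]
    exact ⟨fun h => by rw [h], fun h => τ.injective h⟩
  · apply e.injective
    rw [hk]
    refine Prod.ext ?_ ?_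
    · simp only [hτ1, he]
    · simp only [ρ, if_true, Equiv.swap_apply_left]
  · apply e.injective
    rw [hk]
    refine Prod.ext ?_ ?_
    · simp only [hτ2, he]
    · simp only [ρ, if_neg (Ne.symm huv), Equiv.swap_apply_left]

theorem W_ne_top (a b : ℕ) (ha : 2 ≤ a) (hb : 2 ≤ b) (f : Ω → Fin b)
    (hf : ∀ i : Fin b, Nat.card {x : Ω // f x = i} = a) : W f ≠ ⊤ := by
  obtain ⟨e, he⟩ := exists_equiv a b f hf
  intro htop
  set x := e.symm (⟨0, by omega⟩, ⟨0, by omega⟩) with hx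
  set x' := e.symm (⟨0, by omega⟩, ⟨1, by omega⟩) with hx'
  set y := e.symm (⟨1, by omega⟩, ⟨0, by omega⟩) with hy
  have hfx : f x = ⟨0, by omega⟩ := by rw [← he, hx, Equiv.apply_symm_apply]
  have hfx' : f x' = ⟨0, by omega⟩ := by rw [← he, hx', Equiv.apply_symm_apply]
  have hfy : f y = ⟨1, by omega⟩ := by rw [← he, hy, Equiv.apply_symm_apply]
  have hxx' : x ≠ x' := by
    intro h
    have := e.symm.injective h
    simp at this
  have hx'y : x' ≠ y := by
    intro h
    rw [h, hfy] at hfx'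
    simp at hfx'
  have hmem : Equiv.swap x y ∈ W f := htop ▸ Subgroup.mem_top _
  have h1 := (hmem x x').mp (hfx.trans hfx'.symm)
  rw [Equiv.swap_apply_left, Equiv.swap_apply_of_ne_of_ne (Ne.symm hxx') hx'y, hfy, hfx'] at h1
  simp at h1

theorem W_isCoatom (a b : ℕ) (ha : 2 ≤ a) (hb : 2 ≤ b) (f : Ω → Fin b)
    (hf : ∀ i : Fin b, Nat.card {x : Ω // f x = i} = a) : IsCoatom (W f) := by
  refine ⟨W_ne_top a b ha hb f hf, fun L hL => ?_⟩
  obtain ⟨g, hgL, hgW⟩ : ∃ g ∈ L, g ∉ W f := by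
    by_contra hcon
    push Not at hcon
    exact hL.ne (le_antisymm hL.le hcon)
  obtain ⟨u, v, huv, hswap⟩ : ∃ u v, f u ≠ f v ∧ Equiv.swap u v ∈ L := by
    rw [mem_W] at hgW
    push Not at hgW
    obtain ⟨x, y, hxy⟩ := hgW
    rcases hxy with ⟨h1, h2⟩ | ⟨h1, h2⟩
    · refine ⟨g x, g y, h2, ?_⟩
      rw [Equiv.swap_apply_apply]
      exact mul_mem (mul_mem hgL (hL.le (swap_mem_W f h1))) (inv_mem hgL)
    · refine ⟨x, y, h1, ?_⟩
      have h3 : Equiv.swap x y = g⁻¹ * Equiv.swap (g x) (g y) * g⁻¹⁻¹ := by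
        rw [← Equiv.swap_apply_apply, Equiv.Perm.inv_def, Equiv.symm_apply_apply, Equiv.symm_apply_apply]
      rw [h3]
      exact mul_mem (mul_mem (inv_mem hgL) (hL.le (swap_mem_W f h2))) (inv_mem (inv_mem hgL))
  rw [eq_top_iff, ← Equiv.Perm.closure_isSwap, Subgroup.closure_le]
  rintro σ ⟨p, q, -, rfl⟩
  by_cases hpq : f p = f q
  · exact hL.le (swap_mem_W f hpq)
  · obtain ⟨k, hkW, hku, hkv⟩ := exists_mem_W_map a b f hf u v p q huv hpq
    have : Equiv.swap p q = k * Equiv.swap u v * k⁻¹ := by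
      rw [← Equiv.swap_apply_apply, hku, hkv]
    rw [SetLike.mem_coe, this]
    exact mul_mem (mul_mem (hL.le hkW) hswap) (inv_mem (hL.le hkW))

end


/-- Let Ω be a finite set and f : Ω → Fin b a map onto b ≥ 2 labels whose fibres all have the same size a ≥ 2 (a partition of Ω into b blocks of size a, so |Ω| = ab). Then the stabilizer of this partition in the symmetric group on Ω — the permutations g such that x and y lie in the same block exactly when g x and g y do, a group isomorphic to the imprimitive wreath product S_a ≀ S_b — is a maximal subgroup of the symmetric group. -/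
theorem result {Ω : Type*} [Fintype Ω] [DecidableEq Ω] (a b : ℕ) (ha : 2 ≤ a) (hb : 2 ≤ b)
    (f : Ω → Fin b) (hf : ∀ i : Fin b, Nat.card {x : Ω // f x = i} = a) :
    IsCoatom (Subgroup.closure {g : Equiv.Perm Ω | ∀ x y : Ω, f x = f y ↔ f (g x) = f (g y)}) := by
  rw [closure_eq_W]
  exact W_isCoatom a b ha hb f hf

end Cfsg.Agent.S5905
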