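import Cfsg.Statements.S5894
import Cfsg.Agent.S5905
import Cfsg.Agent.S5885

set_option autoImplicit false
open Cfsg

namespace Cfsg.Agent.S5894

open MulAction
open Cfsg.Agent.S5905

section
variable {Ω : Type*} [Fintype Ω] [DecidableEq Ω]

omit [Fintype Ω] [DecidableEq Ω] in
/-- The permutations preserving every fibre of `f`. -/
def P {b : ℕ} (f : Ω → Fin b) : Subgroup (Equiv.Perm Ω) where
  carrier := {g | ∀ x : Ω, f (g x) = f x}
  mul_mem' := by
    intro g h hg hh x
    change f (g (h x)) = f x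
    rw [hg, hh]
  one_mem' := by
    intro x
    rfl
  inv_mem' := by
    intro g hg x
    have h := hg (g⁻¹ x)
    simp only [Equiv.Perm.inv_def, Equiv.apply_symm_apply] at h
    exact h.symm

omit [Fintype Ω] [DecidableEq Ω] in
theorem P_le_W {b : ℕ} (f : Ω → Fin b) : P f ≤ W f := by
  intro g hg x y
  rw [hg x, hg y]

omit [Fintype Ω] in
theorem swap_mem_P {b : ℕ} (f : Ω → Fin b) {x y : Ω} (hxy : f x = f y) : Equiv.swap x y ∈ P f := by
  intro p
  rw [Equiv.swap_apply_def]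
  split_ifs with h1 h2
  · rw [h1, hxy]
  · rw [h2, hxy]
  · rfl

theorem fin_two_cases (i : Fin 2) : i = 0 ∨ i = 1 := by
  fin_cases i <;> simp

theorem exists_crossing (m : ℕ) (hm : 1 ≤ m) (f : Ω → Fin 2)
    (hf : ∀ i : Fin 2, Nat.card {x : Ω // f x = i} = m) (a₀ : Ω) (ha₀ : f a₀ = 0)
    (L : Subgroup (Equiv.Perm Ω)) (hHL : stabilizer (Equiv.Perm Ω) a₀ ⊓ P f ≤ L)
    (g : Equiv.Perm Ω) (hgL : g ∈ L) (hga : g a₀ = a₀) (x : Ω) (hx1 : f x = 1) (hgx : f (g x) = 0) :
    ∃ p q, p ≠ a₀ ∧ f p = 0 ∧ f q = 1 ∧ Equiv.swap p q ∈ L := by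
  have hcard : ∀ i : Fin 2, (Finset.univ.filter (fun x => f x = i)).card = m := by
    intro i
    rw [← Fintype.card_subtype, ← Nat.card_eq_fintype_card]
    exact hf i
  obtain ⟨y, hy1, hgy⟩ : ∃ y, f y = 1 ∧ f (g y) = 1 := by
    by_contra hcon
    push Not at hcon
    have hmaps : ∀ y ∈ Finset.univ.filter (fun x => f x = 1),
        g y ∈ (Finset.univ.filter (fun x => f x = 0)).erase a₀ := by
      intro y hy
      have hy1 : f y = 1 := (Finset.mem_filter.mp hy).2
      have h0 : f (g y) = 0 := (fin_two_cases (f (g y))).resolve_right (hcon y hy1)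
      rw [Finset.mem_erase, Finset.mem_filter]
      refine ⟨?_, Finset.mem_univ _, h0⟩
      intro h
      have : y = a₀ := g.injective (h.trans hga.symm)
      rw [this, ha₀] at hy1
      exact absurd hy1 (by decide)
    have hle := Finset.card_le_card_of_injOn g hmaps (fun _ _ _ _ h => g.injective h)
    have ha₀mem : a₀ ∈ Finset.univ.filter (fun x => f x = 0) :=
      Finset.mem_filter.mpr ⟨Finset.mem_univ _, ha₀⟩
    have h1 := hcard 1
    have h0 := hcard 0
    have he := Finset.card_erase_of_mem ha₀mem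
    rw [h1, he, h0] at hle
    omega
  have hxa : x ≠ a₀ := by
    intro h
    rw [h, ha₀] at hx1
    exact absurd hx1 (by decide)
  have hya : y ≠ a₀ := by
    intro h
    rw [h, ha₀] at hy1
    exact absurd hy1 (by decide)
  refine ⟨g x, g y, ?_, hgx, hgy, ?_⟩
  · intro h
    exact hxa (g.injective (h.trans hga.symm))
  · rw [Equiv.swap_apply_apply]
    refine mul_mem (mul_mem hgL (hHL (Subgroup.mem_inf.mpr ⟨?_, swap_mem_P f (hx1.trans hy1.symm)⟩))) (inv_mem hgL)
    rw [mem_stabilizer_iff]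
    exact Equiv.swap_apply_of_ne_of_ne (Ne.symm hxa) (Ne.symm hya)

theorem max_in_M (m : ℕ) (hm : 1 ≤ m) (f : Ω → Fin 2)
    (hf : ∀ i : Fin 2, Nat.card {x : Ω // f x = i} = m) (a₀ : Ω) (ha₀ : f a₀ = 0)
    (L : Subgroup (Equiv.Perm Ω)) (hHL : stabilizer (Equiv.Perm Ω) a₀ ⊓ P f ≤ L)
    (hLM : L ≤ stabilizer (Equiv.Perm Ω) a₀) (hne : L ≠ stabilizer (Equiv.Perm Ω) a₀ ⊓ P f) :
    L = stabilizer (Equiv.Perm Ω) a₀ := by
  obtain ⟨g, hgL, hgH⟩ : ∃ g ∈ L, g ∉ stabilizer (Equiv.Perm Ω) a₀ ⊓ P f := by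
    by_contra hcon
    push Not at hcon
    exact hne (le_antisymm hcon hHL)
  have hga : g a₀ = a₀ := hLM hgL
  have hgP : g ∉ P f := fun h => hgH (Subgroup.mem_inf.mpr ⟨hLM hgL, h⟩)
  obtain ⟨x, hx⟩ : ∃ x, f (g x) ≠ f x := by
    by_contra hcon
    push Not at hcon
    exact hgP hcon
  obtain ⟨p, q, hpa, hp0, hq1, hswap⟩ : ∃ p q, p ≠ a₀ ∧ f p = 0 ∧ f q = 1 ∧ Equiv.swap p q ∈ L := by
    rcases fin_two_cases (f x) with h0 | h1
    · have hgx1 : f (g x) = 1 := (fin_two_cases (f (g x))).resolve_left (fun h => hx (h.trans h0.symm))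
      have hga' : g⁻¹ a₀ = a₀ := by
        rw [Equiv.Perm.inv_def, Equiv.symm_apply_eq, hga]
      refine exists_crossing m hm f hf a₀ ha₀ L hHL g⁻¹ (inv_mem hgL) hga' (g x) hgx1 ?_
      rw [Equiv.Perm.inv_def, Equiv.symm_apply_apply, h0]
    · have hgx0 : f (g x) = 0 := (fin_two_cases (f (g x))).resolve_right (fun h => hx (h.trans h1.symm))
      exact exists_crossing m hm f hf a₀ ha₀ L hHL g hgL hga x h1 hgx0
  have hqa : q ≠ a₀ := by
    intro h
    rw [h, ha₀] at hq1
    exact absurd hq1 (by decide)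
  have hpq : p ≠ q := by
    intro h
    rw [h, hq1] at hp0
    exact absurd hp0 (by decide)
  apply le_antisymm hLM
  intro h hh
  rw [mem_stabilizer_iff] at hh
  set S : Set (Equiv.Perm Ω) := {σ | σ.IsSwap ∧ σ ∈ L} with hS
  have hSswap : ∀ σ ∈ S, σ.IsSwap := fun σ hσ => hσ.1
  have hSL : Subgroup.closure S ≤ L := by
    rw [Subgroup.closure_le]
    exact fun σ hσ => hσ.2
  apply hSL
  rw [_root_.mem_closure_isSwap hSswap]
  refine ⟨Set.toFinite _, ?_⟩
  have hmemS : ∀ s t : Ω, s ≠ a₀ → t ≠ a₀ → f s = f t → Equiv.swap s t ∈ Subgroup.closure S := by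
    intro s t hs ht hst
    by_cases hst' : s = t
    · rw [hst', Equiv.swap_self]
      exact one_mem _
    · refine Subgroup.subset_closure ⟨⟨s, t, hst', rfl⟩, hHL (Subgroup.mem_inf.mpr ⟨?_, swap_mem_P f hst⟩)⟩
      rw [mem_stabilizer_iff]
      exact Equiv.swap_apply_of_ne_of_ne (Ne.symm hs) (Ne.symm ht)
  have hpqS : Equiv.swap p q ∈ Subgroup.closure S := Subgroup.subset_closure ⟨⟨p, q, hpq, rfl⟩, hswap⟩
  have horb : ∀ y : Ω, y ≠ a₀ → y ∈ orbit (Subgroup.closure S) p := by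
    intro y hy
    rcases fin_two_cases (f y) with h0 | h1
    · exact ⟨⟨Equiv.swap p y, hmemS p y hpa hy (hp0.trans h0.symm)⟩, Equiv.swap_apply_left p y⟩
    · refine ⟨⟨Equiv.swap q y * Equiv.swap p q, mul_mem (hmemS q y hqa hy (hq1.trans h1.symm)) hpqS⟩, ?_⟩
      change (Equiv.swap q y * Equiv.swap p q) p = y
      rw [Equiv.Perm.mul_apply, Equiv.swap_apply_left, Equiv.swap_apply_left]
  intro x
  by_cases hxa : x = a₀
  · rw [hxa, show h a₀ = a₀ from hh]
    exact mem_orbit_self _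
  · have hhx : h x ≠ a₀ := by
      intro hcon
      exact hxa (h.injective (hcon.trans hh.symm))
    rw [orbit_eq_iff.mpr (horb x hxa)]
    exact horb (h x) hhx

theorem example_general (m : ℕ) (hm : 2 ≤ m) (f : Ω → Fin 2)
    (hf : ∀ i : Fin 2, Nat.card {x : Ω // f x = i} = m) :
    ∃ M H K : Subgroup (Equiv.Perm Ω), IsCoatom M ∧ M.index = Fintype.card Ω ∧ H ≤ M ∧
      IsCoatom (H.subgroupOf M) ∧ IsCoatom K ∧ H ≤ K ∧ ¬ IsCoatom (H.subgroupOf K) := by
  obtain ⟨e, he⟩ := exists_equiv m 2 f hf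
  set a₀ := e.symm (0, ⟨0, by omega⟩) with ha₀d
  set a₁ := e.symm (0, ⟨1, by omega⟩) with ha₁d
  set b₀ := e.symm (1, ⟨0, by omega⟩) with hb₀d
  have ha₀ : f a₀ = 0 := by rw [← he, ha₀d, Equiv.apply_symm_apply]
  have ha₁ : f a₁ = 0 := by rw [← he, ha₁d, Equiv.apply_symm_apply]
  have hb₀ : f b₀ = 1 := by rw [← he, hb₀d, Equiv.apply_symm_apply]
  have ha₀₁ : a₀ ≠ a₁ := by
    intro h
    have := e.symm.injective h
    simp at this
  have ha₁b₀ : a₁ ≠ b₀ := by
    intro h
    rw [h, hb₀] at ha₁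
    exact absurd ha₁ (by decide)
  have ha₀b₀ : a₀ ≠ b₀ := by
    intro h
    rw [h, hb₀] at ha₀
    exact absurd ha₀ (by decide)
  haveI : Nontrivial Ω := ⟨⟨a₀, a₁, ha₀₁⟩⟩
  refine ⟨stabilizer (Equiv.Perm Ω) a₀, stabilizer (Equiv.Perm Ω) a₀ ⊓ P f, W f,
    IsPreprimitive.isCoatom_stabilizer_of_isPreprimitive (Equiv.Perm Ω) a₀, ?_, inf_le_left, ?_,
    W_isCoatom m 2 hm le_rfl f hf, inf_le_right.trans (P_le_W f), ?_⟩
  · rw [index_stabilizer_of_transitive, Nat.card_eq_fintype_card]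
  · apply Cfsg.Agent.S5885.coatom_subgroupOf_of inf_le_left
    · intro heq
      have hmem : Equiv.swap a₁ b₀ ∈ stabilizer (Equiv.Perm Ω) a₀ := by
        rw [mem_stabilizer_iff]
        exact Equiv.swap_apply_of_ne_of_ne ha₀₁ ha₀b₀
      rw [← heq] at hmem
      have h2 := (Subgroup.mem_inf.mp hmem).2 a₁
      rw [Equiv.swap_apply_left, hb₀, ha₁] at h2
      exact absurd h2 (by decide)
    · intro L hHL hLM hne
      exact max_in_M m (by omega) f hf a₀ ha₀ L hHL hLM hne
  · intro hco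
    rcases Cfsg.Agent.S5885.eq_of_coatom_subgroupOf (inf_le_right.trans (P_le_W f)) hco (P f)
      inf_le_right (P_le_W f) with h | h
    · have hmem : Equiv.swap a₀ a₁ ∈ P f := swap_mem_P f (ha₀.trans ha₁.symm)
      rw [h] at hmem
      have h2 := (Subgroup.mem_inf.mp hmem).1
      rw [mem_stabilizer_iff] at h2
      change Equiv.swap a₀ a₁ a₀ = a₀ at h2
      rw [Equiv.swap_apply_left] at h2
      exact ha₀₁ h2.symm
    · obtain ⟨k, hkW, hk1, -⟩ := exists_mem_W_map m 2 f hf a₀ b₀ b₀ a₀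
        (by rw [ha₀, hb₀]; decide) (by rw [ha₀, hb₀]; decide)
      rw [← h] at hkW
      have h2 := hkW a₀
      rw [hk1, hb₀, ha₀] at h2
      exact absurd h2 (by decide)

end


/-- For every m ≥ 2 the symmetric group on 2m letters has a maximal subgroup M of index 2m together with a maximal subgroup H of M that is not second maximal: some maximal subgroup K of the symmetric group contains H without H being maximal in K. (One may take M the stabiliser of a letter, H ≅ S_m × S_{m−1} inside it, and K ≅ S_m ≀ S₂ the stabiliser of a partition into two m-sets, with H < S_m × S_m < K.) So the prime-index hypothesis in the second-maximality criterion cannot be relaxed to any even index ≥ 4. -/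
theorem result (m : ℕ) (hm : 2 ≤ m) :
    ∃ M H K : Subgroup (Equiv.Perm (Fin (2 * m))), IsCoatom M ∧ M.index = 2 * m ∧ H ≤ M ∧ IsCoatom (H.subgroupOf M) ∧
      IsCoatom K ∧ H ≤ K ∧ ¬ IsCoatom (H.subgroupOf K) := by
  have hf : ∀ i : Fin 2, Nat.card {x : Fin (2 * m) // (finProdFinEquiv.symm x).1 = i} = m := by
    intro i
    have e : {x : Fin (2 * m) // (finProdFinEquiv.symm x).1 = i} ≃ Fin m :=
      { toFun := fun x => (finProdFinEquiv.symm x.1).2
        invFun := fun j => ⟨finProdFinEquiv (i, j), by simp⟩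
        left_inv := by
          rintro ⟨x, hx⟩
          apply Subtype.ext
          change finProdFinEquiv (i, (finProdFinEquiv.symm x).2) = x
          have h2 : (i, (finProdFinEquiv.symm x).2) = finProdFinEquiv.symm x := by
            rw [← hx]
          rw [h2, Equiv.apply_symm_apply]
        right_inv := by
          intro j
          simp }
    rw [Nat.card_congr e, Nat.card_fin]
  obtain ⟨M, H, K, h1, h2, h3, h4, h5, h6, h7⟩ :=
    example_general (Ω := Fin (2 * m)) m hm (fun x => (finProdFinEquiv.symm x).1) hf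
  refine ⟨M, H, K, h1, ?_, h3, h4, h5, h6, h7⟩
  rw [h2, Fintype.card_fin]

end Cfsg.Agent.S5894
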