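import Cfsg.Statements.S5895
import Cfsg.Agent.S5894

set_option autoImplicit false
open Cfsg

namespace Cfsg.Agent.S5895

open RegularWreathProduct

section
variable {D Q : Type*} [Group D] [Group Q]

def Mw (C : Subgroup D) : Subgroup (D ≀ᵣ Q) where
  carrier := {x | ∀ i, x.left i ∈ C}
  mul_mem' := by
    intro a b ha hb i
    change a.left i * b.left (a.right⁻¹ * i) ∈ C
    exact C.mul_mem (ha i) (hb _)
  one_mem' := by
    intro i
    exact C.one_mem
  inv_mem' := by
    intro a ha i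
    change (a.left (a.right * i))⁻¹ ∈ C
    exact C.inv_mem (ha _)

theorem mem_Mw (C : Subgroup D) (x : D ≀ᵣ Q) : x ∈ (Mw C : Subgroup (D ≀ᵣ Q)) ↔ ∀ i, x.left i ∈ C :=
  Iff.rfl

def base : (Q → D) →* D ≀ᵣ Q where
  toFun f := ⟨f, 1⟩
  map_one' := rfl
  map_mul' f g := by
    ext i
    · simp
    · simp

theorem base_left (f : Q → D) : (base f : D ≀ᵣ Q).left = f := rfl

theorem base_right (f : Q → D) : (base f : D ≀ᵣ Q).right = 1 := rfl

theorem inl_mem_Mw (C : Subgroup D) (q : Q) : (inl q : D ≀ᵣ Q) ∈ (Mw C : Subgroup (D ≀ᵣ Q)) := by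
  intro i
  exact C.one_mem

theorem eq_base_mul_inl (y : D ≀ᵣ Q) : y = base y.left * inl y.right := by
  ext i
  · simp [base_left, base_right]
  · simp [base_right]

theorem conj_base_mulSingle [DecidableEq Q] (x : D ≀ᵣ Q) (j : Q) (c : D) :
    x * base (Pi.mulSingle j c) * x⁻¹ =
      base (Pi.mulSingle (x.right * j) (x.left (x.right * j) * c * (x.left (x.right * j))⁻¹)) := by
  ext k
  · simp only [mul_left, inv_left, mul_right, Pi.mul_apply, Pi.inv_apply, base_left, base_right,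
      mul_one]
    by_cases hk : k = x.right * j
    · subst hk
      simp
    · have hk' : x.right⁻¹ * k ≠ j := by
        intro h
        apply hk
        rw [← h, mul_inv_cancel_left]
      rw [Pi.mulSingle_eq_of_ne hk', Pi.mulSingle_eq_of_ne hk]
      simp
  · simp [base_right]

def MwEquiv (C : Subgroup D) : (Mw C : Subgroup (D ≀ᵣ Q)) ≃ (Q → C) × Q where
  toFun x := (fun i => ⟨x.1.left i, x.2 i⟩, x.1.right)
  invFun y := ⟨⟨fun i => (y.1 i : D), y.2⟩, fun i => (y.1 i).2⟩
  left_inv x := rfl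
  right_inv y := rfl

theorem index_Mw [Finite D] [Finite Q] (C : Subgroup D) :
    (Mw C : Subgroup (D ≀ᵣ Q)).index = C.index ^ Nat.card Q := by
  have h1 := Subgroup.card_mul_index (Mw C : Subgroup (D ≀ᵣ Q))
  rw [RegularWreathProduct.card, Nat.card_congr (MwEquiv C), Nat.card_prod, Nat.card_fun,
    ← Subgroup.card_mul_index C, mul_pow] at h1
  have hpos : 0 < Nat.card C ^ Nat.card Q * Nat.card Q := by
    have h2 : 0 < Nat.card C := Nat.card_pos
    have h3 : 0 < Nat.card Q := Nat.card_pos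
    positivity
  apply Nat.eq_of_mul_eq_mul_left hpos
  rw [h1]
  ring

theorem Mw_isCoatom [Finite Q] (C : Subgroup D) (hC : IsCoatom C)
    (hN : ∀ g, g ∉ C → ∃ c ∈ C, g * c * g⁻¹ ∉ C) : IsCoatom (Mw C : Subgroup (D ≀ᵣ Q)) := by
  classical
  constructor
  · intro htop
    obtain ⟨g, hg⟩ : ∃ g, g ∉ C := by
      by_contra hcon
      push Not at hcon
      exact hC.1 ((Subgroup.eq_top_iff' C).mpr hcon)
    have h1 : (⟨fun _ => g, 1⟩ : D ≀ᵣ Q) ∈ (Mw C : Subgroup (D ≀ᵣ Q)) := by
      rw [htop]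
      exact Subgroup.mem_top _
    exact hg (h1 1)
  · intro L hL
    obtain ⟨x, hxL, hxM⟩ := SetLike.exists_of_lt hL
    rw [mem_Mw] at hxM
    push Not at hxM
    obtain ⟨i₀, hi₀⟩ := hxM
    obtain ⟨c, hcC, hc⟩ := hN _ hi₀
    have hCle : ∀ j (a : D), a ∈ C → base (Pi.mulSingle j a) ∈ L := by
      intro j a ha
      apply hL.le
      intro k
      change (Pi.mulSingle j a : Q → D) k ∈ C
      rw [Pi.mulSingle_apply]
      split_ifs
      · exact ha
      · exact C.one_mem
    have h0 : L.comap (base.comp (MonoidHom.mulSingle (fun _ : Q => D) i₀)) = ⊤ := by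
      apply hC.2
      refine lt_of_le_of_ne (fun a ha => hCle i₀ a ha) ?_
      intro heq
      apply hc
      rw [heq]
      change base (Pi.mulSingle i₀ _) ∈ L
      have h2 := conj_base_mulSingle x (x.right⁻¹ * i₀) c
      rw [mul_inv_cancel_left] at h2
      rw [← h2]
      exact L.mul_mem (L.mul_mem hxL (hCle _ _ hcC)) (L.inv_mem hxL)
    have hall : ∀ j (a : D), base (Pi.mulSingle j a) ∈ L := by
      intro j a
      have h2 := conj_base_mulSingle (inl (j * i₀⁻¹) : D ≀ᵣ Q) i₀ a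
      simp only [right_inl, left_inl, Pi.one_apply, one_mul, inv_one, mul_one,
        inv_mul_cancel_right] at h2
      rw [← h2]
      refine L.mul_mem (L.mul_mem (hL.le (inl_mem_Mw C _)) ?_) (L.inv_mem (hL.le (inl_mem_Mw C _)))
      have h3 : a ∈ L.comap (base.comp (MonoidHom.mulSingle (fun _ : Q => D) i₀)) := by
        rw [h0]
        exact Subgroup.mem_top _
      exact h3
    rw [Subgroup.eq_top_iff']
    intro y
    rw [eq_base_mul_inl y]
    refine L.mul_mem ?_ (hL.le (inl_mem_Mw C _))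
    have h4 : y.left ∈ L.comap base :=
      Subgroup.pi_mem_of_mulSingle_mem y.left (fun i => hall i _)
    exact h4

theorem wreath_example [Finite D] [Finite Q] [Nontrivial Q] (C : Subgroup D) (hC : IsCoatom C)
    (hN : ∀ g, g ∉ C → ∃ c ∈ C, g * c * g⁻¹ ∉ C) :
    ∃ M H K : Subgroup (D ≀ᵣ Q), IsCoatom M ∧ M.index = C.index ^ Nat.card Q ∧ H ≤ M ∧
      IsCoatom (H.subgroupOf M) ∧ IsCoatom K ∧ H ≤ K ∧ ¬ IsCoatom (H.subgroupOf K) := by
  classical
  obtain ⟨T, hT⟩ : ∃ T : Subgroup Q, IsCoatom T := by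
    rcases eq_top_or_exists_le_coatom (⊥ : Subgroup Q) with h | ⟨T, hT, -⟩
    · exact absurd h bot_ne_top
    · exact ⟨T, hT⟩
  have hsurj : Function.Surjective (rightHom : D ≀ᵣ Q →* Q) := fun q => ⟨inl q, by simp⟩
  have hKco : IsCoatom (T.comap (rightHom : D ≀ᵣ Q →* Q)) :=
    Subgroup.isCoatom_comap_of_surjective hsurj hT
  obtain ⟨g, hg⟩ : ∃ g, g ∉ C := by
    by_contra hcon
    push Not at hcon
    exact hC.1 ((Subgroup.eq_top_iff' C).mpr hcon)
  obtain ⟨q, hq⟩ : ∃ q, q ∉ T := by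
    by_contra hcon
    push Not at hcon
    exact hT.1 ((Subgroup.eq_top_iff' T).mpr hcon)
  refine ⟨Mw C, Mw C ⊓ T.comap rightHom, T.comap rightHom, Mw_isCoatom C hC hN, index_Mw C,
    inf_le_left, ?_, hKco, inf_le_right, ?_⟩
  · have hsurj' : Function.Surjective
        ((rightHom : D ≀ᵣ Q →* Q).comp (Mw C : Subgroup (D ≀ᵣ Q)).subtype) :=
      fun q => ⟨⟨inl q, inl_mem_Mw C q⟩, by simp⟩
    have h1 := Subgroup.isCoatom_comap_of_surjective hsurj' hT
    have h2 : (Mw C ⊓ T.comap (rightHom : D ≀ᵣ Q →* Q)).subgroupOf (Mw C) =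
        T.comap ((rightHom : D ≀ᵣ Q →* Q).comp (Mw C : Subgroup (D ≀ᵣ Q)).subtype) := by
      ext ⟨x, hx⟩
      simp [Subgroup.mem_subgroupOf, hx]
    rw [h2]
    exact h1
  · intro hco
    let L : Subgroup (D ≀ᵣ Q) :=
      { carrier := {x | x.right ∈ T ∧ ∀ i ∈ T, x.left i ∈ C}
        mul_mem' := by
          intro a b ha hb
          refine ⟨T.mul_mem ha.1 hb.1, fun i hi => ?_⟩
          change a.left i * b.left (a.right⁻¹ * i) ∈ C
          exact C.mul_mem (ha.2 i hi) (hb.2 _ (T.mul_mem (T.inv_mem ha.1) hi))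
        one_mem' := ⟨T.one_mem, fun i _ => C.one_mem⟩
        inv_mem' := by
          intro a ha
          refine ⟨T.inv_mem ha.1, fun i hi => ?_⟩
          change (a.left (a.right * i))⁻¹ ∈ C
          exact C.inv_mem (ha.2 _ (T.mul_mem ha.1 hi)) }
    have hHL : Mw C ⊓ T.comap (rightHom : D ≀ᵣ Q →* Q) ≤ L :=
      fun x hx => ⟨hx.2, fun i _ => hx.1 i⟩
    have hLK : L ≤ T.comap (rightHom : D ≀ᵣ Q →* Q) := fun x hx => hx.1
    rcases Cfsg.Agent.S5885.eq_of_coatom_subgroupOf inf_le_right hco L hHL hLK with h | h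
    · have h1 : (base (Pi.mulSingle q g) : D ≀ᵣ Q) ∈ L := by
        refine ⟨T.one_mem, fun i hi => ?_⟩
        change (Pi.mulSingle q g : Q → D) i ∈ C
        rw [Pi.mulSingle_eq_of_ne (by rintro rfl; exact hq hi)]
        exact C.one_mem
      rw [h] at h1
      have h2 := h1.1 q
      change (Pi.mulSingle q g : Q → D) q ∈ C at h2
      rw [Pi.mulSingle_eq_same] at h2
      exact hg h2
    · have h1 : (base (Pi.mulSingle 1 g) : D ≀ᵣ Q) ∈ T.comap (rightHom : D ≀ᵣ Q →* Q) :=
        T.one_mem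
      rw [← h] at h1
      have h2 := h1.2 1 T.one_mem
      change (Pi.mulSingle 1 g : Q → D) 1 ∈ C at h2
      rw [Pi.mulSingle_eq_same] at h2
      exact hg h2

end

theorem exists_third {p : ℕ} (hp3 : 3 ≤ p) (z a : Fin p) : ∃ b : Fin p, b ≠ z ∧ b ≠ a := by
  by_contra hcon
  push Not at hcon
  have h1 : (Finset.univ : Finset (Fin p)) ⊆ {z, a} := by
    intro b _
    by_cases hb : b = z
    · simp [hb]
    · simp [hcon b hb]
  have h2 := Finset.card_le_card h1
  have h3 : ({z, a} : Finset (Fin p)).card ≤ 2 := Finset.card_le_two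
  rw [Finset.card_univ, Fintype.card_fin] at h2
  omega

theorem perm_stab (p : ℕ) (hp3 : 3 ≤ p) (z : Fin p) :
    IsCoatom (MulAction.stabilizer (Equiv.Perm (Fin p)) z) ∧
      (MulAction.stabilizer (Equiv.Perm (Fin p)) z).index = p ∧
      ∀ g, g ∉ MulAction.stabilizer (Equiv.Perm (Fin p)) z →
        ∃ c ∈ MulAction.stabilizer (Equiv.Perm (Fin p)) z,
          g * c * g⁻¹ ∉ MulAction.stabilizer (Equiv.Perm (Fin p)) z := by
  haveI : Nontrivial (Fin p) := Fin.nontrivial_iff_two_le.mpr (by omega)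
  refine ⟨?_, ?_, ?_⟩
  · rw [MulAction.isCoatom_stabilizer_iff_preprimitive]
    infer_instance
  · rw [MulAction.index_stabilizer_of_transitive, Nat.card_fin]
  · intro g hg
    rw [MulAction.mem_stabilizer_iff] at hg
    have ha : g⁻¹ z ≠ z := by
      intro h
      apply hg
      change g z = z
      rw [Equiv.Perm.inv_def, Equiv.symm_apply_eq] at h
      exact h.symm
    obtain ⟨b, hbz, hba⟩ := exists_third hp3 z (g⁻¹ z)
    refine ⟨Equiv.swap (g⁻¹ z) b, ?_, ?_⟩
    · rw [MulAction.mem_stabilizer_iff]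
      exact Equiv.swap_apply_of_ne_of_ne ha.symm hbz.symm
    · rw [MulAction.mem_stabilizer_iff]
      change ¬ g (Equiv.swap (g⁻¹ z) b (g⁻¹ z)) = z
      rw [Equiv.swap_apply_left]
      intro h
      apply hba
      rw [Equiv.Perm.inv_def, Equiv.eq_symm_apply]
      exact h


/-- For every prime p and every d ≥ 2 there is a finite group G with a maximal subgroup M of index p^d and a maximal subgroup H of M that is not second maximal in G: some maximal subgroup K of G contains H without H being maximal in K. (One may take G the affine group V ⋊ GL(V) of V = 𝔽_p^d, M = GL(V), H the stabiliser in M of a line W of V, and K = V ⋊ H, with H < W ⋊ H < K.) So the prime-index hypothesis in the second-maximality criterion cannot be relaxed to prime-power index. -/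
theorem result (p d : ℕ) (hp : p.Prime)
    (hd : 2 ≤ d) :
    ∃ (G : Type) (_ : Group G) (_ : Finite G) (M H K : Subgroup G), IsCoatom M ∧ M.index = p ^ d ∧ H ≤ M ∧
      IsCoatom (H.subgroupOf M) ∧ IsCoatom K ∧ H ≤ K ∧ ¬ IsCoatom (H.subgroupOf K) := by
  by_cases h2 : p = 2
  · subst h2
    have hm : 2 ≤ 2 ^ (d - 1) := by
      calc 2 = 2 ^ 1 := by norm_num
        _ ≤ 2 ^ (d - 1) := Nat.pow_le_pow_right (by norm_num) (by omega)
    obtain ⟨M, H, K, h1, h2, h3, h4, h5, h6, h7⟩ := Cfsg.Agent.S5894.result (2 ^ (d - 1)) hm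
    refine ⟨Equiv.Perm (Fin (2 * 2 ^ (d - 1))), inferInstance, inferInstance, M, H, K, h1, ?_, h3,
      h4, h5, h6, h7⟩
    rw [h2, ← pow_succ']
    congr 1
    omega
  · have hp3 : 3 ≤ p := by
      have := hp.two_le
      omega
    haveI : NeZero d := ⟨by omega⟩
    haveI : Fact (1 < d) := ⟨by omega⟩
    obtain ⟨hC, hidx, hN⟩ := perm_stab p hp3 ⟨0, by omega⟩
    obtain ⟨M, H, K, h1, h2, h3, h4, h5, h6, h7⟩ :=
      wreath_example (Q := Multiplicative (ZMod d)) _ hC hN
    refine ⟨_, inferInstance, inferInstance, M, H, K, h1, ?_, h3, h4, h5, h6, h7⟩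
    rw [h2, hidx]
    congr 1
    rw [Nat.card_congr Multiplicative.toAdd, Nat.card_zmod]

end Cfsg.Agent.S5895
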