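import Cfsg.Statements.S5896
import Cfsg.Agent.S5895
import Cfsg.Agent.Lib.helper23.BurnsidePQ

set_option autoImplicit false
open Cfsg

namespace Cfsg.Agent.S5896

open RegularWreathProduct Cfsg.Agent.S5895
open scoped commutatorElement

theorem map_derivedSeries_le_add {T G : Type*} [Group T] [Group G] (g : T →* G) (m : ℕ)
    (hg : g.range ≤ derivedSeries G m) (n : ℕ) :
    (derivedSeries T n).map g ≤ derivedSeries G (m + n) := by
  induction n with
  | zero =>
    rw [derivedSeries_zero, ← MonoidHom.range_eq_map]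
    exact hg
  | succ n ih =>
    rw [derivedSeries_succ, Subgroup.map_commutator, ← add_assoc, derivedSeries_succ]
    exact Subgroup.commutator_mono ih ih

theorem derived_ne_bot_of {T A Y : Type*} [Group T] [Group A] [Group Y] (g₁ : T →* A)
    (g₂ : T →* Y) (h₁ : Function.Surjective g₁) (h₂ : Function.Injective g₂) (m k : ℕ)
    (hg : g₂.range ≤ derivedSeries Y m) (hA : derivedSeries A k ≠ ⊥) :
    derivedSeries Y (m + k) ≠ ⊥ := by
  have h3 : derivedSeries T k ≠ ⊥ := by
    intro h
    apply hA
    rw [← map_derivedSeries_eq h₁ k, h, Subgroup.map_bot]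
  intro h
  apply h3
  have h4 := map_derivedSeries_le_add g₂ m hg k
  rw [h, le_bot_iff] at h4
  exact (Subgroup.map_eq_bot_iff_of_injective _ h₂).mp h4

section
variable {D Q : Type*} [Group D] [Group Q]

theorem base_injective : Function.Injective (base : (Q → D) →* D ≀ᵣ Q) := by
  intro f g h
  have := congrArg RegularWreathProduct.left h
  exact this

theorem base_pair [DecidableEq Q] (i q : Q) (s : D) :
    (base (Pi.mulSingle i s * Pi.mulSingle (q * i) s⁻¹) : D ≀ᵣ Q) =
      base (Pi.mulSingle i s) * inl q * (base (Pi.mulSingle i s))⁻¹ * (inl q)⁻¹ := by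
  have h2 := conj_base_mulSingle (inl q : D ≀ᵣ Q) i s⁻¹
  simp only [right_inl, left_inl, Pi.one_apply, one_mul, inv_one, mul_one] at h2
  rw [map_mul, ← h2, Pi.mulSingle_inv, map_inv]
  simp only [mul_assoc]

end

theorem family (k : ℕ) : ∃ (S : Type) (_ : Group S) (_ : Finite S),
    (∃ m, Nat.card S = 2 ^ m) ∧ derivedSeries S k ≠ ⊥ := by
  classical
  induction k with
  | zero =>
    refine ⟨Multiplicative (ZMod 2), inferInstance, inferInstance, ⟨1, by simp⟩, ?_⟩
    rw [derivedSeries_zero]
    exact top_ne_bot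
  | succ k ih =>
    obtain ⟨A, _, _, ⟨m, hm⟩, hA⟩ := ih
    refine ⟨A ≀ᵣ Multiplicative (ZMod 2), inferInstance, inferInstance, ⟨m * 2 + 1, ?_⟩, ?_⟩
    · rw [RegularWreathProduct.card, hm]
      simp only [Nat.card_eq_fintype_card, Fintype.card_multiplicative, ZMod.card]
      ring
    · let W := A ≀ᵣ Multiplicative (ZMod 2)
      let T : Subgroup (Multiplicative (ZMod 2) → A) := (commutator W).comap base
      let g₁ : T →* A := (Pi.evalMonoidHom (fun _ : Multiplicative (ZMod 2) => A) 1).comp T.subtype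
      let g₂ : T →* W := (base : (Multiplicative (ZMod 2) → A) →* W).comp T.subtype
      have h1 : Function.Surjective g₁ := by
        intro a
        obtain ⟨q, hq⟩ : ∃ q : Multiplicative (ZMod 2), q ≠ 1 := exists_ne 1
        have hmem : Pi.mulSingle 1 a * Pi.mulSingle (q * 1) a⁻¹ ∈ T := by
          change base _ ∈ commutator W
          rw [base_pair, commutator_def]
          exact Subgroup.commutator_mem_commutator (Subgroup.mem_top _) (Subgroup.mem_top _)
        refine ⟨⟨_, hmem⟩, ?_⟩
        change (Pi.mulSingle 1 a * Pi.mulSingle (q * 1) a⁻¹ : Multiplicative (ZMod 2) → A) 1 = a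
        rw [Pi.mul_apply, Pi.mulSingle_eq_same, Pi.mulSingle_eq_of_ne, mul_one]
        rw [mul_one]
        exact hq.symm
      have h2 : Function.Injective g₂ := by
        intro x y hxy
        exact Subtype.ext (base_injective hxy)
      have h3 : g₂.range ≤ derivedSeries W 1 := by
        rw [derivedSeries_one]
        rintro _ ⟨x, rfl⟩
        exact x.2
      have h4 := derived_ne_bot_of g₁ g₂ h1 h2 1 k h3 hA
      rw [add_comm] at h4
      exact h4

noncomputable def phi (S Q : Type*) [Group S] [Group Q] [Fintype Q] :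
    S ≀ᵣ Q →* Abelianization S where
  toFun w := ∏ i, Abelianization.of (w.left i)
  map_one' := by simp
  map_mul' a b := by
    simp only [mul_left, Pi.mul_apply, map_mul, Finset.prod_mul_distrib]
    congr 1
    exact Fintype.prod_equiv (Equiv.mulLeft a.right⁻¹) _ _ (fun i => rfl)

section
variable {S Q : Type*} [Group S] [Group Q] [Fintype Q]

theorem phi_apply (w : S ≀ᵣ Q) : phi S Q w = ∏ i, Abelianization.of (w.left i) := rfl

theorem phi_inl (q : Q) : phi S Q (inl q) = 1 := by
  rw [phi_apply]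
  simp

theorem phi_base_mulSingle [DecidableEq Q] (i : Q) (s : S) :
    phi S Q (base (Pi.mulSingle i s)) = Abelianization.of s := by
  rw [phi_apply, Finset.prod_eq_single i]
  · rw [base_left, Pi.mulSingle_eq_same]
  · intro j _ hj
    rw [base_left, Pi.mulSingle_eq_of_ne hj, map_one]
  · intro h
    exact absurd (Finset.mem_univ i) h

theorem pair_mem_ker [DecidableEq Q] (i j : Q) (s : S) :
    (base (Pi.mulSingle i s * Pi.mulSingle j s⁻¹) : S ≀ᵣ Q) ∈ (phi S Q).ker := by
  rw [MonoidHom.mem_ker, map_mul, map_mul, phi_base_mulSingle, phi_base_mulSingle, map_inv,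
    mul_inv_cancel]

theorem ker_phi_le [DecidableEq Q] (hQ : commutator Q = ⊤) (h3 : 2 < Fintype.card Q) :
    (phi S Q).ker ≤ ⁅(phi S Q).ker, (phi S Q).ker⁆ := by
  set C : Subgroup (S ≀ᵣ Q) := ⁅(phi S Q).ker, (phi S Q).ker⁆ with hC
  have hCle : C ≤ (phi S Q).ker := Subgroup.commutator_le_left _ _
  have hinl : ∀ q : Q, (inl q : S ≀ᵣ Q) ∈ C := by
    intro q
    have h1 : (commutator Q).map (inl : Q →* S ≀ᵣ Q) ≤ C := by
      rw [commutator_def, Subgroup.map_commutator]
      apply Subgroup.commutator_mono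
      · rintro _ ⟨q, -, rfl⟩
        exact phi_inl q
      · rintro _ ⟨q, -, rfl⟩
        exact phi_inl q
    apply h1
    rw [hQ]
    exact ⟨q, Subgroup.mem_top _, rfl⟩
  have he : ∀ (i j : Q) (s : S), (base (Pi.mulSingle i s * Pi.mulSingle j s⁻¹) : S ≀ᵣ Q) ∈ C := by
    intro i j s
    have h1 := base_pair (D := S) i (j * i⁻¹) s
    rw [inv_mul_cancel_right] at h1
    rw [h1]
    exact C.mul_mem (Subgroup.Normal.conj_mem inferInstance _ (hinl _) _) (C.inv_mem (hinl _))
  have hc : ∀ (i : Q) (c : S), c ∈ commutator S → (base (Pi.mulSingle i c) : S ≀ᵣ Q) ∈ C := by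
    intro i c hcm
    obtain ⟨a, b, c', hab, hac, hbc⟩ := Fintype.two_lt_card_iff.mp h3
    have hj : a⁻¹ * b * i ≠ i := by
      intro h
      apply hab
      have : a⁻¹ * b = 1 := by simpa using h
      exact (inv_mul_eq_one.mp this)
    have hk : a⁻¹ * c' * i ≠ i := by
      intro h
      apply hac
      have : a⁻¹ * c' = 1 := by simpa using h
      exact (inv_mul_eq_one.mp this)
    have hjk : a⁻¹ * b * i ≠ a⁻¹ * c' * i := by
      intro h
      apply hbc
      simpa using h
    set j := a⁻¹ * b * i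
    set k := a⁻¹ * c' * i
    have hst : ∀ s t : S, (base (Pi.mulSingle i ⁅s, t⁆) : S ≀ᵣ Q) ∈ C := by
      intro s t
      have h5 : (Pi.mulSingle i ⁅s, t⁆ : Q → S) =
          ⁅(Pi.mulSingle i s * Pi.mulSingle j s⁻¹ : Q → S),
            (Pi.mulSingle i t * Pi.mulSingle k t⁻¹ : Q → S)⁆ := by
        funext x
        simp only [commutatorElement_def, Pi.mul_apply, Pi.inv_apply]
        by_cases hxi : x = i
        · subst hxi
          simp [Pi.mulSingle_eq_of_ne hj.symm, Pi.mulSingle_eq_of_ne hk.symm]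
        · by_cases hxj : x = j
          · subst hxj
            simp [Pi.mulSingle_eq_of_ne hxi, Pi.mulSingle_eq_of_ne hjk]
          · simp [Pi.mulSingle_eq_of_ne hxi, Pi.mulSingle_eq_of_ne hxj]
      rw [h5, map_commutatorElement]
      exact Subgroup.commutator_mem_commutator (pair_mem_ker _ _ _) (pair_mem_ker _ _ _)
    have hle : commutator S ≤ C.comap ((base : (Q → S) →* S ≀ᵣ Q).comp
        (MonoidHom.mulSingle (fun _ : Q => S) i)) := by
      rw [commutator_eq_closure, Subgroup.closure_le]
      rintro _ ⟨s, t, rfl⟩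
      exact hst s t
    exact hle hcm
  intro w hw
  rw [eq_base_mul_inl w]
  refine C.mul_mem ?_ (hinl _)
  have hwb : (base w.left : S ≀ᵣ Q) ∈ (phi S Q).ker := by
    have h1 : (base w.left : S ≀ᵣ Q) = w * (inl w.right)⁻¹ := by
      rw [eq_mul_inv_iff_mul_eq]
      exact (eq_base_mul_inl w).symm
    rw [h1]
    exact Subgroup.mul_mem _ hw (Subgroup.inv_mem _ (hCle (hinl _)))
  set X : Subgroup (Q → S) := C.comap base with hX
  have hsup : w.left ∈ X ⊔ (MonoidHom.mulSingle (fun _ : Q => S) 1).range := by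
    apply Subgroup.pi_mem_of_mulSingle_mem
    intro i
    have h1 : (Pi.mulSingle i (w.left i) : Q → S) =
        (Pi.mulSingle i (w.left i) * Pi.mulSingle 1 (w.left i)⁻¹) * Pi.mulSingle 1 (w.left i) := by
      rw [mul_assoc, ← Pi.mulSingle_mul, inv_mul_cancel, Pi.mulSingle_one, mul_one]
    rw [h1]
    exact Subgroup.mul_mem _ (Subgroup.mem_sup_left (he _ _ _))
      (Subgroup.mem_sup_right ⟨_, rfl⟩)
  have hmul : w.left ∈ ((X ⊔ (MonoidHom.mulSingle (fun _ : Q => S) 1).range :
      Subgroup (Q → S)) : Set (Q → S)) := hsup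
  rw [Subgroup.normal_mul, Set.mem_mul] at hmul
  obtain ⟨x, hx, _, ⟨s, rfl⟩, hxs⟩ := hmul
  have hs : s ∈ commutator S := by
    rw [← Abelianization.ker_of, MonoidHom.mem_ker, ← phi_base_mulSingle (Q := Q) 1 s]
    have h1 : (base (Pi.mulSingle 1 s) : S ≀ᵣ Q) = (base x)⁻¹ * base w.left := by
      rw [← hxs, map_mul, inv_mul_cancel_left]
      rfl
    rw [h1]
    exact Subgroup.mul_mem _ (Subgroup.inv_mem _ (hCle hx)) hwb
  change base w.left ∈ C
  rw [← hxs, map_mul]
  exact C.mul_mem hx (hc 1 s hs)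

end


/-- Finite perfect groups have solvable maximal subgroups of unbounded derived length: for every d there is a finite perfect group G (equal to its commutator subgroup) with a solvable maximal subgroup H whose derived length exceeds d, i.e. the d-th term of the derived series of H is non-trivial. (Take the derived subgroup of a wreath product S ≀ A₅ with S solvable of large derived length, and H the preimage of a maximal subgroup of A₅.) -/
theorem result (d : ℕ) :
    ∃ (G : Type) (_ : Group G) (_ : Finite G) (H : Subgroup G), commutator G = ⊤ ∧ IsCoatom H ∧ Group.IsSolvable H ∧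
      derivedSeries H d ≠ ⊥ := by
  classical
  obtain ⟨S, _, _, ⟨m, hm⟩, hS⟩ := family d
  have hQperf : commutator (alternatingGroup (Fin 5)) = ⊤ := by
    rcases (inferInstance : (commutator (alternatingGroup (Fin 5))).Normal).eq_bot_or_eq_top
      with h | h
    · exfalso
      have hsolv : Group.IsSolvable (alternatingGroup (Fin 5)) :=
        (Group.isSolvable_def _).mpr ⟨1, by rw [derivedSeries_one]; exact h⟩
      apply Equiv.Perm.not_isSolvable_fin_5
      exact Group.isSolvable_of_ker_le_range (alternatingGroup (Fin 5)).subtype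
        (Equiv.Perm.sign) (by
          intro x hx
          exact ⟨⟨x, hx⟩, rfl⟩)
    · exact h
  have hQc : Fintype.card (alternatingGroup (Fin 5)) = 60 := by
    have h1 := two_mul_card_alternatingGroup (α := Fin 5)
    rw [Fintype.card_perm, Fintype.card_fin] at h1
    have h2 : Nat.factorial 5 = 120 := by decide
    omega
  have hQcard : 2 < Fintype.card (alternatingGroup (Fin 5)) := by
    rw [hQc]
    norm_num
  have hprim : MulAction.IsPreprimitive (alternatingGroup (Fin 5)) (Fin 5) :=
    alternatingGroup.isPreprimitive_of_three_le_card (Fin 5) (by simp)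
  have hTco : IsCoatom (MulAction.stabilizer (alternatingGroup (Fin 5)) (0 : Fin 5)) :=
    MulAction.IsPreprimitive.isCoatom_stabilizer_of_isPreprimitive _ _
  have hTsolv : Group.IsSolvable (MulAction.stabilizer (alternatingGroup (Fin 5)) (0 : Fin 5)) := by
    have h1 := MulAction.index_stabilizer_of_transitive (alternatingGroup (Fin 5)) (0 : Fin 5)
    have h2 := Subgroup.card_mul_index (MulAction.stabilizer (alternatingGroup (Fin 5)) (0 : Fin 5))
    rw [h1, Nat.card_eq_fintype_card (α := alternatingGroup (Fin 5)), hQc] at h2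
    simp only [Nat.card_eq_fintype_card, Fintype.card_fin] at h2
    have h3 : Nat.card (MulAction.stabilizer (alternatingGroup (Fin 5)) (0 : Fin 5)) = 2 ^ 2 * 3 ^ 1 := by
      rw [Nat.card_eq_fintype_card]
      omega
    exact Cfsg.Agent.Lib.helper23.burnside_paqb 2 3 2 1 Nat.prime_two Nat.prime_three h3
  obtain ⟨Q, _, _, hQperf, hQcard, T, hTco, hTsolv⟩ :
      ∃ (Q : Type) (_ : Group Q) (_ : Fintype Q), commutator Q = ⊤ ∧ 2 < Fintype.card Q ∧
        ∃ T : Subgroup Q, IsCoatom T ∧ Group.IsSolvable T :=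
    ⟨alternatingGroup (Fin 5), inferInstance, inferInstance, hQperf, hQcard, _, hTco, hTsolv⟩
  have hr : Function.Surjective
      ((rightHom : S ≀ᵣ Q →* Q).comp (phi S Q).ker.subtype) :=
    fun q => ⟨⟨inl q, phi_inl q⟩, by simp⟩
  have hnt : Nontrivial Q := Fintype.one_lt_card_iff_nontrivial.mp (by omega)
  obtain ⟨j, hj⟩ : ∃ j : Q, j ≠ 1 := exists_ne 1
  have hHmem : ∀ x : ((phi S Q).comp (base : (Q → S) →* S ≀ᵣ Q)).ker,
      (⟨base x.1, x.2⟩ : (phi S Q).ker) ∈
        T.comap ((rightHom : S ≀ᵣ Q →* Q).comp (phi S Q).ker.subtype) := by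
    intro x
    change rightHom (base x.1 : S ≀ᵣ Q) ∈ T
    have : rightHom (base x.1 : S ≀ᵣ Q) = 1 := rfl
    rw [this]
    exact T.one_mem
  let g₂ : ((phi S Q).comp (base : (Q → S) →* S ≀ᵣ Q)).ker →*
      T.comap ((rightHom : S ≀ᵣ Q →* Q).comp (phi S Q).ker.subtype) :=
    { toFun := fun x => ⟨⟨base x.1, x.2⟩, hHmem x⟩
      map_one' := by
        apply Subtype.ext
        apply Subtype.ext
        exact map_one base
      map_mul' := by
        intro x y
        apply Subtype.ext
        apply Subtype.ext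
        exact map_mul base _ _ }
  have hg₂ : Function.Injective g₂ := by
    intro x y hxy
    have h1 : (base x.1 : S ≀ᵣ Q) = base y.1 :=
      congrArg (fun z : T.comap ((rightHom : S ≀ᵣ Q →* Q).comp (phi S Q).ker.subtype) =>
        ((z : (phi S Q).ker) : S ≀ᵣ Q)) hxy
    exact Subtype.ext (base_injective h1)
  let g₁ : ((phi S Q).comp (base : (Q → S) →* S ≀ᵣ Q)).ker →* S :=
    (Pi.evalMonoidHom (fun _ : Q => S) 1).comp (Subgroup.subtype _)
  have hg₁ : Function.Surjective g₁ := by
    intro s
    refine ⟨⟨Pi.mulSingle 1 s * Pi.mulSingle j s⁻¹, pair_mem_ker 1 j s⟩, ?_⟩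
    change (Pi.mulSingle 1 s * Pi.mulSingle j s⁻¹ : Q → S) 1 = s
    rw [Pi.mul_apply, Pi.mulSingle_eq_same, Pi.mulSingle_eq_of_ne hj.symm, mul_one]
  refine ⟨(phi S Q).ker, inferInstance, inferInstance,
    T.comap ((rightHom : S ≀ᵣ Q →* Q).comp (phi S Q).ker.subtype), ?_,
    Subgroup.isCoatom_comap_of_surjective hr hTco, ?_, ?_⟩
  · rw [Subgroup.eq_top_iff']
    intro x
    have h1 : (x : S ≀ᵣ Q) ∈ ⁅(phi S Q).ker, (phi S Q).ker⁆ := ker_phi_le hQperf hQcard x.2
    have h2 : (commutator (phi S Q).ker).map (phi S Q).ker.subtype =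
        ⁅(phi S Q).ker, (phi S Q).ker⁆ := by
      rw [commutator_def, Subgroup.map_commutator, ← MonoidHom.range_eq_map,
        Subgroup.range_subtype]
    rw [← h2] at h1
    obtain ⟨y, hy, hyx⟩ := h1
    have h3 : y = x := Subtype.ext hyx
    rwa [← h3]
  · have hpi : Group.IsSolvable (Q → S) := by
      apply Cfsg.Agent.Lib.helper23.isSolvable_of_card_prime_pow Nat.prime_two
        (n := m * Nat.card Q)
      rw [Nat.card_fun, hm, pow_mul]
    let g : T.comap ((rightHom : S ≀ᵣ Q →* Q).comp (phi S Q).ker.subtype) →* T :=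
      (((rightHom : S ≀ᵣ Q →* Q).comp (phi S Q).ker.subtype).comp (Subgroup.subtype _)).codRestrict T
        (fun x => x.2)
    apply Group.isSolvable_of_ker_le_range g₂ g
    intro x hx
    have h1 : ((x : (phi S Q).ker) : S ≀ᵣ Q).right = 1 := by
      have := congrArg (fun z : T => (z : Q)) (MonoidHom.mem_ker.mp hx)
      exact this
    have h2 : ((x : (phi S Q).ker) : S ≀ᵣ Q) = base ((x : (phi S Q).ker) : S ≀ᵣ Q).left := by
      conv_lhs => rw [eq_base_mul_inl ((x : (phi S Q).ker) : S ≀ᵣ Q), h1, map_one, mul_one]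
    have h3 : ((x : (phi S Q).ker) : S ≀ᵣ Q).left ∈
        ((phi S Q).comp (base : (Q → S) →* S ≀ᵣ Q)).ker := by
      rw [MonoidHom.mem_ker, MonoidHom.comp_apply, ← h2]
      exact x.1.2
    refine ⟨⟨_, h3⟩, ?_⟩
    apply Subtype.ext
    apply Subtype.ext
    exact h2.symm
  · have h5 := derived_ne_bot_of g₁ g₂ hg₁ hg₂ 0 d (by rw [derivedSeries_zero]; exact le_top) hS
    rw [zero_add] at h5
    exact h5

end Cfsg.Agent.S5896
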