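import Cfsg.Statements.S5947
import Mathlib
import Cfsg.Agent.S2638
import Cfsg.Agent.S2904

set_option autoImplicit false
open Cfsg

namespace Cfsg.Agent.S5947


/-- a prime power with exponent at least two is not one less than a power of two -/
theorem pp_ne (p e m : ℕ) (hp : p.Prime) (he : 2 ≤ e) : p ^ e + 1 ≠ 2 ^ m := by
  intro h
  have hp2 := hp.two_le
  have hpe : p < p ^ e := by
    calc p = p ^ 1 := (pow_one p).symm
      _ < p ^ e := Nat.pow_lt_pow_right hp2 (by omega)
  rcases Nat.even_or_odd p with hpev | hpodd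
  · have hp2' : p = 2 := (Nat.Prime.even_iff hp).mp hpev
    subst hp2'
    rcases Nat.eq_zero_or_pos m with hm | hm
    · rw [hm, pow_zero] at h
      have : 0 < 2 ^ e := pow_pos (by norm_num) e
      omega
    · have h1 : 2 ∣ 2 ^ m := dvd_pow_self 2 (by omega)
      have h2 : 2 ∣ 2 ^ e := dvd_pow_self 2 (by omega)
      rw [← h] at h1
      have h3 := (Nat.dvd_add_right h2).mp h1
      omega
  · rcases Nat.even_or_odd e with heev | heodd
    · obtain ⟨f, hf⟩ := heev
      have hs : Odd (p ^ f) := hpodd.pow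
      obtain ⟨k, hk⟩ := hs
      have hq : p ^ e = (2 * k + 1) * (2 * k + 1) := by rw [hf, pow_add, hk]
      rw [hq] at h
      have hk0 : 1 ≤ k := by
        have h2 : 2 ≤ p ^ f := by
          calc 2 ≤ p := hp2
            _ = p ^ 1 := (pow_one p).symm
            _ ≤ p ^ f := Nat.pow_le_pow_right (by omega) (by omega)
        omega
      have hexp : (2 * k + 1) * (2 * k + 1) + 1 = 4 * (k * k + k) + 2 := by ring
      rw [hexp] at h
      rcases Nat.lt_or_ge m 2 with hm | hm
      · have h2 : 2 ^ m ≤ 2 ^ 1 := Nat.pow_le_pow_right (by norm_num) (by omega)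
        have h3 : 1 ≤ k * k + k := by nlinarith
        omega
      · obtain ⟨m', rfl⟩ : ∃ m', m = m' + 2 := ⟨m - 2, by omega⟩
        have h4 : 4 ∣ 2 ^ (m' + 2) := ⟨2 ^ m', by ring⟩
        rw [← h] at h4
        omega
    · have hd : p + 1 ∣ p ^ e + 1 := by
        have h1 := Odd.nat_add_dvd_pow_add_pow p 1 heodd
        rwa [one_pow] at h1
      rw [h] at hd
      obtain ⟨j, hjm, hj⟩ := (Nat.dvd_prime_pow Nat.prime_two).mp hd
      have hj1 : 1 ≤ j := by
        rcases Nat.eq_zero_or_pos j with h0 | h0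
        · rw [h0, pow_zero] at hj
          omega
        · exact h0
      obtain ⟨j', rfl⟩ : ∃ j', j = j' + 1 := ⟨j - 1, by omega⟩
      obtain ⟨f, hf⟩ := heodd
      have hZ : (p : ℤ) + 1 = 2 * 2 ^ j' := by
        have : ((p + 1 : ℕ) : ℤ) = ((2 ^ (j' + 1) : ℕ) : ℤ) := by rw [hj]
        push_cast at this
        rw [this]
        ring
      have hsq : (2 : ℤ) ^ (j' + 1 + 1) ∣ (p : ℤ) ^ 2 - 1 := by
        refine ⟨2 ^ j' - 1, ?_⟩
        have hp' : (p : ℤ) = 2 * 2 ^ j' - 1 := by linarith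
        rw [hp']
        ring
      have hdiv : (2 : ℤ) ^ (j' + 1 + 1) ∣ (p : ℤ) ^ e - p := by
        have h1 : (p : ℤ) ^ 2 - 1 ∣ ((p : ℤ) ^ 2) ^ f - 1 ^ f := sub_dvd_pow_sub_pow _ _ f
        rw [one_pow] at h1
        have h2 : (p : ℤ) ^ e - p = p * (((p : ℤ) ^ 2) ^ f - 1) := by
          rw [hf]
          ring
        rw [h2]
        exact Dvd.dvd.mul_left (hsq.trans h1) _
      have hZ2 : (2 : ℤ) ^ m = ((p : ℤ) ^ e - p) + 2 ^ (j' + 1) := by
        have : ((p ^ e + 1 : ℕ) : ℤ) = ((2 ^ m : ℕ) : ℤ) := by rw [h]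
        push_cast at this
        rw [← this]
        have : (2 : ℤ) ^ (j' + 1) = 2 * 2 ^ j' := by ring
        rw [this]
        linarith
      rcases Nat.lt_or_ge m (j' + 1 + 1) with hm | hm
      · have h1 : 2 ^ m ≤ 2 ^ (j' + 1) := Nat.pow_le_pow_right (by norm_num) (by omega)
        omega
      · have h1 : (2 : ℤ) ^ (j' + 1 + 1) ∣ 2 ^ m := pow_dvd_pow 2 hm
        rw [hZ2] at h1
        have h2 : (2 : ℤ) ^ (j' + 1 + 1) ∣ 2 ^ (j' + 1) := (Int.dvd_add_right hdiv).mp h1
        have h3 : (2 : ℕ) ^ (j' + 1 + 1) ∣ 2 ^ (j' + 1) := by exact_mod_cast h2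
        have h4 := Nat.le_of_dvd (pow_pos (by norm_num) _) h3
        have h5 : (2 : ℕ) ^ (j' + 1) < 2 ^ (j' + 1 + 1) := Nat.pow_lt_pow_right (by norm_num) (by omega)
        omega

/-- two abelian subgroups whose order is that of the centraliser of any element of order `r`,
`r` a prime with the same multiplicity in the group order, are conjugate -/
theorem conj_of_cent {G : Type*} [Group G] [Finite G] (r N : ℕ) (hr : r.Prime)
    (hcent : ∀ x : G, orderOf x = r → Nat.card (Subgroup.centralizer ({x} : Set G)) = N)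
    (hfac : (Nat.card G).factorization r = N.factorization r) (hrN : r ∣ N)
    (U M : Subgroup G) (hU : ∀ a ∈ U, ∀ b ∈ U, a * b = b * a)
    (hM : ∀ a ∈ M, ∀ b ∈ M, a * b = b * a)
    (hUc : Nat.card U = N) (hMc : Nat.card M = N) :
    ∃ g : G, U.map (MulAut.conj g).toMonoidHom = M := by
  haveI : Fact r.Prime := ⟨hr⟩
  obtain ⟨x, hx⟩ := exists_prime_orderOf_dvd_card' (G := U) r (by rw [hUc]; exact hrN)
  have hxo : orderOf (x : G) = r := by rw [Subgroup.orderOf_coe]; exact hx
  have hUle : U ≤ Subgroup.centralizer ({(x : G)} : Set G) := by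
    intro u hu
    rw [Subgroup.mem_centralizer_singleton_iff]
    exact hU _ hu _ x.2
  have hUeq : U = Subgroup.centralizer ({(x : G)} : Set G) :=
    Subgroup.eq_of_le_of_card_ge hUle (by rw [hcent _ hxo, hUc])
  obtain ⟨Pm⟩ : Nonempty (Sylow r M) := inferInstance
  obtain ⟨P', hP'⟩ : ∃ P' : Subgroup G, P' = (Pm : Subgroup M).map M.subtype := ⟨_, rfl⟩
  have hP'card : Nat.card P' = r ^ N.factorization r := by
    rw [hP', ← Nat.card_congr
      ((Pm : Subgroup M).equivMapOfInjective M.subtype M.subtype_injective).toEquiv,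
      Pm.card_eq_multiplicity, hMc]
  have hP'M : P' ≤ M := by
    rw [hP']
    rintro _ ⟨y, _, rfl⟩
    exact y.2
  have hP'p : IsPGroup r P' := IsPGroup.of_card hP'card
  obtain ⟨Q, hQ⟩ := hP'p.exists_le_sylow
  have hQcard : Nat.card (Q : Subgroup G) = r ^ N.factorization r := by
    rw [Q.card_eq_multiplicity, hfac]
  have hP'Q : P' = (Q : Subgroup G) :=
    Subgroup.eq_of_le_of_card_ge hQ (by rw [hQcard, hP'card])
  have hzp : IsPGroup r (Subgroup.zpowers (x : G)) :=
    IsPGroup.of_card (n := 1) (by rw [Nat.card_zpowers, hxo, pow_one])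
  obtain ⟨Q₁, hQ₁⟩ := hzp.exists_le_sylow
  obtain ⟨g, hg⟩ := MulAction.exists_smul_eq G Q₁ Q
  have hx1 : g * (x : G) * g⁻¹ ∈ M := by
    have h1 : (x : G) ∈ (Q₁ : Subgroup G) := hQ₁ (Subgroup.mem_zpowers _)
    have h2 : g * (x : G) * g⁻¹ ∈ (Q : Subgroup G) := by
      rw [← hg, Sylow.coe_subgroup_smul]
      exact Subgroup.smul_mem_pointwise_smul _ (MulAut.conj g) _ h1
    rw [← hP'Q] at h2
    exact hP'M h2
  have hx1o : orderOf (g * (x : G) * g⁻¹) = r := by
    have h1 := MulEquiv.orderOf_eq (MulAut.conj g) (x : G)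
    rw [MulAut.conj_apply] at h1
    rw [h1, hxo]
  have hMle : M ≤ Subgroup.centralizer ({g * (x : G) * g⁻¹} : Set G) := by
    intro u hu
    rw [Subgroup.mem_centralizer_singleton_iff]
    exact hM _ hu _ hx1
  have hMeq : M = Subgroup.centralizer ({g * (x : G) * g⁻¹} : Set G) :=
    Subgroup.eq_of_le_of_card_ge hMle (by rw [hcent _ hx1o, hMc])
  refine ⟨g, ?_⟩
  rw [hMeq]
  conv_lhs => rw [hUeq]
  ext y
  simp only [Subgroup.mem_map, Subgroup.mem_centralizer_singleton_iff, MulEquiv.coe_toMonoidHom,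
    MulAut.conj_apply]
  constructor
  · rintro ⟨u, hu, rfl⟩
    have e1 : g * u * g⁻¹ * (g * (x : G) * g⁻¹) = g * (u * x) * g⁻¹ := by group
    have e2 : g * (x : G) * g⁻¹ * (g * u * g⁻¹) = g * (x * u) * g⁻¹ := by group
    rw [e1, e2, hu]
  · intro hy
    refine ⟨g⁻¹ * y * g, ?_, by group⟩
    have e1 : g⁻¹ * y * g * (x : G) = g⁻¹ * (y * (g * x * g⁻¹)) * g := by group
    have e2 : (x : G) * (g⁻¹ * y * g) = g⁻¹ * (g * x * g⁻¹ * y) * g := by group
    rw [e1, e2, hy]


/-- Let F ⊆ K be finite fields with |F| = q and [K : F] = n ≥ 2, regard K as an n-dimensional F-vector space, and let M ≤ GL_F(K) be the Singer group of multiplications by non-zero elements of K (cyclic of order q^n − 1). Assume (n, q) ≠ (6, 2), and that it is not the case that n = 2 with q a prime such that q + 1 is a power of 2. Then every abelian subgroup of GL_F(K) of order q^n − 1 is conjugate to M. -/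
theorem result {F K : Type*} [Field F] [Fintype F] [Field K] [Fintype K] [Algebra F K] (n : ℕ) (hn : 2 ≤ n) (hdim : Module.finrank F K = n)
    (hex1 : ¬ (n = 6 ∧ Fintype.card F = 2))
    (hex2 : ¬ (n = 2 ∧ (Fintype.card F).Prime ∧ ∃ a : ℕ, Fintype.card F + 1 = 2 ^ a))
    (U : Subgroup (Module.End F K)ˣ) (hU : IsMulCommutative U) (hcard : Nat.card U = Fintype.card K - 1) :
    ∃ g : (Module.End F K)ˣ, U.map (MulAut.conj g).toMonoidHom = (Units.map ((Algebra.lmul F K : K →ₐ[F] Module.End F K) : K →* Module.End F K)).range := by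
  classical
  obtain ⟨p, hpc⟩ := CharP.exists F
  haveI : Fact p.Prime := ⟨CharP.char_is_prime F p⟩
  obtain ⟨e, hpp, hqe⟩ := FiniteField.card F p
  obtain ⟨q, hq⟩ : ∃ q, q = Fintype.card F := ⟨_, rfl⟩
  rw [← hq] at hqe hex1 hex2
  have hq2 : 1 < q := by rw [hq]; exact Fintype.one_lt_card
  have hKcard : Fintype.card K = q ^ n := by
    rw [← hdim, hq]
    exact Module.card_eq_pow_finrank (K := F) (V := K)
  have hqn1 : 1 ≤ q ^ n := Nat.one_le_pow _ _ (by omega)
  have h6 : ¬ (q = 2 ∧ n = 6) := fun h => hex1 ⟨h.2, h.1⟩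
  have h2 : ¬ (n = 2 ∧ ∃ m : ℕ, q + 1 = 2 ^ m) := by
    rintro ⟨hn2, m, hm⟩
    by_cases he1 : (e : ℕ) = 1
    · apply hex2
      refine ⟨hn2, ?_, m, hm⟩
      rw [hqe, he1, pow_one]
      exact hpp
    · have he2 : 2 ≤ (e : ℕ) := by
        have := e.pos
        omega
      exact pp_ne p e m hpp he2 (by rw [← hqe]; exact hm)
  obtain ⟨r, hr, hrd, hrk⟩ := Cfsg.Agent.S2904.result q n hq2 (by omega) h6 h2
  have hrq : ¬ r ∣ q := by
    intro h
    have h1 : r ∣ q ^ n := dvd_pow h (by omega)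
    have h3 : r ∣ q ^ n - (q ^ n - 1) := Nat.dvd_sub h1 hrd
    rw [Nat.sub_sub_self hqn1] at h3
    exact hr.one_lt.ne' (Nat.dvd_one.mp h3)
  have hrp : r ≠ p := by
    rintro rfl
    apply hrq
    rw [hqe]
    exact dvd_pow_self r e.ne_zero
  have hi : orderOf (q : ZMod r) = n := by
    rw [orderOf_eq_iff (by omega)]
    constructor
    · have h1 : ((q ^ n - 1 : ℕ) : ZMod r) = 0 := (ZMod.natCast_eq_zero_iff _ _).mpr hrd
      rw [Nat.cast_sub hqn1, Nat.cast_pow, Nat.cast_one, sub_eq_zero] at h1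
      exact h1
    · intro k hkn hk0 hk1
      apply hrk k hk0 hkn
      rw [← ZMod.natCast_eq_zero_iff, Nat.cast_sub (Nat.one_le_pow _ _ (by omega)), Nat.cast_pow,
        Nat.cast_one, hk1, sub_self]
  obtain ⟨b⟩ : Nonempty (Module.Basis (Fin n) F K) := ⟨Module.finBasisOfFinrankEq F K hdim⟩
  obtain ⟨ψ⟩ : Nonempty ((Module.End F K)ˣ ≃* Matrix.GeneralLinearGroup (Fin n) F) :=
    ⟨Units.mapEquiv (LinearMap.toMatrixAlgEquiv b).toRingEquiv.toMulEquiv⟩
  have hcent : ∀ x : (Module.End F K)ˣ, orderOf x = r →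
      Nat.card (Subgroup.centralizer ({x} : Set (Module.End F K)ˣ)) = q ^ n - 1 := by
    intro x hx
    have h1 := (Cfsg.Agent.S2638.result (p := p) (q := q) hq.symm (by omega : 1 ≤ n) hr hrp hi
      (ψ x) (by rw [MulEquiv.orderOf_eq]; exact hx)).2
    rw [← h1]
    apply Nat.card_congr
    exact ψ.toEquiv.subtypeEquiv (fun y => by
      simp only [Subgroup.mem_centralizer_singleton_iff]
      constructor
      · intro h
        show ψ y * ψ x = ψ x * ψ y
        rw [← map_mul, ← map_mul, h]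
      · intro h
        apply ψ.injective
        rw [map_mul, map_mul]
        exact h)
  have hGcard : Nat.card (Module.End F K)ˣ = ∏ i : Fin n, (q ^ n - q ^ (i : ℕ)) := by
    rw [Nat.card_congr ψ.toEquiv, hq]
    exact Matrix.card_GL_field n
  have hfac : (Nat.card (Module.End F K)ˣ).factorization r = (q ^ n - 1).factorization r := by
    rw [hGcard]
    obtain ⟨n', rfl⟩ : ∃ n', n = n' + 1 := ⟨n - 1, by omega⟩
    rw [Fin.prod_univ_succ]
    simp only [Fin.val_zero, pow_zero, Fin.val_succ]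
    have hne1 : q ^ (n' + 1) - 1 ≠ 0 := by
      have : q ^ 1 ≤ q ^ (n' + 1) := Nat.pow_le_pow_right (by omega) (by omega)
      rw [pow_one] at this
      omega
    have hfactor : ∀ i : Fin n', q ^ (n' + 1) - q ^ ((i : ℕ) + 1)
        = q ^ ((i : ℕ) + 1) * (q ^ (n' - (i : ℕ)) - 1) := by
      intro i
      have hi' := i.2
      rw [Nat.mul_sub, mul_one, ← pow_add]
      congr 2
      omega
    have hne2 : ∏ i : Fin n', (q ^ (n' + 1) - q ^ ((i : ℕ) + 1)) ≠ 0 := by
      rw [Finset.prod_ne_zero_iff]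
      intro i _
      have hi' := i.2
      have : q ^ ((i : ℕ) + 1) < q ^ (n' + 1) := Nat.pow_lt_pow_right hq2 (by omega)
      omega
    rw [Nat.factorization_mul hne1 hne2, Finsupp.add_apply]
    have hnd : ¬ r ∣ ∏ i : Fin n', (q ^ (n' + 1) - q ^ ((i : ℕ) + 1)) := by
      rw [Prime.dvd_finset_prod_iff hr.prime]
      rintro ⟨i, _, hdv⟩
      have hi' := i.2
      rw [hfactor i] at hdv
      rcases (Nat.Prime.dvd_mul hr).mp hdv with h | h
      · exact hrq (hr.dvd_of_dvd_pow h)
      · exact hrk (n' - (i : ℕ)) (by omega) (by omega) h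
    rw [Nat.factorization_eq_zero_of_not_dvd hnd, add_zero]
  have hinj : Function.Injective
      (Units.map ((Algebra.lmul F K : K →ₐ[F] Module.End F K) : K →* Module.End F K)) := by
    apply Units.map_injective
    intro a c h
    have h1 := congrArg (fun f : Module.End F K => f 1) h
    simpa using h1
  have hMcomm : ∀ a ∈ (Units.map ((Algebra.lmul F K : K →ₐ[F] Module.End F K)
      : K →* Module.End F K)).range, ∀ c ∈ (Units.map ((Algebra.lmul F K : K →ₐ[F] Module.End F K)
      : K →* Module.End F K)).range, a * c = c * a := by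
    rintro _ ⟨a, rfl⟩ _ ⟨c, rfl⟩
    rw [← map_mul, ← map_mul, mul_comm]
  have hMcard : Nat.card (Units.map ((Algebra.lmul F K : K →ₐ[F] Module.End F K)
      : K →* Module.End F K)).range = q ^ n - 1 := by
    rw [← Nat.card_congr (MonoidHom.ofInjective hinj).toEquiv, Nat.card_units,
      Nat.card_eq_fintype_card, hKcard]
  have hUcomm : ∀ a ∈ U, ∀ c ∈ U, a * c = c * a := by
    intro a ha c hc
    have h1 := hU.is_comm.comm (⟨a, ha⟩ : U) ⟨c, hc⟩
    exact congrArg Subtype.val h1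
  have hUcard : Nat.card U = q ^ n - 1 := by rw [hcard, hKcard]
  haveI : Finite (Module.End F K)ˣ := Finite.of_equiv _ ψ.symm.toEquiv
  exact conj_of_cent r (q ^ n - 1) hr hcent hfac hrd U _ hUcomm hMcomm hUcard hMcard

end Cfsg.Agent.S5947
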